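import Groth.Prelude.Def_Pic
import Mathlib.Topology.Sheaves.SheafCondition.UniqueGluing

/-!
# Invertible modules through generating sections

`Gen M U s` : the section `s` of `M` over `U` is a basis of `M` on every open contained in `U`.
-/

universe u

open CategoryTheory AlgebraicGeometry Opposite TopologicalSpace

namespace Groth.PicAux

variable {X : Scheme.{u}}

section Res

variable (M : X.Modules)

/-- Restriction of sections of a module. -/
noncomputable def res {U V : X.Opens} (h : V ≤ U) (x : Γ(M, U)) : Γ(M, V) :=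
  M.presheaf.map (homOfLE h).op x

variable {M}

theorem res_def {U V : X.Opens} (i : V ⟶ U) (x : Γ(M, U)) : M.presheaf.map i.op x = res M i.le x :=
  rfl

@[simp]
theorem res_self {U : X.Opens} (h : U ≤ U) (x : Γ(M, U)) : res M h x = x := by
  have : (homOfLE h).op = 𝟙 (op U) := rfl
  simp [res]

@[simp]
theorem res_res {U V W : X.Opens} (h : V ≤ U) (h' : W ≤ V) (x : Γ(M, U)) :
    res M h' (res M h x) = res M (h'.trans h) x := by
  change (M.presheaf.map _ ≫ M.presheaf.map _) x = _
  rw [← Functor.map_comp]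
  rfl

/-- Restriction of functions. -/
noncomputable def resX (X : Scheme.{u}) {U V : X.Opens} (h : V ≤ U) : Γ(X, U) →+* Γ(X, V) :=
  (X.presheaf.map (homOfLE h).op).hom

theorem resX_def {U V : X.Opens} (i : V ⟶ U) (x : Γ(X, U)) :
    X.presheaf.map i.op x = resX X i.le x := rfl

@[simp]
theorem resX_self {U : X.Opens} (h : U ≤ U) (x : Γ(X, U)) : resX X h x = x := by
  have : (homOfLE h).op = 𝟙 (op U) := rfl
  simp [resX]

@[simp]
theorem resX_resX {U V W : X.Opens} (h : V ≤ U) (h' : W ≤ V) (x : Γ(X, U)) :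
    resX X h' (resX X h x) = resX X (h'.trans h) x := by
  change (X.presheaf.map _ ≫ X.presheaf.map _) x = _
  rw [← Functor.map_comp]
  rfl

@[simp]
theorem res_smul {U V : X.Opens} (h : V ≤ U) (r : Γ(X, U)) (x : Γ(M, U)) :
    res M h (r • x) = resX X h r • res M h x := M.map_smul _ r x

@[simp]
theorem res_add {U V : X.Opens} (h : V ≤ U) (x y : Γ(M, U)) :
    res M h (x + y) = res M h x + res M h y := map_add _ x y

@[simp]
theorem res_zero {U V : X.Opens} (h : V ≤ U) : res M h (0 : Γ(M, U)) = 0 := map_zero _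

theorem app_res {N : X.Modules} (φ : M ⟶ N) {U V : X.Opens} (h : V ≤ U) (x : Γ(M, U)) :
    φ.app V (res M h x) = res N h (φ.app U x) :=
  congr($(φ.mapPresheaf.naturality (homOfLE h).op) x)

/-- Sections of a module are determined locally. -/
theorem res_ext {ι : Type*} {U : X.Opens} (V : ι → X.Opens) (hV : ∀ i, V i ≤ U) (hc : U ≤ iSup V)
    {x y : Γ(M, U)} (h : ∀ i, res M (hV i) x = res M (hV i) y) : x = y :=
  TopCat.Sheaf.eq_of_locally_eq' (⟨M.presheaf, M.isSheaf⟩ : TopCat.Sheaf Ab.{u} X) V U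
    (fun i => homOfLE (hV i)) hc x y h

/-- Gluing of sections of a module. -/
theorem res_glue {ι : Type*} {U : X.Opens} (V : ι → X.Opens) (hV : ∀ i, V i ≤ U) (hc : U ≤ iSup V)
    (x : ∀ i, Γ(M, V i))
    (h : ∀ i j, res M (inf_le_left : V i ⊓ V j ≤ V i) (x i) =
      res M (inf_le_right : V i ⊓ V j ≤ V j) (x j)) :
    ∃! y : Γ(M, U), ∀ i, res M (hV i) y = x i :=
  TopCat.Sheaf.existsUnique_gluing' (⟨M.presheaf, M.isSheaf⟩ : TopCat.Sheaf Ab.{u} X) V U
    (fun i => homOfLE (hV i)) hc x h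

end Res

section Gen

/-- `s` is a basis of `M` over every open contained in `U`. -/
def Gen (M : X.Modules) (U : X.Opens) (s : Γ(M, U)) : Prop :=
  ∀ (V : X.Opens) (h : V ≤ U), Function.Bijective fun r : Γ(X, V) => r • res M h s

variable {L M : X.Modules}

theorem Gen.res {U V : X.Opens} {s : Γ(L, U)} (hs : Gen L U s) (h : V ≤ U) :
    Gen L V (res L h s) := by
  intro W hW
  simpa using hs W (hW.trans h)

theorem Gen.exists_coeff {U V : X.Opens} {s : Γ(L, U)} (hs : Gen L U s) (h : V ≤ U)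
    (x : Γ(L, V)) : ∃ r : Γ(X, V), x = r • Groth.PicAux.res L h s := by
  obtain ⟨r, hr⟩ := (hs V h).2 x
  exact ⟨r, hr.symm⟩

theorem Gen.smul_inj {U V : X.Opens} {s : Γ(L, U)} (hs : Gen L U s) (h : V ≤ U) {r r' : Γ(X, V)}
    (e : r • Groth.PicAux.res L h s = r' • Groth.PicAux.res L h s) : r = r' :=
  (hs V h).1 e

theorem Gen.smul_unit {U : X.Opens} {s : Γ(L, U)} (hs : Gen L U s) {a : Γ(X, U)} (ha : IsUnit a) :
    Gen L U (a • s) := by
  intro V h
  have hu : IsUnit (resX X h a) := ha.map _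
  have e : (fun r : Γ(X, V) => r • Groth.PicAux.res L h (a • s)) =
      (fun r => r • Groth.PicAux.res L h s) ∘ (fun r => r * resX X h a) := by
    funext r
    simp [mul_smul]
  rw [e]
  exact (hs V h).comp ⟨hu.mul_left_injective, fun r => ⟨r * ↑hu.unit⁻¹, by simp [mul_assoc]⟩⟩

/-- Two bases over `U` differ by a unit. -/
theorem Gen.exists_unit {U : X.Opens} {s t : Γ(L, U)} (hs : Gen L U s) (ht : Gen L U t) :
    ∃ a : (Γ(X, U))ˣ, t = (a : Γ(X, U)) • s := by
  obtain ⟨a, ha⟩ := hs.exists_coeff le_rfl t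
  obtain ⟨b, hb⟩ := ht.exists_coeff le_rfl s
  simp only [res_self] at ha hb
  have h1 : a * b = 1 := by
    refine ht.smul_inj le_rfl ?_
    simp only [res_self, one_smul, mul_smul, ← hb, ← ha]
  exact ⟨⟨a, b, h1, mul_comm a b ▸ h1⟩, ha⟩

end Gen

section Cover

variable {L M : X.Modules} {ι : Type*} {U : ι → X.Opens}

theorem le_iSup_inf (hU : iSup U = ⊤) (V : X.Opens) : V ≤ ⨆ i, V ⊓ U i := by
  rw [← inf_iSup_eq, hU, inf_top_eq]

/-- Morphisms are determined on a cover. -/
theorem hom_ext_cover (hU : iSup U = ⊤) {φ ψ : L ⟶ M}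
    (h : ∀ i (V : X.Opens), V ≤ U i → ∀ x : Γ(L, V), φ.app V x = ψ.app V x) : φ = ψ := by
  ext V x
  refine res_ext (fun i => V ⊓ U i) (fun _ => inf_le_left) (le_iSup_inf hU V) fun i => ?_
  rw [← app_res, ← app_res]
  exact h i _ inf_le_right _

/-- Morphisms are determined by their values on generators. -/
theorem hom_ext_gen (hU : iSup U = ⊤) (s : ∀ i, Γ(L, U i)) (hs : ∀ i, Gen L (U i) (s i))
    {φ ψ : L ⟶ M} (h : ∀ i, φ.app (U i) (s i) = ψ.app (U i) (s i)) : φ = ψ := by
  refine hom_ext_cover hU fun i V hV x => ?_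
  obtain ⟨r, rfl⟩ := (hs i).exists_coeff hV x
  simp [app_res, h i]

/-- Being an isomorphism is local. -/
theorem isIso_of_cover (hU : iSup U = ⊤) (φ : L ⟶ M)
    (h : ∀ i (V : X.Opens), V ≤ U i → Function.Bijective (φ.app V)) : IsIso φ := by
  rw [Scheme.Modules.Hom.isIso_iff_isIso_app]
  intro V
  rw [ConcreteCategory.isIso_iff_bijective]
  constructor
  · intro x y hxy
    refine res_ext (fun i => V ⊓ U i) (fun _ => inf_le_left) (le_iSup_inf hU V) fun i => ?_
    refine (h i _ inf_le_right).1 ?_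
    rw [app_res, app_res, hxy]
  · intro y
    choose x hx using fun i => (h i _ inf_le_right).2 (res M (inf_le_left : V ⊓ U i ≤ V) y)
    obtain ⟨z, hz, -⟩ := res_glue (fun i => V ⊓ U i) (fun _ => inf_le_left) (le_iSup_inf hU V) x
      (fun i j => (h i _ (inf_le_left.trans inf_le_right)).1 (by
        rw [app_res, app_res, hx, hx, res_res, res_res]))
    refine ⟨z, res_ext (fun i => V ⊓ U i) (fun _ => inf_le_left) (le_iSup_inf hU V) fun i => ?_⟩
    rw [← app_res, hz, hx]

/-- Gluing morphisms given on the opens of a cover. -/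
theorem exists_hom_of_cover (hU : iSup U = ⊤)
    (f : ∀ (i) (V : X.Opens), V ≤ U i → Γ(L, V) → Γ(M, V))
    (hadd : ∀ i V (h : V ≤ U i) x y, f i V h (x + y) = f i V h x + f i V h y)
    (hsmul : ∀ i V (h : V ≤ U i) (r : Γ(X, V)) x, f i V h (r • x) = r • f i V h x)
    (hres : ∀ i V W (h : V ≤ U i) (h' : W ≤ V) x,
      res M h' (f i V h x) = f i W (h'.trans h) (res L h' x))
    (hcompat : ∀ i j V (hi : V ≤ U i) (hj : V ≤ U j) x, f i V hi x = f j V hj x) :
    ∃ φ : L ⟶ M, ∀ i V (h : V ≤ U i) x, φ.app V x = f i V h x := by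
  have key : ∀ (V : X.Opens) (x : Γ(L, V)), ∃! y : Γ(M, V), ∀ i,
      res M (inf_le_left : V ⊓ U i ≤ V) y =
        f i (V ⊓ U i) inf_le_right (res L (inf_le_left : V ⊓ U i ≤ V) x) := by
    intro V x
    refine res_glue (fun i => V ⊓ U i) (fun _ => inf_le_left) (le_iSup_inf hU V) _ fun i j => ?_
    rw [hres, hres]
    simp only [res_res]
    exact hcompat i j _ _ _ _
  choose g hg hguniq using key
  have hfun : ∀ V W (h : W ≤ V) x, res M h (g V x) = g W (res L h x) := by
    intro V W h x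
    refine hguniq W _ _ fun i => ?_
    have := congrArg (res M (inf_le_inf_right (U i) h : W ⊓ U i ≤ V ⊓ U i)) (hg V x i)
    rw [hres] at this
    simp only [res_res] at this ⊢
    exact this
  let gh (V : X.Opens) : Γ(L, V) →+ Γ(M, V) := AddMonoidHom.mk' (g V) (fun x y => by
    refine (hguniq V _ _ fun i => ?_).symm
    simp only [res_add, hg, hadd])
  let ψ : L.presheaf ⟶ M.presheaf :=
    { app := fun V => AddCommGrpCat.ofHom (gh V.unop)
      naturality := fun V W i => by
        ext x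
        exact (hfun V.unop W.unop i.unop.le x).symm }
  refine ⟨⟨PresheafOfModules.homMk ψ ?_⟩, fun i V h x => ?_⟩
  · intro V r x
    have key : ∀ (r : Γ(X, V.unop)) (x : Γ(L, V.unop)),
        g V.unop (r • x) = r • g V.unop x := fun r x =>
      (hguniq V.unop _ _ fun i => by simp only [res_smul, hg, hsmul]).symm
    exact key r x
  · change g V x = f i V h x
    refine (hguniq V x _ fun j => ?_).symm
    rw [hres]
    exact hcompat i j _ _ _ _

/-- A morphism from a module with local bases, prescribed on the bases. -/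
theorem exists_hom_of_gen (hU : iSup U = ⊤) (s : ∀ i, Γ(L, U i)) (hs : ∀ i, Gen L (U i) (s i))
    (t : ∀ i, Γ(M, U i))
    (hcompat : ∀ i j, ∀ r : Γ(X, U i ⊓ U j),
      res L inf_le_left (s i) = r • res L inf_le_right (s j) →
        res M inf_le_left (t i) = r • res M inf_le_right (t j)) :
    ∃ φ : L ⟶ M, ∀ i, φ.app (U i) (s i) = t i := by
  choose c hc using fun i V (h : V ≤ U i) (x : Γ(L, V)) => (hs i).exists_coeff h x
  obtain ⟨φ, hφ⟩ := exists_hom_of_cover hU (fun i V h x => c i V h x • res M h (t i))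
    (fun i V h x y => by
      rw [← add_smul]
      congr 1
      refine (hs i).smul_inj h ?_
      rw [← hc, add_smul, ← hc, ← hc])
    (fun i V h r x => by
      rw [← mul_smul]
      congr 1
      refine (hs i).smul_inj h ?_
      rw [← hc, mul_smul, ← hc])
    (fun i V W h h' x => by
      simp only [res_smul, res_res]
      congr 1
      refine (hs i).smul_inj (h'.trans h) ?_
      rw [← hc, ← res_res h h' (s i), ← res_smul, ← hc])
    (fun i j V hi hj x => by
      obtain ⟨r, hr⟩ := (hs j).exists_coeff (inf_le_right : U i ⊓ U j ≤ U j)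
        (res L inf_le_left (s i))
      have h1 := congrArg (res L (le_inf hi hj)) hr
      have h2 := congrArg (res M (le_inf hi hj)) (hcompat i j r hr)
      simp only [res_smul, res_res] at h1 h2
      rw [h2, ← mul_smul]
      congr 1
      refine (hs j).smul_inj hj ?_
      rw [← hc, mul_smul, ← h1, ← hc])
  refine ⟨φ, fun i => ?_⟩
  rw [hφ i (U i) le_rfl (s i)]
  have : c i (U i) le_rfl (s i) = 1 := (hs i).smul_inj le_rfl (by rw [← hc]; simp)
  simp [this]

/-- An isomorphism between two modules with local bases having equivalent transition functions. -/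
theorem exists_iso_of_gen (hU : iSup U = ⊤) (s : ∀ i, Γ(L, U i)) (hs : ∀ i, Gen L (U i) (s i))
    (t : ∀ i, Γ(M, U i)) (ht : ∀ i, Gen M (U i) (t i))
    (hcompat : ∀ i j, ∀ r : Γ(X, U i ⊓ U j),
      res L inf_le_left (s i) = r • res L inf_le_right (s j) →
        res M inf_le_left (t i) = r • res M inf_le_right (t j)) :
    ∃ e : L ≅ M, ∀ i, e.hom.app (U i) (s i) = t i := by
  obtain ⟨φ, hφ⟩ := exists_hom_of_gen hU s hs t hcompat
  have : IsIso φ := isIso_of_cover hU φ fun i V hV => by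
    have e : (φ.app V : Γ(L, V) → Γ(M, V)) ∘ (fun r : Γ(X, V) => r • res L hV (s i)) =
        fun r => r • res M hV (t i) := by
      funext r
      simp [app_res, hφ]
    have := ht i V hV
    rw [← e] at this
    exact (Function.Bijective.of_comp_iff _ (hs i V hV)).1 this
  exact ⟨asIso φ, hφ⟩

/-- Isomorphisms carry bases to bases. -/
theorem Gen.map {V : X.Opens} {s : Γ(L, V)} (hs : Gen L V s) (φ : L ⟶ M) [IsIso φ] :
    Gen M V (φ.app V s) := by
  intro W h
  have e : (fun r : Γ(X, W) => r • Groth.PicAux.res M h (φ.app V s)) =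
      (φ.app W : Γ(L, W) → Γ(M, W)) ∘ fun r => r • Groth.PicAux.res L h s := by
    funext r
    simp [app_res]
  rw [e]
  exact (ConcreteCategory.bijective_of_isIso (φ.app W)).comp (hs W h)

end Cover

section Structure

/-- The section `1` of the structure module. -/
noncomputable def oneSec (X : Scheme.{u}) (U : X.Opens) : Γ(Coh.structureModule X, U) :=
  (1 : Γ(X, U))

/-- A section of the structure module as a function. -/
noncomputable def toFun {U : X.Opens} (x : Γ(Coh.structureModule X, U)) : Γ(X, U) := x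

theorem toFun_smul {U : X.Opens} (r : Γ(X, U)) (x : Γ(Coh.structureModule X, U)) :
    toFun (r • x) = r * toFun x := rfl

theorem toFun_res {U V : X.Opens} (h : V ≤ U) (x : Γ(Coh.structureModule X, U)) :
    toFun (res _ h x) = resX X h (toFun x) := rfl

theorem toFun_oneSec (U : X.Opens) : toFun (oneSec X U) = 1 := rfl

theorem eq_toFun_smul_oneSec {U : X.Opens} (x : Γ(Coh.structureModule X, U)) :
    x = toFun x • oneSec X U := (mul_one (toFun x)).symm

@[simp]
theorem res_oneSec {U V : X.Opens} (h : V ≤ U) :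
    res _ h (oneSec X U) = oneSec X V := map_one (resX X h)

theorem gen_oneSec (U : X.Opens) : Gen (Coh.structureModule X) U (oneSec X U) := by
  intro V h
  rw [res_oneSec]
  exact ⟨fun a b e => by simpa [toFun_smul, toFun_oneSec] using congrArg toFun e,
    fun x => ⟨toFun x, (eq_toFun_smul_oneSec x).symm⟩⟩

variable {M : X.Modules}

/-- The morphism `O_X ⟶ M` with prescribed value at `1`. -/
theorem exists_hom_structure (s : Γ(M, ⊤)) :
    ∃ φ : Coh.structureModule X ⟶ M, φ.app ⊤ (oneSec X ⊤) = s := by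
  obtain ⟨φ, hφ⟩ := exists_hom_of_gen (U := fun _ : Unit => (⊤ : X.Opens)) (M := M) (by simp)
    (fun _ => oneSec X ⊤) (fun _ => gen_oneSec ⊤) (fun _ => s) (fun _ _ r hr => by
      simp only [res_oneSec] at hr
      have : r = 1 := by simpa [toFun_smul, toFun_oneSec] using (congrArg toFun hr).symm
      subst this
      rw [one_smul])
  exact ⟨φ, hφ ()⟩

/-- The morphism `O_X ⟶ M` of a global section. -/
noncomputable def homOfSection (s : Γ(M, ⊤)) : Coh.structureModule X ⟶ M :=
  (exists_hom_structure s).choose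

@[simp]
theorem homOfSection_one (s : Γ(M, ⊤)) : (homOfSection s).app ⊤ (oneSec X ⊤) = s :=
  (exists_hom_structure s).choose_spec

theorem hom_structure_apply (φ : Coh.structureModule X ⟶ M) (V : X.Opens)
    (x : Γ(Coh.structureModule X, V)) :
    φ.app V x = toFun x • res M (le_top : V ≤ ⊤) (φ.app ⊤ (oneSec X ⊤)) := by
  conv_lhs => rw [eq_toFun_smul_oneSec x]
  rw [Scheme.Modules.Hom.app_smul, ← app_res, res_oneSec]

theorem hom_structure_ext {φ ψ : Coh.structureModule X ⟶ M}
    (h : φ.app ⊤ (oneSec X ⊤) = ψ.app ⊤ (oneSec X ⊤)) : φ = ψ := by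
  ext V x
  rw [hom_structure_apply, hom_structure_apply ψ, h]

theorem isIso_hom_structure_iff (φ : Coh.structureModule X ⟶ M) :
    IsIso φ ↔ Gen M ⊤ (φ.app ⊤ (oneSec X ⊤)) := by
  refine ⟨fun _ => (gen_oneSec ⊤).map φ, fun h => ?_⟩
  rw [Scheme.Modules.Hom.isIso_iff_isIso_app]
  intro V
  rw [ConcreteCategory.isIso_iff_bijective]
  exact ⟨fun x y e => (h V le_top).1 (by
      rw [hom_structure_apply φ V x, hom_structure_apply φ V y] at e
      exact e),
    fun y => by
      obtain ⟨r, hr⟩ := (h V le_top).2 y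
      exact ⟨r • oneSec X V, by
        rw [hom_structure_apply, toFun_smul, toFun_oneSec, mul_one]; exact hr⟩⟩

theorem nonempty_iso_structure_iff :
    Nonempty (M ≅ Coh.structureModule X) ↔ ∃ s : Γ(M, ⊤), Gen M ⊤ s := by
  constructor
  · rintro ⟨e⟩
    exact ⟨_, (gen_oneSec ⊤).map e.inv⟩
  · rintro ⟨s, hs⟩
    have : IsIso (homOfSection s) := (isIso_hom_structure_iff _).2 (by simpa using hs)
    exact ⟨(asIso (homOfSection s)).symm⟩

theorem restrict_smul (U : X.Opens) (W : (U : Scheme.{u}).Opens) (r : Γ(X, U.ι ''ᵁ W))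
    (x : Γ(M, U.ι ''ᵁ W)) :
    ((HSMul.hSMul (α := Γ((U : Scheme.{u}), W)) (β := Γ(M.restrict U.ι, W)) r x :
      Γ(M.restrict U.ι, W)) : Γ(M, U.ι ''ᵁ W)) = r • x := by
  change (HSMul.hSMul (α := Γ(X, U.ι ''ᵁ W)) (β := Γ(M, U.ι ''ᵁ W))
    ((U.ι.appIso W).inv r) x : Γ(M, U.ι ''ᵁ W)) = _
  rw [Scheme.Opens.ι_appIso]
  rfl

/-- A basis over `U` trivialises the restriction to `U`. -/
theorem nonempty_restrict_iso_iff (U : X.Opens) :
    Nonempty (M.restrict U.ι ≅ Coh.structureModule (U : Scheme.{u})) ↔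
      ∃ s : Γ(M, U), Gen M U s := by
  have hι : ∀ W : (U : Scheme.{u}).Opens, U.ι ''ᵁ W ≤ U := fun W => Scheme.Opens.ι_image_le U W
  rw [nonempty_iso_structure_iff]
  constructor
  · rintro ⟨s, hs⟩
    have hb : ∀ W : (U : Scheme.{u}).Opens, Function.Bijective fun r : Γ(X, U.ι ''ᵁ W) =>
        r • res M (U.ι.image_mono (le_top : W ≤ ⊤)) (s : Γ(M, U.ι ''ᵁ ⊤)) := fun W => by
      have e : (fun r : Γ(X, U.ι ''ᵁ W) =>
          r • res M (U.ι.image_mono (le_top : W ≤ ⊤)) (s : Γ(M, U.ι ''ᵁ ⊤))) =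
          fun r : Γ((U : Scheme.{u}), W) => r • res (M.restrict U.ι) le_top s :=
        funext fun r => (restrict_smul U W r _).symm
      exact (congrArg Function.Bijective e).mpr (hs W le_top)
    refine ⟨res M (le_of_eq (Scheme.Opens.ι_image_top U).symm) (s : Γ(M, U.ι ''ᵁ ⊤)), fun V hV => ?_⟩
    obtain ⟨W, rfl⟩ : ∃ W : (U : Scheme.{u}).Opens, U.ι ''ᵁ W = V :=
      ⟨U.ι ⁻¹ᵁ V, by rw [Scheme.Hom.image_preimage_eq_opensRange_inf]; simpa using hV⟩
    have e := res_res (M := M) (le_of_eq (Scheme.Opens.ι_image_top U).symm) hV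
      (s : Γ(M, U.ι ''ᵁ ⊤))
    exact (congrArg (fun z => Function.Bijective fun r : Γ(X, U.ι ''ᵁ W) => r • z) e).mpr (hb W)
  · rintro ⟨s, hs⟩
    refine ⟨(res M (hι ⊤) s : Γ(M, U.ι ''ᵁ ⊤)), fun W hW => ?_⟩
    have := hs (U.ι ''ᵁ W) (hι W)
    have e : res (M.restrict U.ι) hW (res M (hι ⊤) s : Γ(M, U.ι ''ᵁ ⊤)) =
        res M (hι W) s := res_res (M := M) _ (U.ι.image_mono hW) s
    rw [e]
    have e2 : (fun r : Γ(X, U.ι ''ᵁ W) => r • res M (hι W) s) =
        fun r : Γ((U : Scheme.{u}), W) =>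
          (HSMul.hSMul (α := Γ((U : Scheme.{u}), W)) (β := Γ(M.restrict U.ι, W)) r
            (res M (hι W) s)) :=
      funext fun r => (restrict_smul U W r _).symm
    exact (congrArg Function.Bijective e2).mp this

theorem isInvertible_iff_exists_gen (L : X.Modules) :
    PicF.IsInvertible L ↔ ∀ x : X, ∃ (U : X.Opens) (s : Γ(L, U)), x ∈ U ∧ Gen L U s := by
  refine forall_congr' fun x => ?_
  constructor
  · rintro ⟨U, hx, h⟩
    obtain ⟨s, hs⟩ := (nonempty_restrict_iso_iff U).1 h
    exact ⟨U, s, hx, hs⟩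
  · rintro ⟨U, s, hx, hs⟩
    exact ⟨U, hx, (nonempty_restrict_iso_iff U).2 ⟨s, hs⟩⟩

/-- An invertible module has bases on a cover. -/
theorem exists_gen_cover {L : X.Modules} (hL : PicF.IsInvertible L) :
    ∃ (U : X → X.Opens) (s : ∀ x, Γ(L, U x)),
      iSup U = ⊤ ∧ (∀ x, x ∈ U x) ∧ ∀ x, Gen L (U x) (s x) := by
  choose U s hx hs using (isInvertible_iff_exists_gen L).1 hL
  exact ⟨U, s, eq_top_iff.2 fun x _ => Opens.mem_iSup.2 ⟨x, hx x⟩, hx, hs⟩

theorem isInvertible_of_gen_cover {L : X.Modules} {ι : Type*} (U : ι → X.Opens) (hU : iSup U = ⊤)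
    (s : ∀ i, Γ(L, U i)) (hs : ∀ i, Gen L (U i) (s i)) : PicF.IsInvertible L := by
  rw [isInvertible_iff_exists_gen]
  intro x
  obtain ⟨i, hi⟩ := Opens.mem_iSup.1 (hU.symm ▸ trivial : x ∈ iSup U)
  exact ⟨U i, s i, hi, hs i⟩

end Structure

end Groth.PicAux
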