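import Groth.Agent.PicAux.Sections
import Mathlib.AlgebraicGeometry.Properties

/-!
# Invertible modules on integral schemes
-/

universe u

open CategoryTheory AlgebraicGeometry Opposite TopologicalSpace

namespace Groth.PicAux

variable {X : Scheme.{u}} [IsIntegral X]

theorem inv_sec_eq_zero {L : X.Modules} (hL : PicF.IsInvertible L) {U V : X.Opens} (h : V ≤ U)
    (hV : Nonempty V) (x : Γ(L, U)) (hx : res L h x = 0) : x = 0 := by
  obtain ⟨W, s, hW, -, hs⟩ := exists_gen_cover hL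
  refine res_ext (fun i => U ⊓ W i) (fun _ => inf_le_left) (le_iSup_inf hW U) fun i => ?_
  obtain ⟨r, hr⟩ := (hs i).exists_coeff inf_le_right (res L (inf_le_left : U ⊓ W i ≤ U) x)
  rw [res_zero, hr]
  by_cases hne : Nonempty (U ⊓ W i : X.Opens)
  · have hne' : Nonempty (V ⊓ W i : X.Opens) := by
      obtain ⟨⟨p, hp⟩⟩ := hne
      obtain ⟨⟨q, hq⟩⟩ := hV
      obtain ⟨z, hz1, hz2⟩ := nonempty_preirreducible_inter V.isOpen (W i).isOpen
        ⟨q, hq⟩ ⟨p, hp.2⟩
      exact ⟨⟨z, hz1, hz2⟩⟩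
    have h1 := congrArg (res L (inf_le_inf_right (W i) h : V ⊓ W i ≤ U ⊓ W i)) hr
    have h2 : res L (inf_le_left : V ⊓ W i ≤ V) (res L h x) = 0 := by rw [hx, res_zero]
    simp only [res_res, res_smul] at h1 h2
    rw [h2] at h1
    have h3 : resX X (inf_le_inf_right (W i) h : V ⊓ W i ≤ U ⊓ W i) r = 0 :=
      (hs i).smul_inj inf_le_right (by rw [← h1, zero_smul])
    have : r = 0 := map_injective_of_isIntegral X
      (homOfLE (inf_le_inf_right (W i) h : V ⊓ W i ≤ U ⊓ W i)) (by rw [map_zero]; exact h3)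
    rw [this, zero_smul]
  · have hb : (U ⊓ W i : X.Opens) = ⊥ := by
      rw [← Opens.not_nonempty_iff_eq_bot]
      exact fun ⟨p, hp⟩ => hne ⟨⟨p, hp⟩⟩
    have : Subsingleton Γ(X, U ⊓ W i) := by rw [hb]; infer_instance
    rw [Subsingleton.elim r 0, zero_smul]

omit [IsIntegral X] in
theorem hom_structure_section_ne_zero {L : X.Modules} {s : Coh.structureModule X ⟶ L} (hs : s ≠ 0) :
    s.app ⊤ (oneSec X ⊤) ≠ 0 :=
  fun h => hs (hom_structure_ext (by rw [h]; rfl))

theorem section_comp_cosection_ne_zero {L : X.Modules} (hL : PicF.IsInvertible L)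
    (s : Coh.structureModule X ⟶ L) (hs : s ≠ 0) (t : L ⟶ Coh.structureModule X) (ht : t ≠ 0) :
    toFun ((s ≫ t).app ⊤ (oneSec X ⊤)) ≠ 0 := by
  intro h
  obtain ⟨W, g, hW, hmem, hg⟩ := exists_gen_cover hL
  have x : X := Nonempty.some inferInstance
  obtain ⟨f, hf⟩ := (hg x).exists_coeff le_rfl (res L le_top (s.app ⊤ (oneSec X ⊤)))
  rw [res_self] at hf
  have hWne : Nonempty (W x) := ⟨⟨x, hmem x⟩⟩
  have h1 : t.app (W x) (res L le_top (s.app ⊤ (oneSec X ⊤))) = 0 := by
    rw [app_res]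
    have : t.app ⊤ (s.app ⊤ (oneSec X ⊤)) = 0 := h
    rw [this, res_zero]
  rw [hf, Scheme.Modules.Hom.app_smul] at h1
  have h2 : f * toFun (t.app (W x) (g x)) = 0 := congrArg toFun h1
  have hdom : IsDomain Γ(X, W x) := inferInstance
  rcases mul_eq_zero.1 h2 with hf0 | hg0
  · refine hom_structure_section_ne_zero hs ?_
    exact inv_sec_eq_zero hL le_top hWne _ (by rw [hf, hf0, zero_smul])
  · apply ht
    refine hom_ext_gen hW g hg fun i => ?_
    change t.app (W i) (g i) = 0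
    by_cases hne : Nonempty (W x ⊓ W i : X.Opens)
    · have e1 : res _ (inf_le_left : W x ⊓ W i ≤ W x) (t.app (W x) (g x)) = 0 := by
        have : t.app (W x) (g x) = 0 := hg0
        rw [this, res_zero]
      obtain ⟨c, hc⟩ := (hg x).exists_coeff (inf_le_left : W x ⊓ W i ≤ W x)
        (res L inf_le_right (g i))
      have e2 := congrArg (t.app (W x ⊓ W i)) hc
      rw [Scheme.Modules.Hom.app_smul, app_res, app_res, e1, smul_zero] at e2
      refine inv_sec_eq_zero (L := Coh.structureModule X) ?_ inf_le_right hne _ e2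
      exact isInvertible_of_gen_cover (fun _ : Unit => ⊤) (by simp) _ fun _ => gen_oneSec ⊤
    · refine absurd ?_ hne
      obtain ⟨z, hz1, hz2⟩ := nonempty_preirreducible_inter (W x).isOpen (W i).isOpen
        ⟨x, hmem x⟩ ⟨i, hmem i⟩
      exact ⟨⟨z, hz1, hz2⟩⟩

theorem iso_structure_of_section_cosection (hfield : IsField (Γ(X, ⊤) : Type u)) {L : X.Modules}
    (hL : PicF.IsInvertible L) (s : Coh.structureModule X ⟶ L) (hs : s ≠ 0)
    (t : L ⟶ Coh.structureModule X) (ht : t ≠ 0) : Nonempty (L ≅ Coh.structureModule X) := by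
  obtain ⟨b, hb⟩ := hfield.mul_inv_cancel (section_comp_cosection_ne_zero hL s hs t ht)
  refine nonempty_iso_structure_iff.2 ⟨b • s.app ⊤ (oneSec X ⊤), fun V _ => ?_⟩
  have key : ∀ m : Γ(L, V), s.app V (t.app V m) =
      resX X (le_top : V ≤ ⊤) (toFun ((s ≫ t).app ⊤ (oneSec X ⊤))) • m := by
    intro m
    obtain ⟨W, g, hW, -, hg⟩ := exists_gen_cover hL
    refine res_ext (fun i => V ⊓ W i) (fun _ => inf_le_left) (le_iSup_inf hW V) fun i => ?_
    obtain ⟨r, hr⟩ := (hg i).exists_coeff inf_le_right (res L (inf_le_left : V ⊓ W i ≤ V) m)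
    obtain ⟨f, hf⟩ := (hg i).exists_coeff (inf_le_right : V ⊓ W i ≤ W i)
      (res L le_top (s.app ⊤ (oneSec X ⊤)))
    rw [← app_res, ← app_res, res_smul, resX_resX, hr]
    simp only [Scheme.Modules.Hom.app_smul]
    rw [hom_structure_apply s]
    have : resX X (le_top : V ⊓ W i ≤ ⊤) (toFun ((s ≫ t).app ⊤ (oneSec X ⊤))) =
        f * toFun (t.app (V ⊓ W i) (res L inf_le_right (g i))) := by
      rw [← toFun_res]
      change toFun (res _ le_top (t.app ⊤ (s.app ⊤ (oneSec X ⊤)))) = _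
      rw [← app_res, hf, Scheme.Modules.Hom.app_smul, toFun_smul]
    rw [this, hf, ← mul_smul, ← mul_smul, ← mul_smul]
    congr 1
    ring
  have hu : IsUnit (resX X (le_top : V ≤ ⊤) (toFun ((s ≫ t).app ⊤ (oneSec X ⊤)))) :=
    (IsUnit.of_mul_eq_one b hb).map _
  constructor
  · intro r r' e
    have := congrArg (fun z => toFun (t.app V z)) e
    simp only [res_smul, Scheme.Modules.Hom.app_smul, toFun_smul, app_res, toFun_res] at this
    have h1 : resX X (le_top : V ≤ ⊤) b *
        resX X (le_top : V ≤ ⊤) (toFun (t.app ⊤ (s.app ⊤ (oneSec X ⊤)))) = 1 := by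
      rw [mul_comm, ← map_mul]
      exact (congrArg _ hb).trans (map_one _)
    rwa [h1, mul_one, mul_one] at this
  · intro m
    refine ⟨toFun (t.app V m), hu.smul_left_cancel.1 ?_⟩
    rw [← key m, hom_structure_apply s V, res_smul, ← mul_smul, ← mul_smul]
    congr 1
    rw [mul_comm _ (toFun (t.app V m)), mul_assoc, ← map_mul, hb, map_one, mul_one]

end Groth.PicAux
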