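import Groth.Agent.PicAux.Sections
import Mathlib.Algebra.Category.ModuleCat.Sheaf

/-!
# The invertible module of a unit cocycle
-/

universe u

open CategoryTheory AlgebraicGeometry Opposite TopologicalSpace

namespace Groth.PicAux

variable {X : Scheme.{u}}

theorem resX_ext {κ : Type*} {U : X.Opens} (V : κ → X.Opens) (hV : ∀ i, V i ≤ U) (hc : U ≤ iSup V)
    {x y : Γ(X, U)} (h : ∀ i, resX X (hV i) x = resX X (hV i) y) : x = y :=
  TopCat.Sheaf.eq_of_locally_eq' X.sheaf V U (fun i => homOfLE (hV i)) hc x y h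

theorem resX_glue {κ : Type*} {U : X.Opens} (V : κ → X.Opens) (hV : ∀ i, V i ≤ U)
    (hc : U ≤ iSup V) (x : ∀ i, Γ(X, V i))
    (h : ∀ i j, resX X (inf_le_left : V i ⊓ V j ≤ V i) (x i) =
      resX X (inf_le_right : V i ⊓ V j ≤ V j) (x j)) :
    ∃! y : Γ(X, U), ∀ i, resX X (hV i) y = x i :=
  TopCat.Sheaf.existsUnique_gluing' X.sheaf V U (fun i => homOfLE (hV i)) hc x h

variable {ι : Type u} (U : ι → X.Opens) (η : ∀ i j : ι, Γ(X, U i ⊓ U j))

theorem cle₁ (V : X.Opens) (i j : ι) : V ⊓ U i ⊓ U j ≤ V ⊓ U i := inf_le_left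
theorem cle₂ (V : X.Opens) (i j : ι) : V ⊓ U i ⊓ U j ≤ V ⊓ U j :=
  inf_le_inf_right _ inf_le_left
theorem cle₃ (V : X.Opens) (i j : ι) : V ⊓ U i ⊓ U j ≤ U i ⊓ U j :=
  inf_le_inf_right _ inf_le_right

/-- Sections over `V` of the module of a cocycle. -/
noncomputable def cSec (V : X.Opens) : AddSubgroup (∀ i : ι, Γ(X, V ⊓ U i)) where
  carrier := {f | ∀ i j, resX X (cle₂ U V i j) (f j) =
    resX X (cle₁ U V i j) (f i) * resX X (cle₃ U V i j) (η i j)}
  add_mem' {f g} hf hg i j := by simp only [Pi.add_apply, map_add, add_mul, hf i j, hg i j]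
  zero_mem' i j := by simp
  neg_mem' {f} hf i j := by simp only [Pi.neg_apply, map_neg, neg_mul, hf i j]

noncomputable instance (V : X.Opens) : SMul Γ(X, V) (cSec U η V) where
  smul r f := ⟨fun i => resX X inf_le_left r * f.1 i, fun i j => by
    simp only [map_mul, resX_resX, f.2 i j]; ring⟩

theorem cSmul_apply {V : X.Opens} (r : Γ(X, V)) (f : cSec U η V) (i : ι) :
    (r • f).1 i = resX X inf_le_left r * f.1 i := rfl

noncomputable instance (V : X.Opens) : Module Γ(X, V) (cSec U η V) where
  one_smul f := Subtype.ext (funext fun i => by simp [cSmul_apply])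
  mul_smul r r' f := Subtype.ext (funext fun i => by simp [cSmul_apply, mul_assoc])
  smul_zero r := Subtype.ext (funext fun i => by simp [cSmul_apply])
  smul_add r f g := Subtype.ext (funext fun i => by simp [cSmul_apply, mul_add])
  add_smul r r' f := Subtype.ext (funext fun i => by simp [cSmul_apply, add_mul])
  zero_smul f := Subtype.ext (funext fun i => by simp [cSmul_apply])

/-- Restriction of sections of the module of a cocycle. -/
noncomputable def cRes {V W : X.Opens} (h : W ≤ V) : cSec U η V →+ cSec U η W where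
  toFun f := ⟨fun i => resX X (inf_le_inf_right _ h) (f.1 i), fun i j => by
    have := congrArg
      (resX X (inf_le_inf_right _ (inf_le_inf_right _ h) : W ⊓ U i ⊓ U j ≤ V ⊓ U i ⊓ U j)) (f.2 i j)
    simpa only [map_mul, resX_resX] using this⟩
  map_zero' := Subtype.ext (funext fun i => map_zero _)
  map_add' f g := Subtype.ext (funext fun i => map_add _ _ _)

theorem cRes_apply {V W : X.Opens} (h : W ≤ V) (f : cSec U η V) (i : ι) :
    (cRes U η h f).1 i = resX X (inf_le_inf_right _ h) (f.1 i) := rfl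

/-- The underlying presheaf of the module of a cocycle. -/
noncomputable def cPresheaf : TopCat.Presheaf Ab.{u} X where
  obj V := AddCommGrpCat.of (cSec U η V.unop)
  map i := AddCommGrpCat.ofHom (cRes U η i.unop.le)
  map_id V := AddCommGrpCat.hom_ext (AddMonoidHom.ext fun (f : cSec U η V.unop) =>
    Subtype.ext (funext fun j => resX_self _ (f.1 j)))
  map_comp {A B C} f g := AddCommGrpCat.hom_ext (AddMonoidHom.ext fun (x : cSec U η A.unop) =>
    Subtype.ext (funext fun j =>
      (resX_resX (inf_le_inf_right _ f.unop.le) (inf_le_inf_right _ g.unop.le) (x.1 j)).symm))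

noncomputable instance cModuleInst (V : X.Opensᵒᵖ) :
    Module (X.ringCatSheaf.obj.obj V) ((cPresheaf U η).obj V) :=
  inferInstanceAs (Module Γ(X, V.unop) (cSec U η V.unop))

theorem cPresheaf_map_smul ⦃V W : X.Opensᵒᵖ⦄ (f : V ⟶ W) (r : X.ringCatSheaf.obj.obj V)
    (m : (cPresheaf U η).obj V) :
    (cPresheaf U η).map f (r • m) = X.ringCatSheaf.obj.map f r • (cPresheaf U η).map f m := by
  have key : ∀ (r : Γ(X, V.unop)) (m : cSec U η V.unop),
      cRes U η f.unop.le (r • m) = resX X f.unop.le r • cRes U η f.unop.le m :=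
    fun r m => Subtype.ext (funext fun i => by
      rw [cRes_apply]
      erw [cSmul_apply, cSmul_apply]
      rw [map_mul, resX_resX, resX_resX, cRes_apply])
  exact key r m

theorem cPresheaf_isSheaf : TopCat.Presheaf.IsSheaf (cPresheaf U η) := by
  rw [TopCat.Presheaf.isSheaf_iff_isSheafUniqueGluing]
  intro κ W sf hsf
  have hW : ∀ a, W a ≤ iSup W := le_iSup W
  have hc : ∀ i, iSup W ⊓ U i ≤ ⨆ a, W a ⊓ U i := fun i => by rw [iSup_inf_eq]
  let sf' : ∀ a, cSec U η (W a) := sf
  have hcompat : ∀ a b, cRes U η (inf_le_left : W a ⊓ W b ≤ W a) (sf' a) =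
      cRes U η (inf_le_right : W a ⊓ W b ≤ W b) (sf' b) := hsf
  have key : ∀ i, ∃! y : Γ(X, iSup W ⊓ U i),
      ∀ a, resX X (inf_le_inf_right _ (hW a)) y = (sf' a).1 i := by
    intro i
    refine resX_glue (fun a => W a ⊓ U i) (fun a => inf_le_inf_right _ (hW a)) (hc i) _ fun a b => ?_
    have h1 := congrArg (resX X (le_inf
      (le_inf (inf_le_left.trans inf_le_left) (inf_le_right.trans inf_le_left))
      (inf_le_left.trans inf_le_right) : W a ⊓ U i ⊓ (W b ⊓ U i) ≤ W a ⊓ W b ⊓ U i))
      (congrArg (fun f => f.1 i) (hcompat a b))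
    simpa only [cRes_apply, resX_resX] using h1
  choose g hg hgu using key
  refine ⟨(⟨g, fun i j => ?_⟩ : cSec U η (iSup W)), fun a => ?_, fun g' hg' => ?_⟩
  · refine resX_ext (fun a => W a ⊓ U i ⊓ U j)
      (fun a => inf_le_inf_right _ (inf_le_inf_right _ (hW a)))
      (by rw [iSup_inf_eq, iSup_inf_eq]) fun a => ?_
    simp only [map_mul, resX_resX]
    have h := (sf' a).2 i j
    rw [← hg j a, ← hg i a] at h
    simpa only [resX_resX] using h
  · exact Subtype.ext (funext fun i => hg i a)
  · refine Subtype.ext (funext fun i => hgu i _ fun a => ?_)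
    exact congrArg (fun f : cSec U η (W a) => f.1 i) (hg' a)

/-- The O_X-module of a cocycle. -/
noncomputable def cModule : X.Modules where
  val := PresheafOfModules.ofPresheaf (R := X.ringCatSheaf.obj) (cPresheaf U η)
    (cPresheaf_map_smul U η)
  isSheaf := cPresheaf_isSheaf U η

/-- Regard a section of the cocycle module as a family of functions. -/
noncomputable def cCoord {V : X.Opens} (f : Γ(cModule U η, V)) (i : ι) : Γ(X, V ⊓ U i) :=
  (f : cSec U η V).1 i

theorem cCoord_smul {V : X.Opens} (r : Γ(X, V)) (f : Γ(cModule U η, V)) (i : ι) :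
    cCoord U η (r • f) i = resX X inf_le_left r * cCoord U η f i := rfl

theorem cCoord_res {V W : X.Opens} (h : W ≤ V) (f : Γ(cModule U η, V)) (i : ι) :
    cCoord U η (res _ h f) i = resX X (inf_le_inf_right _ h) (cCoord U η f i) := rfl

theorem cCoord_rel {V : X.Opens} (f : Γ(cModule U η, V)) (i j : ι) :
    resX X (cle₂ U V i j) (cCoord U η f j) =
      resX X (cle₁ U V i j) (cCoord U η f i) * resX X (cle₃ U V i j) (η i j) :=
  (f : cSec U η V).2 i j

theorem cCoord_ext {V : X.Opens} {f g : Γ(cModule U η, V)}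
    (h : ∀ i, cCoord U η f i = cCoord U η g i) : f = g :=
  Subtype.ext (funext h)

theorem exists_module_of_cocycle (hU : iSup U = ⊤)
    (hunit : ∀ i j, IsUnit (η i j))
    (hη : ∀ i j k : ι,
      resX X (inf_le_inf_right (U k) inf_le_left : U i ⊓ U j ⊓ U k ≤ U i ⊓ U k) (η i k) =
        resX X (inf_le_left : U i ⊓ U j ⊓ U k ≤ U i ⊓ U j) (η i j) *
          resX X (inf_le_inf_right (U k) inf_le_right : U i ⊓ U j ⊓ U k ≤ U j ⊓ U k) (η j k)) :
    ∃ (L : X.Modules) (s : ∀ i, Γ(L, U i)), (∀ i, Gen L (U i) (s i)) ∧ PicF.IsInvertible L ∧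
      ∀ i j, res L (inf_le_left : U i ⊓ U j ≤ U i) (s i) =
        η i j • res L (inf_le_right : U i ⊓ U j ≤ U j) (s j) := by
  have hdiag : ∀ i (W : X.Opens) (h : W ≤ U i ⊓ U i), resX X h (η i i) = 1 := by
    intro i W h
    have h' : W ≤ U i ⊓ U i ⊓ U i := le_inf h (h.trans inf_le_left)
    have := congrArg (resX X h') (hη i i i)
    simp only [map_mul, resX_resX] at this
    exact ((((hunit i i).map (resX X h)).mul_eq_right).1 this.symm)
  let s : ∀ i, Γ(cModule U η, U i) := fun i =>
    (⟨fun j => η i j, fun j k => by simpa only [resX_resX] using hη i j k⟩ : cSec U η (U i))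
  have hs : ∀ i j, cCoord U η (s i) j = η i j := fun i j => rfl
  have hgen : ∀ i, Gen (cModule U η) (U i) (s i) := by
    intro i V h
    have hVi : V ≤ V ⊓ U i := le_inf le_rfl h
    constructor
    · intro r r' e
      have := congrArg (fun f => resX X hVi (cCoord U η f i)) e
      simpa [cCoord_smul, cCoord_res, hs, hdiag] using this
    · intro f
      refine ⟨resX X hVi (cCoord U η f i), cCoord_ext U η fun j => ?_⟩
      have h2 := congrArg (resX X (le_inf (le_inf inf_le_left (inf_le_left.trans h)) inf_le_right :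
        V ⊓ U j ≤ V ⊓ U i ⊓ U j)) (cCoord_rel U η f i j)
      simp only [map_mul, resX_resX, resX_self] at h2
      simp only [cCoord_smul, cCoord_res, hs, resX_resX]
      exact h2.symm
  refine ⟨cModule U η, s, hgen, isInvertible_of_gen_cover U hU s hgen,
    fun i j => cCoord_ext U η fun k => ?_⟩
  simp only [cCoord_smul, cCoord_res, hs]
  exact hη i j k

end Groth.PicAux
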