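import Groth.Agent.PicAux.Sections
import Groth.Agent.PicAux.Cocycle

/-!
# Bases are detected locally
-/

universe u

open CategoryTheory AlgebraicGeometry Opposite TopologicalSpace

namespace Groth.PicAux

variable {X : Scheme.{u}} {L : X.Modules}

theorem Gen.of_cover {U : X.Opens} {s : Γ(L, U)} {κ : Type*} (V : κ → X.Opens)
    (hV : ∀ a, V a ≤ U) (hc : U ≤ iSup V) (h : ∀ a, Gen L (V a) (Groth.PicAux.res L (hV a) s)) :
    Gen L U s := by
  intro W hW
  have hWc : W ≤ ⨆ a, W ⊓ V a := by
    rw [← inf_iSup_eq]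
    exact le_inf le_rfl (hW.trans hc)
  constructor
  · intro r r' e
    refine resX_ext (fun a => W ⊓ V a) (fun _ => inf_le_left) hWc fun a => ?_
    refine (h a).smul_inj inf_le_right ?_
    have := congrArg (Groth.PicAux.res L (inf_le_left : W ⊓ V a ≤ W)) e
    simp only [res_smul, res_res] at this
    simpa only [res_res] using this
  · intro t
    choose c hc' using fun a => (h a).exists_coeff (inf_le_right : W ⊓ V a ≤ V a)
      (Groth.PicAux.res L (inf_le_left : W ⊓ V a ≤ W) t)
    obtain ⟨r, hr, -⟩ := resX_glue (fun a => W ⊓ V a) (fun _ => inf_le_left) hWc c fun a b => by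
      refine (h a).smul_inj (inf_le_left.trans inf_le_right) ?_
      have h1 := congrArg (Groth.PicAux.res L
        (inf_le_left : (W ⊓ V a) ⊓ (W ⊓ V b) ≤ W ⊓ V a)) (hc' a)
      have h2 := congrArg (Groth.PicAux.res L
        (inf_le_right : (W ⊓ V a) ⊓ (W ⊓ V b) ≤ W ⊓ V b)) (hc' b)
      simp only [res_smul, res_res] at h1 h2 ⊢
      rw [← h1, ← h2]
    refine ⟨r, res_ext (fun a => W ⊓ V a) (fun _ => inf_le_left) hWc fun a => ?_⟩
    simp only [res_smul, res_res, hr a]
    have := hc' a
    simp only [res_res] at this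
    exact this.symm

theorem Gen.isUnit_of_smul {U : X.Opens} {s : Γ(L, U)} (hs : Gen L U s) {a : Γ(X, U)}
    (ha : Gen L U (a • s)) : IsUnit a := by
  obtain ⟨b, hb⟩ := hs.exists_unit ha
  have : a = b := hs.smul_inj le_rfl (by simpa using hb)
  exact this ▸ b.isUnit

end Groth.PicAux
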