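import Groth.Agent.PicAux.Sections
import Groth.Agent.QCohMod.Local
import Groth.Agent.QCohMod.Sections
import Groth.Agent.PicAux.GenLocal

/-!
# Invertible modules are quasi-coherent
-/

universe u

open CategoryTheory AlgebraicGeometry Opposite TopologicalSpace

namespace Groth.PicAux

variable {X : Scheme.{u}} {L : X.Modules}

theorem isQCoh_structureModule (Y : Scheme.{u}) :
    (Coh.structureModule Y).IsQuasicoherent := by
  refine Groth.QCohMod.isQCoh_of_forall_affine _ (fun U hU f s => ?_) fun U hU f t ht => ?_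
  · have := hU.isLocalization_basicOpen f
    obtain ⟨⟨a, _, n, rfl⟩, ha⟩ := IsLocalization.surj (M := Submonoid.powers f) (toFun s)
    refine ⟨n, (a : Γ(Coh.structureModule Y, U)), ?_⟩
    rw [RingHom.algebraMap_toAlgebra, map_pow] at ha
    change resX Y (Y.basicOpen_le f) a = resX Y (Y.basicOpen_le f) f ^ n * toFun s
    rw [mul_comm]
    exact ha.symm
  · have := hU.isLocalization_basicOpen f
    have h' : algebraMap Γ(Y, U) Γ(Y, Y.basicOpen f) (toFun t) =
        algebraMap Γ(Y, U) Γ(Y, Y.basicOpen f) 0 := by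
      rw [map_zero]; exact ht
    obtain ⟨⟨_, n, rfl⟩, hn⟩ := (IsLocalization.eq_iff_exists (Submonoid.powers f)
      Γ(Y, Y.basicOpen f)).1 h'
    exact ⟨n, hn.trans (mul_zero _)⟩

theorem isQCoh_of_isInvertible (hL : PicF.IsInvertible L) : L.IsQuasicoherent := by
  refine Groth.QCohMod.isQCoh_of_forall_exists L fun x => ?_
  obtain ⟨U, hxU, ⟨e⟩⟩ := hL x
  exact ⟨U, hxU, (Groth.QCohMod.isQCoh_iff_of_iso e).2 (isQCoh_structureModule _)⟩

theorem evaluation_resX {U V : X.Opens} (h : V ≤ U) (x : X) (hx : x ∈ V) (f : Γ(X, U)) :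
    X.evaluation V x hx (resX X h f) = X.evaluation U x (h hx) f := by
  change X.residue x (X.presheaf.germ V x hx (X.presheaf.map (homOfLE h).op f)) = _
  rw [TopCat.Presheaf.germ_res_apply]
  rfl

/-- On an affine open, an invertible module is trivial near any finite set of points without
specialisations between them. -/
theorem exists_affine_trivial_finset_of_antichain (hL : PicF.IsInvertible L) (T : Finset X)
    (hT : ∀ x ∈ T, ∀ y ∈ T, x ∈ closure ({y} : Set X) → x = y) {W : X.Opens} (hW : IsAffineOpen W)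
    (hTW : ∀ x ∈ T, x ∈ W) :
    ∃ U : X.Opens, IsAffineOpen U ∧ (∀ x ∈ T, x ∈ U) ∧ ∃ s : Γ(L, U), Gen L U s := by
  have := isQCoh_of_isInvertible hL
  classical
  obtain ⟨Uc, e, -, hxU, he⟩ := exists_gen_cover hL
  have h1 : ∀ x : T, ∃ g : Γ(X, W), X.basicOpen g ≤ Uc x.1 ∧ x.1 ∈ X.basicOpen g := fun x => by
    obtain ⟨g, hg1, hg2⟩ := hW.exists_basicOpen_le (V := Uc x.1 ⊓ W)
      ⟨x.1, hxU x.1, hTW x.1 x.2⟩ (hTW x.1 x.2)
    exact ⟨g, hg1.trans inf_le_left, hg2⟩
  choose g hgU hxg using h1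
  have hsep : ∀ x y : T, x ≠ y → ∃ h : Γ(X, W), x.1 ∈ X.basicOpen h ∧
      X.evaluation W y.1 (hTW y.1 y.2) h = 0 := by
    intro x y hxy
    obtain ⟨h, hh, hxh⟩ := hW.exists_basicOpen_le
      (V := W ⊓ ⟨(closure ({y.1} : Set X))ᶜ, isClosed_closure.isOpen_compl⟩)
      ⟨x.1, hTW x.1 x.2, fun e => hxy (Subtype.ext (hT x.1 x.2 y.1 y.2 e))⟩ (hTW x.1 x.2)
    exact ⟨h, hxh, (X.evaluation_eq_zero_iff_notMem_basicOpen y.1 (hTW y.1 y.2) h).2
      fun hy => (hh hy).2 (subset_closure rfl)⟩
  choose h hxh hyh using hsep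
  let H : T → Γ(X, W) := fun x => ∏ y : T, if hxy : x ≠ y then h x y hxy else 1
  have hH : ∀ x : T, X.evaluation W x.1 (hTW x.1 x.2) (H x) ≠ 0 := fun x => by
    rw [map_prod, Finset.prod_ne_zero_iff]
    intro y _
    split_ifs with hxy
    · exact (X.evaluation_ne_zero_iff_mem_basicOpen x.1 (hTW x.1 x.2) _).2 (hxh x y hxy)
    · simp
  have hH0 : ∀ x y : T, x ≠ y → X.evaluation W y.1 (hTW y.1 y.2) (H x) = 0 := fun x y hxy => by
    rw [map_prod]
    refine Finset.prod_eq_zero (Finset.mem_univ y) ?_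
    rw [dif_pos hxy]
    exact hyh x y hxy
  choose n t ht using fun x : T =>
    Groth.QCohMod.exists_pow_smul_eq_res L hW (g x) (res L (hgU x) (e x.1))
  have ht' : ∀ x : T, res L (X.basicOpen_le (g x)) (t x) =
      resX X (X.basicOpen_le (g x)) (g x) ^ n x • res L (hgU x) (e x.1) := ht
  let s : Γ(L, W) := ∑ x : T, H x • t x
  choose c hc using fun x y : T => (he x.1).exists_coeff (hgU x) (res L (X.basicOpen_le (g x)) (t y))
  let C : ∀ x : T, Γ(X, X.basicOpen (g x)) := fun x =>
    ∑ y : T, resX X (X.basicOpen_le (g x)) (H y) * c x y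
  have hs : ∀ x : T, res L (X.basicOpen_le (g x)) s = C x • res L (hgU x) (e x.1) := by
    intro x
    rw [Finset.sum_smul]
    refine (map_sum ((L.presheaf.map (homOfLE (X.basicOpen_le (g x))).op).hom)
      (fun y => H y • t y) _).trans (Finset.sum_congr rfl fun y _ => ?_)
    change res L _ (H y • t y) = _
    rw [res_smul, hc x y, mul_smul]
  have hC : ∀ x : T, x.1 ∈ X.basicOpen (C x) := by
    intro x
    rw [← X.evaluation_ne_zero_iff_mem_basicOpen x.1 (hxg x), map_sum, Finset.sum_eq_single x]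
    · rw [map_mul, evaluation_resX]
      refine mul_ne_zero (hH x) ?_
      have : c x x = resX X (X.basicOpen_le (g x)) (g x) ^ n x :=
        (he x.1).smul_inj (hgU x) ((hc x x).symm.trans (ht' x))
      rw [this, map_pow, evaluation_resX]
      exact pow_ne_zero _ ((X.evaluation_ne_zero_iff_mem_basicOpen x.1 _ _).2 (hxg x))
    · intro y _ hyx
      rw [map_mul, evaluation_resX, hH0 y x hyx, zero_mul]
    · simp
  have h2 : ∀ x : T, ∃ f : Γ(X, W), X.basicOpen f ≤ X.basicOpen (C x) ∧ x.1 ∈ X.basicOpen f :=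
    fun x => hW.exists_basicOpen_le ⟨x.1, hC x⟩ (hTW x.1 x.2)
  choose f hf hxf using h2
  let F : Γ(X, W) := ∑ x : T, H x * f x
  refine ⟨X.basicOpen F, hW.basicOpen F, fun x hx => ?_, res L (X.basicOpen_le F) s, ?_⟩
  · rw [← X.evaluation_ne_zero_iff_mem_basicOpen x (hTW x hx), map_sum,
      Finset.sum_eq_single (⟨x, hx⟩ : T)]
    · rw [map_mul]
      exact mul_ne_zero (hH ⟨x, hx⟩)
        ((X.evaluation_ne_zero_iff_mem_basicOpen x _ _).2 (hxf ⟨x, hx⟩))
    · intro y _ hyx
      rw [map_mul, hH0 y ⟨x, hx⟩ hyx, zero_mul]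
    · simp
  · refine Gen.of_cover (fun x : T => X.basicOpen F ⊓ X.basicOpen (f x)) (fun _ => inf_le_left)
      ?_ fun x => ?_
    · intro z hz
      rw [← inf_iSup_eq]
      refine ⟨hz, ?_⟩
      have hzW : z ∈ W := X.basicOpen_le F hz
      rw [SetLike.mem_coe, Opens.mem_iSup]
      by_contra hcon
      push Not at hcon
      refine (X.evaluation_ne_zero_iff_mem_basicOpen z hzW F).2 hz ?_
      rw [map_sum]
      refine Finset.sum_eq_zero fun y _ => ?_
      rw [map_mul, (X.evaluation_eq_zero_iff_notMem_basicOpen z hzW _).2 (hcon y), mul_zero]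
    · have hle : X.basicOpen F ⊓ X.basicOpen (f x) ≤ X.basicOpen (C x) := inf_le_right.trans (hf x)
      have hle' := hle.trans (X.basicOpen_le (C x))
      have := congrArg (res L hle') (hs x)
      simp only [res_res, res_smul] at this ⊢
      rw [this]
      refine Gen.smul_unit ?_ ?_
      · exact (he x.1).res _
      · have hu : IsUnit (resX X (X.basicOpen_le (C x)) (C x)) :=
          RingedSpace.isUnit_res_basicOpen _ (C x)
        have := hu.map (resX X hle)
        rwa [resX_resX] at this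

/-- On an affine open, an invertible module is trivial near any finite set of closed points. -/
theorem exists_affine_trivial_finset (hL : PicF.IsInvertible L) (T : Finset X)
    (hT : ∀ x ∈ T, IsClosed ({x} : Set X)) {W : X.Opens} (hW : IsAffineOpen W)
    (hTW : ∀ x ∈ T, x ∈ W) :
    ∃ U : X.Opens, IsAffineOpen U ∧ (∀ x ∈ T, x ∈ U) ∧ ∃ s : Γ(L, U), Gen L U s :=
  exists_affine_trivial_finset_of_antichain hL T
    (fun x _ y hy h => by rwa [(hT y hy).closure_eq, Set.mem_singleton_iff] at h) hW hTW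

end Groth.PicAux
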