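import Groth.Agent.PicAux.Tensor
import Groth.Agent.PicAux.Cocycle
import Groth.Prelude.Def_KoszTw

/-!
# Morphisms out of tensor products of modules; coherence isomorphisms for arbitrary modules
-/

universe u

open CategoryTheory AlgebraicGeometry Opposite TopologicalSpace MonoidalCategory

namespace Groth.PicAux

variable {X : Scheme.{u}} {L M N P : X.Modules}

/-- The morphism of presheaves of a compatible family of bilinear maps. -/
noncomputable def preLift (T : ∀ W : X.Opens, Γ(L, W) →ₗ[Γ(X, W)] Γ(M, W) →ₗ[Γ(X, W)] Γ(P, W))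
    (hT : ∀ (W W' : X.Opens) (h : W' ≤ W) a b,
      res P h (T W a b) = T W' (res L h a) (res M h b)) :
    CohB1.tensorPre L M ⟶ P.val :=
  PresheafOfModules.homMk
    { app := fun W => AddCommGrpCat.ofHom (TensorProduct.lift (T W.unop)).toAddMonoidHom
      naturality := fun W W' i => by
        have key : ∀ p : PTen L M W.unop, TensorProduct.lift (T W'.unop)
            (ptenRes L M i.unop.le p) = res P i.unop.le (TensorProduct.lift (T W.unop) p) := by
          intro p
          induction p using TensorProduct.induction_on with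
          | zero => rw [map_zero, map_zero, map_zero, res_zero]
          | tmul a b => rw [ptenRes_tmul, TensorProduct.lift.tmul, TensorProduct.lift.tmul, hT]
          | add p q hp hq => rw [map_add, map_add, hp, hq, map_add, res_add]
        ext p
        exact key p }
    (fun W r p => by
      have key : ∀ (r : Γ(X, W.unop)) (p : PTen L M W.unop), TensorProduct.lift (T W.unop) (r • p) =
          r • TensorProduct.lift (T W.unop) p := fun r p => map_smul _ r p
      exact key r p)

/-- The universal property of the tensor product: a natural family of bilinear maps on sections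
induces a morphism. -/
theorem exists_tensor_lift
    (T : ∀ W : X.Opens, Γ(L, W) →ₗ[Γ(X, W)] Γ(M, W) →ₗ[Γ(X, W)] Γ(P, W))
    (hT : ∀ (W W' : X.Opens) (h : W' ≤ W) a b,
      res P h (T W a b) = T W' (res L h a) (res M h b)) :
    ∃ φ : CohB1.tensorMod L M ⟶ P, ∀ W a b, φ.app W (tmulSec a b) = T W a b := by
  let adj := PresheafOfModules.sheafificationAdjunction.{u, u, u, u} (𝟙 X.ringCatSheaf.obj)
  let φ : CohB1.tensorMod L M ⟶ P :=
    (adj.homEquiv (CohB1.tensorPre L M) P).symm (preLift T hT)
  refine ⟨φ, fun W a b => ?_⟩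
  have h : adj.homEquiv (CohB1.tensorPre L M) P φ = preLift T hT := Equiv.apply_symm_apply _ _
  rw [Adjunction.homEquiv_unit] at h
  exact congr((($h).app (op W)) (a ⊗ₜ b))

/-- Morphisms out of a tensor product are determined by the values on pure tensors. -/
theorem tensor_hom_ext {φ ψ : CohB1.tensorMod L M ⟶ P}
    (h : ∀ W a b, φ.app W (tmulSec a b) = ψ.app W (tmulSec a b)) : φ = ψ := by
  ext V t
  choose W hW p hxW hp using fun x : (V : Type u) => ptenUnit_locally_surjective L M V t x.1 x.2
  refine res_ext W hW (fun x hx => Opens.mem_iSup.2 ⟨⟨x, hx⟩, hxW ⟨x, hx⟩⟩) fun x => ?_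
  rw [← app_res, ← app_res, ← hp x]
  generalize p x = q
  induction q using TensorProduct.induction_on with
  | zero => rw [map_zero, map_zero, map_zero]
  | tmul a b => exact h _ a b
  | add q r hq hr => rw [map_add, map_add, map_add, hq, hr]

theorem tmulSec_add_left {W : X.Opens} (a a' : Γ(L, W)) (b : Γ(M, W)) :
    tmulSec (a + a') b = tmulSec a b + tmulSec a' b := by
  simp only [tmulSec, TensorProduct.add_tmul, map_add]

theorem tmulSec_add_right {W : X.Opens} (a : Γ(L, W)) (b b' : Γ(M, W)) :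
    tmulSec a (b + b') = tmulSec a b + tmulSec a b' := by
  simp only [tmulSec, TensorProduct.tmul_add, map_add]

/-- `tmulSec` as a bilinear map. -/
noncomputable def tmulLin (W : X.Opens) :
    Γ(L, W) →ₗ[Γ(X, W)] Γ(M, W) →ₗ[Γ(X, W)] Γ(CohB1.tensorMod L M, W) :=
  LinearMap.mk₂ _ tmulSec tmulSec_add_left tmulSec_smul_left tmulSec_add_right tmulSec_smul_right

@[simp]
theorem tmulLin_apply {W : X.Opens} (a : Γ(L, W)) (b : Γ(M, W)) :
    tmulLin W a b = tmulSec a b := rfl

theorem tensorMap_app_tmulSec {L' M' : X.Modules} (f : L ⟶ L') (g : M ⟶ M') (W : X.Opens)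
    (a : Γ(L, W)) (b : Γ(M, W)) :
    (KoszTw.tensorMap f g).app W (tmulSec a b) = tmulSec (f.app W a) (g.app W b) :=
  KoszTw.tensorMap_tmul f g W a b

/-- The symmetry `L ⊗ M ≅ M ⊗ L`. -/
theorem exists_braiding (L M : X.Modules) :
    ∃ e : CohB1.tensorMod L M ≅ CohB1.tensorMod M L,
      ∀ W a b, e.hom.app W (tmulSec a b) = tmulSec b a := by
  obtain ⟨φ, hφ⟩ := exists_tensor_lift (L := L) (M := M) (fun W => (tmulLin W).flip)
    (fun W W' h a b => by simp)
  obtain ⟨ψ, hψ⟩ := exists_tensor_lift (L := M) (M := L) (fun W => (tmulLin W).flip)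
    (fun W W' h a b => by simp)
  refine ⟨⟨φ, ψ, tensor_hom_ext fun W a b => ?_, tensor_hom_ext fun W a b => ?_⟩, hφ⟩
  · simp [hφ, hψ]
  · simp [hφ, hψ]

/-- The unit law `O ⊗ L ≅ L`. -/
theorem exists_leftUnitor (L : X.Modules) :
    ∃ e : CohB1.tensorMod (Coh.structureModule X) L ≅ L,
      ∀ W r a, e.hom.app W (tmulSec r a) = toFun r • a := by
  obtain ⟨b, hb⟩ := exists_braiding (Coh.structureModule X) L
  refine ⟨b ≪≫ SecTwist.unitorR L, fun W r a => ?_⟩
  rw [Iso.trans_hom, Scheme.Modules.Hom.comp_app, ConcreteCategory.comp_apply, hb]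
  exact SecTwist.unitorR_tmul L W a r

section Assoc

variable (T : ∀ W : X.Opens,
    Γ(L, W) →ₗ[Γ(X, W)] Γ(M, W) →ₗ[Γ(X, W)] Γ(N, W) →ₗ[Γ(X, W)] Γ(P, W))

/-- The defining property of the extension of `T` to sections of `L ⊗ M`. -/
def IsExt {W : X.Opens} (t : Γ(CohB1.tensorMod L M, W)) (n : Γ(N, W)) (y : Γ(P, W)) : Prop :=
  ∀ (W' : X.Opens) (h : W' ≤ W) (p : PTen L M W'),
    ptenUnit L M W' p = res _ h t → res P h y = TensorProduct.lift (T W') p (res N h n)

variable (hT : ∀ (W W' : X.Opens) (h : W' ≤ W) a b c,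
    res P h (T W a b c) = T W' (res L h a) (res M h b) (res N h c))

include hT in
theorem res_lift₃ {W W' : X.Opens} (h : W' ≤ W) (p : PTen L M W) (n : Γ(N, W)) :
    res P h (TensorProduct.lift (T W) p n) =
      TensorProduct.lift (T W') (ptenRes L M h p) (res N h n) := by
  induction p using TensorProduct.induction_on with
  | zero => simp
  | tmul a b => rw [ptenRes_tmul, TensorProduct.lift.tmul, TensorProduct.lift.tmul, hT]
  | add p q hp hq => rw [map_add, LinearMap.add_apply, res_add, hp, hq, map_add, map_add,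
      LinearMap.add_apply]

include hT in
theorem lift₃_congr {W : X.Opens} (p q : PTen L M W) (n : Γ(N, W))
    (h : ptenUnit L M W p = ptenUnit L M W q) :
    TensorProduct.lift (T W) p n = TensorProduct.lift (T W) q n := by
  choose W' hW' hxW' hres using fun x : (W : Type u) =>
    ptenUnit_locally_injective L M W p q h x.1 x.2
  refine res_ext W' hW' (fun x hx => Opens.mem_iSup.2 ⟨⟨x, hx⟩, hxW' ⟨x, hx⟩⟩) fun x => ?_
  rw [res_lift₃ T hT, res_lift₃ T hT, hres x]

include hT in
theorem existsUnique_ext {W : X.Opens} (t : Γ(CohB1.tensorMod L M, W)) (n : Γ(N, W)) :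
    ∃! y, IsExt T t n y := by
  choose V hV p hxV hp using fun x : (W : Type u) => ptenUnit_locally_surjective L M W t x.1 x.2
  have hc : W ≤ iSup V := fun x hx => Opens.mem_iSup.2 ⟨⟨x, hx⟩, hxV ⟨x, hx⟩⟩
  obtain ⟨y, hy, hyu⟩ := res_glue V hV hc
    (fun x => TensorProduct.lift (T (V x)) (p x) (res N (hV x) n)) fun x x' => by
      rw [res_lift₃ T hT, res_lift₃ T hT, res_res, res_res]
      refine lift₃_congr T hT _ _ _ ?_
      rw [ptenUnit_res, ptenUnit_res, hp, hp, res_res, res_res]
  refine ⟨y, fun W' h q hq => ?_, fun y' hy' => hyu y' fun x => hy' (V x) (hV x) (p x) (hp x)⟩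
  refine res_ext (fun x => W' ⊓ V x) (fun _ => inf_le_left)
    (fun z hz => by
      obtain ⟨x, hx⟩ := Opens.mem_iSup.1 (hc (h hz))
      exact Opens.mem_iSup.2 ⟨x, hz, hx⟩) fun x => ?_
  have h1 := congrArg (res P (inf_le_right : W' ⊓ V x ≤ V x)) (hy x)
  rw [res_res, res_lift₃ T hT, res_res] at h1
  rw [res_res, res_lift₃ T hT, res_res, h1]
  refine lift₃_congr T hT _ _ _ ?_
  rw [ptenUnit_res, ptenUnit_res, hp, hq, res_res, res_res]

include hT in
/-- A natural family of trilinear maps induces a morphism out of `(L ⊗ M) ⊗ N`. -/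
theorem exists_tensor_lift₃ :
    ∃ φ : CohB1.tensorMod (CohB1.tensorMod L M) N ⟶ P,
      ∀ W a b c, φ.app W (tmulSec (tmulSec a b) c) = T W a b c := by
  choose g hg hgu using fun W t n => existsUnique_ext T hT (W := W) t n
  have hext : ∀ W t n y, IsExt T (W := W) t n y → y = g W t n := hgu
  have hadd : ∀ W t t' n, g W (t + t') n = g W t n + g W t' n := by
    intro W t t' n
    refine (hext W _ n _ fun W' h p hp => ?_).symm
    choose V hV q hxV hq using fun x : (W' : Type u) =>
      ptenUnit_locally_surjective L M W' (res _ h t) x.1 x.2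
    refine res_ext V hV (fun x hx => Opens.mem_iSup.2 ⟨⟨x, hx⟩, hxV ⟨x, hx⟩⟩) fun x => ?_
    have e1 := hg W t n (V x) ((hV x).trans h) (q x) (by rw [hq, res_res])
    have e2 := hg W t' n (V x) ((hV x).trans h) (ptenRes L M (hV x) p - q x) (by
      rw [map_sub, ptenUnit_res, hp, hq, res_res, res_res, res_add, add_sub_cancel_left])
    rw [res_add, res_add, res_res, res_res, e1, e2, res_lift₃ T hT, res_res, ← LinearMap.add_apply,
      ← map_add, add_sub_cancel]
  have hsmul : ∀ W (r : Γ(X, W)) t n, g W (r • t) n = r • g W t n := by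
    intro W r t n
    refine (hext W _ n _ fun W' h p hp => ?_).symm
    choose V hV q hxV hq using fun x : (W' : Type u) =>
      ptenUnit_locally_surjective L M W' (res _ h t) x.1 x.2
    refine res_ext V hV (fun x hx => Opens.mem_iSup.2 ⟨⟨x, hx⟩, hxV ⟨x, hx⟩⟩) fun x => ?_
    have e1 := hg W t n (V x) ((hV x).trans h) (q x) (by rw [hq, res_res])
    rw [res_res, res_smul, e1, res_lift₃ T hT, res_res, ← LinearMap.smul_apply, ← map_smul]
    refine lift₃_congr T hT _ _ _ ?_
    rw [ptenUnit_smul, ptenUnit_res, hp, hq, res_res, res_res, res_smul]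
  have hadd' : ∀ W t n n', g W t (n + n') = g W t n + g W t n' := by
    intro W t n n'
    refine (hext W t _ _ fun W' h p hp => ?_).symm
    rw [res_add, hg W t n W' h p hp, hg W t n' W' h p hp, res_add, map_add]
  have hsmul' : ∀ W (r : Γ(X, W)) t n, g W t (r • n) = r • g W t n := by
    intro W r t n
    refine (hext W t _ _ fun W' h p hp => ?_).symm
    rw [res_smul, hg W t n W' h p hp, res_smul, map_smul]
  obtain ⟨φ, hφ⟩ := exists_tensor_lift (L := CohB1.tensorMod L M) (M := N) (P := P)
    (fun W => LinearMap.mk₂ _ (g W) (hadd W) (hsmul W) (hadd' W) (fun r t n => hsmul' W r t n))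
    (fun W W' h t n => by
      simp only [LinearMap.mk₂_apply]
      refine hext W' _ _ _ fun W'' h' p hp => ?_
      rw [res_res, res_res]
      exact hg W t n W'' (h'.trans h) p (by rw [hp, res_res]))
  refine ⟨φ, fun W a b c => ?_⟩
  rw [hφ, LinearMap.mk₂_apply]
  have := hg W (tmulSec a b) c W le_rfl (a ⊗ₜ b) (by rw [res_self]; rfl)
  simpa using this

end Assoc

/-- Morphisms out of `(L ⊗ M) ⊗ N` are determined by the values on pure tensors. -/
theorem tensor_hom_ext₃ {φ ψ : CohB1.tensorMod (CohB1.tensorMod L M) N ⟶ P}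
    (h : ∀ W a b c, φ.app W (tmulSec (tmulSec a b) c) = ψ.app W (tmulSec (tmulSec a b) c)) :
    φ = ψ := by
  refine tensor_hom_ext fun V t n => ?_
  choose W hW p hxW hp using fun x : (V : Type u) => ptenUnit_locally_surjective L M V t x.1 x.2
  refine res_ext W hW (fun x hx => Opens.mem_iSup.2 ⟨⟨x, hx⟩, hxW ⟨x, hx⟩⟩) fun x => ?_
  rw [← app_res, ← app_res, res_tmulSec, ← hp x]
  generalize p x = q
  induction q using TensorProduct.induction_on with
  | zero => simp
  | tmul a b => exact h _ a b _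
  | add q r hq hr => rw [map_add, tmulSec_add_left, map_add, map_add, hq, hr]

set_option linter.unusedSimpArgs false in
/-- The associativity `(L ⊗ M) ⊗ N ≅ L ⊗ (M ⊗ N)`. -/
theorem exists_associator (L M N : X.Modules) :
    ∃ e : CohB1.tensorMod (CohB1.tensorMod L M) N ≅ CohB1.tensorMod L (CohB1.tensorMod M N),
      ∀ W a b c, e.hom.app W (tmulSec (tmulSec a b) c) = tmulSec a (tmulSec b c) := by
  obtain ⟨φ, hφ⟩ := exists_tensor_lift₃ (L := L) (M := M) (N := N)
    (P := CohB1.tensorMod L (CohB1.tensorMod M N))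
    (fun W => LinearMap.mk₂ _ (fun a b => (tmulLin W a).comp (tmulLin W b))
      (fun a a' b => by ext c; simp [tmulSec_add_left]) (fun r a b => by ext c; simp [tmulSec_smul_left])
      (fun a b b' => by ext c; simp [tmulSec_add_left, tmulSec_add_right])
      (fun r a b => by ext c; simp [tmulSec_smul_left, tmulSec_smul_right]))
    (fun W W' h a b c => by simp)
  obtain ⟨e₁, he₁⟩ := exists_braiding L (CohB1.tensorMod M N)
  obtain ⟨ψ, hψ⟩ := exists_tensor_lift₃ (L := M) (M := N) (N := L)
    (P := CohB1.tensorMod (CohB1.tensorMod L M) N)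
    (fun W => LinearMap.mk₂ _ (fun b c => ((tmulLin W).flip c).comp ((tmulLin W).flip b))
      (fun b b' c => by ext a; simp [tmulSec_add_left, tmulSec_add_right])
      (fun r b c => by ext a; simp [tmulSec_smul_left, tmulSec_smul_right])
      (fun b c c' => by ext a; simp [tmulSec_add_right])
      (fun r b c => by ext a; simp [tmulSec_smul_right]))
    (fun W W' h b c a => by simp)
  have hψφ : φ ≫ (e₁.hom ≫ ψ) = 𝟙 _ := tensor_hom_ext₃ fun W a b c => by
    simp [hφ, he₁, hψ]
  obtain ⟨e₂, he₂⟩ := exists_braiding (CohB1.tensorMod M N) L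
  have hinv : e₂.hom ≫ e₁.hom = 𝟙 _ := tensor_hom_ext fun W a b => by simp [he₁, he₂]
  have hφψ : (e₁.hom ≫ ψ) ≫ φ = 𝟙 _ := by
    have h3 : e₁.hom ≫ (ψ ≫ φ) = e₁.hom ≫ e₂.hom := by
      congr 1
      exact tensor_hom_ext₃ fun W b c a => by simp [hφ, hψ, he₂]
    have hinv' : e₁.hom ≫ e₂.hom = 𝟙 _ := tensor_hom_ext fun W a b => by simp [he₁, he₂]
    rw [Category.assoc, h3, hinv']
  exact ⟨⟨φ, e₁.hom ≫ ψ, hψφ, hφψ⟩, hφ⟩

end Groth.PicAux
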