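import Groth.Agent.PicAux.GenLocus
import Groth.Agent.PicAux.QCoh
import Mathlib.AlgebraicGeometry.Morphisms.Affine

/-!
# The generating locus is affine over the scheme
-/

universe u

open CategoryTheory AlgebraicGeometry Opposite TopologicalSpace

namespace Groth.PicAux

variable {X : Scheme.{u}} {L : X.Modules}

theorem isInvertible_of_iso {M : X.Modules} (hL : PicF.IsInvertible L) (e : L ≅ M) :
    PicF.IsInvertible M := by
  rw [isInvertible_iff_exists_gen] at hL ⊢
  intro x
  obtain ⟨U, s, hU, hs⟩ := hL x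
  exact ⟨U, _, hU, hs.map e.hom⟩

theorem exists_affine_gen_mem (hL : PicF.IsInvertible L) (x : X) :
    ∃ (U : X.Opens) (e : Γ(L, U)), IsAffineOpen U ∧ x ∈ U ∧ Gen L U e := by
  obtain ⟨W, s, hxW, hs⟩ := (isInvertible_iff_exists_gen L).1 hL x
  obtain ⟨_, ⟨U, hU, rfl⟩, hxU, hUW⟩ :=
    X.isBasis_affineOpens.exists_subset_of_mem_open hxW W.isOpen
  exact ⟨U, _, hU, hxU, hs.res hUW⟩

theorem isAffineHom_genLocus (hL : PicF.IsInvertible L) (s : Coh.structureModule X ⟶ L) :
    IsAffineHom (CohB1.genLocus L s).ι := by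
  refine isAffineHom_of_forall_exists_isAffineOpen _ fun x => ?_
  obtain ⟨U, e, hU, hx, he⟩ := exists_affine_gen_mem hL x
  obtain ⟨c, hc⟩ := he.exists_coeff le_rfl (res L le_top (gsec s))
  rw [res_self] at hc
  refine ⟨U, hx, hU, (CohB1.genLocus L s).ι.isAffineOpen_iff_of_isOpenImmersion.1 ?_⟩
  rw [Scheme.Hom.image_preimage_eq_opensRange_inf, Scheme.Opens.opensRange_ι,
    genLocus_inf_eq_basicOpen he hc]
  exact hU.basicOpen c

/-- On an affine scheme an invertible module has, near every point, a global section generating it. -/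
theorem exists_gsec_gen [IsAffine X] (hL : PicF.IsInvertible L) (x : X) :
    ∃ (t : Γ(L, ⊤)) (V : X.Opens), x ∈ V ∧ Gen L V (res L le_top t) := by
  have := isQCoh_of_isInvertible hL
  obtain ⟨W, e, hxW, he⟩ := (isInvertible_iff_exists_gen L).1 hL x
  obtain ⟨g, hg, hxg⟩ := (isAffineOpen_top X).exists_basicOpen_le (V := W) ⟨x, hxW⟩ trivial
  obtain ⟨n, t, ht⟩ :=
    Groth.QCohMod.exists_pow_smul_eq_res L (isAffineOpen_top X) g (res L hg e)
  refine ⟨t, X.basicOpen g, hxg, ?_⟩
  have ht' : res L (X.basicOpen_le g) t = resX X (X.basicOpen_le g) g ^ n • res L hg e := ht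
  rw [ht']
  refine (he.res hg).smul_unit (IsUnit.pow n ?_)
  exact RingedSpace.isUnit_res_basicOpen _ g

theorem gsec_homOfSection (t : Γ(L, ⊤)) : gsec (homOfSection t) = t := homOfSection_one t

end Groth.PicAux
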