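import Groth.Agent.PicAux.Sections
import Groth.Agent.PicAux.GenLocal
import Mathlib.Algebra.Category.ModuleCat.Sheaf.PullbackFree
import Mathlib.CategoryTheory.Limits.IsConnected

/-!
# Pullback of sections and of bases
-/

universe u

open CategoryTheory CategoryTheory.Limits AlgebraicGeometry Opposite TopologicalSpace

namespace Groth.PicAux

variable {X Y Z : Scheme.{u}}

theorem opensMap_final (f : X ⟶ Y) : (Opens.map f.base).Final := by
  constructor
  intro V
  let t : StructuredArrow V (Opens.map f.base) :=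
    StructuredArrow.mk (Y := (⊤ : Y.Opens)) (homOfLE le_top)
  refine isConnected_of_isTerminal _ (x := t) ?_
  refine IsTerminal.ofUniqueHom (fun a => StructuredArrow.homMk (homOfLE le_top) rfl) fun a m => ?_
  ext
  rfl

/-- The section of `f^*M` over `f⁻¹U` induced by a section of `M` over `U`. -/
noncomputable def pullSec (f : X ⟶ Y) (M : Y.Modules) {U : Y.Opens} (m : Γ(M, U)) :
    Γ((Scheme.Modules.pullback f).obj M, f ⁻¹ᵁ U) :=
  ((Scheme.Modules.pullbackPushforwardAdjunction f).unit.app M).app U m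

variable (f : X ⟶ Y)

theorem pullSec_map {M N : Y.Modules} (φ : M ⟶ N) {U : Y.Opens} (m : Γ(M, U)) :
    ((Scheme.Modules.pullback f).map φ).app (f ⁻¹ᵁ U) (pullSec f M m) = pullSec f N (φ.app U m) :=
  congr(($(((Scheme.Modules.pullbackPushforwardAdjunction f).unit.naturality φ :).symm)).app U m)

theorem res_pullSec (M : Y.Modules) {U V : Y.Opens} (h : V ≤ U) (m : Γ(M, U)) :
    res _ (f.preimage_mono h) (pullSec f M m) = pullSec f M (res M h m) :=
  (app_res ((Scheme.Modules.pullbackPushforwardAdjunction f).unit.app M) h m).symm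

theorem pullSec_smul (M : Y.Modules) {U : Y.Opens} (r : Γ(Y, U)) (m : Γ(M, U)) :
    pullSec f M (r • m) = f.app U r • pullSec f M m :=
  ((Scheme.Modules.pullbackPushforwardAdjunction f).unit.app M).app_smul r m

theorem pullSec_comp (g : Y ⟶ Z) (M : Z.Modules) {U : Z.Opens} (m : Γ(M, U)) :
    ((Scheme.Modules.pullbackComp f g).hom.app M).app (f ⁻¹ᵁ g ⁻¹ᵁ U)
      (pullSec f _ (pullSec g M m)) = pullSec (f ≫ g) M m := by
  have h := unit_conjugateEquiv
    ((Scheme.Modules.pullbackPushforwardAdjunction g).comp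
      (Scheme.Modules.pullbackPushforwardAdjunction f))
    (Scheme.Modules.pullbackPushforwardAdjunction (f ≫ g))
    (Scheme.Modules.pullbackComp f g).inv M
  rw [Scheme.Modules.conjugateEquiv_pullbackComp_inv] at h
  have h' : pullSec f _ (pullSec g M m) =
      ((Scheme.Modules.pullbackComp f g).inv.app M).app (f ⁻¹ᵁ g ⁻¹ᵁ U) (pullSec (f ≫ g) M m) :=
    congr(($h).app U m)
  rw [h']
  exact congr(($(Iso.inv_hom_id_app (Scheme.Modules.pullbackComp f g) M)).app (f ⁻¹ᵁ g ⁻¹ᵁ U)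
    (pullSec (f ≫ g) M m))

set_option backward.isDefEq.respectTransparency.types false in
/-- The comparison `f^*O_Y ⟶ O_X`. -/
noncomputable def pullUnit :
    (Scheme.Modules.pullback f).obj (Coh.structureModule Y) ⟶ Coh.structureModule X :=
  SheafOfModules.pullbackObjUnitToUnit f.toRingCatSheafHom

set_option backward.isDefEq.respectTransparency.types false in
/-- The comparison `O_Y ⟶ f_*O_X`. -/
noncomputable def pushUnit :
    Coh.structureModule Y ⟶ (Scheme.Modules.pushforward f).obj (Coh.structureModule X) :=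
  SheafOfModules.unitToPushforwardObjUnit f.toRingCatSheafHom

set_option backward.isDefEq.respectTransparency.types false in
theorem unit_pullUnit :
    (Scheme.Modules.pullbackPushforwardAdjunction f).unit.app (Coh.structureModule Y) ≫
      (Scheme.Modules.pushforward f).map (pullUnit f) = pushUnit f :=
  SheafOfModules.pullbackPushforwardAdjunction_homEquiv_pullbackObjUnitToUnit _

set_option backward.isDefEq.respectTransparency.types false in
theorem isIso_pullUnit : IsIso (pullUnit f) := by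
  have := opensMap_final f
  exact inferInstanceAs (IsIso (C := SheafOfModules.{u} _)
    (SheafOfModules.pullbackObjUnitToUnit f.toRingCatSheafHom))

theorem pullbackObjUnit_oneSec :
    (pullUnit f).app (f ⁻¹ᵁ ⊤) (pullSec f _ (oneSec Y ⊤)) = oneSec X (f ⁻¹ᵁ ⊤) :=
  congr(($(unit_pullUnit f)).app ⊤ (oneSec Y ⊤)).trans (map_one (f.app ⊤).hom)

/-- Pullback of a global basis is a global basis. -/
theorem Gen.pull_top {M : Y.Modules} {e : Γ(M, ⊤)} (he : Gen M ⊤ e) :
    Gen ((Scheme.Modules.pullback f).obj M) (f ⁻¹ᵁ ⊤) (pullSec f M e) := by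
  have hiso : IsIso (homOfSection e) := (isIso_hom_structure_iff _).2 (by simpa using he)
  have hφ := isIso_pullUnit f
  have h1 : pullSec f _ (oneSec Y ⊤) = (inv (pullUnit f)).app (f ⁻¹ᵁ ⊤) (oneSec X _) := by
    rw [← pullbackObjUnit_oneSec f]
    exact (congr(($(IsIso.hom_inv_id (pullUnit f))).app (f ⁻¹ᵁ ⊤)
      (pullSec f _ (oneSec Y ⊤)))).symm
  have h2 : Gen _ (f ⁻¹ᵁ ⊤) (pullSec f _ (oneSec Y ⊤)) := h1 ▸ (gen_oneSec _).map (inv (pullUnit f))
  have h3 := h2.map ((Scheme.Modules.pullback f).map (homOfSection e))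
  rwa [pullSec_map, homOfSection_one] at h3

theorem restrictIso_pullSec [IsOpenImmersion f] (M : Y.Modules) {U : Y.Opens} (m : Γ(M, U)) :
    ((Scheme.Modules.restrictFunctorIsoPullback f).hom.app M).app (f ⁻¹ᵁ U)
      (res M (f.image_preimage_le U) m : Γ(M, f ''ᵁ f ⁻¹ᵁ U)) = pullSec f M m :=
  congr(($((Scheme.Modules.restrictAdjunction f).unit_leftAdjointUniq_hom_app
    (Scheme.Modules.pullbackPushforwardAdjunction f) M)).app U m)

/-- A section of `M` over `U` is a basis iff its restriction to `U` is a global basis. -/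
theorem gen_iff_gen_restrict {M : Y.Modules} {U : Y.Opens} (s : Γ(M, U)) :
    Gen M U s ↔ Gen (M.restrict U.ι) ⊤
      (res M (Scheme.Opens.ι_image_le U ⊤) s : Γ(M, U.ι ''ᵁ ⊤)) := by
  have key : ∀ W : (U : Scheme.{u}).Opens,
      (Function.Bijective fun r : Γ((U : Scheme.{u}), W) =>
        r • res (M.restrict U.ι) (le_top : W ≤ ⊤)
          (res M (Scheme.Opens.ι_image_le U ⊤) s : Γ(M, U.ι ''ᵁ ⊤))) ↔
        Function.Bijective fun r : Γ(Y, U.ι ''ᵁ W) =>
          r • res M (Scheme.Opens.ι_image_le U W) s := by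
    intro W
    have e : res (M.restrict U.ι) (le_top : W ≤ ⊤)
          (res M (Scheme.Opens.ι_image_le U ⊤) s : Γ(M, U.ι ''ᵁ ⊤)) =
        res M (Scheme.Opens.ι_image_le U W) s :=
      res_res (M := M) _ (U.ι.image_mono (le_top : W ≤ ⊤)) s
    rw [e]
    exact Iff.of_eq (congrArg Function.Bijective (funext fun r => restrict_smul U W r _))
  refine ⟨fun h W hW => (key W).2 (h _ _), fun h V hV => ?_⟩
  obtain ⟨W, rfl⟩ : ∃ W : (U : Scheme.{u}).Opens, U.ι ''ᵁ W = V :=
    ⟨U.ι ⁻¹ᵁ V, by rw [Scheme.Hom.image_preimage_eq_opensRange_inf]; simpa using hV⟩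
  exact (key W).1 (h W le_top)

/-- `pullSec h M e` is a global basis of `h^*M` (for `h` with image inside the open of `e`). -/
def PullGen {M : Y.Modules} {U : Y.Opens} (e : Γ(M, U)) {W : Scheme.{u}} (h : W ⟶ Y)
    (hh : ⊤ ≤ h ⁻¹ᵁ U) : Prop :=
  Gen ((Scheme.Modules.pullback h).obj M) ⊤ (res _ hh (pullSec h M e))

theorem PullGen.ι {M : Y.Modules} {U : Y.Opens} {e : Γ(M, U)} (he : Gen M U e) :
    PullGen e U.ι (Scheme.Opens.ι_preimage_self U).ge := by
  have h1 := ((gen_iff_gen_restrict e).1 he).map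
    ((Scheme.Modules.restrictFunctorIsoPullback U.ι).hom.app M)
  have h2 : res _ (Scheme.Opens.ι_preimage_self U).ge (pullSec U.ι M e) =
      ((Scheme.Modules.restrictFunctorIsoPullback U.ι).hom.app M).app ⊤
        (res M (Scheme.Opens.ι_image_le U ⊤) e : Γ(M, U.ι ''ᵁ ⊤)) := by
    rw [← restrictIso_pullSec U.ι M e]
    refine ((app_res _ (Scheme.Opens.ι_preimage_self U).ge _).symm).trans ?_
    exact congrArg _ (res_res (M := M) (U.ι.image_preimage_le U)
      (U.ι.image_mono (Scheme.Opens.ι_preimage_self U).ge) e)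
  rw [PullGen, h2]
  exact h1

theorem PullGen.comp {M : Z.Modules} {U : Z.Opens} {e : Γ(M, U)} {g : Y ⟶ Z} {hg : ⊤ ≤ g ⁻¹ᵁ U}
    (h : PullGen e g hg) : PullGen e (f ≫ g) (f.preimage_mono hg) := by
  have h1 := (Gen.pull_top f h).map ((Scheme.Modules.pullbackComp f g).hom.app M)
  rw [← res_pullSec, app_res, pullSec_comp] at h1
  exact h1

theorem PullGen.congr {M : Z.Modules} {U : Z.Opens} {e : Γ(M, U)} {g g' : Y ⟶ Z} (hgg : g = g')
    {hg : ⊤ ≤ g ⁻¹ᵁ U} (h : PullGen e g hg) : PullGen e g' (hgg ▸ hg) := by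
  subst hgg
  exact h

/-- Pullback of a basis over `U` is a basis over `f⁻¹U`. -/
theorem Gen.pull {M : Y.Modules} {U : Y.Opens} {e : Γ(M, U)} (he : Gen M U e) :
    Gen ((Scheme.Modules.pullback f).obj M) (f ⁻¹ᵁ U) (pullSec f M e) := by
  rw [gen_iff_gen_restrict]
  have h1 : PullGen e ((f ⁻¹ᵁ U).ι ≫ f) _ :=
    ((PullGen.ι he).comp (f ∣_ U)).congr (morphismRestrict_ι f U)
  have h2 := h1.map ((Scheme.Modules.pullbackComp (f ⁻¹ᵁ U).ι f).inv.app M)
  have h3 := h2.map ((Scheme.Modules.restrictFunctorIsoPullback (f ⁻¹ᵁ U).ι).inv.app _)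
  have e1 : ∀ {W} (hW : W ≤ ((f ⁻¹ᵁ U).ι ≫ f) ⁻¹ᵁ U),
      ((Scheme.Modules.pullbackComp (f ⁻¹ᵁ U).ι f).inv.app M).app W
        (Groth.PicAux.res ((Scheme.Modules.pullback ((f ⁻¹ᵁ U).ι ≫ f)).obj M) hW
          (pullSec ((f ⁻¹ᵁ U).ι ≫ f) M e)) =
      Groth.PicAux.res ((Scheme.Modules.pullback (f ⁻¹ᵁ U).ι).obj ((Scheme.Modules.pullback f).obj M)) hW
        (pullSec (f ⁻¹ᵁ U).ι _ (pullSec f M e)) := by
    intro W hW
    rw [app_res, ← pullSec_comp]
    congr 1
    exact congr(($(Iso.hom_inv_id_app (Scheme.Modules.pullbackComp (f ⁻¹ᵁ U).ι f) M)).app _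
      (pullSec (f ⁻¹ᵁ U).ι _ (pullSec f M e)))
  rw [e1, ← restrictIso_pullSec] at h3
  convert h3 using 1
  set φ := (Scheme.Modules.restrictFunctorIsoPullback (f ⁻¹ᵁ U).ι).hom.app
    ((Scheme.Modules.pullback f).obj M)
  set ψ := (Scheme.Modules.restrictFunctorIsoPullback (f ⁻¹ᵁ U).ι).inv.app
    ((Scheme.Modules.pullback f).obj M)
  symm
  refine (congrArg (ψ.app ⊤) (app_res φ _ _).symm).trans ?_
  have hid : ∀ z, ψ.app ⊤ (φ.app ⊤ z) = z := fun z =>
    congr(($(Iso.hom_inv_id_app (Scheme.Modules.restrictFunctorIsoPullback (f ⁻¹ᵁ U).ι) _)).app ⊤ z)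
  refine (hid _).trans ?_
  exact res_res (M := (Scheme.Modules.pullback f).obj M) _ ((f ⁻¹ᵁ U).ι.image_mono
    (Scheme.Opens.ι_preimage_self (f ⁻¹ᵁ U)).ge) _

theorem isInvertible_pullback {M : Y.Modules} (hM : PicF.IsInvertible M) :
    PicF.IsInvertible ((Scheme.Modules.pullback f).obj M) := by
  rw [isInvertible_iff_exists_gen] at hM ⊢
  intro x
  obtain ⟨U, s, hU, hs⟩ := hM (f x)
  exact ⟨f ⁻¹ᵁ U, _, hU, hs.pull f⟩

end Groth.PicAux
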