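import Groth.Agent.PicAux.Tensor
import Groth.Agent.PicAux.Pullback
import Groth.Agent.PicAux.Cocycle
import Groth.Prelude.Def_PicGrp
import Groth.Agent.PicAux.GenLocal
import Mathlib.Algebra.Group.MinimalAxioms

/-!
# The group law on invertible classes and its compatibility with pullback
-/

universe u

open CategoryTheory AlgebraicGeometry Opposite TopologicalSpace

namespace Groth.PicAux

variable {X Y : Scheme.{u}}

/-- Common trivialising cover of two invertible modules. -/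
theorem exists_gen_cover₂ {L M : X.Modules} (hL : PicF.IsInvertible L) (hM : PicF.IsInvertible M) :
    ∃ (U : X → X.Opens) (s : ∀ x, Γ(L, U x)) (t : ∀ x, Γ(M, U x)),
      iSup U = ⊤ ∧ (∀ x, x ∈ U x) ∧ (∀ x, Gen L (U x) (s x)) ∧ ∀ x, Gen M (U x) (t x) := by
  obtain ⟨U, s, hU, hxU, hs⟩ := exists_gen_cover hL
  obtain ⟨V, t, hV, hxV, ht⟩ := exists_gen_cover hM
  exact ⟨fun x => U x ⊓ V x, fun x => res L inf_le_left (s x), fun x => res M inf_le_right (t x),
    eq_top_iff.2 fun x _ => Opens.mem_iSup.2 ⟨x, hxU x, hxV x⟩, fun x => ⟨hxU x, hxV x⟩,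
    fun x => (hs x).res _, fun x => (ht x).res _⟩

theorem cover₃ {U V : X → X.Opens} (hU : ∀ x, x ∈ U x) (hV : ∀ x, x ∈ V x) :
    iSup (fun x => U x ⊓ V x) = ⊤ :=
  eq_top_iff.2 fun x _ => Opens.mem_iSup.2 ⟨x, hU x, hV x⟩

theorem tensorMod_comm {L M : X.Modules} (hL : PicF.IsInvertible L) (hM : PicF.IsInvertible M) :
    Nonempty (CohB1.tensorMod L M ≅ CohB1.tensorMod M L) := by
  obtain ⟨U, s, t, hU, -, hs, ht⟩ := exists_gen_cover₂ hL hM
  obtain ⟨e, -⟩ := exists_iso_of_gen hU _ (fun x => (hs x).tensor (ht x))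
    (fun x => tmulSec (t x) (s x)) (fun x => (ht x).tensor (hs x)) fun i j r hr => by
      obtain ⟨a, ha⟩ := (hs j).exists_coeff inf_le_right (res L (inf_le_left : U i ⊓ U j ≤ U i) (s i))
      obtain ⟨b, hb⟩ := (ht j).exists_coeff inf_le_right (res M (inf_le_left : U i ⊓ U j ≤ U i) (t i))
      rw [res_tmulSec, res_tmulSec, ha, hb, tmulSec_smul_left, tmulSec_smul_right] at hr ⊢
      rw [← mul_smul] at hr
      have : a * b = r := ((hs j).tensor (ht j)).smul_inj inf_le_right
        (by rw [res_tmulSec]; exact hr)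
      rw [← mul_smul, mul_comm b a, this]
  exact ⟨e⟩

theorem tensorMod_assoc {L M N : X.Modules} (hL : PicF.IsInvertible L) (hM : PicF.IsInvertible M)
    (hN : PicF.IsInvertible N) :
    Nonempty (CohB1.tensorMod (CohB1.tensorMod L M) N ≅ CohB1.tensorMod L (CohB1.tensorMod M N)) := by
  obtain ⟨U, s, t, -, hxU, hs, ht⟩ := exists_gen_cover₂ hL hM
  obtain ⟨V, w, -, hxV, hw⟩ := exists_gen_cover hN
  have hc := cover₃ hxU hxV
  have hs' : ∀ x, Gen L (U x ⊓ V x) (res L inf_le_left (s x)) := fun x => (hs x).res _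
  have ht' : ∀ x, Gen M (U x ⊓ V x) (res M inf_le_left (t x)) := fun x => (ht x).res _
  have hw' : ∀ x, Gen N (U x ⊓ V x) (res N inf_le_right (w x)) := fun x => (hw x).res _
  obtain ⟨e, -⟩ := exists_iso_of_gen hc _ (fun x => ((hs' x).tensor (ht' x)).tensor (hw' x))
    _ (fun x => (hs' x).tensor ((ht' x).tensor (hw' x))) fun i j r hr => by
      obtain ⟨a, ha⟩ := (hs' j).exists_coeff inf_le_right
        (res L (inf_le_left : (U i ⊓ V i) ⊓ (U j ⊓ V j) ≤ _) (res L inf_le_left (s i)))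
      obtain ⟨b, hb⟩ := (ht' j).exists_coeff inf_le_right
        (res M (inf_le_left : (U i ⊓ V i) ⊓ (U j ⊓ V j) ≤ _) (res M inf_le_left (t i)))
      obtain ⟨c, hc⟩ := (hw' j).exists_coeff inf_le_right
        (res N (inf_le_left : (U i ⊓ V i) ⊓ (U j ⊓ V j) ≤ _) (res N inf_le_right (w i)))
      rw [res_tmulSec, res_tmulSec, res_tmulSec, res_tmulSec] at hr
      rw [res_tmulSec, res_tmulSec, res_tmulSec, res_tmulSec]
      rw [ha, hb, hc] at hr ⊢
      simp only [tmulSec_smul_left, tmulSec_smul_right, ← mul_smul] at hr ⊢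
      have h2 := Gen.smul_inj (((hs' j).tensor (ht' j)).tensor (hw' j)) inf_le_right
        (r := c * (b * a)) (r' := r)
        (by rw [res_tmulSec, res_tmulSec]; exact hr)
      rw [← h2]
      congr 1
      ring
  exact ⟨e⟩

theorem tensorMod_one {L : X.Modules} (hL : PicF.IsInvertible L) :
    Nonempty (CohB1.tensorMod (Coh.structureModule X) L ≅ L) := by
  obtain ⟨U, s, hU, -, hs⟩ := exists_gen_cover hL
  obtain ⟨e, -⟩ := exists_iso_of_gen hU _ (fun x => (gen_oneSec (U x)).tensor (hs x))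
    s hs fun i j r hr => by
      obtain ⟨a, ha⟩ := (hs j).exists_coeff inf_le_right (res L (inf_le_left : U i ⊓ U j ≤ U i) (s i))
      rw [res_tmulSec, res_tmulSec, ha, res_oneSec, res_oneSec, tmulSec_smul_right] at hr
      have : a = r := ((gen_oneSec (U j)).tensor (hs j)).smul_inj inf_le_right
        (by rw [res_tmulSec, res_oneSec]; exact hr)
      rw [ha, this]
  exact ⟨e⟩

theorem exists_inverse {L : X.Modules} (hL : PicF.IsInvertible L) :
    ∃ M : X.Modules, PicF.IsInvertible M ∧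
      Nonempty (CohB1.tensorMod M L ≅ Coh.structureModule X) := by
  obtain ⟨U, s, hU, -, hs⟩ := exists_gen_cover hL
  choose c hc using fun i j => (hs i).exists_coeff (inf_le_left : U i ⊓ U j ≤ U i)
    (res L inf_le_right (s j))
  -- cocycle `η i j` with `s j = η i j • s i`
  have hunit : ∀ i j, IsUnit (c i j) := fun i j => by
    refine Gen.isUnit_of_smul ((hs i).res inf_le_left) ?_
    rw [← hc]
    exact (hs j).res _
  obtain ⟨M, t, ht, hM, hMrel⟩ := exists_module_of_cocycle U c hU hunit fun i j k => by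
    refine (hs i).smul_inj (inf_le_left.trans inf_le_left) ?_
    have h1 := congrArg (res L (inf_le_inf_right (U k) inf_le_left :
      U i ⊓ U j ⊓ U k ≤ U i ⊓ U k)) (hc i k)
    have h2 := congrArg (res L (inf_le_left : U i ⊓ U j ⊓ U k ≤ U i ⊓ U j)) (hc i j)
    have h3 := congrArg (res L (inf_le_inf_right (U k) inf_le_right :
      U i ⊓ U j ⊓ U k ≤ U j ⊓ U k)) (hc j k)
    simp only [res_smul, res_res] at h1 h2 h3
    rw [← h1, h3, h2, ← mul_smul, mul_comm]
  refine ⟨M, hM, ?_⟩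
  obtain ⟨e, -⟩ := exists_iso_of_gen hU _ (fun x => (ht x).tensor (hs x))
    (fun x => oneSec X (U x)) (fun x => gen_oneSec (U x)) fun i j r hr => by
      obtain ⟨a, ha⟩ := (hs j).exists_coeff inf_le_right (res L (inf_le_left : U i ⊓ U j ≤ U i) (s i))
      rw [res_tmulSec, res_tmulSec, hMrel, ha, tmulSec_smul_left, tmulSec_smul_right,
        ← mul_smul] at hr
      have h1 : c i j * a = r := ((ht j).tensor (hs j)).smul_inj inf_le_right
        (by rw [res_tmulSec]; exact hr)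
      have h2 : c i j * a = 1 := (hs i).smul_inj inf_le_left (by
        rw [one_smul, mul_comm, mul_smul, ← hc, ← ha])
      rw [res_oneSec, res_oneSec, ← h1, h2, one_smul]
  exact ⟨e⟩

/-- `f^*q` over the intersection of the preimages. -/
noncomputable def pullFun (f : X ⟶ Y) (U V : Y.Opens) :
    Γ(Y, U ⊓ V) →+* Γ(X, f ⁻¹ᵁ U ⊓ f ⁻¹ᵁ V) := (f.app (U ⊓ V)).hom

theorem pullback_tensorMod (f : X ⟶ Y) {L M : Y.Modules} (hL : PicF.IsInvertible L)
    (hM : PicF.IsInvertible M) :
    Nonempty ((Scheme.Modules.pullback f).obj (CohB1.tensorMod L M) ≅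
      CohB1.tensorMod ((Scheme.Modules.pullback f).obj L) ((Scheme.Modules.pullback f).obj M)) := by
  obtain ⟨U, s, t, hU, hxU, hs, ht⟩ := exists_gen_cover₂ hL hM
  have hU' : iSup (fun y => f ⁻¹ᵁ U y) = ⊤ :=
    eq_top_iff.2 fun x _ => Opens.mem_iSup.2 ⟨f x, hxU (f x)⟩
  obtain ⟨e, -⟩ := exists_iso_of_gen hU' _ (fun y => ((hs y).tensor (ht y)).pull f)
    _ (fun y => ((hs y).pull f).tensor ((ht y).pull f)) fun i j r hr => by
      obtain ⟨a, ha⟩ := (hs j).exists_coeff inf_le_right (res L (inf_le_left : U i ⊓ U j ≤ U i) (s i))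
      obtain ⟨b, hb⟩ := (ht j).exists_coeff inf_le_right (res M (inf_le_left : U i ⊓ U j ≤ U i) (t i))
      have key : ∀ (N : Y.Modules) (n : Γ(N, U i)) (n' : Γ(N, U j)) (q : Γ(Y, U i ⊓ U j)),
          res N (inf_le_left : U i ⊓ U j ≤ U i) n = q • res N inf_le_right n' →
          res ((Scheme.Modules.pullback f).obj N) (inf_le_left : f ⁻¹ᵁ U i ⊓ f ⁻¹ᵁ U j ≤ _)
              (pullSec f N n) =
            pullFun f (U i) (U j) q • res ((Scheme.Modules.pullback f).obj N)
              (inf_le_right : f ⁻¹ᵁ U i ⊓ f ⁻¹ᵁ U j ≤ _) (pullSec f N n') := by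
        intro N n n' q h
        have := congrArg (pullSec f N) h
        rw [pullSec_smul, ← res_pullSec, ← res_pullSec] at this
        exact this
      have k1 := key L _ _ a ha
      have k2 := key M _ _ b hb
      have k3 := key (CohB1.tensorMod L M) (tmulSec (s i) (t i)) (tmulSec (s j) (t j)) (a * b) (by
        rw [res_tmulSec, res_tmulSec, ha, hb, tmulSec_smul_left, tmulSec_smul_right, mul_smul])
      have hr' : r = pullFun f (U i) (U j) (a * b) :=
        (((hs j).tensor (ht j)).pull f).smul_inj inf_le_right (hr.symm.trans k3)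
      rw [res_tmulSec, res_tmulSec, k1, k2, tmulSec_smul_left, tmulSec_smul_right, hr',
        map_mul, mul_smul]
  exact ⟨e⟩

theorem pullback_structure_iso (f : X ⟶ Y) :
    Nonempty ((Scheme.Modules.pullback f).obj (Coh.structureModule Y) ≅ Coh.structureModule X) :=
  have := isIso_pullUnit f
  ⟨asIso (pullUnit f)⟩

theorem tensorMod_iso_structure_of_iso {L M : X.Modules} (hM : PicF.IsInvertible M)
    (e : L ≅ Coh.structureModule X) : Nonempty (CohB1.tensorMod L M ≅ M) :=
  ⟨PicGrp.tensorModIso e (Iso.refl M) ≪≫ (tensorMod_one hM).some⟩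

theorem pullMul (f : X ⟶ Y) (a b : PicLoc.PicSet Y) :
    PicF.pullCl f (PicGrp.mulCl a.1 b.1) = PicGrp.mulCl (PicF.pullCl f a.1) (PicF.pullCl f b.1) := by
  obtain ⟨_, L, rfl, hL⟩ := a
  obtain ⟨_, M, rfl, hM⟩ := b
  exact (PicGrp.cl_eq_cl_iff _ _).2 (pullback_tensorMod f hL hM)

/-- The group law of the Picard group. -/
@[instance_reducible]
noncomputable def picLaw (X : Scheme.{u}) : PicGrp.Law X :=
  letI mul : Mul (PicLoc.PicSet X) := ⟨fun a b => ⟨PicGrp.mulCl a.1 b.1, by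
    obtain ⟨_, L, rfl, hL⟩ := a
    obtain ⟨_, M, rfl, hM⟩ := b
    exact ⟨_, rfl, isInvertible_tensorMod hL hM⟩⟩⟩
  letI one : One (PicLoc.PicSet X) := ⟨PicLoc.unitPicSet X⟩
  letI inv : Inv (PicLoc.PicSet X) := ⟨fun a =>
    ⟨PicF.cl (exists_inverse a.2.choose_spec.2).choose,
      _, rfl, (exists_inverse a.2.choose_spec.2).choose_spec.1⟩⟩
  have mul_assoc' : ∀ a b c : PicLoc.PicSet X, a * b * c = a * (b * c) := by
    rintro ⟨_, L, rfl, hL⟩ ⟨_, M, rfl, hM⟩ ⟨_, N, rfl, hN⟩
    exact Subtype.ext ((PicGrp.cl_eq_cl_iff _ _).2 (tensorMod_assoc hL hM hN))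
  have one_mul' : ∀ a : PicLoc.PicSet X, 1 * a = a := by
    rintro ⟨_, L, rfl, hL⟩
    exact Subtype.ext ((PicGrp.cl_eq_cl_iff _ _).2 (tensorMod_one hL))
  have inv_mul' : ∀ a : PicLoc.PicSet X, a⁻¹ * a = 1 := by
    intro a
    refine Subtype.ext ?_
    change PicGrp.mulCl (PicF.cl _) a.1 = _
    conv_lhs => arg 2; rw [← a.2.choose_spec.1]
    exact (PicGrp.cl_eq_cl_iff _ _).2 (exists_inverse a.2.choose_spec.2).choose_spec.2
  { Group.ofLeftAxioms mul_assoc' one_mul' inv_mul' with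
    mul_comm := by
      rintro ⟨_, L, rfl, hL⟩ ⟨_, M, rfl, hM⟩
      exact Subtype.ext ((PicGrp.cl_eq_cl_iff _ _).2 (tensorMod_comm hL hM))
    mul_val := fun _ _ => rfl
    one_eq := rfl }

end Groth.PicAux
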