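import Groth.Agent.PicAux.TensorLift
import Groth.Agent.PicAux.PicLaw
import Mathlib.CategoryTheory.Adjunction.Limits
import Mathlib.CategoryTheory.Limits.Preserves.Finite

/-!
# Laws of tensor powers; twisting by a tensor-invertible module is an equivalence
-/

universe u

open CategoryTheory CategoryTheory.Limits AlgebraicGeometry Opposite TopologicalSpace

namespace Groth.PicAux

variable {X : Scheme.{u}}

theorem nonempty_tensorPow_iso {L M : X.Modules} (e : L ≅ M) :
    ∀ n : ℕ, Nonempty (CohB1.tensorPow L n ≅ CohB1.tensorPow M n)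
  | 0 => ⟨Iso.refl _⟩
  | n + 1 => ⟨PicGrp.tensorModIso (nonempty_tensorPow_iso e n).some e⟩

theorem tensorPow_one (L : X.Modules) : Nonempty (CohB1.tensorPow L 1 ≅ L) :=
  ⟨(exists_leftUnitor L).choose⟩

theorem tensorPow_add (L : X.Modules) (m : ℕ) : ∀ n : ℕ,
    Nonempty (CohB1.tensorPow L (m + n) ≅
      CohB1.tensorMod (CohB1.tensorPow L m) (CohB1.tensorPow L n))
  | 0 => ⟨(SecTwist.unitorR _).symm⟩
  | n + 1 => ⟨PicGrp.tensorModIso (tensorPow_add L m n).some (Iso.refl L) ≪≫
      (exists_associator _ _ _).choose⟩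

theorem tensorPow_mul (L : X.Modules) (m : ℕ) : ∀ n : ℕ,
    Nonempty (CohB1.tensorPow L (m * n) ≅ CohB1.tensorPow (CohB1.tensorPow L m) n)
  | 0 => ⟨Iso.refl _⟩
  | n + 1 => ⟨(tensorPow_add L (m * n) m).some ≪≫
      PicGrp.tensorModIso (tensorPow_mul L m n).some (Iso.refl _)⟩

/-- `(A ⊗ B) ⊗ (C ⊗ D) ≅ (A ⊗ C) ⊗ (B ⊗ D)`. -/
theorem tensor_interchange (A B C D : X.Modules) :
    Nonempty (CohB1.tensorMod (CohB1.tensorMod A B) (CohB1.tensorMod C D) ≅
      CohB1.tensorMod (CohB1.tensorMod A C) (CohB1.tensorMod B D)) :=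
  ⟨(exists_associator A B _).choose ≪≫
    PicGrp.tensorModIso (Iso.refl A) ((exists_associator B C D).choose.symm ≪≫
      PicGrp.tensorModIso (exists_braiding B C).choose (Iso.refl D) ≪≫
      (exists_associator C B D).choose) ≪≫
    (exists_associator A C _).choose.symm⟩

theorem tensorPow_structure : ∀ n : ℕ,
    Nonempty (CohB1.tensorPow (Coh.structureModule X) n ≅ Coh.structureModule X)
  | 0 => ⟨Iso.refl _⟩
  | n + 1 => ⟨SecTwist.unitorR _ ≪≫ (tensorPow_structure n).some⟩

theorem tensorPow_tensorMod (L M : X.Modules) : ∀ n : ℕ,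
    Nonempty (CohB1.tensorPow (CohB1.tensorMod L M) n ≅
      CohB1.tensorMod (CohB1.tensorPow L n) (CohB1.tensorPow M n))
  | 0 => ⟨(SecTwist.unitorR _).symm⟩
  | n + 1 => ⟨PicGrp.tensorModIso (tensorPow_tensorMod L M n).some (Iso.refl _) ≪≫
      (tensor_interchange _ _ _ _).some⟩

theorem isInverseOf_symm {L M : X.Modules} (h : ClSub.IsInverseOf L M) :
    ClSub.IsInverseOf M L :=
  ⟨(exists_braiding M L).choose ≪≫ h.some⟩

theorem isInverseOf_tensorMod {L M L' M' : X.Modules} (h : ClSub.IsInverseOf L M)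
    (h' : ClSub.IsInverseOf L' M') :
    ClSub.IsInverseOf (CohB1.tensorMod L L') (CohB1.tensorMod M M') :=
  ⟨(tensor_interchange _ _ _ _).some ≪≫ PicGrp.tensorModIso h.some h'.some ≪≫ SecTwist.unitorR _⟩

theorem isInverseOf_tensorPow {L M : X.Modules} (h : ClSub.IsInverseOf L M) (n : ℕ) :
    ClSub.IsInverseOf (CohB1.tensorPow L n) (CohB1.tensorPow M n) :=
  ⟨(tensorPow_tensorMod L M n).some.symm ≪≫ (nonempty_tensorPow_iso h.some n).some ≪≫
    (tensorPow_structure n).some⟩

/-- Inverses are unique. -/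
theorem isInverseOf_unique {L M M' : X.Modules} (h : ClSub.IsInverseOf L M)
    (h' : ClSub.IsInverseOf L M') : Nonempty (M ≅ M') :=
  ⟨(SecTwist.unitorR M).symm ≪≫ PicGrp.tensorModIso (Iso.refl M) h'.some.symm ≪≫
    (exists_associator M L M').choose.symm ≪≫
    PicGrp.tensorModIso (isInverseOf_symm h).some (Iso.refl M') ≪≫
    (exists_leftUnitor M').choose⟩

theorem exists_isInverseOf {L : X.Modules} (hL : PicF.IsInvertible L) :
    ∃ M : X.Modules, PicF.IsInvertible M ∧ ClSub.IsInverseOf L M := by
  obtain ⟨M, hM, ⟨e⟩⟩ := exists_inverse hL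
  exact ⟨M, hM, isInverseOf_symm ⟨e⟩⟩

theorem isInvertible_of_isInverseOf {L M : X.Modules} (hL : PicF.IsInvertible L)
    (h : ClSub.IsInverseOf L M) : PicF.IsInvertible M := by
  obtain ⟨M', hM', h'⟩ := exists_isInverseOf hL
  obtain ⟨e⟩ := isInverseOf_unique h' h
  rw [isInvertible_iff_exists_gen] at hM' ⊢
  intro x
  obtain ⟨U, s, hxU, hs⟩ := hM' x
  exact ⟨U, _, hxU, hs.map e.hom⟩

theorem tensorRightMod_map_tmulSec (L : X.Modules) {A B : X.Modules} (φ : A ⟶ B) (W : X.Opens)
    (a : Γ(A, W)) (l : Γ(L, W)) :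
    ((DCoh.tensorRightMod L).map φ).app W (tmulSec a l : Γ(CohB1.tensorMod A L, W)) =
      (tmulSec (φ.app W a) l : Γ(CohB1.tensorMod B L, W)) := by
  rw [KoszTw.tensorRightMod_map]
  exact (tensorMap_app_tmulSec φ (𝟙 L) W a l).trans rfl

/-- `(- ⊗ L) ⊗ M ≅ - ⊗ (L ⊗ M)`. -/
noncomputable def twistCompIso (L M : X.Modules) :
    DCoh.tensorRightMod L ⋙ DCoh.tensorRightMod M ≅
      DCoh.tensorRightMod (CohB1.tensorMod L M) :=
  NatIso.ofComponents (fun A => (exists_associator A L M).choose) fun {A B} φ => by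
    refine tensor_hom_ext₃ (L := A) (M := L) (N := M) fun W a l m => ?_
    have hA := (exists_associator A L M).choose_spec W a l m
    have hB := (exists_associator B L M).choose_spec W (φ.app W a) l m
    have h1 := tensorRightMod_map_tmulSec M ((DCoh.tensorRightMod L).map φ) W
      (tmulSec a l : Γ(CohB1.tensorMod A L, W)) m
    have h2 := tensorRightMod_map_tmulSec L φ W a l
    have h3 := tensorRightMod_map_tmulSec (CohB1.tensorMod L M) φ W a (tmulSec l m)
    refine Eq.trans (b := (exists_associator B L M).choose.hom.app W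
      (tmulSec (tmulSec (φ.app W a) l) m)) ?_ ?_
    · exact congrArg ((exists_associator B L M).choose.hom.app W)
        (h1.trans (congrArg (fun z => (tmulSec z m :
          Γ(CohB1.tensorMod (CohB1.tensorMod B L) M, W))) h2))
    · exact hB.trans (h3.symm.trans
        (congrArg (((DCoh.tensorRightMod (CohB1.tensorMod L M)).map φ).app W) hA.symm))

/-- `- ⊗ O ≅ id`. -/
noncomputable def twistUnitIso : DCoh.tensorRightMod (Coh.structureModule X) ≅ 𝟭 X.Modules :=
  NatIso.ofComponents (fun A => SecTwist.unitorR A) fun {A B} φ => by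
    refine tensor_hom_ext (L := A) (M := Coh.structureModule X) fun W a r => ?_
    have hA := SecTwist.unitorR_tmul A W a r
    have hB := SecTwist.unitorR_tmul B W (φ.app W a) r
    have h1 := tensorRightMod_map_tmulSec (Coh.structureModule X) φ W a r
    refine Eq.trans (b := (SecTwist.unitorR B).hom.app W (tmulSec (φ.app W a) r)) ?_ ?_
    · exact congrArg ((SecTwist.unitorR B).hom.app W) h1
    · exact hB.trans ((φ.app_smul _ a).symm.trans (congrArg (φ.app W) hA.symm))

/-- `- ⊗ L` is natural in `L`. -/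
noncomputable def twistCongr {L L' : X.Modules} (e : L ≅ L') :
    DCoh.tensorRightMod L ≅ DCoh.tensorRightMod L' :=
  NatIso.ofComponents (fun A => PicGrp.tensorModIso (Iso.refl A) e) fun {A B} φ => by
    have key : ∀ (C : X.Modules) (W : X.Opens) (c : Γ(C, W)) (l : Γ(L, W)),
        (PicGrp.tensorModIso (Iso.refl C) e).hom.app W (tmulSec c l) =
          tmulSec c (e.hom.app W l) := fun C W c l => by
      have h := tensorMap_app_tmulSec (𝟙 C) e.hom W c l
      rw [KoszTw.tensorMap_eq_sheafify] at h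
      exact h
    refine tensor_hom_ext (L := A) (M := L) fun W a l => ?_
    have h1 := tensorRightMod_map_tmulSec L φ W a l
    have h2 := tensorRightMod_map_tmulSec L' φ W a (e.hom.app W l)
    refine Eq.trans (b := (PicGrp.tensorModIso (Iso.refl B) e).hom.app W (tmulSec (φ.app W a) l)) ?_ ?_
    · exact congrArg ((PicGrp.tensorModIso (Iso.refl B) e).hom.app W) h1
    · exact (key B W _ l).trans (h2.symm.trans
        (congrArg (((DCoh.tensorRightMod L').map φ).app W) (key A W a l).symm))

/-- Twisting by a module with an inverse is an equivalence. -/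
noncomputable def twistEquiv {L M : X.Modules} (h : ClSub.IsInverseOf L M) :
    X.Modules ≌ X.Modules :=
  CategoryTheory.Equivalence.mk (DCoh.tensorRightMod L) (DCoh.tensorRightMod M)
    (twistUnitIso.symm ≪≫ twistCongr h.some.symm ≪≫ (twistCompIso L M).symm)
    (twistCompIso M L ≪≫ twistCongr (isInverseOf_symm h).some ≪≫ twistUnitIso)

theorem isEquivalence_tensorRightMod {L M : X.Modules} (h : ClSub.IsInverseOf L M) :
    (DCoh.tensorRightMod L).IsEquivalence :=
  (twistEquiv h).isEquivalence_functor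

theorem isEquivalence_tensorRightMod_of_isInvertible {L : X.Modules} (hL : PicF.IsInvertible L) :
    (DCoh.tensorRightMod L).IsEquivalence :=
  isEquivalence_tensorRightMod (exists_isInverseOf hL).choose_spec.2

/-- Twisting a short exact sequence by an invertible module keeps it short exact. -/
theorem shortExact_tensorRightMod {L : X.Modules} (hL : PicF.IsInvertible L)
    {S : ShortComplex X.Modules} (hS : S.ShortExact) :
    (S.map (DCoh.tensorRightMod L)).ShortExact := by
  have := isEquivalence_tensorRightMod_of_isInvertible hL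
  have : PreservesFiniteLimits (DCoh.tensorRightMod L) := inferInstance
  have : PreservesFiniteColimits (DCoh.tensorRightMod L) := inferInstance
  exact hS.map_of_exact _

end Groth.PicAux
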