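import Groth.Agent.PicAux.Sections
import Groth.Agent.PicAux.Cocycle
import Groth.Prelude.Def_CohB1
import Mathlib.CategoryTheory.Sites.LocallySurjective

/-!
# Sections of the tensor product of modules; tensor products of invertible modules
-/

universe u

open CategoryTheory AlgebraicGeometry Opposite TopologicalSpace MonoidalCategory

namespace Groth.PicAux

variable {X : Scheme.{u}} (L M : X.Modules)

/-- Sections of the presheaf tensor product. -/
abbrev PTen (W : X.Opens) : Type u := TensorProduct Γ(X, W) Γ(L, W) Γ(M, W)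

/-- Restriction of the presheaf tensor product. -/
noncomputable def ptenRes {W' W : X.Opens} (h : W' ≤ W) : PTen L M W →+ PTen L M W' :=
  ((CohB1.tensorPre L M).presheaf.map (homOfLE h).op).hom

theorem ptenRes_tmul {W' W : X.Opens} (h : W' ≤ W) (s : Γ(L, W)) (t : Γ(M, W)) :
    ptenRes L M h (s ⊗ₜ t) = res L h s ⊗ₜ res M h t := rfl

theorem ptenRes_smul {W' W : X.Opens} (h : W' ≤ W) (r : Γ(X, W)) (p : PTen L M W) :
    ptenRes L M h (r • p) = resX X h r • ptenRes L M h p :=
  (CohB1.tensorPre L M).map_smul (homOfLE h).op r p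

/-- The unit of sheafification at the tensor product. -/
noncomputable def tenUnit : CohB1.tensorPre L M ⟶ (CohB1.tensorMod L M).val :=
  (PresheafOfModules.sheafificationAdjunction (𝟙 X.ringCatSheaf.obj)).unit.app (CohB1.tensorPre L M)

/-- The unit on sections. -/
noncomputable def ptenUnit (W : X.Opens) : PTen L M W →+ Γ(CohB1.tensorMod L M, W) :=
  (((PresheafOfModules.toPresheaf _).map (tenUnit L M)).app (op W)).hom

theorem ptenUnit_res {W' W : X.Opens} (h : W' ≤ W) (p : PTen L M W) :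
    ptenUnit L M W' (ptenRes L M h p) = res _ h (ptenUnit L M W p) :=
  congr($(((PresheafOfModules.toPresheaf _).map (tenUnit L M)).naturality (homOfLE h).op).hom p)

theorem ptenUnit_smul {W : X.Opens} (r : Γ(X, W)) (p : PTen L M W) :
    ptenUnit L M W (r • p) = r • ptenUnit L M W p :=
  ((tenUnit L M).app (op W)).hom.map_smul r p

theorem ptenUnit_locally_surjective (W : X.Opens) (t : Γ(CohB1.tensorMod L M, W)) (x : X)
    (hx : x ∈ W) :
    ∃ (W' : X.Opens) (h : W' ≤ W) (p : PTen L M W'),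
      x ∈ W' ∧ ptenUnit L M W' p = res _ h t := by
  have hs : Presheaf.IsLocallySurjective (Opens.grothendieckTopology X)
      (CategoryTheory.toSheafify (Opens.grothendieckTopology X)
        (CohB1.tensorPre L M).presheaf) := inferInstance
  obtain ⟨W', i, ⟨p, hp⟩, hxW'⟩ := hs.imageSieve_mem t x hx
  exact ⟨W', leOfHom i, p, hxW', hp⟩

theorem ptenUnit_locally_injective (W : X.Opens) (p q : PTen L M W)
    (hpq : ptenUnit L M W p = ptenUnit L M W q) (x : X) (hx : x ∈ W) :
    ∃ (W' : X.Opens) (h : W' ≤ W), x ∈ W' ∧ ptenRes L M h p = ptenRes L M h q := by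
  have hs : Presheaf.IsLocallyInjective (Opens.grothendieckTopology X)
      (CategoryTheory.toSheafify (Opens.grothendieckTopology X)
        (CohB1.tensorPre L M).presheaf) := inferInstance
  obtain ⟨W', i, hi, hxW'⟩ := hs.equalizerSieve_mem (X := op W) p q hpq x hx
  exact ⟨W', leOfHom i, hxW', hi⟩

variable {L M}

/-- The section `s ⊗ t` of `L ⊗ M`. -/
noncomputable def tmulSec {W : X.Opens} (s : Γ(L, W)) (t : Γ(M, W)) :
    Γ(CohB1.tensorMod L M, W) :=
  ptenUnit L M W (s ⊗ₜ t)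

@[simp]
theorem res_tmulSec {W' W : X.Opens} (h : W' ≤ W) (s : Γ(L, W)) (t : Γ(M, W)) :
    res _ h (tmulSec s t) = tmulSec (res L h s) (res M h t) := by
  rw [tmulSec, ← ptenUnit_res, ptenRes_tmul]
  rfl

theorem tmulSec_smul_left {W : X.Opens} (r : Γ(X, W)) (s : Γ(L, W)) (t : Γ(M, W)) :
    tmulSec (r • s) t = r • tmulSec s t := by
  rw [tmulSec, ← TensorProduct.smul_tmul', ptenUnit_smul]
  rfl

theorem tmulSec_smul_right {W : X.Opens} (r : Γ(X, W)) (s : Γ(L, W)) (t : Γ(M, W)) :
    tmulSec s (r • t) = r • tmulSec s t := by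
  rw [tmulSec, TensorProduct.tmul_smul, ptenUnit_smul]
  rfl

@[simp]
theorem tmulSec_zero_left {W : X.Opens} (t : Γ(M, W)) : tmulSec (0 : Γ(L, W)) t = 0 := by
  rw [tmulSec, TensorProduct.zero_tmul, map_zero]

@[simp]
theorem tmulSec_zero_right {W : X.Opens} (s : Γ(L, W)) : tmulSec s (0 : Γ(M, W)) = 0 := by
  rw [tmulSec, TensorProduct.tmul_zero, map_zero]

theorem pten_eq_smul {U W : X.Opens} (h : W ≤ U) {e : Γ(L, U)} {f : Γ(M, U)} (he : Gen L U e)
    (hf : Gen M U f) (p : PTen L M W) : ∃ c : Γ(X, W), p = c • (res L h e ⊗ₜ res M h f) := by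
  induction p using TensorProduct.induction_on with
  | zero => exact ⟨0, (zero_smul _ _).symm⟩
  | add p q hp hq =>
    obtain ⟨a, ha⟩ := hp
    obtain ⟨b, hb⟩ := hq
    exact ⟨a + b, by rw [add_smul, ← ha, ← hb]⟩
  | tmul s t =>
    obtain ⟨a, ha⟩ := he.exists_coeff h s
    obtain ⟨b, hb⟩ := hf.exists_coeff h t
    exact ⟨a * b, by rw [ha, hb, TensorProduct.smul_tmul_smul]⟩

theorem pten_smul_inj {U W : X.Opens} (h : W ≤ U) {e : Γ(L, U)} {f : Γ(M, U)} (he : Gen L U e)
    (hf : Gen M U f) {c d : Γ(X, W)}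
    (hcd : c • (res L h e ⊗ₜ[Γ(X, W)] res M h f) = d • (res L h e ⊗ₜ[Γ(X, W)] res M h f)) :
    c = d := by
  choose φ hφ using fun x => he.exists_coeff h x
  choose ψ hψ using fun x => hf.exists_coeff h x
  let φ' : Γ(L, W) →ₗ[Γ(X, W)] Γ(X, W) :=
    { toFun := φ
      map_add' := fun x y => he.smul_inj h (by rw [← hφ, add_smul, ← hφ, ← hφ])
      map_smul' := fun r x => he.smul_inj h (by
        rw [← hφ, RingHom.id_apply, smul_eq_mul, mul_smul, ← hφ]) }
  let ψ' : Γ(M, W) →ₗ[Γ(X, W)] Γ(X, W) :=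
    { toFun := ψ
      map_add' := fun x y => hf.smul_inj h (by rw [← hψ, add_smul, ← hψ, ← hψ])
      map_smul' := fun r x => hf.smul_inj h (by
        rw [← hψ, RingHom.id_apply, smul_eq_mul, mul_smul, ← hψ]) }
  have h1 : φ (res L h e) = 1 := he.smul_inj h (by rw [← hφ, one_smul])
  have h2 : ψ (res M h f) = 1 := hf.smul_inj h (by rw [← hψ, one_smul])
  have := congrArg (TensorProduct.lift ((LinearMap.mul Γ(X, W) Γ(X, W)).compl₁₂ φ' ψ')) hcd
  simp [φ', ψ', h1, h2] at this
  exact this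

/-- The tensor product of two bases is a basis. -/
theorem Gen.tensor {U : X.Opens} {e : Γ(L, U)} {f : Γ(M, U)} (he : Gen L U e) (hf : Gen M U f) :
    Gen (CohB1.tensorMod L M) U (tmulSec e f) := by
  intro V hV
  rw [res_tmulSec]
  have hinj : ∀ (W : X.Opens) (hW : W ≤ U) (r r' : Γ(X, W)),
      r • tmulSec (Groth.PicAux.res L hW e) (Groth.PicAux.res M hW f) =
        r' • tmulSec (Groth.PicAux.res L hW e) (Groth.PicAux.res M hW f) → r = r' := by
    intro W hW r r' hr
    rw [tmulSec, ← ptenUnit_smul, ← ptenUnit_smul] at hr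
    choose W' hW' hxW' hres using fun x : (W : Type u) =>
      ptenUnit_locally_injective L M W _ _ hr x.1 x.2
    refine resX_ext W' hW' (fun x hx => Opens.mem_iSup.2 ⟨⟨x, hx⟩, hxW' ⟨x, hx⟩⟩) fun x => ?_
    have h1 := hres x
    refine pten_smul_inj ((hW' x).trans hW) he hf ?_
    rw [← res_res (M := L) hW (hW' x), ← res_res (M := M) hW (hW' x)]
    rw [ptenRes_smul, ptenRes_smul, ptenRes_tmul] at h1
    exact h1
  refine ⟨fun r r' => hinj V hV r r', fun t => ?_⟩
  choose W hW p hxW hp using fun x : (V : Type u) => ptenUnit_locally_surjective L M V t x.1 x.2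
  choose c hc using fun x => pten_eq_smul ((hW x).trans hV) he hf (p x)
  have key : ∀ x, Groth.PicAux.res _ (hW x) t =
      c x • tmulSec (Groth.PicAux.res L ((hW x).trans hV) e)
        (Groth.PicAux.res M ((hW x).trans hV) f) := by
    intro x
    rw [← hp, hc, ptenUnit_smul]
    rfl
  obtain ⟨r, hr, -⟩ := resX_glue W hW (fun x hx => Opens.mem_iSup.2 ⟨⟨x, hx⟩, hxW ⟨x, hx⟩⟩) c
    (fun x y => by
      refine hinj _ ((inf_le_left.trans (hW x)).trans hV) _ _ ?_
      have h1 := congrArg (Groth.PicAux.res _ (inf_le_left : W x ⊓ W y ≤ W x)) (key x)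
      have h2 := congrArg (Groth.PicAux.res _ (inf_le_right : W x ⊓ W y ≤ W y)) (key y)
      simp only [res_smul, res_tmulSec, res_res] at h1 h2 ⊢
      rw [← h1, ← h2])
  refine ⟨r, res_ext W hW (fun x hx => Opens.mem_iSup.2 ⟨⟨x, hx⟩, hxW ⟨x, hx⟩⟩) fun x => ?_⟩
  rw [key x]
  simp only [res_smul, res_tmulSec, res_res, hr x]

theorem isInvertible_tensorMod (hL : PicF.IsInvertible L) (hM : PicF.IsInvertible M) :
    PicF.IsInvertible (CohB1.tensorMod L M) := by
  rw [isInvertible_iff_exists_gen] at hL hM ⊢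
  intro x
  obtain ⟨U, s, hxU, hs⟩ := hL x
  obtain ⟨V, t, hxV, ht⟩ := hM x
  exact ⟨U ⊓ V, _, ⟨hxU, hxV⟩,
    (hs.res (inf_le_left : U ⊓ V ≤ U)).tensor (ht.res (inf_le_right : U ⊓ V ≤ V))⟩

/-- The section `s^{⊗ n}` of `L^{⊗ n}`. -/
noncomputable def powSec {W : X.Opens} (s : Γ(L, W)) : ∀ n : ℕ, Γ(CohB1.tensorPow L n, W)
  | 0 => oneSec X W
  | n + 1 => tmulSec (powSec s n) s

@[simp]
theorem res_powSec {W' W : X.Opens} (h : W' ≤ W) (s : Γ(L, W)) (n : ℕ) :
    res _ h (powSec s n) = powSec (res L h s) n := by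
  induction n with
  | zero => exact res_oneSec h
  | succ n ih =>
    change res (CohB1.tensorMod (CohB1.tensorPow L n) L) h (tmulSec (powSec s n) s) = _
    rw [res_tmulSec, ih]
    rfl

theorem powSec_smul {W : X.Opens} (r : Γ(X, W)) (s : Γ(L, W)) (n : ℕ) :
    powSec (r • s) n = r ^ n • powSec s n := by
  induction n with
  | zero => rw [pow_zero, one_smul]; rfl
  | succ n ih =>
    change tmulSec (powSec (r • s) n) (r • s) = r ^ (n + 1) • tmulSec (powSec s n) s
    rw [ih, tmulSec_smul_left, tmulSec_smul_right, ← mul_smul, pow_succ]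

theorem Gen.pow {U : X.Opens} {e : Γ(L, U)} (he : Gen L U e) (n : ℕ) :
    Gen (CohB1.tensorPow L n) U (powSec e n) := by
  induction n with
  | zero => exact gen_oneSec U
  | succ n ih => exact ih.tensor he

theorem isInvertible_tensorPow (hL : PicF.IsInvertible L) (n : ℕ) :
    PicF.IsInvertible (CohB1.tensorPow L n) := by
  rw [isInvertible_iff_exists_gen] at hL ⊢
  intro x
  obtain ⟨U, s, hxU, hs⟩ := hL x
  exact ⟨U, _, hxU, hs.pow n⟩

end Groth.PicAux
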