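import Groth.Agent.PicAux.Powers
import Groth.Agent.QCohMod.Pullback
import Groth.Agent.QCohMod.TensorStalk
import Groth.Agent.QCohMod.Stalk
import Groth.Agent.DerivedCoh.KFlat.SchemeStalk

/-!
# Inverse image commutes with tensor products, for arbitrary modules
-/

universe u

open CategoryTheory AlgebraicGeometry Opposite TopologicalSpace TensorProduct

namespace Groth.PicAux

variable {X Y : Scheme.{u}}

theorem distribBaseChange_tmul' {R A N Q : Type u} [CommRing R] [CommRing A] [Algebra R A]
    [AddCommGroup N] [Module R N] [AddCommGroup Q] [Module R Q] (b : A) (n : N) (q : Q) :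
    AlgebraTensorModule.distribBaseChange R A N Q (b ⊗ₜ (n ⊗ₜ q)) =
      (b ⊗ₜ n) ⊗ₜ ((1 : A) ⊗ₜ q) := by
  apply (AlgebraTensorModule.distribBaseChange R A N Q).symm.injective
  rw [LinearEquiv.symm_apply_apply]
  simp [AlgebraTensorModule.distribBaseChange]

/-- `f^*(L ⊗ M) ≅ f^*L ⊗ f^*M`, with its formula on sections. -/
theorem exists_pullback_tensorMod (f : X ⟶ Y) (L M : Y.Modules) :
    ∃ e : (Scheme.Modules.pullback f).obj (CohB1.tensorMod L M) ≅
        CohB1.tensorMod ((Scheme.Modules.pullback f).obj L) ((Scheme.Modules.pullback f).obj M),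
      ∀ W a b, e.hom.app (f ⁻¹ᵁ W) (pullSec f _ (tmulSec a b : Γ(CohB1.tensorMod L M, W))) =
        tmulSec (pullSec f L a) (pullSec f M b) := by
  let P := CohB1.tensorMod ((Scheme.Modules.pullback f).obj L) ((Scheme.Modules.pullback f).obj M)
  obtain ⟨T, hT⟩ := exists_tensor_lift (L := L) (M := M) (P := (Scheme.Modules.pushforward f).obj P)
    (fun W => LinearMap.mk₂ Γ(Y, W)
      (fun a b => (tmulSec (pullSec f L a) (pullSec f M b) : Γ(P, f ⁻¹ᵁ W)))
      (fun a a' b => (congrArg (fun z => tmulSec z (pullSec f M b)) (map_add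
        (((Scheme.Modules.pullbackPushforwardAdjunction f).unit.app L).app W).hom a a')).trans
          (tmulSec_add_left _ _ _))
      (fun r a b => (congrArg (fun z => tmulSec z (pullSec f M b)) (pullSec_smul f L r a)).trans
          (tmulSec_smul_left _ _ _))
      (fun a b b' => (congrArg (tmulSec (pullSec f L a)) (map_add
        (((Scheme.Modules.pullbackPushforwardAdjunction f).unit.app M).app W).hom b b')).trans
          (tmulSec_add_right _ _ _))
      (fun r a b => (congrArg (tmulSec (pullSec f L a)) (pullSec_smul f M r b)).trans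
          (tmulSec_smul_right _ _ _)))
    (fun W W' h a b => by
      simp only [LinearMap.mk₂_apply]
      rw [← res_pullSec, ← res_pullSec, ← res_tmulSec]
      rfl)
  let φ : (Scheme.Modules.pullback f).obj (CohB1.tensorMod L M) ⟶ P :=
    ((Scheme.Modules.pullbackPushforwardAdjunction f).homEquiv _ _).symm T
  have hφ : ∀ W a b, φ.app (f ⁻¹ᵁ W) (pullSec f _ (tmulSec a b : Γ(CohB1.tensorMod L M, W))) =
      tmulSec (pullSec f L a) (pullSec f M b) := fun W a b => by
    have h : (Scheme.Modules.pullbackPushforwardAdjunction f).unit.app (CohB1.tensorMod L M) ≫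
        (Scheme.Modules.pushforward f).map φ = T :=
      (((Scheme.Modules.pullbackPushforwardAdjunction f).homEquiv_unit _ _ φ).symm).trans
        (((Scheme.Modules.pullbackPushforwardAdjunction f).homEquiv _ _).apply_symm_apply T)
    exact (congr(($h).app W (tmulSec a b))).trans (hT W a b)
  have : IsIso φ := by
    refine Groth.QCohMod.isIso_of_stalk φ fun y => ?_
    rw [ConcreteCategory.isIso_iff_bijective]
    let _ := Groth.QCohMod.stalkAlg f y
    let e₁ := (LinearEquiv.baseChange (Y.presheaf.stalk (f y)) (X.presheaf.stalk y) _ _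
      (Groth.QCohMod.stalkTensorEquiv L M (f y))).trans
        (Groth.QCohMod.pullStalkEquiv f (CohB1.tensorMod L M) y)
    let e₂ := (AlgebraTensorModule.distribBaseChange (Y.presheaf.stalk (f y)) (X.presheaf.stalk y)
      (L.presheaf.stalk (f y)) (M.presheaf.stalk (f y))).trans
        ((TensorProduct.congr (Groth.QCohMod.pullStalkEquiv f L y)
          (Groth.QCohMod.pullStalkEquiv f M y)).trans
            (Groth.QCohMod.stalkTensorEquiv _ _ y))
    let g := Algz.stalkMapₗ φ y
    have key : ∀ z, g (e₁ z) = e₂ z := by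
      intro z
      induction z using TensorProduct.induction_on with
      | zero => simp
      | add p q hp hq => simp [hp, hq]
      | tmul b w =>
        induction w using TensorProduct.induction_on with
        | zero => simp
        | add p q hp hq => simp [TensorProduct.tmul_add, hp, hq]
        | tmul s t =>
          obtain ⟨W, hy, a, m, rfl, rfl⟩ := Groth.QCohMod.exists_common_germ (M := L) (N := M) (f y) s t
          have h1 : e₁ (b ⊗ₜ (Groth.QCohMod.germ L (f y) hy a ⊗ₜ Groth.QCohMod.germ M (f y) hy m)) =
              b • Groth.QCohMod.germ ((Scheme.Modules.pullback f).obj (CohB1.tensorMod L M))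
                (U := f ⁻¹ᵁ W) y hy (pullSec f _ (tmulSec a m)) := by
            change Groth.QCohMod.pullStalkHom f _ y (b ⊗ₜ
              (Groth.QCohMod.stalkTensorEquiv L M (f y)) _) = _
            rw [Groth.QCohMod.stalkTensorEquiv_tmul, Groth.QCohMod.pullStalkHom_tmul,
              Groth.QCohMod.pullGerm_germ]
          have h2 : e₂ (b ⊗ₜ (Groth.QCohMod.germ L (f y) hy a ⊗ₜ Groth.QCohMod.germ M (f y) hy m)) =
              b • Groth.QCohMod.germ P (U := f ⁻¹ᵁ W) y hy
                (tmulSec (pullSec f L a) (pullSec f M m)) := by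
            simp only [e₂, LinearEquiv.trans_apply, distribBaseChange_tmul', TensorProduct.congr_tmul]
            change Groth.QCohMod.stalkTensorEquiv _ _ y
              (Groth.QCohMod.pullStalkHom f L y (b ⊗ₜ _) ⊗ₜ
                Groth.QCohMod.pullStalkHom f M y (1 ⊗ₜ _)) = _
            rw [Groth.QCohMod.pullStalkHom_tmul, Groth.QCohMod.pullStalkHom_tmul, one_smul,
              Groth.QCohMod.pullGerm_germ, Groth.QCohMod.pullGerm_germ, ← TensorProduct.smul_tmul',
              map_smul, Groth.QCohMod.stalkTensorEquiv_tmul]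
          rw [h1, h2, map_smul]
          congr 1
          exact (DerSch.stalkFunctor_map_germ y φ (f ⁻¹ᵁ W) hy _).trans (congrArg _ (hφ W a m))
    have hb : Function.Bijective g := by
      have e : (g ∘ e₁ : _ → _) = e₂ := funext key
      exact (Function.Bijective.of_comp_iff _ e₁.bijective).1 (e ▸ e₂.bijective)
    exact hb
  exact ⟨asIso φ, hφ⟩

theorem pullback_tensorPow (f : X ⟶ Y) (L : Y.Modules) : ∀ n : ℕ,
    Nonempty ((Scheme.Modules.pullback f).obj (CohB1.tensorPow L n) ≅
      CohB1.tensorPow ((Scheme.Modules.pullback f).obj L) n)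
  | 0 => pullback_structure_iso f
  | n + 1 => ⟨(exists_pullback_tensorMod f _ L).choose ≪≫
      PicGrp.tensorModIso (pullback_tensorPow f L n).some (Iso.refl _)⟩

theorem isInverseOf_pullback (f : X ⟶ Y) {L M : Y.Modules} (h : ClSub.IsInverseOf L M) :
    ClSub.IsInverseOf ((Scheme.Modules.pullback f).obj L) ((Scheme.Modules.pullback f).obj M) :=
  ⟨(exists_pullback_tensorMod f L M).choose.symm ≪≫ (Scheme.Modules.pullback f).mapIso h.some ≪≫
    (pullback_structure_iso f).some⟩

end Groth.PicAux
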