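import Groth.Agent.PicAux.GenLocusAffine
import Groth.Agent.PicAux.Tensor
import Groth.Agent.PicAux.Pullback
import Groth.Prelude.Def_SecTwist

/-!
# Generating loci of products, powers and pullbacks of sections
-/

universe u

open CategoryTheory AlgebraicGeometry Opposite TopologicalSpace

namespace Groth.PicAux

variable {X Y : Scheme.{u}} {L M : X.Modules}

theorem gsec_tmulHom (a : Coh.structureModule X ⟶ L) (b : Coh.structureModule X ⟶ M) :
    gsec (SecTwist.tmulHom a b) = tmulSec (gsec a) (gsec b) :=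
  SecTwist.val_tmulHom a b ⊤

theorem gsec_powHom (s : Coh.structureModule X ⟶ L) :
    ∀ n : ℕ, gsec (SecTwist.powHom s n) = powSec (gsec s) n
  | 0 => rfl
  | n + 1 => (gsec_tmulHom _ _).trans (congrArg (fun t => tmulSec t _) (gsec_powHom s n))

/-- The generating locus only depends on the global section. -/
theorem genLocus_congr {s s' : Coh.structureModule X ⟶ L} (h : gsec s = gsec s') :
    CohB1.genLocus L s = CohB1.genLocus L s' := by
  rw [hom_structure_ext h]

/-- Generating loci on a cover by trivialising opens. -/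
theorem genLocus_eq_of_gen (hL : PicF.IsInvertible L) (s : Coh.structureModule X ⟶ L) {A : X.Opens}
    (h : ∀ (U : X.Opens) (e : Γ(L, U)) (c : Γ(X, U)), Gen L U e →
      res L le_top (gsec s) = c • e → A ⊓ U = X.basicOpen c) :
    A = CohB1.genLocus L s := by
  choose U e hxU he using fun x : X => (isInvertible_iff_exists_gen _).1 hL x
  refine opens_ext_cover (U := U) (eq_top_iff.2 fun x _ => Opens.mem_iSup.2 ⟨x, hxU x⟩) fun x => ?_
  obtain ⟨c, hc⟩ := (he x).exists_coeff le_rfl (res L (le_top : U x ≤ ⊤) (gsec s))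
  rw [res_self] at hc
  rw [h _ _ c (he x) hc, genLocus_inf_eq_basicOpen (he x) hc]

theorem genLocus_tensor (hL : PicF.IsInvertible L) (hM : PicF.IsInvertible M)
    {a : Coh.structureModule X ⟶ L} {b : Coh.structureModule X ⟶ M}
    {s : Coh.structureModule X ⟶ CohB1.tensorMod L M} (hs : gsec s = tmulSec (gsec a) (gsec b)) :
    CohB1.genLocus _ s = CohB1.genLocus L a ⊓ CohB1.genLocus M b := by
  choose U e hxU he using fun x : X => (isInvertible_iff_exists_gen _).1 hL x
  choose V f hxV hf using fun x : X => (isInvertible_iff_exists_gen _).1 hM x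
  refine opens_ext_cover (U := fun x => U x ⊓ V x)
    (eq_top_iff.2 fun x _ => Opens.mem_iSup.2 ⟨x, hxU x, hxV x⟩) fun x => ?_
  have he' := (he x).res (inf_le_left : U x ⊓ V x ≤ U x)
  have hf' := (hf x).res (inf_le_right : U x ⊓ V x ≤ V x)
  obtain ⟨c, hc⟩ := he'.exists_coeff le_rfl (res L (le_top : U x ⊓ V x ≤ ⊤) (gsec a))
  obtain ⟨d, hd⟩ := hf'.exists_coeff le_rfl (res M (le_top : U x ⊓ V x ≤ ⊤) (gsec b))
  rw [res_self] at hc hd
  have hcd : res _ (le_top : U x ⊓ V x ≤ ⊤) (gsec s) = (c * d) •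
      tmulSec (res L inf_le_left (e x)) (res M inf_le_right (f x)) := by
    rw [hs, res_tmulSec, hc, hd, tmulSec_smul_left, tmulSec_smul_right, mul_smul]
  rw [genLocus_inf_eq_basicOpen (he'.tensor hf') hcd, Scheme.basicOpen_mul, inf_inf_distrib_right,
    genLocus_inf_eq_basicOpen he' hc, genLocus_inf_eq_basicOpen hf' hd]

theorem genLocus_tmulHom (hL : PicF.IsInvertible L) (hM : PicF.IsInvertible M)
    (a : Coh.structureModule X ⟶ L) (b : Coh.structureModule X ⟶ M) :
    CohB1.genLocus _ (SecTwist.tmulHom a b) = CohB1.genLocus L a ⊓ CohB1.genLocus M b :=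
  genLocus_tensor hL hM (gsec_tmulHom a b)

theorem genLocus_id_structure : CohB1.genLocus (Coh.structureModule X) (𝟙 _) = ⊤ :=
  top_le_iff.1 ((le_genLocus_iff _ _).2 (by rw [res_self]; exact gen_oneSec ⊤))

theorem genLocus_powHom (hL : PicF.IsInvertible L) (s : Coh.structureModule X ⟶ L) :
    ∀ n : ℕ, CohB1.genLocus _ (SecTwist.powHom s (n + 1)) = CohB1.genLocus L s
  | 0 => (genLocus_tmulHom (isInvertible_tensorPow hL 0) hL _ _).trans
      (by rw [show SecTwist.powHom s 0 = 𝟙 _ from rfl]; erw [genLocus_id_structure]; rw [top_inf_eq])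
  | n + 1 => (genLocus_tmulHom (isInvertible_tensorPow hL (n + 1)) hL _ _).trans
      (by rw [genLocus_powHom hL s n, inf_idem])

theorem genLocus_powSec (hL : PicF.IsInvertible L) (s : Coh.structureModule X ⟶ L) (n : ℕ) :
    CohB1.genLocus _ (homOfSection (powSec (gsec s) (n + 1))) = CohB1.genLocus L s :=
  (genLocus_congr ((gsec_homOfSection _).trans (gsec_powHom s (n + 1)).symm)).trans
    (genLocus_powHom hL s n)

/-- The generating locus is unchanged by isomorphisms. -/
theorem genLocus_comp_iso (s : Coh.structureModule X ⟶ L) (e : L ≅ M) :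
    CohB1.genLocus M (s ≫ e.hom) = CohB1.genLocus L s := by
  refine eq_of_forall_le_iff fun V => ?_
  rw [le_genLocus_iff, le_genLocus_iff]
  have h : gsec (s ≫ e.hom) = e.hom.app ⊤ (gsec s) := rfl
  rw [h, ← app_res]
  refine ⟨fun hg => ?_, fun hg => hg.map e.hom⟩
  have h2 := hg.map e.inv
  have h3 : e.inv.app V (e.hom.app V (res L le_top (gsec s))) = res L le_top (gsec s) :=
    congr(($(e.hom_inv_id)).app V (res L le_top (gsec s)))
  rwa [h3] at h2

/-- The generating locus of a pulled back section is the preimage. -/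
theorem genLocus_pullback (g : Y ⟶ X) (hL : PicF.IsInvertible L) (s : Coh.structureModule X ⟶ L)
    {s' : Coh.structureModule Y ⟶ (Scheme.Modules.pullback g).obj L}
    (hs : gsec s' = pullSec g L (gsec s)) :
    CohB1.genLocus _ s' = g ⁻¹ᵁ CohB1.genLocus L s := by
  choose U e hxU he using fun x : X => (isInvertible_iff_exists_gen _).1 hL x
  refine opens_ext_cover (U := fun x => g ⁻¹ᵁ U x)
    (eq_top_iff.2 fun y _ => Opens.mem_iSup.2 ⟨g.base y, hxU _⟩) fun x => ?_
  obtain ⟨c, hc⟩ := (he x).exists_coeff le_rfl (res L (le_top : U x ≤ ⊤) (gsec s))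
  rw [res_self] at hc
  have h2 : res _ (le_top : g ⁻¹ᵁ U x ≤ ⊤) (gsec s') = g.app (U x) c • pullSec g L (e x) := by
    rw [hs, ← pullSec_smul, ← hc]
    exact res_pullSec g L (le_top : U x ≤ ⊤) _
  rw [genLocus_inf_eq_basicOpen ((he x).pull g) h2, ← Scheme.preimage_basicOpen,
    ← genLocus_inf_eq_basicOpen (he x) hc]
  rfl

end Groth.PicAux
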