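import Groth.Agent.PicAux.OpenBij
import Groth.Agent.Misc7.DepthTwoExtend
import Groth.Agent.RefRank.BigOpen
import Groth.Agent.Calg1.DepthTwo

/-!
# Hartogs for invertible modules on normal schemes
-/

universe u

open CategoryTheory AlgebraicGeometry Opposite TopologicalSpace
open scoped Pointwise

namespace Groth.PicAux

variable {X : Scheme.{u}}

theorem exists_regular_pair {A : Type u} [CommRing A] [IsLocalRing A] [IsNoetherianRing A]
    (hd : (2 : ℕ∞) ≤ LocCoh.depth A A) :
    ∃ a b : A, a ∈ IsLocalRing.maximalIdeal A ∧ b ∈ IsLocalRing.maximalIdeal A ∧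
      RingTheory.Sequence.IsWeaklyRegular A [a, b] := by
  have hI : IsLocalRing.maximalIdeal A ≠ ⊤ := (IsLocalRing.maximalIdeal.isMaximal A).ne_top
  have hIM := Groth.LocCohBase.smul_maximalIdeal_ne_top (R := A) A hI
  obtain ⟨x, hxm, hx⟩ := Groth.LocCohBase.exists_regular_of_one_le hIM (le_trans (by norm_num) hd)
  have hd1 : ((1 : ℕ) : ℕ∞) ≤ LocCoh.idealDepth (IsLocalRing.maximalIdeal A) (QuotSMulTop x A) := by
    rw [LocCoh.depth, ← Groth.LocCohBase.idealDepth_quotSMulTop_add_one _ A hIM hxm hx] at hd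
    exact (ENat.add_le_add_iff_right ENat.one_ne_top).1 (le_trans (by norm_num) hd)
  obtain ⟨w, hwm, hw⟩ := Groth.LocCohBase.exists_regular_of_one_le
    (Groth.LocCohBase.smul_top_quotSMulTop_ne_top hxm hIM) hd1
  exact ⟨x, w, hxm, hwm, (RingTheory.Sequence.isWeaklyRegular_cons_iff _ _ _).2
    ⟨hx, (RingTheory.Sequence.isWeaklyRegular_singleton_iff _ _).2 hw⟩⟩

/-- The extension property for functions can be checked on affine opens. -/
theorem funBij_of_affine {U X : Scheme.{u}} {j : U ⟶ X} [IsOpenImmersion j]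
    (h : ∀ V : X.Opens, IsAffineOpen V → Function.Bijective (resX X (j.image_preimage_le V))) :
    FunBij j := by
  rw [funBij_iff]
  let M := Coh.structureModule X
  have him : ∀ {A B : X.Opens}, A ≤ B → j ''ᵁ j ⁻¹ᵁ A ≤ j ''ᵁ j ⁻¹ᵁ B := fun h =>
    j.image_mono (j.preimage_mono h)
  have hc : ∀ V : X.Opens, V ≤ ⨆ W : {W : X.affineOpens // W.1 ≤ V}, W.1.1 := fun V v hv => by
    obtain ⟨_, ⟨W, hW, rfl⟩, hvW, hWV⟩ := X.isBasis_affineOpens.exists_subset_of_mem_open hv V.2
    exact Opens.mem_iSup.2 ⟨⟨⟨W, hW⟩, hWV⟩, hvW⟩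
  have hinj : ∀ V : X.Opens, Function.Injective (res M (j.image_preimage_le V)) := fun V a b hab =>
    res_ext _ (fun W : {W : X.affineOpens // W.1 ≤ V} => W.2) (hc V) fun W => (h _ W.1.2).1 (by
      have := congrArg (res M (him W.2)) hab
      simp only [res_res] at this
      exact (res_res (M := M) W.2 (j.image_preimage_le _) a).trans
        (this.trans (res_res (M := M) W.2 (j.image_preimage_le _) b).symm))
  refine fun V => ⟨hinj V, fun t => ?_⟩
  choose y hy using fun W : {W : X.affineOpens // W.1 ≤ V} => (h _ W.1.2).2 (res M (him W.2) t)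
  let y' : ∀ W : {W : X.affineOpens // W.1 ≤ V}, Γ(M, W.1.1) := y
  have hy' : ∀ W, res M (j.image_preimage_le W.1.1) (y' W) = res M (him W.2) t := hy
  obtain ⟨z, hz, -⟩ := res_glue (M := M) (fun W : {W : X.affineOpens // W.1 ≤ V} => W.1.1)
    (fun W => W.2) (hc V) y' fun W W' => by
    refine hinj _ ?_
    have e1 := congrArg (res M (him (inf_le_left : W.1.1 ⊓ W'.1.1 ≤ W.1.1))) (hy' W)
    have e2 := congrArg (res M (him (inf_le_right : W.1.1 ⊓ W'.1.1 ≤ W'.1.1))) (hy' W')
    simp only [res_res] at e1 e2 ⊢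
    rw [e1, e2]
  refine ⟨z, res_ext (fun W : {W : X.affineOpens // W.1 ≤ V} => j ''ᵁ j ⁻¹ᵁ W.1.1)
    (fun W => him W.2) ?_ fun W => ?_⟩
  · rintro _ ⟨v, hv, rfl⟩
    obtain ⟨W, hW⟩ := Opens.mem_iSup.1 (hc V hv)
    exact Opens.mem_iSup.2 ⟨W, v, hW, rfl⟩
  · rw [res_res, ← hy' W, ← hz W, res_res]

/-- On a locally Noetherian normal scheme, functions extend across codimension two. -/
theorem funBij_of_two_le_dim [IsLocallyNoetherian X]
    (hX : ∀ x : X, IsDomain (X.presheaf.stalk x) ∧ IsIntegrallyClosed (X.presheaf.stalk x))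
    {U : X.Opens} (hU : ∀ x : X, x ∉ U → (2 : WithBot ℕ∞) ≤ ringKrullDim (X.presheaf.stalk x)) :
    FunBij U.ι := by
  refine funBij_of_affine fun V hV => ?_
  have hZ : ∀ z : X, z ∉ U → ∃ a b : X.presheaf.stalk z,
      a ∈ IsLocalRing.maximalIdeal (X.presheaf.stalk z) ∧
        b ∈ IsLocalRing.maximalIdeal (X.presheaf.stalk z) ∧
          RingTheory.Sequence.IsWeaklyRegular (X.presheaf.stalk z) [a, b] := fun z hz => by
    have := (hX z).1
    have := (hX z).2
    exact exists_regular_pair (RefRank.two_le_depth_of_normal (hU z hz))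
  exact Misc7.DepthTwo.bijective_restrict hZ hV
    (by rw [Scheme.Hom.image_preimage_eq_opensRange_inf, Scheme.Opens.opensRange_ι, inf_comm])
    (homOfLE (U.ι.image_preimage_le V))

theorem res_bijective_congr {M : X.Modules} {W W' A B : X.Opens} (hA : A ≤ W) (hB : B ≤ W')
    (e : A = B) (e' : W = W') :
    Function.Bijective (res M hA) ↔ Function.Bijective (res M hB) := by
  subst e; subst e'
  exact Iff.rfl

theorem res_top_bijective {U : X.Opens} {M : X.Modules} (h : SecBij U.ι M) :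
    Function.Bijective (res M (le_top : U ≤ ⊤)) :=
  (res_bijective_congr (U.ι.image_preimage_le ⊤) le_top (Scheme.Opens.ι_image_top U) rfl).1 (h ⊤)

/-- A module with the extension property which is trivial on `U` is trivial. -/
theorem nonempty_iso_of_secBij {U : X.Opens} {M : X.Modules} (hO : FunBij U.ι)
    (hM : SecBij U.ι M) (h : Nonempty (M.restrict U.ι ≅ Coh.structureModule (U : Scheme.{u}))) :
    Nonempty (M ≅ Coh.structureModule X) := by
  obtain ⟨s, hs⟩ := (nonempty_restrict_iso_iff U).1 h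
  obtain ⟨t, ht⟩ := (res_top_bijective hM).2 s
  refine nonempty_iso_structure_iff.2 ⟨t, fun V hV => ?_⟩
  have hle : U.ι ''ᵁ U.ι ⁻¹ᵁ V ≤ U := Scheme.Opens.ι_image_le U _
  refine (Function.Bijective.of_comp_iff' (hM V) _).1 ?_
  have e : res M (U.ι.image_preimage_le V) ∘ (fun r : Γ(X, V) => r • res M hV t) =
      (fun r => r • res M hle s) ∘ resX X (U.ι.image_preimage_le V) := by
    funext r
    simp [← ht]
  rw [e]
  exact (hs _ hle).comp (hO V)

end Groth.PicAux
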