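import Groth.Agent.PicAux.UnitAt
import Groth.Agent.PicAux.GenLocal
import Mathlib.AlgebraicGeometry.Noetherian

/-!
# Extending invertible modules over points with factorial local rings
-/

universe u

open CategoryTheory AlgebraicGeometry Opposite TopologicalSpace

namespace Groth.PicAux

variable {X : Scheme.{u}}

/-- A point with integral local ring on a locally Noetherian scheme has an integral Noetherian
neighbourhood. -/
theorem exists_integral_nhd [IsLocallyNoetherian X] (x : X) [IsDomain (X.presheaf.stalk x)] :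
    ∃ W : X.Opens, x ∈ W ∧ IsIntegral (W : Scheme.{u}) ∧ NoetherianSpace (W : Scheme.{u}) := by
  obtain ⟨_, ⟨U, hU, rfl⟩, hxU, -⟩ :=
    X.isBasis_affineOpens.exists_subset_of_mem_open (Set.mem_univ x) isOpen_univ
  have : IsNoetherianRing Γ(X, U) := IsLocallyNoetherian.component_noetherian ⟨U, hU⟩
  let _ := X.presheaf.algebra_section_stalk ⟨x, hxU⟩
  have : IsLocalization.AtPrime (X.presheaf.stalk x) (hU.primeIdealOf ⟨x, hxU⟩).asIdeal :=
    hU.isLocalization_stalk ⟨x, hxU⟩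
  let φ := algebraMap Γ(X, U) (X.presheaf.stalk x)
  obtain ⟨T, hT⟩ := IsNoetherian.noetherian (RingHom.ker φ)
  have hT' : ∀ a : T, ∃ t ∈ (hU.primeIdealOf ⟨x, hxU⟩).asIdeal.primeCompl, t * a.1 = 0 :=
    fun a => by
      have : φ a.1 = 0 := RingHom.mem_ker.1 (hT ▸ Submodule.subset_span a.2)
      obtain ⟨t, ht⟩ := (IsLocalization.map_eq_zero_iff
        (hU.primeIdealOf ⟨x, hxU⟩).asIdeal.primeCompl _ _).1 this
      exact ⟨t, t.2, ht⟩
  choose t ht hta using hT'
  classical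
  let s := ∏ a : T, t a
  have hs : s ∈ (hU.primeIdealOf ⟨x, hxU⟩).asIdeal.primeCompl :=
    prod_mem fun a _ => ht a
  have hkill : ∀ a, φ a = 0 → s * a = 0 := by
    intro a ha
    have ha' : a ∈ Submodule.span Γ(X, U) (T : Set Γ(X, U)) := hT.symm ▸ RingHom.mem_ker.2 ha
    have : Submodule.span Γ(X, U) (T : Set Γ(X, U)) ≤
        (LinearMap.mulLeft Γ(X, U) s).ker := by
      refine Submodule.span_le.2 fun b hb => ?_
      change s * b = 0
      rw [show s = (∏ a ∈ Finset.univ.erase ⟨b, hb⟩, t a) * t ⟨b, hb⟩ from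
        (Finset.prod_erase_mul _ _ (Finset.mem_univ _)).symm, mul_assoc, hta ⟨b, hb⟩, mul_zero]
    exact this ha'
  have hsu : IsUnit (X.presheaf.germ U x hxU s) :=
    IsLocalization.map_units (X.presheaf.stalk x) (⟨s, hs⟩ : (hU.primeIdealOf ⟨x, hxU⟩).asIdeal.primeCompl)
  have hxW : x ∈ X.basicOpen s := (Scheme.mem_basicOpen X s x hxU).2 hsu
  have hWU := X.basicOpen_le s
  have hWaff : IsAffineOpen (X.basicOpen s) := hU.basicOpen s
  have hloc := hU.isLocalization_basicOpen s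
  have hinj : Function.Injective (X.presheaf.germ (X.basicOpen s) x hxW) := by
    rw [injective_iff_map_eq_zero]
    intro z hz
    obtain ⟨⟨a, m⟩, hm⟩ := IsLocalization.surj (Submonoid.powers s) z
    have halg : ∀ b, algebraMap Γ(X, U) Γ(X, X.basicOpen s) b = resX X hWU b := fun b => rfl
    have hgerm : ∀ b, X.presheaf.germ (X.basicOpen s) x hxW (resX X hWU b) = φ b :=
      fun b => X.presheaf.germ_res_apply (homOfLE hWU) x hxW b
    have : φ a = 0 := by
      rw [← hgerm, ← halg, ← hm, map_mul, hz, zero_mul]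
    have h0 := congrArg (algebraMap Γ(X, U) Γ(X, X.basicOpen s)) (hkill a this)
    rw [map_mul, map_zero] at h0
    have hsu' : IsUnit (algebraMap Γ(X, U) Γ(X, X.basicOpen s) s) :=
      IsLocalization.map_units _ (⟨s, Submonoid.mem_powers s⟩ : Submonoid.powers s)
    have ha0 : algebraMap Γ(X, U) Γ(X, X.basicOpen s) a = 0 := hsu'.mul_right_eq_zero.1 h0
    rw [ha0] at hm
    exact (IsLocalization.map_units _ m).mul_left_eq_zero.1 hm
  have : IsDomain Γ(X, X.basicOpen s) :=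
    Function.Injective.isDomain (X.presheaf.germ (X.basicOpen s) x hxW).hom hinj
  have : IsDomain Γ((X.basicOpen s : Scheme.{u}), ⊤) :=
    MulEquiv.isDomain Γ(X, X.basicOpen s)
      (X.basicOpen s).topIso.commRingCatIsoToRingEquiv.toMulEquiv
  have : IsAffine (X.basicOpen s : Scheme.{u}) := hWaff
  have : Nonempty (X.basicOpen s : Scheme.{u}) := ⟨⟨x, hxW⟩⟩
  have : IsNoetherianRing Γ(X, X.basicOpen s) :=
    IsLocallyNoetherian.component_noetherian ⟨_, hWaff⟩
  exact ⟨_, hxW, isIntegral_of_isAffine_of_isDomain _,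
    noetherianSpace_of_isAffineOpen _ hWaff⟩

/-- Extending a unit cocycle to a neighbourhood of a point with factorial local ring. -/
theorem exists_extend_at [IsLocallyNoetherian X] {ι : Type u} (U : ι → X.Opens)
    (η : ∀ i j, Γ(X, U i ⊓ U j)) (hunit : ∀ i j, IsUnit (η i j))
    (hη : ∀ i j k : ι,
      resX X (inf_le_inf_right (U k) inf_le_left : U i ⊓ U j ⊓ U k ≤ U i ⊓ U k) (η i k) =
        resX X (inf_le_left : U i ⊓ U j ⊓ U k ≤ U i ⊓ U j) (η i j) *
          resX X (inf_le_inf_right (U k) inf_le_right : U i ⊓ U j ⊓ U k ≤ U j ⊓ U k) (η j k))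
    (x : X) [IsDomain (X.presheaf.stalk x)] [UniqueFactorizationMonoid (X.presheaf.stalk x)] :
    ∃ V : X.Opens, x ∈ V ∧ IsIntegral (V : Scheme.{u}) ∧
      ∃ h : ∀ i, Γ(X, V ⊓ U i), (∀ i, IsUnit (h i)) ∧
      ∀ i j, resX X (cle₂ U V i j) (h j) =
        resX X (cle₁ U V i j) (h i) * resX X (cle₃ U V i j) (η i j) := by
  obtain ⟨W, hxW, hWi, hWn⟩ := exists_integral_nhd x
  let U' : ι → (W : Scheme.{u}).Opens := fun i => W.ι ⁻¹ᵁ U i
  have him : ∀ (Z : (W : Scheme.{u}).Opens) (i : ι), Z ≤ U' i → W.ι ''ᵁ Z ≤ U i := fun Z i hZ => by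
    rintro _ ⟨y, hy, rfl⟩
    exact hZ hy
  let η' : ∀ i j, Γ((W : Scheme.{u}), U' i ⊓ U' j) := fun i j =>
    resX X (le_inf (him _ i inf_le_left) (him _ j inf_le_right)) (η i j)
  have : UniqueFactorizationMonoid ((W : Scheme.{u}).presheaf.stalk ⟨x, hxW⟩) :=
    MulEquiv.uniqueFactorizationMonoid
      (W.stalkIso ⟨x, hxW⟩).symm.commRingCatIsoToRingEquiv.toMulEquiv inferInstance
  obtain ⟨V', hxV', h', hu', hrel'⟩ := exists_extend_integral U' η' (fun i j => (hunit i j).map _)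
    (fun i j k => by
      have := congrArg (resX X (le_inf (le_inf (him (U' i ⊓ U' j ⊓ U' k) i
        (inf_le_left.trans inf_le_left)) (him _ j (inf_le_left.trans inf_le_right)))
        (him _ k inf_le_right) : W.ι ''ᵁ (U' i ⊓ U' j ⊓ U' k) ≤ U i ⊓ U j ⊓ U k)) (hη i j k)
      simp only [map_mul, resX_resX] at this
      simp only [η']
      change resX X (W.ι.image_mono (inf_le_inf_right _ inf_le_left)) (resX X _ _) =
        resX X (W.ι.image_mono inf_le_left) (resX X _ _) *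
          resX X (W.ι.image_mono (inf_le_inf_right _ inf_le_right)) (resX X _ _)
      simp only [resX_resX]
      exact this)
    ⟨x, hxW⟩
  have hle : ∀ i, (W.ι ''ᵁ V') ⊓ U i ≤ W.ι ''ᵁ (V' ⊓ U' i) := fun i => by
    rintro _ ⟨⟨y, hy, rfl⟩, hyU⟩
    exact ⟨y, ⟨hy, hyU⟩, rfl⟩
  have : Nonempty (W.ι ''ᵁ V' : X.Opens) := ⟨⟨x, ⟨⟨x, hxW⟩, hxV', rfl⟩⟩⟩
  have : Nonempty (W.ι ''ᵁ V' : Scheme.{u}) := ‹_›
  refine ⟨W.ι ''ᵁ V', ⟨⟨x, hxW⟩, hxV', rfl⟩, ?_, fun i => resX X (hle i) (h' i),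
    fun i => (hu' i).map _, fun i j => ?_⟩
  · exact isIntegral_of_isOpenImmersion (X.homOfLE (Scheme.Opens.ι_image_le W V'))
  · have hle3 : W.ι ''ᵁ V' ⊓ U i ⊓ U j ≤ W.ι ''ᵁ (V' ⊓ U' i ⊓ U' j) := by
      rintro _ ⟨⟨⟨y, hy, rfl⟩, hyU⟩, hyj⟩
      exact ⟨y, ⟨⟨hy, hyU⟩, hyj⟩, rfl⟩
    have := congrArg (resX X hle3) (hrel' i j)
    simp only [η'] at this
    change resX X hle3 (resX X (W.ι.image_mono (cle₂ U' V' i j)) (h' j)) =
      resX X hle3 (resX X (W.ι.image_mono (cle₁ U' V' i j)) (h' i) *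
        resX X (W.ι.image_mono (cle₃ U' V' i j)) (resX X _ (η i j))) at this
    simpa only [map_mul, resX_resX] using this

end Groth.PicAux

namespace Groth.PicAux

variable {X : Scheme.{u}}

theorem resX_injective_of_le_integral {W V V' : X.Opens} [IsIntegral (W : Scheme.{u})] (hV : V ≤ W)
    (h : V' ≤ V) (hne : ∃ y, y ∈ V') : Function.Injective (resX X h) := by
  obtain ⟨V0, rfl⟩ : ∃ V0 : (W : Scheme.{u}).Opens, W.ι ''ᵁ V0 = V :=
    ⟨W.ι ⁻¹ᵁ V, by rw [Scheme.Hom.image_preimage_eq_opensRange_inf]; simpa using hV⟩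
  obtain ⟨V1, rfl⟩ : ∃ V1 : (W : Scheme.{u}).Opens, W.ι ''ᵁ V1 = V' :=
    ⟨W.ι ⁻¹ᵁ V', by rw [Scheme.Hom.image_preimage_eq_opensRange_inf]; simpa using h.trans hV⟩
  obtain ⟨_, y, hy, rfl⟩ := hne
  have : Nonempty V1 := ⟨⟨y, hy⟩⟩
  have h01 : V1 ≤ V0 := fun z hz => by
    obtain ⟨z', hz', e⟩ := h ⟨z, hz, rfl⟩
    rwa [← W.ι.isOpenEmbedding.injective e]
  exact map_injective_of_isIntegral (W : Scheme.{u}) (homOfLE h01)

variable {ι : Type u} (U : ι → X.Opens) (η : ∀ i j, Γ(X, U i ⊓ U j))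

/-- A local extension of a cocycle. -/
structure CPiece where
  /-- the open -/
  V : X.Opens
  /-- the comparison functions -/
  h : ∀ i, Γ(X, V ⊓ U i)
  unit : ∀ i, IsUnit (h i)
  rel : ∀ i j, resX X (cle₂ U V i j) (h j) =
    resX X (cle₁ U V i j) (h i) * resX X (cle₃ U V i j) (η i j)
  sep : ∀ (Z : X.Opens), Z ≤ V → ∀ x y : Γ(X, Z),
    (∀ i, resX X (inf_le_left : Z ⊓ U i ≤ Z) x = resX X (inf_le_left : Z ⊓ U i ≤ Z) y) → x = y

/-- Two pieces are compatible. -/
def CPiece.Adm {U : ι → X.Opens} {η : ∀ i j, Γ(X, U i ⊓ U j)} (a b : CPiece U η) : Prop :=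
  ∃ g : Γ(X, a.V ⊓ b.V), IsUnit g ∧ ∀ i,
    resX X (inf_le_inf_right _ inf_le_left : a.V ⊓ b.V ⊓ U i ≤ a.V ⊓ U i) (a.h i) =
      resX X (inf_le_left : a.V ⊓ b.V ⊓ U i ≤ a.V ⊓ b.V) g *
        resX X (inf_le_inf_right _ inf_le_right : a.V ⊓ b.V ⊓ U i ≤ b.V ⊓ U i) (b.h i)

theorem CPiece.adm_self (a : CPiece U η) : a.Adm a :=
  ⟨1, isUnit_one, fun i => by rw [map_one, one_mul]⟩

theorem CPiece.Adm.symm {a b : CPiece U η} (hab : a.Adm b) : b.Adm a := by
  obtain ⟨g, hg, h⟩ := hab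
  refine ⟨resX X (le_inf inf_le_right inf_le_left) (↑hg.unit⁻¹ : Γ(X, a.V ⊓ b.V)),
    (hg.unit⁻¹).isUnit.map _, fun i => ?_⟩
  have e := congrArg (resX X (le_inf (le_inf (inf_le_left.trans inf_le_right)
    (inf_le_left.trans inf_le_left)) inf_le_right :
      b.V ⊓ a.V ⊓ U i ≤ a.V ⊓ b.V ⊓ U i)) (h i)
  simp only [map_mul, resX_resX] at e ⊢
  rw [e, ← mul_assoc, ← map_mul, IsUnit.val_inv_mul, map_one, one_mul]

theorem exists_extension_of_dense [IsLocallyNoetherian X] (hunit : ∀ i j, IsUnit (η i j))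
    (hη : ∀ i j k : ι,
      resX X (inf_le_inf_right (U k) inf_le_left : U i ⊓ U j ⊓ U k ≤ U i ⊓ U k) (η i k) =
        resX X (inf_le_left : U i ⊓ U j ⊓ U k ≤ U i ⊓ U j) (η i j) *
          resX X (inf_le_inf_right (U k) inf_le_right : U i ⊓ U j ⊓ U k ≤ U j ⊓ U k) (η j k))
    (hdense : ∀ Z : X.Opens, (∃ y, y ∈ Z) → ∃ i y, y ∈ Z ⊓ U i)
    (hufd : ∀ x : X, (∀ i, x ∉ U i) → UniqueFactorizationMonoid (X.presheaf.stalk x)) :
    ∃ (L : X.Modules) (s : ∀ i, Γ(L, U i)), PicF.IsInvertible L ∧ (∀ i, Gen L (U i) (s i)) ∧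
      ∀ i j, res L (inf_le_left : U i ⊓ U j ≤ U i) (s i) =
        η i j • res L (inf_le_right : U i ⊓ U j ≤ U j) (s j) := by
  have hdiag : ∀ i (Z : X.Opens) (h : Z ≤ U i ⊓ U i), resX X h (η i i) = 1 := by
    intro i Z h
    have h' : Z ≤ U i ⊓ U i ⊓ U i := le_inf h (h.trans inf_le_left)
    have := congrArg (resX X h') (hη i i i)
    simp only [map_mul, resX_resX] at this
    exact ((((hunit i i).map (resX X h)).mul_eq_right).1 this.symm)
  let base : ι → CPiece U η := fun i =>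
    { V := U i
      h := fun j => η i j
      unit := fun j => hunit i j
      rel := fun j k => hη i j k
      sep := fun Z hZ x y e => by
        have := congrArg (resX X (le_inf le_rfl hZ : Z ≤ Z ⊓ U i)) (e i)
        simpa using this }
  have hbase : ∀ (i : ι) (a : CPiece U η), a.Adm (base i) := fun i a =>
    ⟨a.h i, a.unit i, fun j => a.rel i j⟩
  obtain ⟨S, hSmax⟩ := zorn_subset {S : Set (CPiece U η) | ∀ a ∈ S, ∀ b ∈ S, a.Adm b}
    fun c hc hchain => ⟨⋃₀ c, fun a ⟨A, hA, ha⟩ b ⟨B, hB, hb⟩ =>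
      (hchain.total hA hB).elim (fun h => hc hB a (h ha) b hb) (fun h => hc hA a ha b (h hb)),
      fun A hA => Set.subset_sUnion_of_mem hA⟩
  have hS : ∀ a ∈ S, ∀ b ∈ S, a.Adm b := hSmax.prop
  let P : ι ⊕ S → CPiece U η := Sum.elim base Subtype.val
  have hP : ∀ p q, (P p).Adm (P q) := by
    rintro (i | a) (j | b)
    · exact hbase j _
    · exact (hbase i b.1).symm
    · exact hbase j _
    · exact hS _ a.2 _ b.2
  choose g hgu hg using hP
  have gcocycle : ∀ p q r,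
      resX X (inf_le_inf_right _ inf_le_left :
        (P p).V ⊓ (P q).V ⊓ (P r).V ≤ (P p).V ⊓ (P r).V) (g p r) =
      resX X (inf_le_left : (P p).V ⊓ (P q).V ⊓ (P r).V ≤ (P p).V ⊓ (P q).V) (g p q) *
        resX X (inf_le_inf_right _ inf_le_right :
          (P p).V ⊓ (P q).V ⊓ (P r).V ≤ (P q).V ⊓ (P r).V) (g q r) := by
    intro p q r
    refine (P p).sep _ (inf_le_left.trans inf_le_left) _ _ fun l => ?_
    have e1 := congrArg (resX X (inf_le_inf_right _ (inf_le_inf_right _ inf_le_left) :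
      (P p).V ⊓ (P q).V ⊓ (P r).V ⊓ U l ≤ (P p).V ⊓ (P r).V ⊓ U l)) (hg p r l)
    have e2 := congrArg (resX X (inf_le_inf_right _ inf_le_left :
      (P p).V ⊓ (P q).V ⊓ (P r).V ⊓ U l ≤ (P p).V ⊓ (P q).V ⊓ U l)) (hg p q l)
    have e3 := congrArg (resX X (inf_le_inf_right _ (inf_le_inf_right _ inf_le_right) :
      (P p).V ⊓ (P q).V ⊓ (P r).V ⊓ U l ≤ (P q).V ⊓ (P r).V ⊓ U l)) (hg q r l)
    simp only [map_mul, resX_resX] at e1 e2 e3 ⊢
    refine (((P r).unit l).map (resX X (le_inf (inf_le_left.trans inf_le_right) inf_le_right :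
      (P p).V ⊓ (P q).V ⊓ (P r).V ⊓ U l ≤ (P r).V ⊓ U l))).mul_left_injective ?_
    dsimp only
    rw [← e1, mul_assoc, ← e3, ← e2]
  have ginl : ∀ (p) (l : ι), g p (Sum.inl l) = (P p).h l := by
    intro p l
    have key : resX X (inf_le_inf_right _ inf_le_left : (P p).V ⊓ U l ⊓ U l ≤ (P p).V ⊓ U l)
        ((P p).h l) = resX X (inf_le_left : (P p).V ⊓ U l ⊓ U l ≤ (P p).V ⊓ U l)
          (g p (Sum.inl l)) *
        resX X (inf_le_inf_right _ inf_le_right : (P p).V ⊓ U l ⊓ U l ≤ U l ⊓ U l) (η l l) :=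
      hg p (Sum.inl l) l
    rw [hdiag l, mul_one] at key
    have := congrArg (resX X (le_inf le_rfl inf_le_right :
      (P p).V ⊓ U l ≤ (P p).V ⊓ U l ⊓ U l)) key
    rw [resX_resX, resX_resX, resX_self, resX_self] at this
    exact this.symm
  have hcover : iSup (fun p => (P p).V) = ⊤ := by
    refine eq_top_iff.2 fun x _ => ?_
    by_contra hx
    simp only [Opens.mem_iSup, not_exists] at hx
    have := hufd x fun i => hx (Sum.inl i)
    have : IsDomain (X.presheaf.stalk x) := { }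
    obtain ⟨V, hxV, hVi, h, hu, hrel⟩ :=
      exists_extend_at (fun p => (P p).V) g hgu gcocycle x
    let new : CPiece U η :=
      { V := V
        h := fun i => h (Sum.inl i)
        unit := fun i => hu _
        rel := fun i j => by
          have := hrel (Sum.inl i) (Sum.inl j)
          rw [ginl] at this
          exact this
        sep := fun Z hZ x y e => by
          by_cases hZne : ∃ y, y ∈ Z
          · obtain ⟨i, hi⟩ := hdense Z hZne
            exact resX_injective_of_le_integral hZ _ hi (e i)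
          · have := subsingleton_sections_of_isEmpty fun y hy => hZne ⟨y, hy⟩
            exact Subsingleton.elim _ _ }
    have hnew : ∀ a ∈ S, new.Adm a := fun a ha => by
      refine ⟨h (Sum.inr ⟨a, ha⟩), hu _, fun i => ?_⟩
      have := hrel (Sum.inr ⟨a, ha⟩) (Sum.inl i)
      rw [ginl] at this
      exact this
    have hmem : insert new S ∈ {S : Set (CPiece U η) | ∀ a ∈ S, ∀ b ∈ S, a.Adm b} := by
      rintro a (rfl | ha) b (rfl | hb)
      · exact CPiece.adm_self _ _ _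
      · exact hnew b hb
      · exact (hnew a ha).symm
      · exact hS a ha b hb
    have hin : new ∈ S := hSmax.2 hmem (Set.subset_insert _ _) (Set.mem_insert _ _)
    exact hx (Sum.inr ⟨new, hin⟩) hxV
  obtain ⟨L, s, hs, hL, hsg⟩ :=
    exists_module_of_cocycle (fun p => (P p).V) g hcover hgu gcocycle
  refine ⟨L, fun i => s (Sum.inl i), hL, fun i => hs (Sum.inl i), fun i j => ?_⟩
  have := hsg (Sum.inl i) (Sum.inl j)
  rw [ginl] at this
  exact this

/-- A unit cocycle extends to an invertible module over the points with factorial local rings. -/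
theorem exists_extension_cocycle [IsLocallyNoetherian X] (hunit : ∀ i j, IsUnit (η i j))
    (hη : ∀ i j k : ι,
      resX X (inf_le_inf_right (U k) inf_le_left : U i ⊓ U j ⊓ U k ≤ U i ⊓ U k) (η i k) =
        resX X (inf_le_left : U i ⊓ U j ⊓ U k ≤ U i ⊓ U j) (η i j) *
          resX X (inf_le_inf_right (U k) inf_le_right : U i ⊓ U j ⊓ U k ≤ U j ⊓ U k) (η j k))
    (hufd : ∀ x : X, (∀ i, x ∉ U i) → UniqueFactorizationMonoid (X.presheaf.stalk x)) :
    ∃ (L : X.Modules) (s : ∀ i, Γ(L, U i)), PicF.IsInvertible L ∧ (∀ i, Gen L (U i) (s i)) ∧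
      ∀ i j, res L (inf_le_left : U i ⊓ U j ≤ U i) (s i) =
        η i j • res L (inf_le_right : U i ⊓ U j ≤ U j) (s j) := by
  let Z : X.Opens := ⟨(closure (⋃ i, (U i : Set X)))ᶜ, isClosed_closure.isOpen_compl⟩
  have hZ : ∀ i y, y ∈ Z → y ∉ U i := fun i y hy hyU =>
    hy (subset_closure (Set.mem_iUnion.2 ⟨i, hyU⟩))
  let U' : Option ι → X.Opens := fun o => o.elim Z U
  let η' : ∀ i j, Γ(X, U' i ⊓ U' j) := fun
    | some i, some j => η i j
    | _, _ => 1
  obtain ⟨L, s, hL, hs, hrel⟩ := exists_extension_of_dense U' η'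
    (fun
      | some i, some j => hunit i j
      | none, none => isUnit_one
      | some _, none => isUnit_one
      | none, some _ => isUnit_one)
    (fun i j k => by
      rcases i with _ | i <;> rcases j with _ | j <;> rcases k with _ | k
      all_goals first
        | exact hη i j k
        | (simp only [η', map_one, mul_one]; done)
        | exact (subsingleton_sections_of_isEmpty (by
            rintro y ⟨⟨hi, hj⟩, hk⟩
            first
              | exact hZ _ _ hi hj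
              | exact hZ _ _ hi hk
              | exact hZ _ _ hj hi
              | exact hZ _ _ hj hk
              | exact hZ _ _ hk hi
              )).elim _ _)
    (fun V hV => by
      obtain ⟨y, hy⟩ := hV
      by_cases hyc : y ∈ closure (⋃ i, (U i : Set X))
      · obtain ⟨z, hzV, hzU⟩ := mem_closure_iff.1 hyc V V.isOpen hy
        obtain ⟨i, hi⟩ := Set.mem_iUnion.1 hzU
        exact ⟨some i, z, hzV, hi⟩
      · exact ⟨none, y, hy, hyc⟩)
    (fun x hx => hufd x fun i => hx (some i))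
  exact ⟨L, fun i => s (some i), hL, fun i => hs (some i), fun i j => hrel (some i) (some j)⟩

end Groth.PicAux

namespace Groth.PicAux

variable {X : Scheme.{u}}

theorem Gen.to_restrict {M : X.Modules} {U : X.Opens} {V : (U : Scheme.{u}).Opens}
    {s : Γ(M, U.ι ''ᵁ V)} (hs : Gen M (U.ι ''ᵁ V) s) :
    Gen (M.restrict U.ι) V (s : Γ(M, U.ι ''ᵁ V)) := by
  intro W hW
  exact (congrArg Function.Bijective (funext fun r => restrict_smul U W r _)).mpr
    (hs (U.ι ''ᵁ W) (U.ι.image_mono hW))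

/-- An invertible module on an open extends over points with factorial local rings. -/
theorem exists_extension_module [IsLocallyNoetherian X] (U : X.Opens)
    (L : (U : Scheme.{u}).Modules) (hL : PicF.IsInvertible L)
    (hufd : ∀ x : X, x ∉ U → UniqueFactorizationMonoid (X.presheaf.stalk x)) :
    ∃ L' : X.Modules, PicF.IsInvertible L' ∧ Nonempty (L'.restrict U.ι ≅ L) := by
  obtain ⟨V, e, hV, hmem, he⟩ := exists_gen_cover hL
  choose c hc using fun a b =>
    (he b).exists_coeff (inf_le_right : V a ⊓ V b ≤ V b) (res L inf_le_left (e a))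
  have hle : ∀ a b, U.ι ''ᵁ V a ⊓ U.ι ''ᵁ V b ≤ U.ι ''ᵁ (V a ⊓ V b) := by
    rintro a b _ ⟨⟨y, hy, rfl⟩, ⟨z, hz, hzy⟩⟩
    rw [U.ι.isOpenEmbedding.injective hzy] at hz
    exact ⟨y, ⟨hy, hz⟩, rfl⟩
  have hcc : ∀ a b d,
      resX (U : Scheme.{u}) (inf_le_inf_right _ inf_le_left : V a ⊓ V b ⊓ V d ≤ V a ⊓ V d) (c a d) =
      resX (U : Scheme.{u}) (inf_le_left : V a ⊓ V b ⊓ V d ≤ V a ⊓ V b) (c a b) *
        resX (U : Scheme.{u}) (inf_le_inf_right _ inf_le_right : V a ⊓ V b ⊓ V d ≤ V b ⊓ V d)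
          (c b d) := by
    intro a b d
    refine (he d).smul_inj inf_le_right ?_
    have h1 := congrArg (res L (inf_le_inf_right _ inf_le_left : V a ⊓ V b ⊓ V d ≤ V a ⊓ V d))
      (hc a d)
    have h2 := congrArg (res L (inf_le_left : V a ⊓ V b ⊓ V d ≤ V a ⊓ V b)) (hc a b)
    have h3 := congrArg (res L (inf_le_inf_right _ inf_le_right : V a ⊓ V b ⊓ V d ≤ V b ⊓ V d))
      (hc b d)
    simp only [res_smul, res_res] at h1 h2 h3 ⊢
    rw [mul_smul, ← h3, ← h2, ← h1]
  have hcu : ∀ a b, IsUnit (c a b) := by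
    intro a b
    exact ((he b).res inf_le_right).isUnit_of_smul (hc a b ▸ (he a).res inf_le_left)
  obtain ⟨L', s, hL', hs, hrel⟩ := exists_extension_cocycle (fun a => U.ι ''ᵁ V a)
    (fun a b => resX X (hle a b) (c a b)) (fun a b => (hcu a b).map _)
    (fun a b d => by
      have hle3 : U.ι ''ᵁ V a ⊓ U.ι ''ᵁ V b ⊓ U.ι ''ᵁ V d ≤ U.ι ''ᵁ (V a ⊓ V b ⊓ V d) := by
        rintro _ ⟨⟨⟨y, hy, rfl⟩, ⟨z, hz, hzy⟩⟩, ⟨w, hw, hwy⟩⟩
        rw [U.ι.isOpenEmbedding.injective hzy] at hz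
        rw [U.ι.isOpenEmbedding.injective hwy] at hw
        exact ⟨y, ⟨⟨hy, hz⟩, hw⟩, rfl⟩
      have := (congrArg (resX X hle3) (hcc a b d)).trans (map_mul (resX X hle3) _ _)
      change resX X hle3 (resX X (U.ι.image_mono (inf_le_inf_right _ inf_le_left)) (c a d)) =
        resX X hle3 (resX X (U.ι.image_mono inf_le_left) (c a b)) * resX X hle3
          (resX X (U.ι.image_mono (inf_le_inf_right _ inf_le_right)) (c b d)) at this
      simp only [resX_resX] at this ⊢
      exact this)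
    (fun x hx => hufd x fun hxU => hx ⟨x, hxU⟩ ⟨⟨x, hxU⟩, hmem _, rfl⟩)
  refine ⟨L', hL', ?_⟩
  obtain ⟨i, -⟩ := exists_iso_of_gen hV (L := L'.restrict U.ι) (M := L)
    (fun a => (s a : Γ(L', U.ι ''ᵁ V a))) (fun a => (hs a).to_restrict) e he fun a b r hr => by
      have h1 := congrArg (res L' (le_inf (U.ι.image_mono inf_le_left) (U.ι.image_mono inf_le_right) :
        U.ι ''ᵁ (V a ⊓ V b) ≤ U.ι ''ᵁ V a ⊓ U.ι ''ᵁ V b)) (hrel a b)
      simp only [res_smul, res_res, resX_resX, resX_self] at h1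
      have h2 : res L' (U.ι.image_mono (inf_le_left : V a ⊓ V b ≤ V a)) (s a) =
          HSMul.hSMul (α := Γ(X, U.ι ''ᵁ (V a ⊓ V b))) r
            (res L' (U.ι.image_mono (inf_le_right : V a ⊓ V b ≤ V b)) (s b)) :=
        hr.trans (restrict_smul U _ r _)
      have h3 := (hs b).smul_inj (U.ι.image_mono inf_le_right) (h1.symm.trans h2)
      rw [← h3]
      exact hc a b
  exact ⟨i⟩

end Groth.PicAux
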