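import Groth.Agent.Ega4Algebra1.RegularLocal
import Mathlib.LinearAlgebra.Matrix.ToLinearEquiv
import Mathlib.RingTheory.Ideal.Height
import Groth.Agent.Calg1.Misc
import Mathlib.RingTheory.UniqueFactorizationDomain.Kaplansky
import Mathlib.RingTheory.Localization.Ideal

/-!
# Auslander–Buchsbaum: regular local rings are factorial
-/

universe u

open IsLocalRing TensorProduct

namespace Groth.PicAux

section StablyFree

variable {B : Type u} [CommRing B]

/-- A stably free ideal of rank one is principal. -/
theorem exists_span_eq_of_stablyFree (P : Ideal B) {a : ℕ}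
    (e : (↥P × (Fin a → B)) ≃ₗ[B] (Fin (a + 1) → B)) :
    ∃ g, P = Ideal.span {g} := by
  classical
  let v : Fin a → Fin (a + 1) → B := fun i => e (0, Pi.single i 1)
  let ψ : ↥P →ₗ[B] B :=
    ((Matrix.detRowAlternating (R := B) (n := Fin (a + 1))).toMultilinearMap.toLinearMap
      (Fin.cons 0 v) 0).comp (e.toLinearMap.comp (LinearMap.inl B _ _))
  have hψ : ∀ p, ψ p = Matrix.det (Matrix.of (Fin.cons (e (p, 0)) v)) := fun p => by
    simp only [ψ, LinearMap.comp_apply, MultilinearMap.toLinearMap_apply, Fin.update_cons_zero]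
    rfl
  have hrange : LinearMap.range ψ = ⊤ := by
    by_contra hne
    obtain ⟨m, hm, hle⟩ := Ideal.exists_le_maximal (LinearMap.range ψ) hne
    let q := Ideal.Quotient.mk m
    let : Field (B ⧸ m) := Ideal.Quotient.field m
    let red : (Fin (a + 1) → B) → (Fin (a + 1) → B ⧸ m) := fun w i => q (w i)
    have hv : LinearIndependent (B ⧸ m) (fun i => red (v i)) := by
      rw [Fintype.linearIndependent_iff]
      intro c hc i
      choose c' hc' using fun j => Ideal.Quotient.mk_surjective (c j)
      have hw : ∀ k, (∑ j, c' j • v j) k ∈ m := fun k => by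
        rw [← Ideal.Quotient.eq_zero_iff_mem]
        have := congrFun hc k
        simp only [Finset.sum_apply, Pi.smul_apply, smul_eq_mul, map_sum, map_mul, red, q, hc',
          Pi.zero_apply] at this ⊢
        exact this
      have h1 : e.symm (∑ j, c' j • v j) = (0, c') := by
        simp only [map_sum, map_smul, v, LinearEquiv.symm_apply_apply]
        refine Prod.ext (by simp [Prod.fst_sum]) ?_
        simp only [Prod.snd_sum, Prod.smul_snd]
        exact (pi_eq_sum_univ' c').symm
      have h2 : ∀ (l : (Fin (a + 1) → B) →ₗ[B] B), l (∑ j, c' j • v j) ∈ m := fun l => by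
        rw [pi_eq_sum_univ' (∑ j, c' j • v j), map_sum]
        exact sum_mem fun k _ => by
          rw [map_smul, smul_eq_mul]
          exact m.mul_mem_right _ (hw k)
      have h3 := h2 ((LinearMap.proj i).comp ((LinearMap.snd B _ _).comp e.symm.toLinearMap))
      simp only [LinearMap.comp_apply, LinearEquiv.coe_coe, LinearMap.snd_apply, LinearMap.proj_apply,
        h1] at h3
      rw [← hc' i]
      exact Ideal.Quotient.eq_zero_iff_mem.2 h3
    have hmem : ∀ w, red w ∈ Submodule.span (B ⧸ m) (Set.range fun i => red (v i)) := by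
      intro w
      have hdec : w = e ((e.symm w).1, 0) + ∑ i, (e.symm w).2 i • v i := by
        simp only [v, ← map_smul, ← map_sum, ← map_add]
        conv_lhs => rw [← e.apply_symm_apply w]
        congr 1
        refine Prod.ext (by simp [Prod.fst_sum]) ?_
        simp only [Prod.snd_add, Prod.snd_sum, Prod.smul_snd, zero_add]
        exact pi_eq_sum_univ' _
      have hu : red (e ((e.symm w).1, 0)) ∈
          Submodule.span (B ⧸ m) (Set.range fun i => red (v i)) := by
        by_contra hns
        have hli : LinearIndependent (B ⧸ m)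
            (Fin.cons (red (e ((e.symm w).1, 0))) fun i => red (v i) : Fin (a + 1) → _) :=
          linearIndependent_finCons.2 ⟨hv, hns⟩
        have hdet : Matrix.det (Matrix.of (Fin.cons (red (e ((e.symm w).1, 0))) fun i => red (v i) :
            Fin (a + 1) → Fin (a + 1) → B ⧸ m)) ≠ 0 := by
          exact IsUnit.ne_zero ((Matrix.isUnit_iff_isUnit_det _).1
            (Matrix.linearIndependent_rows_iff_isUnit.1 hli))
        apply hdet
        have := Ideal.Quotient.eq_zero_iff_mem.2 (hle ⟨(e.symm w).1, rfl⟩)
        rw [hψ, RingHom.map_det] at this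
        convert this using 2
        ext i j
        cases i using Fin.cases <;> simp [red, q]
      have : red w = red (e ((e.symm w).1, 0)) +
          ∑ i, q ((e.symm w).2 i) • red (v i) := by
        conv_lhs => rw [hdec]
        ext k
        simp [red, q, Finset.sum_apply]
      rw [this]
      exact add_mem hu (sum_mem fun i _ => Submodule.smul_mem _ _ (Submodule.subset_span ⟨i, rfl⟩))
    have htop : Submodule.span (B ⧸ m) (Set.range fun i => red (v i)) = ⊤ := by
      refine eq_top_iff.2 fun x _ => ?_
      choose x' hx' using fun k => Ideal.Quotient.mk_surjective (x k)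
      have : red x' = x := funext hx'
      exact this ▸ hmem x'
    have := finrank_range_le_card (R := B ⧸ m) (fun i => red (v i))
    rw [Set.finrank, htop, finrank_top] at this
    simp at this
  obtain ⟨p, hp⟩ : (1 : B) ∈ LinearMap.range ψ := hrange ▸ Submodule.mem_top
  refine ⟨p.1, le_antisymm (fun q hq => ?_) ((Ideal.span_singleton_le_iff_mem (I := P)).2 p.2)⟩
  have h : p.1 • (⟨q, hq⟩ : ↥P) = q • p := Subtype.ext (mul_comm _ _)
  have := congrArg ψ h
  rw [map_smul, map_smul, hp, smul_eq_mul, smul_eq_mul, mul_one] at this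
  exact Ideal.mem_span_singleton.2 ⟨_, this.symm⟩

/-- An ideal of a domain that is locally principal is projective. -/
theorem projective_of_locally_principal [IsDomain B] (P : Ideal B)
    (h : ∀ m : Ideal B, m.IsMaximal → ∃ g ∈ P, g ≠ 0 ∧ ∃ s ∉ m, ∀ p ∈ P, g ∣ s * p) :
    Module.Projective B P := by
  classical
  let T : Set B := {t | ∃ (φ : P →ₗ[B] B) (g : P), ∀ p : P, φ p * g.1 = t * p.1}
  have hT : Ideal.span T = ⊤ := by
    by_contra hne
    obtain ⟨m, hm, hle⟩ := Ideal.exists_le_maximal _ hne
    obtain ⟨g, hg, hg0, s, hs, hdvd⟩ := h m hm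
    choose c hc using fun p : P => hdvd p.1 p.2
    refine hs (hle (Ideal.subset_span ⟨⟨⟨c, fun x y => ?_⟩, fun r x => ?_⟩, ⟨g, hg⟩,
      fun p => (mul_comm _ _).trans (hc p).symm⟩))
    · exact mul_left_cancel₀ hg0 (by rw [mul_add, ← hc, ← hc, ← hc, Submodule.coe_add, mul_add])
    · exact mul_left_cancel₀ hg0 (by
        rw [← hc, SetLike.val_smul, smul_eq_mul, smul_eq_mul, RingHom.id_apply, mul_left_comm,
          hc x, mul_left_comm])
  obtain ⟨c, hcT, hsum⟩ := Submodule.mem_span_set.1
    (show (1 : B) ∈ Submodule.span B T from (hT.symm ▸ Submodule.mem_top : (1 : B) ∈ Ideal.span T))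
  choose φ g hφ using fun t : c.support => hcT t.2
  refine Module.Projective.of_split (M := c.support → B)
    (LinearMap.pi fun t => c t.1 • φ t) (Fintype.linearCombination B g) ?_
  ext p
  simp only [LinearMap.comp_apply, LinearMap.id_apply, Fintype.linearCombination_apply,
    LinearMap.pi_apply, LinearMap.smul_apply, Submodule.coe_sum, SetLike.val_smul, smul_eq_mul,
    mul_assoc, hφ]
  calc ∑ t : c.support, c t.1 * (t.1 * p.1) = (∑ t : c.support, c t.1 * t.1) * p.1 := by
        rw [Finset.sum_mul]; simp only [mul_assoc]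
    _ = p.1 := by
        rw [show ∑ t : c.support, c t.1 * t.1 = c.sum fun t r => r • t from
          Finset.sum_coe_sort c.support fun t => c t * t, hsum, one_mul]

end StablyFree

end Groth.PicAux

namespace Groth.PicAux

open Groth.Ega4Algebra1

section Resolution

variable {A : Type u} [CommRing A] [IsLocalRing A] [IsNoetherianRing A]
  (B : Type u) [CommRing B] [Algebra A B] [Module.Flat A B]

/-- Base change of a module of finite projective dimension: if projective then stably free. -/
theorem stablyFree_baseChange (n : ℕ) :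
    ∀ (M : Type u) [AddCommGroup M] [Module A M] [Module.Finite A M], PdLT A M (n + 1) →
      Module.Projective B (B ⊗[A] M) →
      ∃ a b : ℕ, Nonempty (((B ⊗[A] M) × (Fin a → B)) ≃ₗ[B] (Fin b → B)) := by
  induction n with
  | zero =>
    intro M _ _ _ h _
    rw [PdLT.one_iff] at h
    have : Module.FinitePresentation A M := Module.finitePresentation_of_finite A M
    have : Module.Free A M := Module.free_of_flat_of_isLocalRing
    let bb := (Module.Free.chooseBasis A M).baseChange B
    let e0 : Fin 0 → B := 0
    refine ⟨0, Fintype.card (Module.Free.ChooseBasisIndex A M),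
      ⟨(LinearEquiv.prodUnique (R := B) (M := B ⊗[A] M) (M₂ := Fin 0 → B)).trans
        ((bb.reindex (Fintype.equivFin _)).equivFun)⟩⟩
  | succ n ih =>
    intro M _ _ _ h hP
    obtain ⟨k, f, hf⟩ := exists_surjective_fin A M
    have hK := (PdLT.ker_iff f hf n).mp h
    have hfB : Function.Surjective (f.baseChange B) := LinearMap.lTensor_surjective B hf
    obtain ⟨eK⟩ := exists_equiv_ker_baseChange B f
    obtain ⟨s, hs⟩ := Module.projective_lifting_property (f.baseChange B) LinearMap.id hfB
    have hs' : ∀ z, f.baseChange B (s z) = z := fun z => LinearMap.congr_fun hs z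
    let split : (B ⊗[A] (Fin k → A)) ≃ₗ[B] (LinearMap.ker (f.baseChange B)) × (B ⊗[A] M) :=
      { toFun := fun z => (⟨z - s (f.baseChange B z), by simp [hs']⟩, f.baseChange B z)
        map_add' := fun x y => Prod.ext (Subtype.ext (by simp; abel)) (by simp)
        map_smul' := fun r x => Prod.ext (Subtype.ext (by simp [smul_sub])) (by simp)
        invFun := fun z => z.1.1 + s z.2
        left_inv := fun z => by simp
        right_inv := fun z => by
          obtain ⟨⟨w, hw⟩, y⟩ := z
          have hw' : f.baseChange B w = 0 := hw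
          refine Prod.ext (Subtype.ext ?_) ?_ <;> simp [hw', hs'] }
    have : Module.Projective B (LinearMap.ker (f.baseChange B)) :=
      Module.Projective.of_split (split.symm.toLinearMap.comp (LinearMap.inl B _ _))
        ((LinearMap.fst B _ _).comp split.toLinearMap) (LinearMap.ext fun z => by simp)
    have hPK : Module.Projective B (B ⊗[A] LinearMap.ker f) := Module.Projective.of_equiv eK.symm
    obtain ⟨a, b, ⟨e⟩⟩ := ih (LinearMap.ker f) hK hPK
    let bk : (B ⊗[A] (Fin k → A)) ≃ₗ[B] (Fin k → B) :=
      ((Pi.basisFun A (Fin k)).baseChange B).equivFun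
    refine ⟨b, k + a, ⟨?_⟩⟩
    let e1 : ((B ⊗[A] M) × (Fin b → B)) ≃ₗ[B]
        (((B ⊗[A] M) × (B ⊗[A] LinearMap.ker f)) × (Fin a → B)) :=
      (LinearEquiv.prodCongr (LinearEquiv.refl B (B ⊗[A] M)) e.symm).trans
        (LinearEquiv.prodAssoc B _ _ _).symm
    let e2 : ((B ⊗[A] M) × (B ⊗[A] LinearMap.ker f)) ≃ₗ[B] (Fin k → B) :=
      (LinearEquiv.prodComm B _ _).trans
        ((LinearEquiv.prodCongr eK (LinearEquiv.refl B (B ⊗[A] M))).trans (split.symm.trans bk))
    let e3 : ((Fin k → B) × (Fin a → B)) ≃ₗ[B] (Fin (k + a) → B) :=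
      (LinearEquiv.sumArrowLequivProdArrow (Fin k) (Fin a) B B).symm.trans
        (LinearEquiv.funCongrLeft B B finSumFinEquiv.symm)
    exact e1.trans ((LinearEquiv.prodCongr e2 (LinearEquiv.refl B (Fin a → B))).trans e3)

omit [IsLocalRing A] [IsNoetherianRing A] in
theorem exists_equiv_map_ideal (I : Ideal A) :
    Nonempty ((B ⊗[A] I) ≃ₗ[B] (I.map (algebraMap A B) : Ideal B)) := by
  let g : (B ⊗[A] I) →ₗ[B] B :=
    (TensorProduct.AlgebraTensorModule.rid A B B).toLinearMap.comp (I.subtype.baseChange B)
  have hinj : Function.Injective g :=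
    (TensorProduct.AlgebraTensorModule.rid A B B).injective.comp
      (Module.Flat.lTensor_preserves_injective_linearMap _ (Submodule.subtype_injective _))
  have hg : ∀ (b : B) (x : I), g (b ⊗ₜ x) = b * algebraMap A B x := fun b x => by
    simp [g, Algebra.smul_def, mul_comm]
  refine ⟨(LinearEquiv.ofInjective g hinj).trans (LinearEquiv.ofEq _ _ (le_antisymm ?_ ?_))⟩
  · rintro _ ⟨z, rfl⟩
    induction z using TensorProduct.induction_on with
    | zero => simp
    | tmul b x => rw [hg]; exact Ideal.mul_mem_left _ _ (Ideal.mem_map_of_mem _ x.2)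
    | add x y hx hy => rw [map_add]; exact add_mem hx hy
  · refine Ideal.span_le.2 ?_
    rintro _ ⟨x, hx, rfl⟩
    exact ⟨1 ⊗ₜ ⟨x, hx⟩, by rw [hg, one_mul]⟩

/-- A locally principal ideal of a localization of `A` which has finite projective dimension is
principal. -/
theorem exists_span_eq_map [IsDomain B] [IsNoetherianRing B] (n : ℕ) (I : Ideal A)
    (hI : PdLT A I (n + 1)) (hne : I.map (algebraMap A B) ≠ ⊥)
    (hproj : Module.Projective B (I.map (algebraMap A B) : Ideal B)) :
    ∃ g, I.map (algebraMap A B) = Ideal.span {g} := by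
  obtain ⟨eI⟩ := exists_equiv_map_ideal B I
  have : Module.Projective B (B ⊗[A] I) := Module.Projective.of_equiv eI.symm
  obtain ⟨a, b, ⟨e⟩⟩ := stablyFree_baseChange B n I hI this
  let e' : (↥(I.map (algebraMap A B)) × (Fin a → B)) ≃ₗ[B] (Fin b → B) :=
    (LinearEquiv.prodCongr eI.symm (LinearEquiv.refl B _)).trans e
  obtain ⟨p, hp, hp0⟩ := Submodule.exists_mem_ne_zero_of_ne_bot hne
  have hb : b = a + 1 := by
    have h1 : Function.Injective ((e'.toLinearMap.comp
        (LinearMap.prodMap (LinearMap.toSpanSingleton B _ (⟨p, hp⟩ : ↥(I.map (algebraMap A B))))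
          LinearMap.id)).comp
        (LinearEquiv.funUnique (Fin 1) B B |>.prodCongr (LinearEquiv.refl B (Fin a → B))).toLinearMap) := by
      simp only [LinearMap.coe_comp, LinearEquiv.coe_coe]
      refine (e'.injective.comp ?_).comp (LinearEquiv.injective _)
      rintro ⟨x, v⟩ ⟨y, w⟩ h
      simp only [LinearMap.prodMap_apply, LinearMap.toSpanSingleton_apply, LinearMap.id_apply,
        Prod.mk.injEq] at h
      exact Prod.ext (mul_right_cancel₀ hp0 (congrArg Subtype.val h.1)) h.2
    have h2 : Function.Injective (((LinearEquiv.funUnique (Fin 1) B B).symm.toLinearMap.comp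
        (I.map (algebraMap A B)).subtype).prodMap (LinearMap.id (M := Fin a → B)) ∘ₗ
          e'.symm.toLinearMap) := by
      simp only [LinearMap.coe_comp, LinearEquiv.coe_coe, LinearMap.coe_prodMap]
      exact (Function.Injective.prodMap ((LinearEquiv.injective _).comp Subtype.val_injective)
        (fun _ _ h => h)).comp e'.symm.injective
    let sum := (LinearEquiv.sumArrowLequivProdArrow (Fin 1) (Fin a) B B)
    have l1 := card_le_of_injective B (((e'.toLinearMap.comp
        (LinearMap.prodMap (LinearMap.toSpanSingleton B _ (⟨p, hp⟩ : ↥(I.map (algebraMap A B))))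
          LinearMap.id)).comp
        (LinearEquiv.funUnique (Fin 1) B B |>.prodCongr (LinearEquiv.refl B (Fin a → B))).toLinearMap).comp
        sum.toLinearMap) (h1.comp sum.injective)
    have l2 := card_le_of_injective B (sum.symm.toLinearMap.comp
      (((LinearEquiv.funUnique (Fin 1) B B).symm.toLinearMap.comp
        (I.map (algebraMap A B)).subtype).prodMap (LinearMap.id (M := Fin a → B)) ∘ₗ
          e'.symm.toLinearMap)) (sum.symm.injective.comp h2)
    simp only [Fintype.card_sum, Fintype.card_fin] at l1 l2
    omega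
  subst hb
  exact exists_span_eq_of_stablyFree _ e'

end Resolution

/-- In a Noetherian domain whose local rings are factorial, a prime minimal over a principal ideal
is locally principal. -/
theorem locally_principal_of_minimalPrime {B : Type u} [CommRing B] [IsDomain B] [IsNoetherianRing B]
    (hufd : ∀ (m : Ideal B) [m.IsMaximal], UniqueFactorizationMonoid (Localization.AtPrime m))
    {a : B} (ha : a ≠ 0) {P : Ideal B} (hP : P ∈ (Ideal.span {a}).minimalPrimes)
    (m : Ideal B) [m.IsMaximal] :
    ∃ g ∈ P, g ≠ 0 ∧ ∃ s ∉ m, ∀ p ∈ P, g ∣ s * p := by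
  have := hufd m
  have haP : a ∈ P := hP.1.2 (Ideal.mem_span_singleton_self a)
  have hPp : P.IsPrime := hP.1.1
  by_cases hPm : P ≤ m
  swap
  · obtain ⟨s, hsP, hsm⟩ := SetLike.not_le_iff_exists.1 hPm
    exact ⟨s, hsP, fun e => hsm (e ▸ m.zero_mem), s, hsm, fun p _ => dvd_mul_right s p⟩
  let L := Localization.AtPrime m
  have hinj : Function.Injective (algebraMap B L) :=
    IsLocalization.injective L m.primeCompl_le_nonZeroDivisors
  have hdisj : Disjoint (m.primeCompl : Set B) P := by
    rw [Set.disjoint_left]
    exact fun x hx hxP => hx (hPm hxP)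
  have hQ : (P.map (algebraMap B L)).IsPrime :=
    IsLocalization.isPrime_of_isPrime_disjoint m.primeCompl L P hPp hdisj
  obtain ⟨f, hf, ⟨v, hv⟩⟩ := UniqueFactorizationMonoid.exists_prime_factors (algebraMap B L a)
    ((map_ne_zero_iff _ hinj).2 ha)
  have : f.prod * (v : L) ∈ P.map (algebraMap B L) := hv ▸ Ideal.mem_map_of_mem _ haP
  obtain ⟨π, hπf, hπ⟩ := (hQ.multiset_prod_mem_iff_exists_mem f).1
    ((hQ.mem_or_mem this).resolve_right fun h =>
      hQ.ne_top (Ideal.eq_top_of_isUnit_mem _ h v.isUnit))
  obtain ⟨⟨g, t⟩, hgt⟩ := IsLocalization.surj m.primeCompl π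
  have hcomap : (P.map (algebraMap B L)).comap (algebraMap B L) = P :=
    IsLocalization.under_map_of_isPrime_disjoint m.primeCompl L hPp hdisj
  have hgP : g ∈ P := hcomap ▸ (show algebraMap B L g ∈ P.map (algebraMap B L) from
    hgt ▸ Ideal.mul_mem_right _ _ hπ)
  have hπp := hf π hπf
  have := (Ideal.span_singleton_prime hπp.ne_zero).2 hπp
  have hle : (Ideal.span {π}).comap (algebraMap B L) ≤ P :=
    (Ideal.comap_mono ((Ideal.span_singleton_le_iff_mem (I := P.map (algebraMap B L))).2 hπ)).trans
      hcomap.le
  have heq : P ≤ (Ideal.span {π}).comap (algebraMap B L) := by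
    refine hP.2 ⟨inferInstance, (Ideal.span_singleton_le_iff_mem
      (I := (Ideal.span {π}).comap (algebraMap B L))).2 ?_⟩ hle
    rw [Ideal.mem_comap, ← hv]
    exact Ideal.mul_mem_right _ _ (Ideal.mem_span_singleton.2 (Multiset.dvd_prod hπf))
  have hg0 : g ≠ 0 := fun e => by
    simp only [e, map_zero] at hgt
    exact (mul_ne_zero hπp.ne_zero ((map_ne_zero_iff _ hinj).2
      fun h => t.2 (show (t : B) ∈ m from (show (t : B) = 0 from h) ▸ m.zero_mem))) hgt
  have hloc : ∀ p ∈ P, ∃ s ∉ m, g ∣ s * p := by
    intro p hp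
    obtain ⟨c, hc⟩ := Ideal.mem_span_singleton.1 (heq hp)
    obtain ⟨⟨b, t'⟩, hb⟩ := IsLocalization.surj m.primeCompl c
    refine ⟨t'.1 * t.1, fun h => (Ideal.IsPrime.mem_or_mem inferInstance h).elim t'.2 t.2,
      b, hinj ?_⟩
    rw [map_mul, map_mul, map_mul, hc, ← hgt, ← hb]
    ring
  obtain ⟨T, hT⟩ := IsNoetherian.noetherian P
  choose s hs hsd using fun p : T => hloc p.1 (hT ▸ Submodule.subset_span p.2)
  refine ⟨g, hgP, hg0, ∏ p, s p, ?_, fun p hp => ?_⟩
  · exact (m.primeCompl).prod_mem fun p _ => hs p
  · have : Submodule.span B (T : Set B) ≤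
        Submodule.comap (LinearMap.mulLeft B (∏ p, s p)) (Ideal.span {g}) := by
      refine Submodule.span_le.2 fun x hx => ?_
      change (∏ p, s p) * x ∈ Ideal.span {g}
      rw [Ideal.mem_span_singleton]
      exact (hsd ⟨x, hx⟩).trans (mul_dvd_mul_right (Finset.dvd_prod_of_mem s (Finset.mem_univ _)) _)
    exact Ideal.mem_span_singleton.1 (this (hT.symm ▸ hp))

/-- **Auslander–Buchsbaum**: a regular local ring is factorial. -/
theorem ufd_of_isRegularLocalRing (A : Type u) [CommRing A] [IsRegularLocalRing A] :
    UniqueFactorizationMonoid A := by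
  induction hn : (maximalIdeal A).spanFinrank using Nat.strong_induction_on generalizing A with
  | _ n ih =>
  have := isDomain_of_isRegularLocalRing A
  by_cases hbot : maximalIdeal A = ⊥
  · letI := (isField_iff_maximalIdeal_eq.mpr hbot).toField
    infer_instance
  obtain ⟨x, hx, hx2, -⟩ := exists_mem_notMem_notMem (maximalIdeal_not_le_sq hbot)
    (S := ∅) Set.finite_empty (fun _ h => h.elim) (fun _ h => h.elim)
  have hx0 : x ≠ 0 := fun h => hx2 (h ▸ zero_mem _)
  obtain ⟨hq, -⟩ := isRegularLocalRing_quotient_span_singleton hx hx2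
  have := isDomain_of_isRegularLocalRing (A ⧸ Ideal.span {x})
  have hxp : Prime x := (Ideal.span_singleton_prime hx0).1
    ((Ideal.Quotient.isDomain_iff_prime _).1 inferInstance)
  let S := Submonoid.closure ({x} : Set A)
  have hS : S ≤ nonZeroDivisors A :=
    Submonoid.closure_le.2 (by simpa using mem_nonZeroDivisors_of_ne_zero hx0)
  let B := Localization S
  have : IsDomain B := IsLocalization.isDomain_of_le_nonZeroDivisors B hS
  have : IsNoetherianRing B := IsLocalization.isNoetherianRing S B inferInstance
  have : Module.Flat A B := IsLocalization.flat B S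
  have hufd : ∀ (m : Ideal B) [m.IsMaximal], UniqueFactorizationMonoid (Localization.AtPrime m) := by
    intro m _
    let q := m.comap (algebraMap A B)
    have hq' : IsRegularLocalRing (Localization.AtPrime q) :=
      isRegularLocalRing_localization_atPrime A q
    have hxq : x ∉ q := fun h => ‹m.IsMaximal›.ne_top (Ideal.eq_top_of_isUnit_mem m h
      (IsLocalization.map_units B ⟨x, Submonoid.mem_closure_singleton_self⟩))
    have hlt : q < maximalIdeal A :=
      lt_of_le_of_ne (le_maximalIdeal (Ideal.IsPrime.ne_top inferInstance)) fun e => hxq (e ▸ hx)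
    have hdim : (maximalIdeal (Localization.AtPrime q)).spanFinrank < n := by
      have h1 := IsRegularLocalRing.spanFinrank_maximalIdeal (R := Localization.AtPrime q)
      have h2 := IsRegularLocalRing.spanFinrank_maximalIdeal (R := A)
      rw [IsLocalization.AtPrime.ringKrullDim_eq_height q (Localization.AtPrime q)] at h1
      rw [← IsLocalRing.maximalIdeal_height_eq_ringKrullDim] at h2
      have hfin : (maximalIdeal A).FiniteHeight := inferInstance
      have h3 := Ideal.height_strict_mono_of_isPrime_of_isPrime hlt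
      have h1' : ((maximalIdeal (Localization.AtPrime q)).spanFinrank : ℕ∞) = q.height := by
        exact_mod_cast h1
      have h2' : ((maximalIdeal A).spanFinrank : ℕ∞) = (maximalIdeal A).height := by
        exact_mod_cast h2
      rw [← h1', ← h2', hn] at h3
      exact_mod_cast h3
    have := ih _ hdim (Localization.AtPrime q) rfl
    exact MulEquiv.uniqueFactorizationMonoid
      (IsLocalization.algEquiv q.primeCompl (Localization.AtPrime q)
        (Localization.AtPrime m)).toRingEquiv.toMulEquiv this
  have hB : UniqueFactorizationMonoid B := by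
    refine UniqueFactorizationMonoid.iff_exists_prime_mem_of_isPrime.2 fun Q hQ hQp => ?_
    obtain ⟨a, haQ, ha⟩ := Submodule.exists_mem_ne_zero_of_ne_bot hQ
    obtain ⟨P, hP, hPQ⟩ := Ideal.exists_minimalPrimes_le
      ((Ideal.span_singleton_le_iff_mem (I := Q)).2 haQ)
    have hPne : P ≠ ⊥ := fun e => ha (by simpa [e] using hP.1.2 (Ideal.mem_span_singleton_self a))
    have hmap : (P.comap (algebraMap A B)).map (algebraMap A B) = P :=
      IsLocalization.map_under S B P
    have hproj : Module.Projective B P := projective_of_locally_principal P fun m hm =>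
      locally_principal_of_minimalPrime hufd ha hP m
    obtain ⟨g, hg⟩ := exists_span_eq_map B n (P.comap (algebraMap A B))
      (hn ▸ pdLT_of_isRegularLocalRing A _ rfl _) (hmap.symm ▸ hPne) (hmap.symm ▸ hproj)
    rw [hmap] at hg
    have hg0 : g ≠ 0 := fun e => hPne (by simp [hg, e])
    exact ⟨g, hPQ (hg ▸ Ideal.mem_span_singleton_self g),
      (Ideal.span_singleton_prime hg0).1 (hg ▸ hP.1.1)⟩
  exact Calg1.ufd_of_ufd_localization
    (fun a ha _ => WfDvdMonoid.exists_factors a ha) {x} (by simpa using hxp) hB

end Groth.PicAux
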