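import Groth.Agent.PicAux.Sections
import Groth.Agent.PicAux.GenLocal
import Groth.Agent.PicAux.Pullback

/-!
# Invertible modules along morphisms with `f_* O = O`
-/

universe u

open CategoryTheory AlgebraicGeometry Opposite TopologicalSpace

namespace Groth.PicAux

variable {X S : Scheme.{u}} (f : X ⟶ S)

/-- A section of `M` over `f⁻¹U` seen as a section of `f_*M` over `U`. -/
noncomputable def pushSec (M : X.Modules) {U : S.Opens} (m : Γ(M, f ⁻¹ᵁ U)) :
    Γ((Scheme.Modules.pushforward f).obj M, U) := m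

/-- A section of `f_*M` over `U` seen as a section of `M` over `f⁻¹U`. -/
noncomputable def unpush {M : X.Modules} {U : S.Opens}
    (m : Γ((Scheme.Modules.pushforward f).obj M, U)) : Γ(M, f ⁻¹ᵁ U) := m

theorem unpush_smul_res {M : X.Modules} {U V : S.Opens} (h : V ≤ U) (r : Γ(S, V))
    (e : Γ(M, f ⁻¹ᵁ U)) :
    unpush f (r • res ((Scheme.Modules.pushforward f).obj M) h (pushSec f M e)) =
      f.app V r • res M (f.preimage_mono h) e := rfl

theorem gen_pushSec (hf : ∀ U : S.Opens, Function.Bijective (f.app U)) {M : X.Modules}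
    {U : S.Opens} {e : Γ(M, f ⁻¹ᵁ U)} (he : Gen M (f ⁻¹ᵁ U) e) :
    Gen ((Scheme.Modules.pushforward f).obj M) U (pushSec f M e) := by
  intro V hV
  have h1 : Function.Bijective fun r : Γ(S, V) =>
      unpush f (r • res ((Scheme.Modules.pushforward f).obj M) hV (pushSec f M e)) := by
    have h2 := (he _ (f.preimage_mono hV)).comp (hf V)
    convert h2 using 1
    funext r
    rfl
  exact h1

theorem isIso_unit_of_invertible (hf : ∀ U : S.Opens, Function.Bijective (f.app U)) {N : S.Modules}
    (hN : PicF.IsInvertible N) :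
    IsIso ((Scheme.Modules.pullbackPushforwardAdjunction f).unit.app N) := by
  obtain ⟨U, e, hU, -, he⟩ := exists_gen_cover hN
  refine isIso_of_cover hU _ fun i V hV => ?_
  have h1 : Function.Bijective fun r : Γ(S, V) =>
      r • res _ hV (pushSec f _ (pullSec f N (e i))) :=
    gen_pushSec f hf ((he i).pull f) V hV
  have h2 := he i V hV
  set φ := (Scheme.Modules.pullbackPushforwardAdjunction f).unit.app N
  have h3 : (φ.app V : Γ(N, V) → _) ∘ (fun r : Γ(S, V) => r • res N hV (e i)) =
      fun r => r • res _ hV (pushSec f _ (pullSec f N (e i))) := by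
    funext r
    exact (φ.app_smul r _).trans (congrArg (fun z => r • z) (app_res φ hV (e i)))
  rw [← h3] at h1
  exact (Function.Bijective.of_comp_iff _ h2).1 h1

theorem counit_pullSec (M : X.Modules) {U : S.Opens} (e : Γ(M, f ⁻¹ᵁ U)) :
    ((Scheme.Modules.pullbackPushforwardAdjunction f).counit.app M).app (f ⁻¹ᵁ U)
      (pullSec f _ (pushSec f M e)) = e :=
  congr(($((Scheme.Modules.pullbackPushforwardAdjunction f).right_triangle_components M)).app U
    (pushSec f M e))

theorem bijective_of_gen_map {Y : Scheme.{u}} {L M : Y.Modules} (φ : L ⟶ M) {U : Y.Opens}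
    {s : Γ(L, U)} (hs : Gen L U s) (hφ : Gen M U (φ.app U s)) {V : Y.Opens} (hV : V ≤ U) :
    Function.Bijective (φ.app V) := by
  have h : (φ.app V : Γ(L, V) → Γ(M, V)) ∘ (fun r : Γ(Y, V) => r • res L hV s) =
      fun r => r • res M hV (φ.app U s) := by
    funext r
    simp [app_res]
  have := hφ V hV
  rw [← h] at this
  exact (Function.Bijective.of_comp_iff _ (hs V hV)).1 this

theorem pushforward_invertible_and_counit (hf : ∀ U : S.Opens, Function.Bijective (f.app U))
    {L : X.Modules} {ι : Type*} (U : ι → S.Opens) (hU : iSup U = ⊤)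
    (e : ∀ i, Γ(L, f ⁻¹ᵁ U i)) (he : ∀ i, Gen L (f ⁻¹ᵁ U i) (e i)) :
    PicF.IsInvertible ((Scheme.Modules.pushforward f).obj L) ∧
      IsIso ((Scheme.Modules.pullbackPushforwardAdjunction f).counit.app L) := by
  refine ⟨isInvertible_of_gen_cover U hU _ fun i => gen_pushSec f hf (he i), ?_⟩
  have hU' : iSup (fun i => f ⁻¹ᵁ U i) = ⊤ := by
    refine eq_top_iff.2 fun x _ => ?_
    obtain ⟨i, hi⟩ := Opens.mem_iSup.1 (hU.symm ▸ trivial : f x ∈ iSup U)
    exact Opens.mem_iSup.2 ⟨i, hi⟩
  refine isIso_of_cover hU' _ fun i V hV => ?_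
  refine bijective_of_gen_map _ ((gen_pushSec f hf (he i)).pull f) ?_ hV
  exact (counit_pullSec f L (e i)).symm ▸ he i

theorem exists_gen_of_pullback_iso {M : X.Modules} {U : X.Opens}
    (h : Nonempty ((Scheme.Modules.pullback U.ι).obj M ≅ Coh.structureModule (U : Scheme.{u}))) :
    ∃ e : Γ(M, U), Gen M U e :=
  (nonempty_restrict_iso_iff U).1
    ⟨(Scheme.Modules.restrictFunctorIsoPullback U.ι).app M ≪≫ h.some⟩

end Groth.PicAux
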