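import Groth.Agent.PicAux.Sections
import Groth.Agent.PicAux.GenLocal
import Groth.Agent.PicAux.Pullback
import Groth.Agent.PicAux.PushPull
import Groth.Prelude.Def_FlatMod2
import Mathlib.CategoryTheory.Limits.Shapes.BinaryBiproducts

/-!
# Finite bases of modules: pullback and pushforward
-/

universe u

open CategoryTheory CategoryTheory.Limits AlgebraicGeometry Opposite TopologicalSpace

namespace Groth.PicAux

variable {X Y : Scheme.{u}}

/-- The finite family `s` is a basis of `M` over every open inside `U`. -/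
def Basis' {n : ℕ} (M : X.Modules) (U : X.Opens) (s : Fin n → Γ(M, U)) : Prop :=
  ∀ (V : X.Opens) (h : V ≤ U),
    Function.Bijective fun r : Fin n → Γ(X, V) => ∑ i, r i • res M h (s i)

theorem res_sum {M : X.Modules} {U V : X.Opens} (h : V ≤ U) {κ : Type*} (t : Finset κ)
    (x : κ → Γ(M, U)) : res M h (∑ i ∈ t, x i) = ∑ i ∈ t, res M h (x i) :=
  map_sum (M.presheaf.map (homOfLE h).op).hom x t

theorem Basis'.res' {n : ℕ} {M : X.Modules} {U V : X.Opens} {s : Fin n → Γ(M, U)}
    (hs : Basis' M U s) (h : V ≤ U) : Basis' M V (fun i => res M h (s i)) := by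
  intro W hW
  simpa using hs W (hW.trans h)

theorem Basis'.map {n : ℕ} {M N : X.Modules} {U : X.Opens} {s : Fin n → Γ(M, U)}
    (hs : Basis' M U s) (φ : M ⟶ N) [IsIso φ] : Basis' N U (fun i => φ.app U (s i)) := by
  intro V h
  have e : (fun r : Fin n → Γ(X, V) => ∑ i, r i • res N h (φ.app U (s i))) =
      (φ.app V : Γ(M, V) → Γ(N, V)) ∘ fun r => ∑ i, r i • res M h (s i) := by
    funext r
    simp [map_sum, app_res]
  rw [e]
  exact (ConcreteCategory.bijective_of_isIso (φ.app V)).comp (hs V h)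

theorem sum_app {M N : X.Modules} {κ : Type*} (t : Finset κ) (φ : κ → (M ⟶ N)) (V : X.Opens)
    (x : Γ(M, V)) : (∑ i ∈ t, φ i).app V x = ∑ i ∈ t, (φ i).app V x := by
  classical
  induction t using Finset.induction_on with
  | empty => simp
  | insert a t ha ih =>
    rw [Finset.sum_insert ha, Finset.sum_insert ha, Scheme.Modules.Hom.add_app]
    exact congrArg (fun z => (φ a).app V x + z) ih

/-- A splitting of the identity by maps through `O_X`. -/
structure Split' (n : ℕ) (M : X.Modules) where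
  s : Fin n → (Coh.structureModule X ⟶ M)
  p : Fin n → (M ⟶ Coh.structureModule X)
  diag : ∀ i, s i ≫ p i = 𝟙 _
  off : ∀ i j, i ≠ j → s i ≫ p j = 0
  total : ∑ i, p i ≫ s i = 𝟙 M

theorem Split'.basis {n : ℕ} {M : X.Modules} (d : Split' n M) :
    Basis' M ⊤ (fun i => (d.s i).app ⊤ (oneSec X ⊤)) := by
  intro V hV
  have key : ∀ m : Γ(M, V), ∑ i, toFun ((d.p i).app V m) • res M hV ((d.s i).app ⊤ (oneSec X ⊤)) = m := by
    intro m
    have := congr(($(d.total)).app V m)
    rw [sum_app] at this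
    refine Eq.trans (Finset.sum_congr rfl fun i _ => ?_) this
    exact (hom_structure_apply (d.s i) V _).symm
  refine ⟨fun r r' e => funext fun j => ?_, fun m => ⟨_, key m⟩⟩
  have hj : ∀ r : Fin n → Γ(X, V),
      toFun ((d.p j).app V (∑ i, r i • res M hV ((d.s i).app ⊤ (oneSec X ⊤)))) = r j := by
    intro r
    have h1 : ∀ i, (d.p j).app V (r i • res M hV ((d.s i).app ⊤ (oneSec X ⊤))) =
        r i • res _ hV ((d.s i ≫ d.p j).app ⊤ (oneSec X ⊤)) := by
      intro i
      rw [Scheme.Modules.Hom.app_smul, app_res]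
      rfl
    rw [map_sum, Finset.sum_congr rfl fun i _ => h1 i, Finset.sum_eq_single j]
    · rw [d.diag j]
      simp [toFun_smul]
      exact (mul_one _)
    · intro i _ hij
      rw [d.off i j hij]
      simp
    · simp
  have := congrArg (fun z => toFun ((d.p j).app V z)) e
  simpa only [hj] using this

/-- A basis over the whole space gives a splitting. -/
theorem Basis'.exists_split {n : ℕ} {M : X.Modules} {e : Fin n → Γ(M, ⊤)} (he : Basis' M ⊤ e) :
    ∃ d : Split' n M, ∀ i, (d.s i).app ⊤ (oneSec X ⊤) = e i := by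
  choose c hc using fun (V : X.Opens) (m : Γ(M, V)) => (he V le_top).2 m
  have huniq : ∀ V m r, ∑ i, r i • res M (le_top : V ≤ ⊤) (e i) = m → c V m = r :=
    fun V m r h => (he V le_top).1 ((hc V m).trans h.symm)
  have hp : ∀ j, ∃ p : M ⟶ Coh.structureModule X,
      ∀ V m, toFun (p.app V m) = c V m j := by
    intro j
    obtain ⟨p, hp⟩ := exists_hom_of_cover (U := fun _ : Unit => (⊤ : X.Opens)) (L := M)
      (M := Coh.structureModule X) (by simp) (fun _ V _ m => c V m j • oneSec X V)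
      (fun _ V _ x y => by
        rw [← add_smul, ← Pi.add_apply]
        congr 2
        exact congrFun (huniq V (x + y) (c V x + c V y) (by simp [add_smul, Finset.sum_add_distrib, hc])) j)
      (fun _ V _ r x => by
        rw [← mul_smul]
        congr 1
        exact congrFun (huniq V (r • x) (fun i => r * c V x i)
          (by simp [mul_smul, ← Finset.smul_sum, hc])) j)
      (fun _ V W _ h x => by
        rw [res_smul, res_oneSec]
        congr 1
        refine (congrFun (huniq W (res M h x) (fun i => resX X h (c V x i)) ?_) j).symm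
        conv_rhs => rw [← hc V x]
        rw [res_sum]
        simp)
      (fun _ _ V _ _ x => rfl)
    refine ⟨p, fun V m => ?_⟩
    rw [hp () V le_top m, toFun_smul, toFun_oneSec, mul_one]
  choose p hp' using hp
  have hone : ∀ i j, c ⊤ (e i) j = if i = j then 1 else 0 := fun i j =>
    congrFun (huniq ⊤ (e i) (fun j => if i = j then 1 else 0) (by simp [ite_smul])) j
  refine ⟨⟨fun i => homOfSection (e i), p, fun i => hom_structure_ext ?_,
    fun i j hij => hom_structure_ext ?_, ?_⟩, fun i => homOfSection_one _⟩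
  · have : toFun ((p i).app ⊤ ((homOfSection (e i)).app ⊤ (oneSec X ⊤))) = 1 := by
      rw [homOfSection_one, hp', hone]; simp
    exact this
  · have : toFun ((p j).app ⊤ ((homOfSection (e i)).app ⊤ (oneSec X ⊤))) = 0 := by
      rw [homOfSection_one, hp', hone]; simp [hij]
    exact this
  · ext V m
    rw [sum_app]
    change ∑ i, (homOfSection (e i)).app V ((p i).app V m) = m
    simp_rw [hom_structure_apply (homOfSection _) V, homOfSection_one, hp']
    exact hc V m

/-- The splitting of a finite free module. -/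
theorem exists_split_free (n : ℕ) : Nonempty (Split' n (FlatMod.freeMod X n)) := by
  have := HasBiproductsOfShape.mk (C := X.Modules) (J := Fin n)
  let F : Fin n → X.Modules := fun _ => Coh.structureModule X
  have hb : HasBiproduct F := HasBiproduct.of_hasCoproduct F
  let e := biproduct.isoCoproduct F
  refine ⟨⟨fun i => biproduct.ι F i ≫ e.hom, fun i => e.inv ≫ biproduct.π F i,
    fun i => ?_, fun i j h => ?_, ?_⟩⟩
  · simp
    rfl
  · simp [biproduct.ι_π_ne _ h]
  · simp only [Category.assoc]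
    rw [← Preadditive.comp_sum]
    simp_rw [← Category.assoc (biproduct.π F _) (biproduct.ι F _)]
    rw [← Preadditive.sum_comp, biproduct.total, Category.id_comp, Iso.inv_hom_id]

theorem basis'_iff_restrict {n : ℕ} {M : Y.Modules} {U : Y.Opens} (s : Fin n → Γ(M, U)) :
    Basis' M U s ↔ Basis' (M.restrict U.ι) ⊤
      (fun i => (res M (Scheme.Opens.ι_image_le U ⊤) (s i) : Γ(M, U.ι ''ᵁ ⊤))) := by
  have key : ∀ W : (U : Scheme.{u}).Opens,
      (Function.Bijective fun r : Fin n → Γ((U : Scheme.{u}), W) =>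
        ∑ i, r i • res (M.restrict U.ι) (le_top : W ≤ ⊤)
          (res M (Scheme.Opens.ι_image_le U ⊤) (s i) : Γ(M, U.ι ''ᵁ ⊤))) ↔
        Function.Bijective fun r : Fin n → Γ(Y, U.ι ''ᵁ W) =>
          ∑ i, r i • res M (Scheme.Opens.ι_image_le U W) (s i) := by
    intro W
    refine Iff.of_eq (congrArg Function.Bijective (funext fun r => ?_))
    refine Finset.sum_congr rfl fun i _ => ?_
    have e : res (M.restrict U.ι) (le_top : W ≤ ⊤)
          (res M (Scheme.Opens.ι_image_le U ⊤) (s i) : Γ(M, U.ι ''ᵁ ⊤)) =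
        res M (Scheme.Opens.ι_image_le U W) (s i) :=
      res_res (M := M) _ (U.ι.image_mono (le_top : W ≤ ⊤)) (s i)
    rw [e]
    exact restrict_smul U W _ _
  refine ⟨fun h W hW => (key W).2 (h _ _), fun h V hV => ?_⟩
  obtain ⟨W, rfl⟩ : ∃ W : (U : Scheme.{u}).Opens, U.ι ''ᵁ W = V :=
    ⟨U.ι ⁻¹ᵁ V, by rw [Scheme.Hom.image_preimage_eq_opensRange_inf]; simpa using hV⟩
  exact (key W).1 (h W le_top)

theorem Basis'.pull_top (f : X ⟶ Y) {n : ℕ} {M : Y.Modules} {e : Fin n → Γ(M, ⊤)}
    (he : Basis' M ⊤ e) :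
    Basis' ((Scheme.Modules.pullback f).obj M) (f ⁻¹ᵁ ⊤) (fun i => pullSec f M (e i)) := by
  obtain ⟨d, hd⟩ := he.exists_split
  have := isIso_pullUnit f
  let F := Scheme.Modules.pullback f
  let d' : Split' n (F.obj M) :=
    { s := fun i => inv (pullUnit f) ≫ F.map (d.s i)
      p := fun i => F.map (d.p i) ≫ pullUnit f
      diag := fun i => by simp [← F.map_comp_assoc, d.diag i]
      off := fun i j h => by simp [← F.map_comp_assoc, d.off i j h]
      total := by
        simp only [Category.assoc, IsIso.hom_inv_id_assoc, ← F.map_comp]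
        rw [← F.map_sum, d.total, F.map_id] }
  have h1 : ∀ i, (d'.s i).app ⊤ (oneSec X ⊤) = pullSec f M (e i) := by
    intro i
    rw [← hd i, ← pullSec_map]
    change (F.map (d.s i)).app ⊤ ((inv (pullUnit f)).app ⊤ (oneSec X ⊤)) = _
    have h := pullbackObjUnit_oneSec f
    congr 1
    refine Eq.trans (congrArg _ h.symm) ?_
    exact congr(($(IsIso.hom_inv_id (pullUnit f))).app (f ⁻¹ᵁ ⊤) (pullSec f _ (oneSec Y ⊤)))
  have := d'.basis
  simp only [h1] at this
  exact this

/-- `pullSec h M e` is a global basis of `h^*M`. -/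
def PullBasis {n : ℕ} {M : Y.Modules} {U : Y.Opens} (e : Fin n → Γ(M, U)) {W : Scheme.{u}}
    (h : W ⟶ Y) (hh : ⊤ ≤ h ⁻¹ᵁ U) : Prop :=
  Basis' ((Scheme.Modules.pullback h).obj M) ⊤ (fun i => res _ hh (pullSec h M (e i)))

theorem PullBasis.congr {n : ℕ} {M : Y.Modules} {U : Y.Opens} {e : Fin n → Γ(M, U)}
    {g g' : X ⟶ Y} (hgg : g = g') {hg : ⊤ ≤ g ⁻¹ᵁ U} (h : PullBasis e g hg) :
    PullBasis e g' (hgg ▸ hg) := by
  subst hgg
  exact h

theorem PullBasis.ι {n : ℕ} {M : Y.Modules} {U : Y.Opens} {e : Fin n → Γ(M, U)}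
    (he : Basis' M U e) : PullBasis e U.ι (Scheme.Opens.ι_preimage_self U).ge := by
  have h1 := ((basis'_iff_restrict e).1 he).map
    ((Scheme.Modules.restrictFunctorIsoPullback U.ι).hom.app M)
  have h2 : ∀ i, res _ (Scheme.Opens.ι_preimage_self U).ge (pullSec U.ι M (e i)) =
      ((Scheme.Modules.restrictFunctorIsoPullback U.ι).hom.app M).app ⊤
        (res M (Scheme.Opens.ι_image_le U ⊤) (e i) : Γ(M, U.ι ''ᵁ ⊤)) := by
    intro i
    rw [← restrictIso_pullSec U.ι M (e i)]
    refine ((app_res _ (Scheme.Opens.ι_preimage_self U).ge _).symm).trans ?_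
    exact congrArg _ (res_res (M := M) (U.ι.image_preimage_le U)
      (U.ι.image_mono (Scheme.Opens.ι_preimage_self U).ge) (e i))
  simp only [PullBasis, h2]
  exact h1

theorem PullBasis.comp {Z : Scheme.{u}} (f : X ⟶ Y) {n : ℕ} {M : Z.Modules} {U : Z.Opens}
    {e : Fin n → Γ(M, U)} {g : Y ⟶ Z} {hg : ⊤ ≤ g ⁻¹ᵁ U} (h : PullBasis e g hg) :
    PullBasis e (f ≫ g) (f.preimage_mono hg) := by
  have h1 := (Basis'.pull_top f h).map ((Scheme.Modules.pullbackComp f g).hom.app M)
  have h2 : ∀ i, ((Scheme.Modules.pullbackComp f g).hom.app M).app (f ⁻¹ᵁ ⊤)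
      (pullSec f _ (res _ hg (pullSec g M (e i)))) =
      res _ (f.preimage_mono hg) (pullSec (f ≫ g) M (e i)) := fun i => by
    rw [← res_pullSec]
    exact (app_res _ _ _).trans (congrArg _ (pullSec_comp f g M (e i)))
  exact (congrArg (Basis' _ _) (funext h2)).mp h1

/-- Pullback of a basis is a basis. -/
theorem Basis'.pull (f : X ⟶ Y) {n : ℕ} {M : Y.Modules} {U : Y.Opens} {e : Fin n → Γ(M, U)}
    (he : Basis' M U e) :
    Basis' ((Scheme.Modules.pullback f).obj M) (f ⁻¹ᵁ U) (fun i => pullSec f M (e i)) := by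
  rw [basis'_iff_restrict]
  have h1 : PullBasis e ((f ⁻¹ᵁ U).ι ≫ f) _ :=
    ((PullBasis.ι he).comp (f ∣_ U)).congr (morphismRestrict_ι f U)
  have h2 := h1.map ((Scheme.Modules.pullbackComp (f ⁻¹ᵁ U).ι f).inv.app M)
  have h3 := h2.map ((Scheme.Modules.restrictFunctorIsoPullback (f ⁻¹ᵁ U).ι).inv.app _)
  convert h3 using 1
  funext i
  set φ := (Scheme.Modules.restrictFunctorIsoPullback (f ⁻¹ᵁ U).ι).hom.app
    ((Scheme.Modules.pullback f).obj M)
  set ψ := (Scheme.Modules.restrictFunctorIsoPullback (f ⁻¹ᵁ U).ι).inv.app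
    ((Scheme.Modules.pullback f).obj M)
  symm
  refine (congrArg (ψ.app ⊤) (?_ : _ = φ.app ⊤ _)).trans
    (congr(($(Iso.hom_inv_id_app (Scheme.Modules.restrictFunctorIsoPullback (f ⁻¹ᵁ U).ι) _)).app ⊤
      _))
  refine (app_res ((Scheme.Modules.pullbackComp (f ⁻¹ᵁ U).ι f).inv.app M) _ _).trans ?_
  have e2 : ((Scheme.Modules.pullbackComp (f ⁻¹ᵁ U).ι f).inv.app M).app _
      (pullSec ((f ⁻¹ᵁ U).ι ≫ f) M (e i)) =
      pullSec (f ⁻¹ᵁ U).ι _ (pullSec f M (e i)) := by
    rw [← pullSec_comp]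
    exact congr(($(Iso.hom_inv_id_app (Scheme.Modules.pullbackComp (f ⁻¹ᵁ U).ι f) M)).app _
      (pullSec (f ⁻¹ᵁ U).ι _ (pullSec f M (e i))))
  refine (congrArg _ e2).trans ?_
  rw [← restrictIso_pullSec]
  refine ((app_res φ _ _).symm).trans (congrArg _ ?_)
  exact res_res (M := (Scheme.Modules.pullback f).obj M) _ ((f ⁻¹ᵁ U).ι.image_mono
    (Scheme.Opens.ι_preimage_self (f ⁻¹ᵁ U)).ge) _

theorem exists_basis_of_isFinLocFree {M : X.Modules} (hM : FlatMod.IsFinLocFree M) (x : X) :
    ∃ (U : X.Opens) (n : ℕ) (s : Fin n → Γ(M, U)), x ∈ U ∧ Basis' M U s := by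
  obtain ⟨U, n, hx, ⟨e⟩⟩ := hM x
  obtain ⟨d⟩ := exists_split_free (X := (U : Scheme.{u})) n
  have h := d.basis.map e.inv
  have hle : U ≤ U.ι ''ᵁ ⊤ := (Scheme.Opens.ι_image_top U).ge
  refine ⟨U, n, fun i =>
    res M hle (e.inv.app ⊤ ((d.s i).app ⊤ (oneSec _ ⊤)) : Γ(M, U.ι ''ᵁ ⊤)), hx, ?_⟩
  rw [basis'_iff_restrict]
  convert h using 1
  funext i
  exact (res_res (M := M) _ _ _).trans (res_self _ _)

theorem isIso_unit_of_finLocFree (f : X ⟶ Y) (hf : ∀ U : Y.Opens, Function.Bijective (f.app U))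
    {N : Y.Modules} (hN : FlatMod.IsFinLocFree N) :
    IsIso ((Scheme.Modules.pullbackPushforwardAdjunction f).unit.app N) := by
  choose U n e hxU he using exists_basis_of_isFinLocFree hN
  refine isIso_of_cover (U := U) (eq_top_iff.2 fun y _ => Opens.mem_iSup.2 ⟨y, hxU y⟩) _
    fun i V hV => ?_
  set φ := (Scheme.Modules.pullbackPushforwardAdjunction f).unit.app N
  have h1 := ((he i).pull f) _ (f.preimage_mono hV)
  have h1' := h1.comp (Function.Bijective.piMap fun _ : Fin (n i) => hf V)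
  have h3 : (φ.app V : Γ(N, V) → _) ∘ (fun r : Fin (n i) → Γ(Y, V) =>
      ∑ j, r j • res N hV (e i j)) =
      fun r => pushSec f _ (∑ j, f.app V (r j) •
        res _ (f.preimage_mono hV) (pullSec f N (e i j))) := by
    funext r
    change φ.app V _ = _
    rw [map_sum]
    refine Eq.trans (Finset.sum_congr rfl fun j _ => ?_) (map_sum
      (AddMonoidHom.mk' (fun z => pushSec f ((Scheme.Modules.pullback f).obj N) (U := V) z)
        fun _ _ => rfl) _ _).symm
    exact (φ.app_smul (r j) _).trans (congrArg (fun z => r j • z) (app_res φ hV (e i j)))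
  have h4 : Function.Bijective ((φ.app V : Γ(N, V) → _) ∘ fun r : Fin (n i) → Γ(Y, V) =>
      ∑ j, r j • res N hV (e i j)) := by
    rw [h3]
    exact h1'
  exact (Function.Bijective.of_comp_iff _ (he i V hV)).1 h4

end Groth.PicAux
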