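import Groth.Agent.PicAux.PullTensor
import Groth.Agent.OmegaSheaf.IdealMod
import Groth.Agent.OmegaSheaf.IsoLocal
import Groth.Agent.Divisors.EffCartier
import Groth.Agent.Variety2.ZeroScheme
import Groth.Agent.PicAux.QCoh

/-!
# Effective Cartier divisors and invertible modules with a section
-/

universe u

open CategoryTheory CategoryTheory.Limits AlgebraicGeometry Opposite TopologicalSpace BlowUp

namespace Groth.PicAux

variable {X Y : Scheme.{u}}

theorem idealSect_res' (I : X.IdealSheafData) {W W' : X.Opens} (h : W' ≤ W)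
    (k : Γ(ClSub.idealMod I, W)) :
    OmegaSh.idealSect I W' (res _ h k) = resX X h (OmegaSh.idealSect I W k) :=
  Groth.OmegaSheaf.idealSect_res I h k

/-- An ideal section generating with nonzerodivisor germs is a basis. -/
theorem gen_idealMod {I : X.IdealSheafData} (W : X.affineOpens) {k : Γ(ClSub.idealMod I, W.1)}
    (hg : Divisors.IsNzdSec (OmegaSh.idealSect I W.1 k))
    (hI : I.ideal W = Ideal.span {OmegaSh.idealSect I W.1 k}) :
    Gen (ClSub.idealMod I) W.1 k := by
  intro V hV
  have hinj : ∀ (Z : X.Opens) (hZ : Z ≤ W.1) (r r' : Γ(X, Z)),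
      r • res _ hZ k = r' • res _ hZ k → r = r' := by
    intro Z hZ r r' h
    have := congrArg (OmegaSh.idealSect I Z) h
    rw [Groth.OmegaSheaf.idealSect_smul, Groth.OmegaSheaf.idealSect_smul, idealSect_res'] at this
    exact (mul_cancel_right_mem_nonZeroDivisors (hg.res hZ).mem_nonZeroDivisors).1 this
  refine ⟨hinj V hV, fun t => ?_⟩
  choose Z hxZ hZV using fun x : (V : Type u) => Divisors.exists_affine_le x.1 V x.2
  have hc : ∀ x, ∃ r : Γ(X, (Z x).1),
      res _ (hZV x) t = r • res _ ((hZV x).trans hV) k := by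
    intro x
    have hm := Groth.OmegaSheaf.idealSect_mem I (Z x) (res _ (hZV x) t)
    rw [← I.map_ideal (U := Z x) (V := W) ((hZV x).trans hV), hI, Ideal.map_span,
      Set.image_singleton, Ideal.mem_span_singleton'] at hm
    obtain ⟨r, hr⟩ := hm
    refine ⟨r, Groth.OmegaSheaf.idealSect_injective I _ ?_⟩
    rw [Groth.OmegaSheaf.idealSect_smul, idealSect_res' I ((hZV x).trans hV)]
    exact hr.symm
  choose c hc using hc
  have hcov : V ≤ ⨆ x, (Z x).1 := fun x hx => Opens.mem_iSup.2 ⟨⟨x, hx⟩, hxZ ⟨x, hx⟩⟩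
  obtain ⟨r, hr, -⟩ := resX_glue (fun x => (Z x).1) hZV hcov c fun x y => by
    refine hinj _ ((inf_le_left.trans (hZV x)).trans hV) _ _ ?_
    have h1 := congrArg (res (ClSub.idealMod I) (inf_le_left : (Z x).1 ⊓ (Z y).1 ≤ (Z x).1)) (hc x)
    have h2 := congrArg (res (ClSub.idealMod I) (inf_le_right : (Z x).1 ⊓ (Z y).1 ≤ (Z y).1)) (hc y)
    simp only [res_smul, res_res] at h1 h2 ⊢
    rw [← h1, ← h2]
  refine ⟨r, res_ext (fun x => (Z x).1) hZV hcov fun x => ?_⟩
  simp only [res_smul, res_res, hr x]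
  exact (hc x).symm

/-- Around every point an effective Cartier ideal has a basis given by a nonzerodivisor. -/
theorem exists_gen_idealMod {I : X.IdealSheafData} (hI : IsEffCartierIdeal I) (x : X) (O : X.Opens)
    (hx : x ∈ O) :
    ∃ W : X.affineOpens, x ∈ W.1 ∧ W.1 ≤ O ∧ ∃ k : Γ(ClSub.idealMod I, W.1),
      Gen (ClSub.idealMod I) W.1 k ∧ Divisors.IsNzdSec (OmegaSh.idealSect I W.1 k) ∧
      I.ideal W = Ideal.span {OmegaSh.idealSect I W.1 k} := by
  obtain ⟨W, hxW, hWO, g, hg, hgI⟩ := Divisors.exists_generator hI x O hx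
  obtain ⟨k, hk⟩ := Groth.OmegaSheaf.exists_idealSect I W (hgI ▸ Ideal.mem_span_singleton_self g)
  subst hk
  exact ⟨W, hxW, hWO, k, gen_idealMod W hg hgI, hg, hgI⟩

/-- The ideal of an effective Cartier divisor is invertible. -/
theorem isInvertible_idealMod {I : X.IdealSheafData} (hI : IsEffCartierIdeal I) :
    PicF.IsInvertible (ClSub.idealMod I) := by
  rw [isInvertible_iff_exists_gen]
  intro x
  obtain ⟨W, hxW, -, k, hk, -, -⟩ := exists_gen_idealMod hI x ⊤ trivial
  exact ⟨W.1, k, hxW, hk⟩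

/-- An ideal sheaf which is invertible as a module is effective Cartier. -/
theorem isEffCartierIdeal_of_isInvertible {I : X.IdealSheafData}
    (h : PicF.IsInvertible (ClSub.idealMod I)) : IsEffCartierIdeal I := by
  intro x
  obtain ⟨U, k, hxU, hk⟩ := (isInvertible_iff_exists_gen _).1 h x
  obtain ⟨W, hxW, hWU⟩ := Divisors.exists_affine_le x U hxU
  refine ⟨W, hxW, OmegaSh.idealSect I W.1 (res _ hWU k), ?_, ?_⟩
  · rw [mem_nonZeroDivisors_iff_right]
    intro r hr
    refine hk.smul_inj hWU (Groth.OmegaSheaf.idealSect_injective I _ ?_)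
    rw [Groth.OmegaSheaf.idealSect_smul, hr, zero_smul, map_zero]
  · refine le_antisymm (fun a ha => ?_) ?_
    · obtain ⟨t, rfl⟩ := Groth.OmegaSheaf.exists_idealSect I W ha
      obtain ⟨r, rfl⟩ := hk.exists_coeff hWU t
      rw [Groth.OmegaSheaf.idealSect_smul]
      exact Ideal.mem_span_singleton'.2 ⟨r, rfl⟩
    · exact (Ideal.span_singleton_le_iff_mem (I := I.ideal W)).2
        (Groth.OmegaSheaf.idealSect_mem I W _)

theorem isInvertible_idealMod_iff {I : X.IdealSheafData} :
    PicF.IsInvertible (ClSub.idealMod I) ↔ IsEffCartierIdeal I :=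
  ⟨isEffCartierIdeal_of_isInvertible, isInvertible_idealMod⟩

/-- The ideal of a sum of effective Cartier divisors is the tensor product of the ideals. -/
theorem idealMod_mul {I J : X.IdealSheafData} (hI : IsEffCartierIdeal I)
    (hJ : IsEffCartierIdeal J) :
    Nonempty (CohB1.tensorMod (ClSub.idealMod I) (ClSub.idealMod J) ≅ ClSub.idealMod (I * J)) := by
  have h : ∀ x : X, ∃ (W : X.affineOpens) (a : Γ(ClSub.idealMod I, W.1))
      (b : Γ(ClSub.idealMod J, W.1)) (c : Γ(ClSub.idealMod (I * J), W.1)),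
      x ∈ W.1 ∧ Gen _ W.1 a ∧ Gen _ W.1 b ∧ Gen _ W.1 c ∧
      OmegaSh.idealSect (I * J) W.1 c =
        OmegaSh.idealSect I W.1 a * OmegaSh.idealSect J W.1 b := by
    intro x
    obtain ⟨W₀, hxW₀, -, a, ha, hna, hIa⟩ := exists_gen_idealMod hI x ⊤ trivial
    obtain ⟨W, hxW, hle, b, hb, hnb, hJb⟩ := exists_gen_idealMod hJ x W₀.1 hxW₀
    have hIW : I.ideal W = Ideal.span {OmegaSh.idealSect I W.1 (res _ hle a)} := by
      rw [← I.map_ideal (U := W) (V := W₀) hle, hIa, Ideal.map_span, Set.image_singleton,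
        idealSect_res']
      rfl
    have hna' : Divisors.IsNzdSec (OmegaSh.idealSect I W.1 (res _ hle a)) := by
      rw [idealSect_res']
      exact hna.res hle
    have hIJ : (I * J).ideal W = Ideal.span
        {OmegaSh.idealSect I W.1 (res _ hle a) * OmegaSh.idealSect J W.1 b} := by
      simp only [Scheme.IdealSheafData.ideal_mul, Pi.mul_apply]
      rw [hIW, hJb, Ideal.span_singleton_mul_span_singleton]
    obtain ⟨c, hc⟩ := Groth.OmegaSheaf.exists_idealSect (I * J) W
      (hIJ ▸ Ideal.mem_span_singleton_self _)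
    exact ⟨W, res _ hle a, b, c, hxW, ha.res hle, hb,
      gen_idealMod W (hc.symm ▸ hna'.mul hnb) (hc.symm ▸ hIJ), hc⟩
  choose W a b c hxW ha hb hc habc using h
  obtain ⟨e, -⟩ := exists_iso_of_gen (U := fun x => (W x).1)
    (eq_top_iff.2 fun x _ => Opens.mem_iSup.2 ⟨x, hxW x⟩) _ (fun x => (ha x).tensor (hb x)) c hc
    fun i j r hr => by
      obtain ⟨p, hp⟩ := (ha j).exists_coeff inf_le_right
        (res _ (inf_le_left : (W i).1 ⊓ (W j).1 ≤ (W i).1) (a i))
      obtain ⟨q, hq⟩ := (hb j).exists_coeff inf_le_right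
        (res _ (inf_le_left : (W i).1 ⊓ (W j).1 ≤ (W i).1) (b i))
      rw [res_tmulSec, res_tmulSec, hp, hq, tmulSec_smul_left, tmulSec_smul_right, ← mul_smul] at hr
      have hpq : p * q = r := ((ha j).tensor (hb j)).smul_inj inf_le_right
        (by rw [res_tmulSec]; exact hr)
      refine Groth.OmegaSheaf.idealSect_injective _ _ ?_
      have e1 := congrArg (OmegaSh.idealSect I _) hp
      have e2 := congrArg (OmegaSh.idealSect J _) hq
      simp only [Groth.OmegaSheaf.idealSect_smul, idealSect_res', habc, map_mul] at e1 e2 ⊢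
      rw [e1, e2, ← hpq]
      ring
  exact ⟨e⟩

/-- `0 → I → O → O/I → 0` is short exact. -/
theorem shortExact_idealMod (I : X.IdealSheafData) :
    (ShortComplex.mk (ClSub.idealModι I) (ClSub.toSubscheme I)
      (kernel.condition (ClSub.toSubscheme I))).ShortExact := by
  have : Epi (ClSub.toSubscheme I) := by
    have : (Coh.structureModule X).IsQuasicoherent := isQCoh_structureModule X
    refine Groth.OmegaSheaf.epi_of_affine_cover _ fun x => ?_
    obtain ⟨W, hxW, -⟩ := Divisors.exists_affine_le x ⊤ trivial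
    exact ⟨W.1, W.2, hxW, I.subschemeι_app_surjective W⟩
  have hexact : (ShortComplex.mk (ClSub.idealModι I) (ClSub.toSubscheme I)
      (kernel.condition (ClSub.toSubscheme I))).Exact :=
    ShortComplex.exact_of_f_is_kernel _ (kernelIsKernel (ClSub.toSubscheme I))
  exact { exact := hexact, mono_f := inferInstanceAs (Mono (kernel.ι _)), epi_g := this }

/-- `0 → I ⊗ L → O ⊗ L → O/I ⊗ L → 0` is short exact for invertible `L`. -/
theorem shortExact_idealMod_twist (I : X.IdealSheafData) {L : X.Modules} (hL : PicF.IsInvertible L) :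
    ((ShortComplex.mk (ClSub.idealModι I) (ClSub.toSubscheme I)
      (kernel.condition (ClSub.toSubscheme I))).map (DCoh.tensorRightMod L)).ShortExact :=
  shortExact_tensorRightMod hL (shortExact_idealMod I)

/-- The canonical section of `O(D)`: an effective Cartier divisor is the zero scheme of a section of
the inverse of its ideal. -/
theorem exists_section_zeroScheme_eq {I : X.IdealSheafData} (hI : IsEffCartierIdeal I)
    {L : X.Modules} (h : ClSub.IsInverseOf L (ClSub.idealMod I)) :
    ∃ s : Coh.structureModule X ⟶ L, PicF2.zeroScheme L s = I ∧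
      ∀ (W : X.Opens) (k : Γ(ClSub.idealMod I, W)) (e : Γ(L, W)), Gen (ClSub.idealMod I) W k →
        Gen L W e → ∃ v : Γ(X, W), IsUnit v ∧
          s.app W (oneSec X W) = (v * OmegaSh.idealSect I W k) • e := by
  have hLi : PicF.IsInvertible L :=
    isInvertible_of_isInverseOf (isInvertible_idealMod hI) (isInverseOf_symm h)
  obtain ⟨ψ⟩ := isInverseOf_symm h
  obtain ⟨μ, hμ⟩ := exists_leftUnitor L
  let ι' : ClSub.idealMod I ⟶ Coh.structureModule X := ClSub.idealModι I
  let s : Coh.structureModule X ⟶ L := ψ.inv ≫ KoszTw.tensorMap ι' (𝟙 L) ≫ μ.hom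
  have key : ∀ (W : X.Opens) (k : Γ(ClSub.idealMod I, W)) (e : Γ(L, W)),
      Gen (ClSub.idealMod I) W k → Gen L W e → ∃ v : Γ(X, W), IsUnit v ∧
        s.app W (oneSec X W) = (v * OmegaSh.idealSect I W k) • e := by
    intro W k e hk he
    obtain ⟨c, hc⟩ := (hk.tensor he).exists_coeff le_rfl (ψ.inv.app W (oneSec X W))
    rw [res_self] at hc
    have hcu : IsUnit c := (hk.tensor he).isUnit_of_smul (hc ▸ (gen_oneSec W).map ψ.inv)
    refine ⟨c, hcu, ?_⟩
    change μ.hom.app W ((KoszTw.tensorMap ι' (𝟙 L)).app W (ψ.inv.app W (oneSec X W))) = _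
    rw [hc, Scheme.Modules.Hom.app_smul, tensorMap_app_tmulSec, Scheme.Modules.Hom.app_smul, hμ,
      mul_smul]
    rfl
  refine ⟨s, Divisors.ext_of_cover fun x => ?_, key⟩
  obtain ⟨U, e, hxU, he⟩ := (isInvertible_iff_exists_gen _).1 hLi x
  obtain ⟨W, hxW, hWU, k, hk, -, hIk⟩ := exists_gen_idealMod hI x U hxU
  obtain ⟨v, hv, hsv⟩ := key W.1 k _ hk (he.res hWU)
  refine ⟨W, hxW, ?_⟩
  rw [Variety2.Zero.zeroScheme_ideal_eq_span hLi s W (he.res hWU) hsv, hIk,
    Ideal.span_singleton_mul_left_unit hv]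

/-- An effective Cartier divisor is the zero scheme of a section of an invertible module. -/
theorem exists_invertible_section {I : X.IdealSheafData} (hI : IsEffCartierIdeal I) :
    ∃ (L : X.Modules) (s : Coh.structureModule X ⟶ L), PicF.IsInvertible L ∧
      ClSub.IsInverseOf L (ClSub.idealMod I) ∧ PicF2.zeroScheme L s = I := by
  obtain ⟨L, hL, hinv⟩ := exists_isInverseOf (isInvertible_idealMod hI)
  obtain ⟨s, hs, -⟩ := exists_section_zeroScheme_eq hI (isInverseOf_symm hinv)
  exact ⟨L, s, hL, isInverseOf_symm hinv, hs⟩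

end Groth.PicAux
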