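import Groth.Agent.PicAux.Sections
import Groth.Agent.PicAux.GenLocal
import Groth.Prelude.Def_CohB1

/-!
# The locus where a section generates
-/

universe u

open CategoryTheory AlgebraicGeometry Opposite TopologicalSpace

namespace Groth.PicAux

variable {X : Scheme.{u}} {L : X.Modules}

/-- The global section named by `s : O_X ⟶ L`. -/
noncomputable def gsec (s : Coh.structureModule X ⟶ L) : Γ(L, ⊤) := s.app ⊤ (oneSec X ⊤)

theorem isIso_restrict_map_iff (s : Coh.structureModule X ⟶ L) (U : X.Opens) :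
    IsIso ((Scheme.Modules.restrictFunctor U.ι).map s) ↔ Gen L U (res L le_top (gsec s)) := by
  rw [Scheme.Modules.Hom.isIso_iff_isIso_app]
  constructor
  · intro h V hV
    obtain ⟨W, rfl⟩ : ∃ W : (U : Scheme.{u}).Opens, U.ι ''ᵁ W = V :=
      ⟨U.ι ⁻¹ᵁ V, by rw [Scheme.Hom.image_preimage_eq_opensRange_inf]; simpa using hV⟩
    have := (ConcreteCategory.isIso_iff_bijective _).1 (h W)
    have h2 : Function.Bijective fun r : Γ(X, U.ι ''ᵁ W) =>
        s.app (U.ι ''ᵁ W) (r • oneSec X (U.ι ''ᵁ W)) :=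
      Function.Bijective.comp (g := (s.app (U.ι ''ᵁ W) : _ → _)) this
        ⟨fun a b e => by simpa [toFun_smul, toFun_oneSec] using congrArg toFun e,
          fun x => ⟨toFun x, (eq_toFun_smul_oneSec x).symm⟩⟩
    convert h2 using 1
    funext r
    rw [Scheme.Modules.Hom.app_smul, res_res, gsec, ← app_res, res_oneSec]
  · intro h W
    rw [ConcreteCategory.isIso_iff_bijective]
    have hb := h (U.ι ''ᵁ W) (Scheme.Opens.ι_image_le U W)
    refine (?_ : Function.Bijective (s.app (U.ι ''ᵁ W)))
    have e : (s.app (U.ι ''ᵁ W) : Γ(Coh.structureModule X, U.ι ''ᵁ W) → _) =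
        (fun r : Γ(X, U.ι ''ᵁ W) => r • res L (Scheme.Opens.ι_image_le U W)
          (res L le_top (gsec s))) ∘ toFun := by
      funext x
      rw [Function.comp_apply, res_res, hom_structure_apply s]
      rfl
    rw [e]
    exact hb.comp ⟨fun _ _ e => e, fun x => ⟨x, rfl⟩⟩

theorem le_genLocus_iff (s : Coh.structureModule X ⟶ L) (V : X.Opens) :
    V ≤ CohB1.genLocus L s ↔ Gen L V (res L le_top (gsec s)) := by
  have hS : Gen L (CohB1.genLocus L s) (res L le_top (gsec s)) := by
    refine Gen.of_cover (fun U : {U : X.Opens //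
      IsIso ((Scheme.Modules.restrictFunctor U.ι).map s)} => U.1)
      (fun U => le_sSup U.2) ?_ fun U => ?_
    · exact sSup_le fun U hU =>
        le_iSup (fun U : {U : X.Opens //
          IsIso ((Scheme.Modules.restrictFunctor U.ι).map s)} => U.1) ⟨U, hU⟩
    · rw [res_res]
      exact (isIso_restrict_map_iff s U.1).1 U.2
  refine ⟨fun h => ?_, fun h => le_sSup ((isIso_restrict_map_iff s V).2 h)⟩
  have := hS.res h
  rwa [res_res] at this

/-- Over a trivialising open, the generating locus is the basic open of the coefficient. -/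
theorem genLocus_inf_eq_basicOpen {s : Coh.structureModule X ⟶ L} {U : X.Opens} {e : Γ(L, U)}
    (he : Gen L U e) {c : Γ(X, U)} (hc : res L le_top (gsec s) = c • e) :
    CohB1.genLocus L s ⊓ U = X.basicOpen c := by
  refine le_antisymm ?_ (le_inf ?_ (X.basicOpen_le c))
  · have h1 : Gen L (CohB1.genLocus L s ⊓ U) (res L le_top (gsec s)) :=
      (le_genLocus_iff s _).1 inf_le_left
    have h2 := congrArg (res L (inf_le_right : CohB1.genLocus L s ⊓ U ≤ U)) hc
    rw [res_res, res_smul] at h2
    rw [h2] at h1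
    have hu := Gen.isUnit_of_smul (he.res inf_le_right) h1
    have h3 := X.basicOpen_res c (homOfLE (inf_le_right : CohB1.genLocus L s ⊓ U ≤ U)).op
    have h4 : X.basicOpen (resX X (inf_le_right : CohB1.genLocus L s ⊓ U ≤ U) c) =
        CohB1.genLocus L s ⊓ U := X.basicOpen_of_isUnit hu
    exact h4.ge.trans (h3.le.trans inf_le_right)
  · rw [le_genLocus_iff]
    have h2 := congrArg (res L (X.basicOpen_le c)) hc
    rw [res_res, res_smul] at h2
    rw [h2]
    exact (he.res _).smul_unit (RingedSpace.isUnit_res_basicOpen _ c)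

theorem opens_ext_cover {ι : Type*} {U : ι → X.Opens} (hU : iSup U = ⊤) {A B : X.Opens}
    (h : ∀ i, A ⊓ U i = B ⊓ U i) : A = B := by
  calc A = A ⊓ ⨆ i, U i := by rw [hU, inf_top_eq]
    _ = ⨆ i, A ⊓ U i := inf_iSup_eq _ _
    _ = ⨆ i, B ⊓ U i := iSup_congr h
    _ = B := by rw [← inf_iSup_eq, hU, inf_top_eq]

end Groth.PicAux
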