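import Groth.Agent.PicAux.EffCartierLine
import Groth.Agent.PicAux.Integral
import Groth.Agent.PicAux.GenLocus

/-!
# Regular sections of invertible modules cut out effective Cartier divisors
-/

universe u

open CategoryTheory CategoryTheory.Limits AlgebraicGeometry Opposite TopologicalSpace BlowUp

namespace Groth.PicAux

variable {X Y : Scheme.{u}} {L : X.Modules} {s : Coh.structureModule X ⟶ L}

/-- In every local frame the coefficient of `s` has nonzerodivisor germs. -/
def RegularSection (L : X.Modules) (s : Coh.structureModule X ⟶ L) : Prop :=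
  ∀ (W : X.Opens) (e : Γ(L, W)), Gen L W e → ∀ c : Γ(X, W), s.app W (oneSec X W) = c • e →
    Divisors.IsNzdSec c

theorem res_app_oneSec (s : Coh.structureModule X ⟶ L) {U V : X.Opens} (h : V ≤ U) :
    res L h (s.app U (oneSec X U)) = s.app V (oneSec X V) := by
  rw [← app_res, res_oneSec]

/-- On an integral scheme every nonzero section of an invertible module is regular. -/
theorem regularSection_of_ne_zero [IsIntegral X] (hL : PicF.IsInvertible L) (hs : s ≠ 0) :
    RegularSection L s := by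
  intro W e he c hc x hx
  refine mem_nonZeroDivisors_of_ne_zero fun h0 => hom_structure_section_ne_zero hs ?_
  obtain ⟨Z, hxZ, i, j, e0⟩ := X.presheaf.germ_eq x hx hx c 0 (by rw [h0, map_zero])
  rw [map_zero] at e0
  refine inv_sec_eq_zero hL (le_top : Z ≤ ⊤) ⟨⟨x, hxZ⟩⟩ _ ?_
  have h1 := congrArg (res L i.le) hc
  rw [res_app_oneSec, res_smul] at h1
  rw [res_app_oneSec, h1]
  rw [show resX X i.le c = 0 from e0, zero_smul]

/-- Adapted frames: around a point, a basis `e` of `L` and a basis `k` of the zero ideal with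
`s = k e`. -/
theorem exists_frame (hL : PicF.IsInvertible L) (hs : RegularSection L s) (x : X) (O : X.Opens)
    (hx : x ∈ O) :
    ∃ W : X.affineOpens, x ∈ W.1 ∧ W.1 ≤ O ∧
      ∃ (e : Γ(L, W.1)) (k : Γ(ClSub.idealMod (PicF2.zeroScheme L s), W.1)),
        Gen L W.1 e ∧ Gen _ W.1 k ∧
        s.app W.1 (oneSec X W.1) = OmegaSh.idealSect (PicF2.zeroScheme L s) W.1 k • e := by
  obtain ⟨U, e, hxU, he⟩ := (isInvertible_iff_exists_gen _).1 hL x
  obtain ⟨W, hxW, hW⟩ := Divisors.exists_affine_le x (U ⊓ O) ⟨hxU, hx⟩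
  have hWU : W.1 ≤ U := hW.trans inf_le_left
  obtain ⟨c, hc⟩ := (he.res hWU).exists_coeff le_rfl (s.app W.1 (oneSec X W.1))
  rw [res_self] at hc
  have hI := Variety2.Zero.zeroScheme_ideal_eq_span hL s W (he.res hWU) hc
  obtain ⟨k, hk⟩ := Groth.OmegaSheaf.exists_idealSect (PicF2.zeroScheme L s) W
    (hI.symm ▸ Ideal.mem_span_singleton_self c)
  subst hk
  exact ⟨W, hxW, hW.trans inf_le_right, res L hWU e, k, he.res hWU,
    gen_idealMod W (hs _ _ (he.res hWU) _ hc) hI, hc⟩

/-- The zero scheme of a regular section is an effective Cartier divisor. -/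
theorem isEffCartierIdeal_zeroScheme (hL : PicF.IsInvertible L) (hs : RegularSection L s) :
    IsEffCartierIdeal (PicF2.zeroScheme L s) := by
  refine isEffCartierIdeal_of_isInvertible ((isInvertible_iff_exists_gen _).2 fun x => ?_)
  obtain ⟨W, hxW, -, e, k, -, hk, -⟩ := exists_frame hL hs x ⊤ trivial
  exact ⟨W.1, k, hxW, hk⟩

/-- The ideal of the zero scheme of a regular section of `L` is inverse to `L`. -/
theorem isInverseOf_zeroScheme (hL : PicF.IsInvertible L) (hs : RegularSection L s) :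
    ClSub.IsInverseOf L (ClSub.idealMod (PicF2.zeroScheme L s)) := by
  choose W hxW _ e k he hk hse using fun x => exists_frame hL hs x ⊤ trivial
  obtain ⟨φ, -⟩ := exists_iso_of_gen (U := fun x => (W x).1)
    (eq_top_iff.2 fun x _ => Opens.mem_iSup.2 ⟨x, hxW x⟩) _ (fun x => (he x).tensor (hk x))
    (fun x => oneSec X (W x).1) (fun x => gen_oneSec _) fun i j r hr => by
      obtain ⟨p, hp⟩ := (he j).exists_coeff inf_le_right
        (res _ (inf_le_left : (W i).1 ⊓ (W j).1 ≤ (W i).1) (e i))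
      obtain ⟨q, hq⟩ := (hk j).exists_coeff inf_le_right
        (res _ (inf_le_left : (W i).1 ⊓ (W j).1 ≤ (W i).1) (k i))
      rw [res_tmulSec, res_tmulSec, hp, hq, tmulSec_smul_left, tmulSec_smul_right, ← mul_smul] at hr
      have hpq : p * q = r := ((he j).tensor (hk j)).smul_inj inf_le_right
        (by rw [res_tmulSec]; exact hr)
      have e1 := congrArg (res L (inf_le_left : (W i).1 ⊓ (W j).1 ≤ (W i).1)) (hse i)
      have e2 := congrArg (res L (inf_le_right : (W i).1 ⊓ (W j).1 ≤ (W j).1)) (hse j)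
      have e3 := congrArg (OmegaSh.idealSect (PicF2.zeroScheme L s) _) hq
      rw [res_app_oneSec, res_smul] at e1 e2
      simp only [Groth.OmegaSheaf.idealSect_smul, idealSect_res'] at e3
      rw [e1, hp, e3, ← mul_smul] at e2
      have h4 := (he j).smul_inj inf_le_right e2
      have hnzd : Divisors.IsNzdSec (resX X (inf_le_right : (W i).1 ⊓ (W j).1 ≤ (W j).1)
          (OmegaSh.idealSect (PicF2.zeroScheme L s) _ (k j))) :=
        (hs _ _ (he j) _ (hse j)).res inf_le_right
      have : r = 1 := (mul_cancel_right_mem_nonZeroDivisors hnzd.mem_nonZeroDivisors).1 (by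
        rw [one_mul, ← hpq]
        exact (by ring : p * q * _ = q * _ * p).trans h4)
      rw [this, one_smul, res_oneSec, res_oneSec]
  exact ⟨φ⟩

/-- The generating locus of a section is the complement of its zero scheme. -/
theorem mem_genLocus_iff_not_mem_support (hL : PicF.IsInvertible L)
    (s : Coh.structureModule X ⟶ L) (x : X) :
    x ∈ CohB1.genLocus L s ↔ x ∉ (PicF2.zeroScheme L s).support := by
  obtain ⟨U, e, hxU, he⟩ := (isInvertible_iff_exists_gen _).1 hL x
  obtain ⟨W, hxW, hWU⟩ := Divisors.exists_affine_le x U hxU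
  obtain ⟨c, hc⟩ := (he.res hWU).exists_coeff le_rfl (s.app W.1 (oneSec X W.1))
  rw [res_self] at hc
  have hI := Variety2.Zero.zeroScheme_ideal_eq_span hL s W (he.res hWU) hc
  rw [Divisors.not_mem_support_iff hI hxW, ← Scheme.mem_basicOpen X c x hxW,
    ← genLocus_inf_eq_basicOpen (he.res hWU) (s := s) (by rw [gsec, res_app_oneSec]; exact hc)]
  exact ⟨fun h => ⟨h, hxW⟩, fun h => h.1⟩

/-- Sections with the same zero scheme differ by a unit. -/
theorem exists_isUnit_smul_of_zeroScheme_eq (hL : PicF.IsInvertible L)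
    {s' : Coh.structureModule X ⟶ L} (hs : RegularSection L s)
    (h : PicF2.zeroScheme L s' = PicF2.zeroScheme L s) :
    ∃ a : Γ(X, ⊤), IsUnit a ∧ s'.app ⊤ (oneSec X ⊤) = a • s.app ⊤ (oneSec X ⊤) := by
  have key : ∀ x : X, ∃ (W : X.affineOpens) (u : Γ(X, W.1)), x ∈ W.1 ∧ IsUnit u ∧
      s'.app W.1 (oneSec X W.1) = u • s.app W.1 (oneSec X W.1) := by
    intro x
    obtain ⟨U, e, hxU, he⟩ := (isInvertible_iff_exists_gen _).1 hL x
    obtain ⟨W, hxW, hWU⟩ := Divisors.exists_affine_le x U hxU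
    obtain ⟨c, hc⟩ := (he.res hWU).exists_coeff le_rfl (s.app W.1 (oneSec X W.1))
    obtain ⟨c', hc'⟩ := (he.res hWU).exists_coeff le_rfl (s'.app W.1 (oneSec X W.1))
    rw [res_self] at hc hc'
    have hI := Variety2.Zero.zeroScheme_ideal_eq_span hL s W (he.res hWU) hc
    rw [← h, Variety2.Zero.zeroScheme_ideal_eq_span hL s' W (he.res hWU) hc'] at hI
    obtain ⟨a, ha⟩ := Ideal.mem_span_singleton'.1 (hI ▸ Ideal.mem_span_singleton_self c')
    obtain ⟨b, hb⟩ := Ideal.mem_span_singleton'.1 (hI.symm ▸ Ideal.mem_span_singleton_self c)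
    have hab : b * a = 1 := (mul_cancel_right_mem_nonZeroDivisors
      (hs _ _ (he.res hWU) _ hc).mem_nonZeroDivisors).1 (by rw [mul_assoc, ha, hb, one_mul])
    refine ⟨W, a, hxW, IsUnit.of_mul_eq_one b (by rw [mul_comm, hab]), ?_⟩
    rw [hc, hc', ← mul_smul, ha]
  choose W u hxW hu hsu using key
  have hcov : (⊤ : X.Opens) ≤ ⨆ x, (W x).1 := fun x _ => Opens.mem_iSup.2 ⟨x, hxW x⟩
  have huniq : ∀ (Z : X.Opens) (r r' : Γ(X, Z)),
      r • s.app Z (oneSec X Z) = r' • s.app Z (oneSec X Z) → r = r' := by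
    intro Z r r' hr
    obtain ⟨U, e, hU, -, he⟩ := exists_gen_cover hL
    refine resX_ext (fun x => Z ⊓ U x) (fun _ => inf_le_left) (le_iSup_inf hU Z) fun x => ?_
    obtain ⟨c, hc⟩ := (he x).exists_coeff inf_le_right (s.app (Z ⊓ U x) (oneSec X _))
    have h2 := congrArg (res L (inf_le_left : Z ⊓ U x ≤ Z)) hr
    rw [res_smul, res_smul, res_app_oneSec, hc, ← mul_smul, ← mul_smul] at h2
    exact (mul_cancel_right_mem_nonZeroDivisors
      (hs _ _ ((he x).res inf_le_right) _ hc).mem_nonZeroDivisors).1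
      ((he x).smul_inj inf_le_right h2)
  obtain ⟨a, ha, -⟩ := resX_glue (fun x => (W x).1) (fun _ => le_top) hcov u fun x y => by
    refine huniq _ _ _ ?_
    have h1 := congrArg (res L (inf_le_left : (W x).1 ⊓ (W y).1 ≤ (W x).1)) (hsu x)
    have h2 := congrArg (res L (inf_le_right : (W x).1 ⊓ (W y).1 ≤ (W y).1)) (hsu y)
    simp only [res_smul, res_app_oneSec] at h1 h2
    rw [← h1, ← h2]
  choose v hv using fun x => isUnit_iff_exists_inv.1 (hu x)
  obtain ⟨b, hb, -⟩ := resX_glue (fun x => (W x).1) (fun _ => le_top) hcov v fun x y => by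
    have e : resX X (inf_le_left : (W x).1 ⊓ (W y).1 ≤ (W x).1) (u x) =
        resX X (inf_le_right : (W x).1 ⊓ (W y).1 ≤ (W y).1) (u y) := by
      rw [← ha x, ← ha y, resX_resX, resX_resX]
    have h1 := congrArg (resX X (inf_le_left : (W x).1 ⊓ (W y).1 ≤ (W x).1)) (hv x)
    have h2 := congrArg (resX X (inf_le_right : (W x).1 ⊓ (W y).1 ≤ (W y).1)) (hv y)
    rw [map_mul, map_one] at h1 h2
    rw [e] at h1
    exact left_inv_eq_right_inv ((mul_comm _ _).trans h1) h2
  refine ⟨a, IsUnit.of_mul_eq_one b (resX_ext (fun x => (W x).1) (fun _ => le_top) hcov fun x => ?_),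
    res_ext (fun x => (W x).1) (fun _ => le_top) hcov fun x => ?_⟩
  · rw [map_mul, ha, hb, hv, map_one]
  · rw [res_smul, res_app_oneSec, res_app_oneSec, ha, hsu x]

/-- Unit multiples of a section have the same zero scheme. -/
theorem zeroScheme_eq_of_isUnit_smul (hL : PicF.IsInvertible L) {s' : Coh.structureModule X ⟶ L}
    {a : Γ(X, ⊤)} (ha : IsUnit a) (h : s'.app ⊤ (oneSec X ⊤) = a • s.app ⊤ (oneSec X ⊤)) :
    PicF2.zeroScheme L s' = PicF2.zeroScheme L s := by
  refine Divisors.ext_of_cover fun x => ?_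
  obtain ⟨U, e, hxU, he⟩ := (isInvertible_iff_exists_gen _).1 hL x
  obtain ⟨W, hxW, hWU⟩ := Divisors.exists_affine_le x U hxU
  obtain ⟨c, hc⟩ := (he.res hWU).exists_coeff le_rfl (s.app W.1 (oneSec X W.1))
  rw [res_self] at hc
  have hc' : s'.app W.1 (oneSec X W.1) = (resX X le_top a * c) • res L hWU e := by
    have := congrArg (res L (le_top : W.1 ≤ ⊤)) h
    rw [res_smul, res_app_oneSec, res_app_oneSec, hc] at this
    rw [this, mul_smul]
  exact ⟨W, hxW, by
    rw [Variety2.Zero.zeroScheme_ideal_eq_span hL s W (he.res hWU) hc,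
      Variety2.Zero.zeroScheme_ideal_eq_span hL s' W (he.res hWU) hc',
      Ideal.span_singleton_mul_left_unit (ha.map _)]⟩

/-- The inverse image of the ideal of an effective Cartier divisor, when the inverse image divisor is
effective Cartier. -/
theorem pullback_idealMod (f : X ⟶ Y) {I : Y.IdealSheafData} (hI : IsEffCartierIdeal I)
    (hJ : IsEffCartierIdeal (I.comap f)) :
    Nonempty ((Scheme.Modules.pullback f).obj (ClSub.idealMod I) ≅
      ClSub.idealMod (I.comap f)) := by
  choose W hxW _ k hk hkn hIk using fun y => exists_gen_idealMod hI y ⊤ trivial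
  choose V hxV hVW k₀ hk₀ hk₀n hJk₀ using fun x => exists_gen_idealMod hJ x
    (f ⁻¹ᵁ (W (f x)).1) (hxW (f x))
  have hg : ∀ x, ∃ k' : Γ(ClSub.idealMod (I.comap f), (V x).1), Gen _ (V x).1 k' ∧
      OmegaSh.idealSect (I.comap f) (V x).1 k' =
        resX X (hVW x) (f.app (W (f x)).1 (OmegaSh.idealSect I (W (f x)).1 (k (f x)))) := by
    intro x
    have hspan : (I.comap f).ideal (V x) = Ideal.span
        {resX X (hVW x) (f.app (W (f x)).1 (OmegaSh.idealSect I (W (f x)).1 (k (f x))))} := by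
      rw [Divisors.ideal_comap_affine I f (W (f x)) (V x) (hVW x), hIk (f x), Ideal.map_span,
        Set.image_singleton]
      rfl
    obtain ⟨k', hk'⟩ := Groth.OmegaSheaf.exists_idealSect (I.comap f) (V x)
      (hspan.symm ▸ Ideal.mem_span_singleton_self _)
    refine ⟨k', gen_idealMod (V x) ?_ (hk'.symm ▸ hspan), hk'⟩
    have e1 := hspan
    rw [hJk₀ x, ← hk'] at e1
    obtain ⟨a, ha⟩ := Ideal.mem_span_singleton'.1
      (e1.symm ▸ Ideal.mem_span_singleton_self (OmegaSh.idealSect (I.comap f) (V x).1 k'))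
    obtain ⟨b, hb⟩ := Ideal.mem_span_singleton'.1
      (e1 ▸ Ideal.mem_span_singleton_self (OmegaSh.idealSect (I.comap f) (V x).1 (k₀ x)))
    have hba : b * a = 1 := (mul_cancel_right_mem_nonZeroDivisors (hk₀n x).mem_nonZeroDivisors).1
      (by rw [mul_assoc, ha, hb, one_mul])
    rw [← ha]
    intro y hy
    rw [map_mul]
    exact Submonoid.mul_mem _
      ((IsUnit.of_mul_eq_one b (by rw [mul_comm, hba])).map (X.presheaf.germ _ y hy).hom).mem_nonZeroDivisors
      (hk₀n x y hy)
  choose k' hk' hkk' using hg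
  obtain ⟨e, -⟩ := exists_iso_of_gen (U := fun x => (V x).1)
    (eq_top_iff.2 fun x _ => Opens.mem_iSup.2 ⟨x, hxV x⟩) _
    (fun x => ((hk (f x)).pull f).res (hVW x)) k' hk' fun i j r hr => by
      obtain ⟨p, hp⟩ := (hk (f j)).exists_coeff inf_le_right
        (res _ (inf_le_left : (W (f i)).1 ⊓ (W (f j)).1 ≤ (W (f i)).1) (k (f i)))
      have hle : (V i).1 ⊓ (V j).1 ≤ f ⁻¹ᵁ ((W (f i)).1 ⊓ (W (f j)).1) :=
        inf_le_inf (hVW i) (hVW j)
      have h1 : res _ ((inf_le_left : (V i).1 ⊓ (V j).1 ≤ _).trans (hVW i))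
          (pullSec f _ (k (f i))) = resX X hle (f.app _ p) •
            res _ ((inf_le_right : (V i).1 ⊓ (V j).1 ≤ _).trans (hVW j)) (pullSec f _ (k (f j))) := by
        have := congrArg (fun z => res _ hle (pullSec f (ClSub.idealMod I) z)) hp
        simp only [pullSec_smul, res_smul, ← res_pullSec, res_res] at this
        exact this
      rw [res_res, res_res, h1] at hr
      have hpr := ((hk (f j)).pull f).smul_inj
        ((inf_le_right : (V i).1 ⊓ (V j).1 ≤ _).trans (hVW j)) hr
      refine Groth.OmegaSheaf.idealSect_injective _ _ ?_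
      have e1 := congrArg (fun z => resX X hle (f.app _ (OmegaSh.idealSect I _ z))) hp
      simp only [Groth.OmegaSheaf.idealSect_smul, idealSect_res', map_mul] at e1
      have hnat : ∀ {A B : Y.Opens} (h : B ≤ A) (z : Γ(Y, A)),
          f.app B (resX Y h z) = resX X (f.preimage_mono h) (f.app A z) := fun h z =>
        congr($(f.naturality (homOfLE h).op) z)
      simp only [hnat, resX_resX] at e1
      simp only [Groth.OmegaSheaf.idealSect_smul, idealSect_res', hkk', resX_resX, ← hpr]
      exact e1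
  exact ⟨e⟩

end Groth.PicAux
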