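import Groth.Agent.PicAux.MeroLine

/-!
# Regular meromorphic sections and `O_X(D)`
-/

universe u

open CategoryTheory AlgebraicGeometry Opposite TopologicalSpace

namespace Groth.PicAux

variable {X : Scheme.{u}} {L : X.Modules}

/-- The stalk of a module is torsion free on the germ of a basis. -/
theorem germ_smul_eq_zero {U : X.Opens} {e : Γ(L, U)} (he : Gen L U e) {x : X} (hx : x ∈ U)
    {r : X.presheaf.stalk x} (h : r • L.presheaf.germ U x hx e = 0) : r = 0 := by
  obtain ⟨V, hxV, r', rfl⟩ := TopCat.Presheaf.exists_germ_eq X.presheaf r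
  rw [← germ_resX (inf_le_right : U ⊓ V ≤ V) x ⟨hx, hxV⟩ r',
    ← TopCat.Presheaf.germ_res_apply L.presheaf (homOfLE (inf_le_left : U ⊓ V ≤ U)) x ⟨hx, hxV⟩ e] at h
  erw [← Mero.germ_smul L (U ⊓ V) x ⟨hx, hxV⟩] at h
  rw [← map_zero (L.presheaf.germ (U ⊓ V) x ⟨hx, hxV⟩).hom] at h
  obtain ⟨W, hxW, i, j, heq⟩ := TopCat.Presheaf.germ_eq L.presheaf x _ _ _ _ h
  have heq' : res L i.le (resX X inf_le_right r' • res L inf_le_left e) = 0 :=
    heq.trans (map_zero _)
  rw [res_smul, res_res] at heq'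
  have h0 : resX X i.le (resX X inf_le_right r') = 0 :=
    (he.res (i.le.trans inf_le_left)).smul_inj le_rfl (by rw [res_self, zero_smul]; exact heq')
  have := congrArg (X.presheaf.germ W x hxW) h0
  rwa [germ_resX, germ_resX, map_zero] at this

theorem kmk_smul_mk {x : X} (c : X.presheaf.stalk x) (d : Mero.regStalk X x)
    (m : L.presheaf.stalk x) (t : Mero.regStalk X x) :
    (LocalizedModule.mk c d : Mero.KStalk X x) • (LocalizedModule.mk m t : Mero.MStalk L x) =
      LocalizedModule.mk (c • m) (d * t) :=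
  LocalizedModule.mk_smul_mk c m d t

/-- The image of a basis in `S⁻¹L_x` is torsion free over `K_{X,x}`. -/
theorem kStalk_smul_eq_zero {U : X.Opens} {e : Γ(L, U)} (he : Gen L U e) (y : U)
    {q : Mero.KStalk X y.1}
    (h : q • (LocalizedModule.mk (L.presheaf.germ U y.1 y.2 e) 1 : Mero.MStalk L y.1) = 0) : q = 0 := by
  induction q using LocalizedModule.induction_on with
  | h c d =>
    rw [kmk_smul_mk, ← LocalizedModule.zero_mk (1 : Mero.regStalk X y.1)] at h
    obtain ⟨t, ht⟩ := LocalizedModule.mk_eq.1 h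
    simp only [Submonoid.smul_def, smul_zero, mul_one, smul_smul, Submonoid.coe_one, one_smul] at ht
    have h0 : ((t : X.presheaf.stalk y.1) * c) = 0 := germ_smul_eq_zero he y.2 (by
      rw [mul_smul]; simpa [smul_smul] using ht)
    rw [← LocalizedModule.zero_mk (1 : Mero.regStalk X y.1)]
    refine LocalizedModule.mk_eq.2 ⟨t, ?_⟩
    simp only [Submonoid.smul_def, smul_zero, Submonoid.coe_one, one_smul, smul_eq_mul, mul_zero]
    exact h0

theorem kfr_smul_mk {U : X.Opens} (a : Γ(X, U)) (b : Mero.regSub X U) (e : Γ(L, U)) (y : U) :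
    (kfr a b).1 y • (LocalizedModule.mk (L.presheaf.germ U y.1 y.2 e) 1 : Mero.MStalk L y.1) =
      LocalizedModule.mk (L.presheaf.germ U y.1 y.2 (a • e)) (Mero.regGerm y b) := by
  rw [Mero.germ_smul]
  exact (kmk_smul_mk _ _ _ _).trans (Mero.mk_congr rfl (by rw [mul_one]))

/-- An invertible module isomorphic to some `O_X(D)` has a regular meromorphic section. -/
theorem hasRegularMero_of_iso {D : Mero.Divisor X} (φ : L ≅ Mero.divMod D) :
    Mero.HasRegularMero L := by
  choose U hxU f hf using exists_rep D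
  choose t htv htg using fun x => gen_divMod (hf x)
  let e (x : X) : Γ(L, U x) := φ.inv.app (U x) (t x)
  have he : ∀ x, Gen L (U x) (e x) := fun x => (htg x).map φ.inv
  have hagree : ∀ i j (y : X) (hi : y ∈ U i) (hj : y ∈ U j),
      (f i : Γ(Mero.kmod X, U i)).1 ⟨y, hi⟩ •
          (LocalizedModule.mk (L.presheaf.germ (U i) y hi (e i)) 1 : Mero.MStalk L y) =
        (f j : Γ(Mero.kmod X, U j)).1 ⟨y, hj⟩ •
          LocalizedModule.mk (L.presheaf.germ (U j) y hj (e j)) 1 := by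
    intro i j y hi hj
    obtain ⟨r, hr⟩ := ((htg j).res (inf_le_right : U i ⊓ U j ≤ U j)).exists_coeff le_rfl
      (res _ (inf_le_left : U i ⊓ U j ≤ U i) (t i))
    rw [res_self] at hr
    have h1 := congrArg divVal hr
    rw [divVal_res, divVal_smul, divVal_res, htv, htv, ksmul_eq] at h1
    have h2 := congr(($h1).1 ⟨y, hi, hj⟩)
    rw [Mero.kmod_mul_apply, toK_apply', kres_apply, kres_apply, ← uval_inv_coe, ← uval_inv_coe] at h2
    have h3 : res L (inf_le_left : U i ⊓ U j ≤ U i) (e i) = r • res L inf_le_right (e j) := by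
      rw [← app_res, hr, Scheme.Modules.Hom.app_smul, app_res]
    have h4 := congrArg (L.presheaf.germ (U i ⊓ U j) y ⟨hi, hj⟩) h3
    rw [Mero.germ_smul] at h4
    erw [TopCat.Presheaf.germ_res_apply, TopCat.Presheaf.germ_res_apply] at h4
    rw [h4, ← uval_coe, ← uval_coe]
    have h5 : toKStalk y (X.presheaf.germ (U i ⊓ U j) y ⟨hi, hj⟩ r) * (uval (f i) ⟨y, hi⟩ : Mero.KStalk X y)
        = uval (f j) ⟨y, hj⟩ := by
      have := congrArg (fun z => z * (uval (f i) ⟨y, hi⟩ : Mero.KStalk X y) *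
        (uval (f j) ⟨y, hj⟩ : Mero.KStalk X y)) h2
      simp only [Units.inv_mul, one_mul] at this
      rw [this, mul_assoc, mul_assoc, mul_comm (uval (f i) ⟨y, hi⟩ : Mero.KStalk X y) (uval (f j) ⟨y, hj⟩),
        ← mul_assoc _ (uval (f j) ⟨y, hj⟩ : Mero.KStalk X y), Units.inv_mul, one_mul]
    rw [← h5, mul_comm, mul_smul, algebraMap_smul]
    congr 1
    exact (LocalizedModule.smul'_mk _ _ _).symm
  let s : ∀ x : (⊤ : X.Opens), Mero.MStalk L x.1 := fun x =>
    (f x.1 : Γ(Mero.kmod X, U x.1)).1 ⟨x.1, hxU x.1⟩ •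
      LocalizedModule.mk (L.presheaf.germ (U x.1) x.1 (hxU x.1) (e x.1)) 1
  have hs : (Mero.mLoc L).pred s := fun x => by
    obtain ⟨V, hV, a, b, hxV, hab⟩ := exists_kfr (f x.1 : Γ(Mero.kmod X, U x.1)) x.1 (hxU x.1)
    refine ⟨V, hxV, homOfLE le_top, a • res L hV (e x.1), b, fun y => ?_⟩
    change s ⟨y.1, _⟩ = _
    rw [← kfr_smul_mk, ← hab, kres_apply]
    simp only [s]
    rw [hagree y.1 x.1 y.1 (hxU y.1) (hV y.2)]
    congr 1
    exact Mero.mk_congr (TopCat.Presheaf.germ_res_apply L.presheaf (homOfLE hV) y.1 y.2 (e x.1)).symm rfl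
  refine ⟨⟨s, hs⟩, fun x q hq => ?_⟩
  change q • (_ • _) = 0 at hq
  rw [smul_smul] at hq
  have := kStalk_smul_eq_zero (he x) ⟨x, hxU x⟩ hq
  rw [← uval_coe] at this
  exact (Units.mul_left_eq_zero _).1 this

/-- An invertible module with a regular meromorphic section is isomorphic to some `O_X(D)`. -/
theorem exists_divisor_of_hasRegularMero (hL : PicF.IsInvertible L) (h : Mero.HasRegularMero L) :
    ∃ D : Mero.Divisor X, Nonempty (L ≅ Mero.divMod D) := by
  obtain ⟨s, hs⟩ := h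
  have key : ∀ x : X, ∃ (W : X.Opens) (e : Γ(L, W)) (f : (Γ(Mero.kmod X, W))ˣ), x ∈ W ∧ Gen L W e ∧
      ∀ y : W, s.1 ⟨y.1, Opens.mem_top y.1⟩ =
        (f : Γ(Mero.kmod X, W)).1 y • LocalizedModule.mk (L.presheaf.germ W y.1 y.2 e) 1 := by
    intro x
    obtain ⟨U, e, hxU, he⟩ := (isInvertible_iff_exists_gen _).1 hL x
    obtain ⟨V, hxV, i, m, b, hmb⟩ := s.2 ⟨x, trivial⟩
    let b' : Mero.regSub X (U ⊓ V) :=
      ⟨resX X inf_le_right b.1, Mero.regSub_res (homOfLE inf_le_right) b.2⟩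
    obtain ⟨c, hc⟩ := he.exists_coeff (inf_le_left : U ⊓ V ≤ U) (res L inf_le_right m)
    have hval : ∀ y : (U ⊓ V : X.Opens), s.1 ⟨y.1, Opens.mem_top y.1⟩ =
        (kfr c b').1 y • LocalizedModule.mk (L.presheaf.germ (U ⊓ V) y.1 y.2
          (res L (inf_le_left : U ⊓ V ≤ U) e)) 1 := fun y => by
      rw [kfr_smul_mk, ← hc]
      refine (hmb ⟨y.1, y.2.2⟩).trans (Mero.mk_congr ?_ ?_)
      · exact (TopCat.Presheaf.germ_res_apply L.presheaf (homOfLE inf_le_right) y.1 y.2 m).symm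
      · exact (germ_resX inf_le_right y.1 y.2 b.1).symm
    have hc' : c ∈ Mero.regSub X (U ⊓ V) := fun y => mem_nonZeroDivisors_iff_right.2 fun r hr => by
      refine toKStalk_injective y.1 ((hs y.1 (toKStalk y.1 r) ?_).trans (map_zero _).symm)
      rw [hval y, smul_smul]
      have e0 : toKStalk y.1 r * (kfr c b').1 y = 0 := by
        refine (isUnit_toKStalk (Mero.regGerm y b')).mul_left_injective ?_
        change toKStalk y.1 r * (kfr c b').1 y * toKStalk y.1 _ = 0 * _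
        rw [zero_mul, mul_assoc, kfr_mul_toKStalk, ← map_mul, hr, map_zero]
      rw [e0, zero_smul]
    refine ⟨U ⊓ V, res L inf_le_left e, regUnit ⟨c, hc'⟩ * (regUnit b')⁻¹, ⟨hxU, hxV⟩,
      he.res inf_le_left, fun y => ?_⟩
    have e1 : ((regUnit ⟨c, hc'⟩ * (regUnit b')⁻¹ : (Γ(Mero.kmod X, U ⊓ V))ˣ) :
        Γ(Mero.kmod X, U ⊓ V)) = kfr c b' := by
      rw [Units.val_mul, Units.mul_inv_eq_iff_eq_mul]
      exact (kfr_mul_toK c b').symm
    rw [e1]
    exact hval y
  choose W e f hxW he hf using key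
  obtain ⟨D, -, φ, -⟩ := exists_divisor_of_units (U := W)
    (eq_top_iff.2 fun x _ => Opens.mem_iSup.2 ⟨x, hxW x⟩) e he f fun i j r hr => kext fun y => by
    rw [Mero.kmod_mul_apply, toK_apply', resU_coe, resU_coe, kres_apply, kres_apply]
    have h4 := congrArg (L.presheaf.germ (W i ⊓ W j) y.1 y.2) hr
    rw [Mero.germ_smul] at h4
    erw [TopCat.Presheaf.germ_res_apply, TopCat.Presheaf.germ_res_apply] at h4
    have h := (hf i ⟨y.1, y.2.1⟩).symm.trans (hf j ⟨y.1, y.2.2⟩)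
    rw [h4] at h
    refine (sub_eq_zero.1 (kStalk_smul_eq_zero (he j) ⟨y.1, y.2.2⟩ ?_))
    rw [sub_smul, sub_eq_zero, mul_comm, mul_smul, algebraMap_smul, LocalizedModule.smul'_mk]
    exact h.symm
  exact ⟨D, ⟨φ⟩⟩

end Groth.PicAux
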