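import Groth.Agent.PicAux.SeesawReduced

/-!
# `H⁰ = k(y)` on all fibres gives `(f_T)_* O = O_T` for every base change
-/

universe u

open CategoryTheory Limits AlgebraicGeometry TopologicalSpace Opposite
open scoped TensorProduct

noncomputable section

namespace Groth.PicAux.Seesaw

open Groth.PicAux

/-- `O_T = q_* O` may be checked on a family of opens covering every open. -/
theorem app_bijective_of_basis {P T : Scheme.{u}} (q : P ⟶ T) (p : T.Opens → Prop)
    (hA : ∀ W, p W → Function.Bijective (q.app W))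
    (hp : ∀ (V : T.Opens) (t : T), t ∈ V → ∃ W, p W ∧ t ∈ W ∧ W ≤ V) (V : T.Opens) :
    Function.Bijective (q.app V) := by
  have hnat : ∀ {V W : T.Opens} (h : W ≤ V) (z : Γ(T, V)),
      q.app W (resX T h z) = resX P (q.preimage_mono h) (q.app V z) := fun h z =>
    congr($(q.naturality (homOfLE h).op) z)
  have hcov : ∀ V : T.Opens, V ≤ ⨆ W : {W : T.Opens // p W ∧ W ≤ V}, W.1 := fun V t ht => by
    obtain ⟨W, h1, h2, h3⟩ := hp V t ht
    exact Opens.mem_iSup.2 ⟨⟨W, h1, h3⟩, h2⟩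
  have hinj : ∀ V : T.Opens, Function.Injective (q.app V) := fun V a b hab =>
    resX_ext (fun W : {W : T.Opens // p W ∧ W ≤ V} => W.1) (fun W => W.2.2) (hcov V)
      fun W => (hA _ W.2.1).1 (by rw [hnat, hnat, hab])
  refine ⟨hinj V, fun z => ?_⟩
  choose r hr using fun W : {W : T.Opens // p W ∧ W ≤ V} =>
    (hA _ W.2.1).2 (resX P (q.preimage_mono W.2.2) z)
  obtain ⟨a, ha, -⟩ := resX_glue (fun W : {W : T.Opens // p W ∧ W ≤ V} => W.1)
    (fun W => W.2.2) (hcov V) r fun W W' =>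
      hinj _ (by rw [hnat, hnat, hr, hr, resX_resX, resX_resX])
  refine ⟨a, resX_ext (fun W : {W : T.Opens // p W ∧ W ≤ V} => q ⁻¹ᵁ W.1)
    (fun W => q.preimage_mono W.2.2) (fun x hx => ?_) fun W => ?_⟩
  · obtain ⟨W, hW⟩ := Opens.mem_iSup.1 (hcov V (show q x ∈ V from hx))
    exact Opens.mem_iSup.2 ⟨W, hW⟩
  · rw [← hnat W.2.2, ha, hr]

variable {X Y : Scheme.{u}} (f : X ⟶ Y) [IsProper f] [Flat f] [IsLocallyNoetherian Y]

include f in
theorem base_change_app_bijective (h0 : H0One f) {T P : Scheme.{u}} {g : T ⟶ Y} {pr : P ⟶ X}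
    {q : P ⟶ T} (hP : IsPullback pr q f g) (V : T.Opens) : Function.Bijective (q.app V) := by
  refine app_bijective_of_basis q (fun W => IsAffineOpen W ∧
    ∃ U : Y.Opens, IsAffineOpen U ∧ W ≤ g ⁻¹ᵁ U) ?_ ?_ V
  · rintro W ⟨hW, U, hU, hWU⟩
    obtain ⟨Q, θ, e1, -, he, he1, -, hB⟩ := exists_unit_rep f h0 hU
    let : Algebra Γ(Y, U) Γ(T, W) := (g.appLE U W hWU).hom.toAlgebra
    let k := (q ⁻¹ᵁ W).ι ≫ pr
    let f' := (q ∣_ W) ≫ hW.isoSpec.hom
    have hsq : IsPullback k f' f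
        (Spec.map (CommRingCat.ofHom (algebraMap Γ(Y, U) Γ(T, W))) ≫ hU.fromSpec) := by
      have h1 : IsPullback k (q ∣_ W) f (W.ι ≫ g) :=
        (isPullback_morphismRestrict q W).flip.paste_horiz hP
      refine h1.of_iso (Iso.refl _) (Iso.refl _) hW.isoSpec (Iso.refl _)
        (by simp) (by simp [f']) (by simp) ?_
      show (W.ι ≫ g) ≫ (Iso.refl Y).hom =
        hW.isoSpec.hom ≫ Spec.map (g.appLE U W hWU) ≫ hU.fromSpec
      rw [IsAffineOpen.SpecMap_appLE_fromSpec g hU hW hWU, Iso.refl_hom, Category.comp_id,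
        ← hW.isoSpec_inv_ι, Category.assoc, Iso.hom_inv_id_assoc]
    obtain ⟨θ', hθ', hlin, hnat⟩ := @hB Γ(T, W) _ _ _ k f' hsq
    have hk : ⊤ ≤ k ⁻¹ᵁ f ⁻¹ᵁ U := fun z _ => by
      show f (k z) ∈ (U : Set Y)
      rw [show f (k z) = hU.fromSpec
          (Spec.map (CommRingCat.ofHom (algebraMap Γ(Y, U) Γ(T, W))) (f' z))
        from congr($(hsq.w).base z), ← hU.range_fromSpec]
      exact ⟨_, rfl⟩
    let O' := (Scheme.Modules.pullback k).obj (Coh.structureModule X)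
    have hone : (pullUnit k).app ⊤ (θ' (Algebra.linearMap _ _ ∘ₗ e1)) = oneSec _ ⊤ := by
      rw [hnat e1 hk, he1, app_res, pullUnit_oneSec, res_oneSec]
    have hψ : Function.Bijective (fun b : Γ(T, W) =>
        θ' (LinearMap.mulLeft _ b ∘ₗ (Algebra.linearMap _ _ ∘ₗ e1))) := by
      refine hθ'.comp ⟨fun b b' h => ?_, fun ψ => ?_⟩
      · obtain ⟨e, he'⟩ := he.2 1
        simpa [he'] using LinearMap.congr_fun h e
      · obtain ⟨e, he'⟩ := he.2 1
        refine ⟨ψ e, LinearMap.ext fun x => ?_⟩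
        have hx : x = e1 x • e := he.1 (by rw [map_smul, he', smul_eq_mul, mul_one])
        conv_rhs => rw [hx]
        rw [map_smul, LinearMap.comp_apply, LinearMap.comp_apply, LinearMap.mulLeft_apply,
          Algebra.linearMap_apply, Algebra.smul_def, mul_comm]
    have hb : Function.Bijective (BC.bSec Γ(T, W) (f' := f') (⊤ : (q ⁻¹ᵁ W : Scheme).Opens)) := by
      have := isIso_pullUnit k
      have h2 := (ConcreteCategory.bijective_of_isIso ((pullUnit k).app ⊤)).comp hψ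
      have h3 : ∀ b : Γ(T, W), toFun ((pullUnit k).app ⊤
          (θ' (LinearMap.mulLeft _ b ∘ₗ (Algebra.linearMap _ _ ∘ₗ e1)))) =
          BC.bSec Γ(T, W) (f' := f') (⊤ : (q ⁻¹ᵁ W : Scheme).Opens) b := fun b => by
        rw [hlin, Scheme.Modules.Hom.app_smul, hone, toFun_smul, toFun_oneSec, mul_one]
      refine ⟨fun b b' h => h2.1 ((h3 b).trans (h.trans (h3 b').symm) : toFun _ = toFun _),
        fun r => ?_⟩
      obtain ⟨b, hb⟩ := h2.2 (r • oneSec _ ⊤)
      refine ⟨b, (h3 b).symm.trans ((congrArg toFun hb).trans ?_)⟩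
      rw [toFun_smul, toFun_oneSec, mul_one]
    have h4 : ∀ b, BC.bSec Γ(T, W) (f' := f') (⊤ : (q ⁻¹ᵁ W : Scheme).Opens) b =
        (q ⁻¹ᵁ W).topIso.inv (q.app W b) := fun b => by
      refine (resX_self _ _).trans ((toGlobal_restrict q hW b).trans ?_)
      exact (congr($((P.presheaf.map_comp _ _)) (q.app W b))).symm
    rw [show (BC.bSec Γ(T, W) (f' := f') (⊤ : (q ⁻¹ᵁ W : Scheme).Opens) : Γ(T, W) → _) =
      (q ⁻¹ᵁ W).topIso.inv ∘ q.app W from funext h4] at hb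
    exact (Function.Bijective.of_comp_iff'
      (ConcreteCategory.bijective_of_isIso (q ⁻¹ᵁ W).topIso.inv) _).1 hb
  · intro V t ht
    obtain ⟨_, ⟨U, hU, rfl⟩, hgU, -⟩ :=
      Y.isBasis_affineOpens.exists_subset_of_mem_open (Set.mem_univ (g t)) isOpen_univ
    obtain ⟨_, ⟨W, hW, rfl⟩, htW, hle⟩ :=
      T.isBasis_affineOpens.exists_subset_of_mem_open (show t ∈ ((V ⊓ g ⁻¹ᵁ U : T.Opens) : Set T)
        from ⟨ht, hgU⟩) (V ⊓ g ⁻¹ᵁ U).2
    exact ⟨W, ⟨hW, U, hU, fun z hz => (hle hz).2⟩, htW, fun z hz => (hle hz).1⟩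

end Groth.PicAux.Seesaw
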