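import Groth.Agent.PicAux.Cocycle
import Groth.Agent.PicAux.Pullback
import Mathlib.AlgebraicGeometry.AffineTransitionLimit

/-!
# Invertible modules on a limit of schemes come from a stage

For a cofiltered system of qcqs schemes with affine transition maps.
-/

universe u

open CategoryTheory Limits AlgebraicGeometry TopologicalSpace Opposite

noncomputable section

namespace Groth.PicAux.LimitInv

open Groth.PicAux

variable {I : Type u} [Category.{u} I] (D : I ⥤ Scheme.{u}) (c : Cone D)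

/-- Preimage of an open of a stage in a later stage. -/
abbrev pre {i m : I} (h : m ⟶ i) (V : (D.obj i).Opens) : (D.obj m).Opens := D.map h ⁻¹ᵁ V

/-- Preimage of an open of a stage in the limit. -/
abbrev lim {i : I} (V : (D.obj i).Opens) : c.pt.Opens := c.π.app i ⁻¹ᵁ V

theorem lim_le {i m : I} (h : m ⟶ i) (V : (D.obj i).Opens) :
    lim D c V ≤ c.π.app m ⁻¹ᵁ pre D h V := by
  rw [← Scheme.Hom.comp_preimage, c.w]

theorem pre_le {i m m' : I} (φ : m' ⟶ m) (h : m ⟶ i) (h' : m' ⟶ i) (e : φ ≫ h = h')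
    (V : (D.obj i).Opens) : pre D h' V ≤ D.map φ ⁻¹ᵁ pre D h V := by
  rw [← e, pre, Functor.map_comp, Scheme.Hom.comp_preimage]

theorem lim_mono {i : I} {V W : (D.obj i).Opens} (h : W ≤ V) : lim D c W ≤ lim D c V :=
  (c.π.app i).preimage_mono h

/-- Sections of a stage in the limit. -/
def toLim {i m : I} (h : m ⟶ i) (V : (D.obj i).Opens) :
    Γ(D.obj m, pre D h V) →+* Γ(c.pt, lim D c V) :=
  ((c.π.app m).appLE _ _ (lim_le D c h V)).hom

/-- Sections of a stage in a later stage. -/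
def trans {i m m' : I} (φ : m' ⟶ m) (h : m ⟶ i) (h' : m' ⟶ i) (e : φ ≫ h = h')
    (V : (D.obj i).Opens) : Γ(D.obj m, pre D h V) →+* Γ(D.obj m', pre D h' V) :=
  ((D.map φ).appLE _ _ (pre_le D φ h h' e V)).hom

theorem toLim_trans {i m m' : I} (φ : m' ⟶ m) (h : m ⟶ i) (h' : m' ⟶ i) (e : φ ≫ h = h')
    (V : (D.obj i).Opens) (s : Γ(D.obj m, pre D h V)) :
    toLim D c h' V (trans D φ h h' e V s) = toLim D c h V s := by
  simp only [toLim, trans]
  rw [← CommRingCat.comp_apply, Scheme.Hom.appLE_comp_appLE]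
  congr 2
  simp

theorem toLim_resX {i m : I} (h : m ⟶ i) {V W : (D.obj i).Opens} (hWV : W ≤ V)
    (s : Γ(D.obj m, pre D h V)) :
    toLim D c h W (resX _ ((D.map h).preimage_mono hWV) s) =
      resX c.pt (lim_mono D c hWV) (toLim D c h V s) :=
  (congr($(Scheme.Hom.map_appLE _ (lim_le D c h W)
      (homOfLE ((D.map h).preimage_mono hWV)).op) s)).trans
    (congr($(Scheme.Hom.appLE_map _ (lim_le D c h V)
      (homOfLE ((c.π.app i).preimage_mono hWV)).op) s)).symm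

variable [IsCofiltered I]

/-- Finitely many stages over `i` have a common refinement. -/
theorem exists_common {α : Type*} [Finite α] {i : I} (j : α → I) (f : ∀ a, j a ⟶ i) :
    ∃ (k : I) (g : k ⟶ i) (h : ∀ a, k ⟶ j a), ∀ a, h a ≫ f a = g := by
  classical
  cases nonempty_fintype α
  let O : Finset I := insert i (Finset.univ.image j)
  have hj : ∀ a, j a ∈ O := fun a => by simp [O]
  have hi : i ∈ O := by simp [O]
  let H : Finset (Σ' (X Y : I) (_ : X ∈ O) (_ : Y ∈ O), X ⟶ Y) :=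
    Finset.univ.image fun a => ⟨j a, i, hj a, hi, f a⟩
  obtain ⟨k, T, hT⟩ := IsCofiltered.inf_exists O H
  exact ⟨k, T hi, fun a => T (hj a), fun a =>
    hT (hj a) hi (Finset.mem_image.2 ⟨a, Finset.mem_univ a, rfl⟩)⟩

variable [∀ {i j} (f : i ⟶ j), IsAffineHom (D.map f)]
  [∀ i, QuasiSeparatedSpace (D.obj i)] (hc : IsLimit c)

set_option backward.defeqAttrib.useBackward true in
set_option backward.isDefEq.respectTransparency false in
open Scheme.Opens in
include hc in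
/-- Sections over the preimage of a quasi-compact open come from a stage. -/
theorem exists_toLim_eq {i : I} {V : (D.obj i).Opens} (hV : IsCompact (V : Set (D.obj i)))
    (s : Γ(c.pt, lim D c V)) :
    ∃ (j : I) (h : j ⟶ i) (t : Γ(D.obj j, pre D h V)), toLim D c h V t = s := by
  have hc' (j : Over i) : CompactSpace ((opensDiagram D i V).obj j) :=
    isCompact_iff_compactSpace.mp ((D.map j.hom).isCompact_preimage hV)
  have hq (j : Over i) : QuasiSeparatedSpace ((opensDiagram D i V).obj j) :=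
    (D.map j.hom ⁻¹ᵁ V).ι.isOpenEmbedding.quasiSeparatedSpace
  obtain ⟨j, t, ht⟩ := exists_appTop_π_eq_of_isLimit _ _
    (isLimitOpensCone D c hc i V) ((lim D c V).topIso.inv s)
  obtain ⟨t, rfl⟩ := (D.map j.hom ⁻¹ᵁ V).topIso.symm.commRingCatIsoToRingEquiv.surjective t
  refine ⟨j.left, j.hom, t, ?_⟩
  rw [toLim, eq_comm]
  convert!
    show s = ((topIso _).inv ≫ ((opensCone D c i V).π.app j).appTop ≫ (topIso _).hom) t from
      (lim D c V).topIso.commRingCatIsoToRingEquiv.symm_apply_eq.mp ht using 3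
  simp [Scheme.Hom.app_eq_appLE, Scheme.Hom.resLE_appLE]

omit [∀ i, QuasiSeparatedSpace (D.obj i)] in
include hc in
/-- Sections equal in the limit are equal at a later stage. -/
theorem exists_trans_eq {i m : I} (h : m ⟶ i) {V : (D.obj i).Opens}
    (hV : IsCompact (V : Set (D.obj i))) (s t : Γ(D.obj m, pre D h V))
    (hst : toLim D c h V s = toLim D c h V t) :
    ∃ (m' : I) (φ : m' ⟶ m), trans D φ h (φ ≫ h) rfl V s = trans D φ h (φ ≫ h) rfl V t := by
  have hU : IsCompact (X := D.obj m) (pre D h V) := (D.map h).isCompact_preimage hV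
  have he : (c.π.app m).app (pre D h V) s = (c.π.app m).app (pre D h V) t := by
    have key : c.π.app m ⁻¹ᵁ pre D h V ≤ lim D c V := by
      rw [← Scheme.Hom.comp_preimage, c.w]
    have h1 := congrArg (resX c.pt key) hst
    rw [Scheme.Hom.app_eq_appLE]
    exact (congr($(Scheme.Hom.appLE_map (c.π.app m) (lim_le D c h V) (homOfLE key).op) s)).symm.trans
      (h1.trans (congr($(Scheme.Hom.appLE_map (c.π.app m) (lim_le D c h V) (homOfLE key).op) t)))
  obtain ⟨m', φ, hφ⟩ := exists_app_map_eq_map_of_isLimit D c hc hU s t he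
  refine ⟨m', φ, ?_⟩
  simp only [trans, Scheme.Hom.appLE, CommRingCat.hom_comp, RingHom.comp_apply]
  exact congrArg _ hφ

omit [IsCofiltered I] [∀ {i j} (f : i ⟶ j), IsAffineHom (D.map f)]
  [∀ i, QuasiSeparatedSpace (D.obj i)] in
theorem trans_resX {i m m' : I} (φ : m' ⟶ m) (h : m ⟶ i) (h' : m' ⟶ i) (e : φ ≫ h = h')
    {V W : (D.obj i).Opens} (hWV : W ≤ V) (s : Γ(D.obj m, pre D h V)) :
    trans D φ h h' e W (resX _ ((D.map h).preimage_mono hWV) s) =
      resX _ ((D.map h').preimage_mono hWV) (trans D φ h h' e V s) :=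
  (congr($(Scheme.Hom.map_appLE _ (pre_le D φ h h' e W)
      (homOfLE ((D.map h).preimage_mono hWV)).op) s)).trans
    (congr($(Scheme.Hom.appLE_map _ (pre_le D φ h h' e V)
      (homOfLE ((D.map h').preimage_mono hWV)).op) s)).symm

include hc in
/-- An invertible module on the limit comes from a stage. -/
theorem exists_stage_invertible [∀ i, CompactSpace (D.obj i)] (i₀ : I) {L : c.pt.Modules}
    (hL : PicF.IsInvertible L) :
    ∃ (m : I) (_ : m ⟶ i₀) (L₀ : (D.obj m).Modules), PicF.IsInvertible L₀ ∧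
      Nonempty ((Scheme.Modules.pullback (c.π.app m)).obj L₀ ≅ L) := by
  classical
  have := Scheme.compactSpace_of_isLimit D c hc
  have hloc : ∀ x : c.pt, ∃ (U : c.pt.Opens) (e : Γ(L, U)),
      IsAffineOpen U ∧ x ∈ U ∧ Gen L U e := fun x => by
    obtain ⟨U, e, hxU, he⟩ := (isInvertible_iff_exists_gen L).1 hL x
    obtain ⟨_, ⟨W, hW, rfl⟩, hxW, hle⟩ :=
      c.pt.isBasis_affineOpens.exists_subset_of_mem_open hxU U.2
    exact ⟨W, res L hle e, hW, hxW, he.res _⟩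
  choose U₀ e₀ hU₀ hxU₀ he₀ using hloc
  obtain ⟨J, hJ⟩ := isCompact_univ.elim_finite_subcover (fun x => (U₀ x : Set c.pt))
    (fun x => (U₀ x).2) (fun x _ => Set.mem_iUnion.2 ⟨x, hxU₀ x⟩)
  have hcov : TopologicalSpace.IsOpenCover (fun a : J => U₀ a.1) := eq_top_iff.2 fun x _ => by
    obtain ⟨y, hy, hxy⟩ := Set.mem_iUnion₂.1 (hJ (Set.mem_univ x))
    exact Opens.mem_iSup.2 ⟨⟨y, hy⟩, hxy⟩
  obtain ⟨i₁, V₁, hV₁, hV₁'⟩ := Scheme.exists_isOpenCover_and_isAffine_of_finite D c hc _ hcov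
    fun a => hU₀ a.1
  let i := IsCofiltered.min i₁ i₀
  let p : i ⟶ i₁ := IsCofiltered.minToLeft i₁ i₀
  let V : J → (D.obj i).Opens := fun a => D.map p ⁻¹ᵁ V₁ a
  have hVc : ∀ a, IsCompact (V a : Set (D.obj i)) := fun a =>
    ((hV₁' a).1.preimage (D.map p)).isCompact
  have hVle : ∀ a, lim D c (V a) ≤ U₀ a.1 := fun a => by
    rw [(hV₁' a).2, lim, ← Scheme.Hom.comp_preimage, c.w]
  have hVtop : iSup V = ⊤ := eq_top_iff.2 fun x _ => by
    obtain ⟨a, ha⟩ := Opens.mem_iSup.1 (hV₁.iSup_eq_top.ge (Set.mem_univ (D.map p x)))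
    exact Opens.mem_iSup.2 ⟨a, ha⟩
  have he : ∀ a, Gen L (lim D c (V a)) (res L (hVle a) (e₀ a.1)) := fun a => (he₀ a.1).res _
  let e : ∀ a, Γ(L, lim D c (V a)) := fun a => res L (hVle a) (e₀ a.1)
  choose u hu using fun a b =>
    ((he b).res (inf_le_right : lim D c (V a) ⊓ lim D c (V b) ≤ lim D c (V b))).exists_unit
      ((he a).res (inf_le_left : lim D c (V a) ⊓ lim D c (V b) ≤ lim D c (V a)))
  have hVab : ∀ a b, IsCompact ((V a ⊓ V b : (D.obj i).Opens) : Set (D.obj i)) := fun a b =>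
    QuasiSeparatedSpace.inter_isCompact _ _ (V a).2 (hVc a) (V b).2 (hVc b)
  choose j₁ f₁ t₁ ht₁ using fun q : J × J =>
    exists_toLim_eq D c hc (hVab q.1 q.2) (u q.1 q.2).val
  choose j₂ f₂ t₂ ht₂ using fun q : J × J =>
    exists_toLim_eq D c hc (hVab q.1 q.2)
      (u q.1 q.2)⁻¹.val
  obtain ⟨m₁, g₁, h₁, hh₁⟩ := exists_common (Sum.elim j₁ j₂)
    (fun q : (J × J) ⊕ (J × J) => match q with | .inl q => f₁ q | .inr q => f₂ q)
  let η : ∀ a b, Γ(D.obj m₁, pre D g₁ (V a ⊓ V b)) := fun a b =>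
    trans D (h₁ (.inl (a, b))) (f₁ (a, b)) g₁ (hh₁ (.inl (a, b))) _ (t₁ (a, b))
  let η' : ∀ a b, Γ(D.obj m₁, pre D g₁ (V a ⊓ V b)) := fun a b =>
    trans D (h₁ (.inr (a, b))) (f₂ (a, b)) g₁ (hh₁ (.inr (a, b))) _ (t₂ (a, b))
  have hη : ∀ a b, toLim D c g₁ _ (η a b) = (u a b).val := fun a b =>
    (toLim_trans D c _ _ _ _ _ _).trans (ht₁ (a, b))
  have hη' : ∀ a b, toLim D c g₁ _ (η' a b) =
      (u a b)⁻¹.val := fun a b =>
    (toLim_trans D c _ _ _ _ _ _).trans (ht₂ (a, b))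
  have hVabc : ∀ a b d, IsCompact ((V a ⊓ V b ⊓ V d : (D.obj i).Opens) : Set (D.obj i)) :=
    fun a b d => QuasiSeparatedSpace.inter_isCompact _ _ (V a ⊓ V b).2 (hVab a b) (V d).2 (hVc d)
  choose k₁ φ₁ hφ₁ using fun q : J × J =>
    exists_trans_eq D c hc g₁ (hVab q.1 q.2) (η q.1 q.2 * η' q.1 q.2) 1 (by
      rw [map_mul, hη, hη']; exact (Units.mul_inv _).trans (map_one _).symm)
  choose k₂ φ₂ hφ₂ using fun q : J × J × J =>
    exists_trans_eq D c hc g₁ (hVabc q.1 q.2.1 q.2.2)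
      (resX _ ((D.map g₁).preimage_mono (inf_le_inf_right _ inf_le_left :
        V q.1 ⊓ V q.2.1 ⊓ V q.2.2 ≤ V q.1 ⊓ V q.2.2)) (η q.1 q.2.2))
      (resX _ ((D.map g₁).preimage_mono inf_le_left) (η q.1 q.2.1) *
        resX _ ((D.map g₁).preimage_mono (inf_le_inf_right _ inf_le_right :
          V q.1 ⊓ V q.2.1 ⊓ V q.2.2 ≤ V q.2.1 ⊓ V q.2.2)) (η q.2.1 q.2.2)) (by
      obtain ⟨x, y, z⟩ := q
      rw [map_mul, toLim_resX D c g₁ (inf_le_inf_right _ inf_le_left : V x ⊓ V y ⊓ V z ≤ V x ⊓ V z),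
        toLim_resX D c g₁ (inf_le_left : V x ⊓ V y ⊓ V z ≤ V x ⊓ V y),
        toLim_resX D c g₁ (inf_le_inf_right _ inf_le_right : V x ⊓ V y ⊓ V z ≤ V y ⊓ V z), hη, hη, hη]
      refine (he z).smul_inj (lim_mono D c (inf_le_right : V x ⊓ V y ⊓ V z ≤ V z)) ?_
      have e1 := congrArg (res L (inf_le_inf_right (lim D c (V z)) inf_le_left :
        lim D c (V x) ⊓ lim D c (V y) ⊓ lim D c (V z) ≤ lim D c (V x) ⊓ lim D c (V z))) (hu x z)
      have e2 := congrArg (res L (inf_le_left :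
        lim D c (V x) ⊓ lim D c (V y) ⊓ lim D c (V z) ≤ lim D c (V x) ⊓ lim D c (V y))) (hu x y)
      have e3 := congrArg (res L (inf_le_inf_right (lim D c (V z)) inf_le_right :
        lim D c (V x) ⊓ lim D c (V y) ⊓ lim D c (V z) ≤ lim D c (V y) ⊓ lim D c (V z))) (hu y z)
      simp only [res_smul, res_res] at e1 e2 e3 ⊢
      rw [mul_smul]
      exact e1.symm.trans (e2.trans (congrArg (_ • ·) e3)))
  obtain ⟨m, g, h₂, hh₂⟩ := exists_common (Sum.elim k₁ k₂)
    (fun q : (J × J) ⊕ (J × J × J) => match q with | .inl q => φ₁ q | .inr q => φ₂ q)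
  have push : ∀ (q : (J × J) ⊕ (J × J × J)) {W : (D.obj i).Opens}
      (s s' : Γ(D.obj m₁, pre D g₁ W)) (k : I) (φ : k ⟶ m₁) (hk : m ⟶ k) (_ : hk ≫ φ = g),
      trans D φ g₁ (φ ≫ g₁) rfl W s = trans D φ g₁ (φ ≫ g₁) rfl W s' →
        trans D g g₁ (g ≫ g₁) rfl W s = trans D g g₁ (g ≫ g₁) rfl W s' := by
    intro q W s s' k φ hk hkφ hss
    subst hkφ
    have key : ∀ s, trans D (hk ≫ φ) g₁ ((hk ≫ φ) ≫ g₁) rfl W s =
        trans D hk (φ ≫ g₁) ((hk ≫ φ) ≫ g₁) (Category.assoc _ _ _).symm W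
          (trans D φ g₁ (φ ≫ g₁) rfl W s) := fun s => by
      simp only [trans]
      rw [← CommRingCat.comp_apply, Scheme.Hom.appLE_comp_appLE]
      congr 2
      simp
    rw [key, key, hss]
  let ζ : ∀ a b, Γ(D.obj m, pre D (g ≫ g₁) (V a) ⊓ pre D (g ≫ g₁) (V b)) := fun a b =>
    trans D g g₁ (g ≫ g₁) rfl _ (η a b)
  obtain ⟨L₀, s, hs, hL₀, hrel⟩ := exists_module_of_cocycle (fun a => pre D (g ≫ g₁) (V a)) ζ
    (eq_top_iff.2 fun x _ => by
      obtain ⟨a, ha⟩ := Opens.mem_iSup.1 (hVtop.ge (Set.mem_univ (D.map (g ≫ g₁) x)))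
      exact Opens.mem_iSup.2 ⟨a, ha⟩)
    (fun a b => isUnit_iff_exists_inv.2 ⟨trans D g g₁ (g ≫ g₁) rfl _ (η' a b), by
      refine (map_mul _ _ _).symm.trans ((push (.inl (a, b)) _ 1 _ _ (h₂ (.inl (a, b)))
        (hh₂ (.inl (a, b))) (hφ₁ (a, b))).trans (map_one _))⟩)
    fun x y z => by
      have h := push (.inr (x, y, z)) _ _ _ _ (h₂ (.inr (x, y, z))) (hh₂ (.inr (x, y, z)))
        (hφ₂ (x, y, z))
      rw [map_mul,
        trans_resX D g g₁ _ rfl (inf_le_inf_right _ inf_le_left : V x ⊓ V y ⊓ V z ≤ V x ⊓ V z),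
        trans_resX D g g₁ _ rfl (inf_le_left : V x ⊓ V y ⊓ V z ≤ V x ⊓ V y),
        trans_resX D g g₁ _ rfl (inf_le_inf_right _ inf_le_right : V x ⊓ V y ⊓ V z ≤ V y ⊓ V z)] at h
      exact h
  refine ⟨m, (g ≫ g₁) ≫ IsCofiltered.minToRight i₁ i₀, L₀, hL₀, ?_⟩
  obtain ⟨E, -⟩ := exists_iso_of_gen (U := fun a => lim D c (V a))
    (eq_top_iff.2 fun x _ => by
      obtain ⟨a, ha⟩ := Opens.mem_iSup.1 (hVtop.ge (Set.mem_univ (c.π.app i x)))
      exact Opens.mem_iSup.2 ⟨a, ha⟩)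
    (fun a => res _ (lim_le D c (g ≫ g₁) (V a)) (pullSec (c.π.app m) L₀ (s a)))
    (fun a => ((hs a).pull _).res _) e he fun x y r hr => by
      have hxy : lim D c (V x) ⊓ lim D c (V y) ≤
          c.π.app m ⁻¹ᵁ (pre D (g ≫ g₁) (V x) ⊓ pre D (g ≫ g₁) (V y)) :=
        lim_le D c (g ≫ g₁) (V x ⊓ V y)
      have h1 := congrArg (fun t => res _ hxy (pullSec (c.π.app m) L₀ t)) (hrel x y)
      simp only [res_res] at hr
      rw [pullSec_smul, res_smul, ← res_pullSec, ← res_pullSec, res_res, res_res] at h1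
      have h2 : (u x y).val = r := by
        refine ((hs y).pull (c.π.app m)).smul_inj
          ((lim_le D c (g ≫ g₁) (V x ⊓ V y)).trans
            ((c.π.app m).preimage_mono ((D.map (g ≫ g₁)).preimage_mono inf_le_right))) ?_
        rw [← hη, ← toLim_trans D c g g₁ (g ≫ g₁) rfl]
        exact h1.symm.trans hr
      subst h2
      exact hu x y
  exact ⟨E⟩

end Groth.PicAux.LimitInv
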