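import Groth.Agent.PicAux.RigClasses
import Groth.Agent.PicAux.LimitInv
import Groth.Agent.PicAux.H0Universal
import Groth.Agent.AlgGrp1.PushIso
import Groth.Agent.Pi1Field.Limit
import Groth.Agent.GaloisBrauer.H13.GaloisTorsor
import Groth.Prelude.Def_PicF2

/-!
# Galois descent of invertible classes in the presence of a rational point
-/

set_option autoImplicit false
set_option backward.isDefEq.respectTransparency false
set_option backward.isDefEq.respectTransparency.types false

universe u

open CategoryTheory CategoryTheory.Limits AlgebraicGeometry TopologicalSpace Opposite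
open MonoidalCategory CartesianMonoidalCategory
open scoped Groth.Abvar.PicCalc

noncomputable section

namespace Groth.PicAux.GalDescent

open Groth.Abvar.PicCalc (pull pull_cls pull_comp pull_id cls eq_one_of_subsingleton)
open Groth.GaloisBrauer.H13 (specOver galAut isIso_graph)
open Groth.PicCurve (RS ConstFun ext_of_cover XTmap_fst XTmap_sq XTmap_snd)
open Groth.PicAux.RigDescent (W₂ W₃ pr₁ pr₂ map_injective exists_map_eq singleton_mem_fpqc
  surjective_XTmap)
open Groth.Flatmor4.OverRep (piece pieceHom)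
open Groth.Pi1Field (ext proj sys sysCone isLimitSysCone exists_field_over toBase)

variable {k : Type u} [Field k] {X : Scheme.{u}} {f : X ⟶ Spec (CommRingCat.of k)}

/-- Everything is flat over a field. -/
theorem flat_to_field {T : Scheme.{u}} (p : T ⟶ Spec (CommRingCat.of k)) : Flat p := by
  rw [IsZariskiLocalAtSource.iff_of_openCover (P := @Flat) T.affineOpenCover.openCover]
  intro i
  obtain ⟨φ, hφ⟩ : ∃ φ : CommRingCat.of k ⟶ T.affineOpenCover.X i,
      Spec.map φ = T.affineOpenCover.f i ≫ p := ⟨_, Spec.map_preimage _⟩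
  show Flat (T.affineOpenCover.f i ≫ p)
  rw [← hφ, Flat.SpecMap_iff]
  algebraize [φ.hom]
  exact (inferInstance : Module.Flat k ↑(T.affineOpenCover.X i))

/-- Base changes of a qcqs scheme with only constant functions over a field have only constant
functions. -/
theorem constFun_of_field [CompactSpace X] [QuasiSeparatedSpace X] (h : IsIso f.appTop) :
    ConstFun f := by
  intro T V
  have : QuasiCompact f := HasAffineProperty.iff_of_isAffine.mpr ‹_›
  have : QuasiSeparated f := QuasiSeparated.of_quasiSeparatedSpace f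
  have := flat_to_field T.hom
  have hf : ∀ U : (Spec (CommRingCat.of k)).Opens, IsAffineOpen U → IsIso (f.app U) := by
    intro U _
    by_cases hU : U = ⊥
    · subst hU
      have : Subsingleton Γ(Spec (CommRingCat.of k), ⊥) :=
        CommRingCat.subsingleton_of_isTerminal ((Spec (CommRingCat.of k)).sheaf.isTerminalOfEqEmpty rfl)
      have : Subsingleton Γ(X, f ⁻¹ᵁ ⊥) :=
        CommRingCat.subsingleton_of_isTerminal (X.sheaf.isTerminalOfEqEmpty rfl)
      exact (ConcreteCategory.isIso_iff_bijective _).2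
        ⟨fun a b _ => Subsingleton.elim a b, fun b => ⟨0, Subsingleton.elim _ _⟩⟩
    · obtain rfl : U = ⊤ := by
        obtain ⟨x, hx⟩ := Set.nonempty_iff_ne_empty.2 (fun h' => hU (SetLike.ext' h'))
        exact eq_top_iff.2 fun y _ => Subsingleton.elim x y ▸ hx
      exact h
  have hp := AlgGrp1.PushIso.baseChange (IsPullback.of_hasPullback f T.hom) hf
  refine Seesaw.app_bijective_of_basis (PicF.XTproj f T)
    (fun W => IsIso ((PicF.XTproj f T).app W)) (fun W hW => ?_) (fun V t ht => ?_) V
  · exact @ConcreteCategory.bijective_of_isIso _ _ _ _ _ _ _ _ _ hW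
  · obtain ⟨B, -, h1, h2, h3⟩ := hp V t ht
    exact ⟨B, h3, h1, h2⟩

variable {x : Spec (CommRingCat.of k) ⟶ X} {hx : x ≫ f = 𝟙 _}

/-- Every class on the base change to a field is rigidified. -/
def rsOf {l : Type u} [Field l] [Algebra k l]
    (c : PicLoc.PicSet (PicF.XT f (specOver k l))) : RS f x hx (specOver k l) :=
  ⟨c, haveI : Subsingleton ↥(specOver k l).left :=
      inferInstanceAs (Subsingleton ↥(Spec (CommRingCat.of l)))
    eq_one_of_subsingleton _⟩

theorem surjective_to_field {l : Type u} [Field l] {T : Scheme.{u}} [Nonempty T]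
    (p : T ⟶ Spec (CommRingCat.of l)) : Surjective p :=
  ⟨fun _ => ⟨Classical.arbitrary T, Subsingleton.elim _ _⟩⟩

theorem mem_fpqc_XTmap {T U : Over (Spec (CommRingCat.of k))} (v : U ⟶ T) [Flat v.left]
    [QuasiCompact v.left] [Surjective v.left] :
    Presieve.ofArrows (fun _ : PUnit.{u + 1} => PicF.XT f U)
      (fun _ => PicF.XTmap f v) ∈ Scheme.fpqcPrecoverage (PicF.XT f T) := by
  have h := (XTmap_sq f v).flip
  have : Flat (PicF.XTmap f v) := MorphismProperty.of_isPullback (P := @Flat) h ‹_›
  have : QuasiCompact (PicF.XTmap f v) := MorphismProperty.of_isPullback (P := @QuasiCompact) h ‹_›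
  have := surjective_XTmap (f := f) v
  exact singleton_mem_fpqc _

/-- Classes on base changes to fields inject along field extensions. -/
theorem pull_injective (hc : ConstFun f) (hx : x ≫ f = 𝟙 _) {l m : Type u} [Field l] [Field m]
    [Algebra k l] [Algebra k m] (v : specOver k m ⟶ specOver k l) :
    Function.Injective (pull (PicF.XTmap f v)) := by
  intro c d h
  have : Flat v.left := flat_to_field (k := l) v.left
  have : QuasiCompact v.left :=
    HasAffineProperty.iff_of_isAffine (f := (v.left : Spec _ ⟶ Spec (CommRingCat.of l))).mpr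
      (inferInstanceAs (CompactSpace ↥(Spec (CommRingCat.of m))))
  have : Surjective v.left :=
    haveI : Nonempty ↥(specOver k m).left := inferInstanceAs (Nonempty ↥(Spec (CommRingCat.of m)))
    surjective_to_field (l := l) v.left
  exact congrArg Subtype.val (map_injective v (mem_fpqc_XTmap v) (hc (W₂ v) ⊤)
    (a₁ := rsOf (x := x) (hx := hx) c) (a₂ := rsOf d) (Subtype.ext h))

variable {l : Type u} [Field l] [Algebra k l] [FiniteDimensional k l] [IsGalois k l]

variable (k l) in
/-- The structure map to the point. -/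
abbrev toPt : specOver k l ⟶ Over.mk (𝟙 (Spec (CommRingCat.of k))) :=
  Over.homMk (ext k l) (Category.comp_id _)

variable (k l) in
/-- All graphs of automorphisms together. -/
def graphs : (∐ fun _ : l ≃ₐ[k] l => Spec (CommRingCat.of l)) ⟶ (W₂ (toPt k l)).left :=
  Sigma.desc (fun σ : l ≃ₐ[k] l => (lift (galAut k l σ) (𝟙 (specOver k l))).left)

instance isIso_graphs : IsIso (graphs k l) := isIso_graph k l

omit [FiniteDimensional k l] [IsGalois k l] in
theorem graphs_fst (σ : l ≃ₐ[k] l) :
    Sigma.ι (fun _ : l ≃ₐ[k] l => Spec (CommRingCat.of l)) σ ≫ graphs k l ≫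
      pullback.fst (ext k l) (ext k l) = (galAut k l σ).left :=
  (Sigma.ι_desc_assoc _ _ _).trans
    (congrArg (fun t => t.left) (lift_fst (galAut k l σ) (𝟙 (specOver k l))))

omit [FiniteDimensional k l] [IsGalois k l] in
theorem graphs_snd (σ : l ≃ₐ[k] l) :
    Sigma.ι (fun _ : l ≃ₐ[k] l => Spec (CommRingCat.of l)) σ ≫ graphs k l ≫
      pullback.snd (ext k l) (ext k l) = 𝟙 _ :=
  (Sigma.ι_desc_assoc _ _ _).trans
    (congrArg (fun t => t.left) (lift_snd (galAut k l σ) (𝟙 (specOver k l))))

/-- An invariant class has equal inverse images on the double product. -/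
theorem glue_of_invariant (hc : ConstFun f) (c' : RS f x hx (specOver k l))
    (hfix : ∀ τ : l ≃ₐ[k] l, c'.map (galAut k l τ) = c') :
    c'.map (pr₁ (toPt k l)) = c'.map (pr₂ (toPt k l)) := by
  let 𝒰 : Scheme.OpenCover.{u} (W₂ (toPt k l)).left :=
    (sigmaOpenCover fun _ : l ≃ₐ[k] l => Spec (CommRingCat.of l)).pushforwardIso (graphs k l)
  refine ext_of_cover hc 𝒰 fun (σ : l ≃ₐ[k] l) => ?_
  have hfst : 𝒰.f σ ≫ pullback.fst (ext k l) (ext k l) = (galAut k l σ).left :=
    (Category.assoc _ _ _).trans (graphs_fst σ)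
  have hsnd : 𝒰.f σ ≫ pullback.snd (ext k l) (ext k l) = 𝟙 (Spec (CommRingCat.of l)) :=
    (Category.assoc _ _ _).trans (graphs_snd σ)
  let e : piece (W₂ (toPt k l)) 𝒰 σ ⟶ specOver k l := Over.homMk (𝟙 (Spec (CommRingCat.of l))) (by
    show 𝟙 _ ≫ ext k l = 𝒰.f σ ≫ pullback.fst (ext k l) (ext k l) ≫ ext k l
    rw [← Category.assoc (𝒰.f σ), hfst, Category.id_comp]
    exact (Over.w (galAut k l σ)).symm)
  have h1 : pieceHom (W₂ (toPt k l)) 𝒰 σ ≫ pr₁ (toPt k l) = e ≫ galAut k l σ :=
    Over.OverMorphism.ext (hfst.trans (Category.id_comp _).symm)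
  have h2 : pieceHom (W₂ (toPt k l)) 𝒰 σ ≫ pr₂ (toPt k l) = e := Over.OverMorphism.ext hsnd
  rw [PicCurve.map_map, PicCurve.map_map, h1, h2, ← PicCurve.map_map, hfix]

/-- Descent along a finite Galois extension. -/
theorem exists_descent_finite (hc : ConstFun f) (c' : RS f x hx (specOver k l))
    (hfix : ∀ τ : l ≃ₐ[k] l, c'.map (galAut k l τ) = c') :
    ∃ c : PicLoc.PicSet X, pull (pullback.fst f (ext k l)) c = c'.1 := by
  let v := toPt k l
  have : Flat v.left := flat_to_field (ext k l)
  have : QuasiCompact v.left := inferInstanceAs (QuasiCompact (ext k l))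
  have : Surjective v.left := surjective_to_field (ext k l)
  obtain ⟨c₀, h₀⟩ := exists_map_eq v (mem_fpqc_XTmap v) (hc _ ⊤) (hc _ ⊤) c'
    (glue_of_invariant hc c' hfix)
  have : IsIso (pullback.fst f (𝟙 (Spec (CommRingCat.of k)))) := inferInstance
  refine ⟨pull (inv (pullback.fst f (𝟙 (Spec (CommRingCat.of k))))) c₀.1, ?_⟩
  rw [← congrArg Subtype.val h₀, ← pull_comp]
  refine congrArg (fun g => pull g c₀.1) ?_
  rw [IsIso.comp_inv_eq]
  exact (XTmap_fst f v).symm

omit [FiniteDimensional k l] [IsGalois k l] in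
theorem proj_eq (L : IntermediateField k l) (v : specOver k l ⟶ specOver k L)
    (hv : v.left = Spec.map (CommRingCat.ofHom (algebraMap L l))) :
    proj l f L = PicF.XTmap f v := by
  apply pullback.hom_ext
  · rw [Groth.Pi1Field.proj_fst]; exact (XTmap_fst f v).symm
  · rw [Groth.Pi1Field.proj_snd]
    exact (((XTmap_snd f v).trans (congrArg _ hv))).symm

end Groth.PicAux.GalDescent
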