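import Groth.Agent.DescentBase.QCohHom

/-!
# Descent of a global section with equal inverse images on the double product
-/

set_option autoImplicit false
set_option backward.isDefEq.respectTransparency.types false

universe u

open CategoryTheory CategoryTheory.Limits AlgebraicGeometry TopologicalSpace Opposite

namespace Groth.PicAux.RigDescent

open Groth.DescentBase

variable {ι : Type u} {S : Scheme.{u}} {X : ι → Scheme.{u}} {f : ∀ i, X i ⟶ S}

/-- A compatible family of global elements descends. -/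
theorem exists_section_family (hf : Presieve.ofArrows X f ∈ Scheme.fpqcPrecoverage S)
    (N : S.Modules) [N.IsQuasicoherent] (s : ∀ i, El N (f i))
    (h : ∀ (i j : ι) (Y : Scheme.{u}) (g₁ : Y ⟶ X i) (g₂ : Y ⟶ X j) (e : g₁ ≫ f i = g₂ ≫ f j),
      bc g₁ (f i) (g₁ ≫ f i) rfl (s i) = bc g₂ (f j) (g₁ ≫ f i) e.symm (s j)) :
    ∃ n : Γ(N, ⊤), ∀ i, PicAux.pullSec (f i) N n = QCohMod.res _ le_top (s i) := by
  let s' : ∀ i, Γ((Scheme.Modules.pullback (f i)).obj N, f i ⁻¹ᵁ ⊤) := fun i =>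
    QCohMod.res _ le_top (s i)
  refine exists_pullSec_eq (s := s') hf N ?_
  intro i j Y g₁ g₂ hg h₁ h₂
  refine (flat_bijective (N := N) (f j) g₂ (g₁ ≫ f i) hg.symm).1 ?_
  refine (flat_dEl_ofObj N g₁ g₂ hg _ rfl _).trans ?_
  have hflat : ∀ (k : ι) (g : Y ⟶ X k) (hg' : g ≫ f k = g₁ ≫ f i) (hh : ⊤ ≤ g ⁻¹ᵁ f k ⁻¹ᵁ ⊤),
      flat (N := N) (f k) g (g₁ ≫ f i) hg' (el g hh (s' k)) = bc g (f k) (g₁ ≫ f i) hg' (s k) :=
    fun k g hg' hh => congrArg ((pullTo g (f k) (g₁ ≫ f i) hg' N).hom.app ⊤)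
      ((el_res g hh le_top (s k)).trans (QCohMod.res_self _ _))
  exact (hflat i g₁ rfl h₁).trans ((h i j Y g₁ g₂ hg).trans (hflat j g₂ hg.symm h₂).symm)

/-- A global element with equal inverse images on the double product descends. -/
theorem exists_section_of_bc {P Q : Scheme.{u}} (q : P ⟶ Q)
    (hq : Presieve.ofArrows (fun _ : PUnit.{u + 1} => P) (fun _ => q) ∈ Scheme.fpqcPrecoverage Q)
    (M : Q.Modules) [M.IsQuasicoherent] (s : El M q)
    (h : ∀ (Y : Scheme.{u}) (g₁ g₂ : Y ⟶ P) (e : g₁ ≫ q = g₂ ≫ q),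
      bc g₁ q (g₁ ≫ q) rfl s = bc g₂ q (g₁ ≫ q) e.symm s) :
    ∃ n : Γ(M, ⊤), PicAux.pullSec q M n = QCohMod.res _ le_top s := by
  obtain ⟨n, hn⟩ := exists_section_family hq M (fun _ => s) fun _ _ => h
  exact ⟨n, hn PUnit.unit⟩

end Groth.PicAux.RigDescent
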