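import Groth.Agent.PicAux.RigDescentBase
import Groth.Agent.PicAux.SectionDescent

/-!
# Rigidified invertible modules trivial after a flat cover
-/

set_option autoImplicit false
set_option backward.isDefEq.respectTransparency false
set_option backward.isDefEq.respectTransparency.types false

universe u

open CategoryTheory CategoryTheory.Limits AlgebraicGeometry TopologicalSpace Opposite

noncomputable section

namespace Groth.PicAux.RigDescent

open RigNormal Groth.DescentBase Groth.ThetaAlg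
open Groth.Abvar.PicCalc (pull pull_cls cls)
open Groth.PicCurve (XTmap_sq XTmap_snd XTmap_comp' XTmap_id' secT_map secT_proj RS)


variable {X S : Scheme.{u}} {f : X ⟶ S} {σ : S ⟶ X} {hσ : σ ≫ f = 𝟙 S}

local notation "secσ" => PicF.secT f σ hσ

variable {T U : Over S} (v : U ⟶ T)
  (hq : Presieve.ofArrows (fun _ : PUnit.{u + 1} => PicF.XT f U)
    (fun _ => PicF.XTmap f v) ∈ Scheme.fpqcPrecoverage (PicF.XT f T))
  (hU : Function.Bijective (PicF.XTproj f U).appTop)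
  (h₂ : Function.Bijective (PicF.XTproj f (W₂ v)).appTop)

include hq h₂ in
/-- An invertible module trivial along the section and after an fpqc base change is trivial. -/
theorem trivial_of_pullback [Surjective (PicF.XTmap f v)]
    {M : (PicF.XT f T).Modules} (hM : PicF.IsInvertible M)
    (hs : Nonempty ((Scheme.Modules.pullback (secσ T)).obj M ≅ Coh.structureModule _))
    (hp : Nonempty ((Scheme.Modules.pullback (PicF.XTmap f v)).obj M ≅ Coh.structureModule _)) :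
    Nonempty (M ≅ Coh.structureModule _) := by
  rw [PicAux.nonempty_iso_structure_iff] at hs hp ⊢
  obtain ⟨τ, hτ⟩ := hs
  obtain ⟨s₀, hs₀⟩ := hp
  let q := PicF.XTmap f v
  let t : El M (secσ U ≫ q) := bc v.left (secσ T) (secσ U ≫ q) (secT_left v) τ
  obtain ⟨c, hc⟩ := (gen_bc (secσ U) q (secσ U ≫ q) rfl hs₀).exists_unit
    (gen_bc v.left (secσ T) (secσ U ≫ q) (secT_left v) hτ : Gen _ ⊤ t)
  let s : El M q := (PicF.XTproj f U).appTop (c : Γ(U.left, ⊤)) • s₀
  have hsg : Gen ((Scheme.Modules.pullback q).obj M) ⊤ s := hs₀.smul_unit (c.isUnit.map _)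
  have hst : bc (secσ U) q (secσ U ≫ q) rfl s = t := by
    show bc (secσ U) q (secσ U ≫ q) rfl ((PicF.XTproj f U).appTop (c : Γ(U.left, ⊤)) • s₀) = t
    rw [bc_smul]
    refine Eq.trans ?_ hc.symm
    congr 1
    rw [← CategoryTheory.comp_apply, ← Scheme.Hom.comp_appTop, secT_proj]
    rfl
  have e₁₂ : PicF.XTmap f (pr₂ v) ≫ q = PicF.XTmap f (pr₁ v) ≫ q := by
    rw [← XTmap_comp', ← XTmap_comp', pr_condition]
  let x₁ : El M (PicF.XTmap f (pr₁ v) ≫ q) := bc (PicF.XTmap f (pr₁ v)) q _ rfl s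
  let x₂ : El M (PicF.XTmap f (pr₁ v) ≫ q) := bc (PicF.XTmap f (pr₂ v)) q _ e₁₂ s
  have hx : x₁ = x₂ := by
    obtain ⟨r, hr⟩ := (gen_bc (PicF.XTmap f (pr₂ v)) q _ e₁₂ hsg : Gen _ ⊤ x₂).exists_unit
      (gen_bc (PicF.XTmap f (pr₁ v)) q _ rfl hsg : Gen _ ⊤ x₁)
    obtain ⟨d, hd⟩ := h₂.2 (r : Γ(PicF.XT f (W₂ v), ⊤))
    let z := secσ (W₂ v) ≫ PicF.XTmap f (pr₁ v) ≫ q
    have key : ∀ (a : W₂ v ⟶ U) (ha : PicF.XTmap f a ≫ q = PicF.XTmap f (pr₁ v) ≫ q)
        (hv : a ≫ v = pr₁ v ≫ v),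
        bc (secσ (W₂ v)) _ z rfl (bc (PicF.XTmap f a) q _ ha s) =
          bc (pr₁ v ≫ v).left (secσ T) z (by
            rw [secT_left, XTmap_comp']) τ := by
      intro a ha hv
      rw [bc_bc (secσ (W₂ v)) (PicF.XTmap f a) (secσ (W₂ v) ≫ PicF.XTmap f a) rfl q _ ha z rfl
          (by rw [Category.assoc, ha]) s,
        ← bc_bc a.left (secσ U) (secσ (W₂ v) ≫ PicF.XTmap f a) (secT_left a) q (secσ U ≫ q) rfl z
          (by rw [← Category.assoc, secT_left, Category.assoc, ha]) _ s, hst]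
      exact bc_bc a.left v.left (pr₁ v ≫ v).left (congrArg (fun h => h.left) hv) (secσ T) _
        (secT_left v) z _ _ τ
    have k₁ := key (pr₁ v) rfl rfl
    have k₂ := key (pr₂ v) e₁₂ (pr_condition v).symm
    have h := congrArg (bc (secσ (W₂ v)) _ z rfl) hr
    rw [show bc (secσ (W₂ v)) _ z rfl x₁ = _ from k₁, bc_smul,
      show bc (secσ (W₂ v)) _ z rfl x₂ = _ from k₂] at h
    have hg : Gen _ ⊤ (bc (pr₁ v ≫ v).left (secσ T) z (by rw [secT_left, XTmap_comp']) τ) :=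
      gen_bc _ _ _ _ hτ
    have h1 : (secσ (W₂ v)).appTop (r : Γ(PicF.XT f (W₂ v), ⊤)) = 1 :=
      (hg.smul_inj le_rfl (r := 1) (r' := (secσ (W₂ v)).appTop (r : Γ(PicF.XT f (W₂ v), ⊤)))
        (by rw [PicAux.res_self, one_smul]; exact h)).symm
    rw [← hd, ← CategoryTheory.comp_apply, ← Scheme.Hom.comp_appTop, secT_proj] at h1
    have h2 : d = 1 := h1
    rw [← hd, h2, map_one, one_smul] at hr
    exact hr
  haveI : M.IsQuasicoherent := PicAux.isQCoh_of_isInvertible hM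
  obtain ⟨n, hn⟩ := exists_section_of_bc q hq M s fun Y g₁ g₂ hg => by
    obtain ⟨k, hk₁, hk₂⟩ := (isPullback_pr f v).exists_lift g₁ g₂ hg
    have hc₀ : k ≫ PicF.XTmap f (pr₁ v) ≫ q = g₁ ≫ q := by rw [← Category.assoc, hk₁]
    rw [← bc_bc k (PicF.XTmap f (pr₁ v)) g₁ hk₁ q _ rfl (g₁ ≫ q) hc₀ rfl s,
      ← bc_bc k (PicF.XTmap f (pr₂ v)) g₂ hk₂ q _ e₁₂ (g₁ ≫ q) hc₀ hg.symm s]
    exact congrArg (bc k _ (g₁ ≫ q) hc₀) hx
  refine ⟨n, gen_of_pullSec q hM ?_⟩
  rw [hn]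
  exact hsg.res le_top

end Groth.PicAux.RigDescent
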