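import Groth.Agent.PicAux.RigDescent
import Groth.Agent.PicAux.RigTrivial

/-!
# Flat descent of rigidified invertible classes
-/

set_option autoImplicit false
set_option backward.isDefEq.respectTransparency.types false

universe u

open CategoryTheory CategoryTheory.Limits AlgebraicGeometry TopologicalSpace Opposite
open scoped Groth.Abvar.PicCalc

noncomputable section

namespace Groth.PicAux.RigDescent

open Groth.Abvar.PicCalc (pull pull_cls pull_comp cls)
open Groth.PicCurve (RS norm norm_map norm_self)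

variable {X S : Scheme.{u}} {f : X ⟶ S} {σ : S ⟶ X} {hσ : σ ≫ f = 𝟙 S}
variable {T U : Over S} (v : U ⟶ T)
  (hq : Presieve.ofArrows (fun _ : PUnit.{u + 1} => PicF.XT f U)
    (fun _ => PicF.XTmap f v) ∈ Scheme.fpqcPrecoverage (PicF.XT f T))

theorem surjective_XTmap [Surjective v.left] : Surjective (PicF.XTmap f v) :=
  MorphismProperty.of_isPullback (P := @Surjective) (PicCurve.XTmap_sq f v).flip ‹_›

include hq in
/-- An fpqc base change is injective on rigidified classes. -/
theorem map_injective [Surjective v.left]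
    (h₂ : Function.Bijective (PicF.XTproj f (W₂ v)).appTop) :
    Function.Injective (fun c : RS f σ hσ T => c.map v) := by
  intro c d h
  have := surjective_XTmap (f := f) v
  obtain ⟨M, hM, hMe⟩ := PicGrp.exists_eq_cls (c.1 * d.1⁻¹)
  have hs : pull (PicF.secT f σ hσ T) (c.1 * d.1⁻¹) = 1 := by
    rw [map_mul, map_inv, c.2, d.2, inv_one, mul_one]
  have hp : pull (PicF.XTmap f v) (c.1 * d.1⁻¹) = 1 := by
    rw [map_mul, map_inv, show pull (PicF.XTmap f v) c.1 = pull (PicF.XTmap f v) d.1 from
      congrArg Subtype.val h, mul_inv_cancel]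
  rw [hMe, pull_cls, ← Abvar.PicCalc.nonempty_iso_structure_iff] at hs hp
  have := trivial_of_pullback v hq h₂ hM hs hp
  rw [Abvar.PicCalc.nonempty_iso_structure_iff hM, cls, ← hMe] at this
  exact Subtype.ext (eq_of_mul_inv_eq_one this)

include hq in
/-- Rigidified classes with equal inverse images on the double product descend. -/
theorem exists_map_eq (hU : Function.Bijective (PicF.XTproj f U).appTop)
    (h₃ : Function.Bijective (PicF.XTproj f (W₃ v)).appTop)
    (c' : RS f σ hσ U) (hglue : c'.map (pr₁ v) = c'.map (pr₂ v)) :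
    ∃ c : RS f σ hσ T, c.map v = c' := by
  obtain ⟨L, hL, hLc⟩ := PicGrp.exists_eq_cls c'.1
  have hθ := c'.2
  rw [hLc, pull_cls, ← Abvar.PicCalc.nonempty_iso_structure_iff,
    PicAux.nonempty_iso_structure_iff] at hθ
  obtain ⟨τ, hτ⟩ := hθ
  have hΦ : pull (PicF.XTmap f (pr₁ v)) c'.1 = pull (PicF.XTmap f (pr₂ v)) c'.1 :=
    congrArg Subtype.val hglue
  rw [hLc, pull_cls, pull_cls, ← Abvar.PicCalc.nonempty_iso_iff] at hΦ
  obtain ⟨M, hM, he⟩ := exists_descent v hL hτ hq hU h₃ hΦ.some
  refine ⟨norm f σ hσ T (cls hM), ?_⟩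
  rw [norm_map, pull_cls, (Abvar.PicCalc.nonempty_iso_iff _ hL).1 he]
  exact (congrArg (norm f σ hσ U) hLc.symm).trans (norm_self c')

include hq in
/-- The sheaf condition for one fpqc morphism. -/
theorem existsUnique_map_eq [Surjective v.left] (hU : Function.Bijective (PicF.XTproj f U).appTop)
    (h₂ : Function.Bijective (PicF.XTproj f (W₂ v)).appTop)
    (h₃ : Function.Bijective (PicF.XTproj f (W₃ v)).appTop)
    (c' : RS f σ hσ U) (hglue : c'.map (pr₁ v) = c'.map (pr₂ v)) :
    ∃! c : RS f σ hσ T, c.map v = c' := by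
  obtain ⟨c, hc⟩ := exists_map_eq v hq hU h₃ c' hglue
  exact ⟨c, hc, fun d hd => map_injective v hq h₂ (hd.trans hc.symm)⟩

theorem appTop_bijective
    (ha : ∀ (T : Over S) (U : T.left.Opens), IsIso ((PicF.XTproj f T).app U)) (T : Over S) :
    Function.Bijective (PicF.XTproj f T).appTop :=
  haveI := ha T ⊤
  ConcreteCategory.bijective_of_isIso ((PicF.XTproj f T).app ⊤)

theorem mem_fpqc_XTmap [Flat v.left] [LocallyOfFinitePresentation v.left] [Surjective v.left] :
    Presieve.ofArrows (fun _ : PUnit.{u + 1} => PicF.XT f U)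
      (fun _ => PicF.XTmap f v) ∈ Scheme.fpqcPrecoverage (PicF.XT f T) := by
  have h := (PicCurve.XTmap_sq f v).flip
  have : Flat (PicF.XTmap f v) := MorphismProperty.of_isPullback (P := @Flat) h ‹_›
  have : LocallyOfFinitePresentation (PicF.XTmap f v) :=
    MorphismProperty.of_isPullback (P := @LocallyOfFinitePresentation) h ‹_›
  have := surjective_XTmap (f := f) v
  exact singleton_mem_fppf _

/-- Rigidified classes on one scheme over `S` from classes in the sense of the statements. -/
def toRS (c : PicF.Rig f σ hσ T) : RS f σ hσ T := ⟨⟨c.1, c.2.1⟩, Subtype.ext c.2.2⟩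

/-- Rigidified classes in the sense of the statements. -/
def ofRS (c : RS f σ hσ T) : PicF.Rig f σ hσ T := ⟨c.1.1, c.1.2, congrArg Subtype.val c.2⟩

theorem toRS_ofRS (c : RS f σ hσ T) : toRS (ofRS c) = c := rfl

end Groth.PicAux.RigDescent
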