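import Groth.Agent.PicAux.BaseChangeModel
import Groth.Agent.PicAux.PushPull
import Groth.Agent.PicAux.GenLocusAffine
import Groth.Agent.KTheory.LocFree
import Groth.Agent.LocFree.Basic
import Groth.Prelude.Def_ega3

/-!
# Invertible modules trivial on the fibres of a proper flat morphism
-/

universe u

open CategoryTheory Limits AlgebraicGeometry TopologicalSpace Opposite
open scoped TensorProduct

noncomputable section

namespace Groth.PicAux.Seesaw

open Groth.PicAux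

theorem exists_triangle_iso {Z W X : Scheme.{u}} (g : Z ⟶ W) (j : W ⟶ X) {k : Z ⟶ X}
    (h : g ≫ j = k) (L : X.Modules) :
    ∃ ε : (Scheme.Modules.pullback g).obj ((Scheme.Modules.pullback j).obj L) ≅
        (Scheme.Modules.pullback k).obj L,
      ∀ {U : X.Opens} (s : Γ(L, U)) (hU : k ⁻¹ᵁ U ≤ g ⁻¹ᵁ j ⁻¹ᵁ U),
        res _ hU (ε.hom.app (g ⁻¹ᵁ j ⁻¹ᵁ U) (pullSec g _ (pullSec j L s))) = pullSec k L s := by
  subst h
  refine ⟨(Scheme.Modules.pullbackComp g j).app L, fun s hU => ?_⟩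
  exact (res_self _ _).trans (pullSec_comp g j L s)

/-- A section over `U` as a global section of the restriction to `U`. -/
def toRes {X : Scheme.{u}} {L : X.Modules} {U : X.Opens} (s : Γ(L, U)) :
    Γ((Scheme.Modules.pullback U.ι).obj L, ⊤) :=
  res _ (Scheme.Opens.ι_preimage_self U).ge (pullSec U.ι L s)

theorem toRes_bijective {X : Scheme.{u}} (L : X.Modules) (U : X.Opens) :
    Function.Bijective (toRes (L := L) (U := U)) := by
  let φ := (Scheme.Modules.restrictFunctorIsoPullback U.ι).hom.app L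
  have h1 : ∀ s : Γ(L, U), toRes s =
      φ.app ⊤ (res L (Scheme.Opens.ι_image_le U ⊤) s : Γ(L, U.ι ''ᵁ ⊤)) := fun s => by
    rw [toRes, ← restrictIso_pullSec U.ι L s]
    refine ((app_res _ (Scheme.Opens.ι_preimage_self U).ge _).symm).trans ?_
    exact congrArg _ (res_res (M := L) (U.ι.image_preimage_le U)
      (U.ι.image_mono (Scheme.Opens.ι_preimage_self U).ge) s)
  have h2 : Function.Bijective (fun s : Γ(L, U) =>
      (res L (Scheme.Opens.ι_image_le U ⊤) s : Γ(L, U.ι ''ᵁ ⊤))) :=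
    ⟨Function.LeftInverse.injective (g := fun t : Γ(L, U.ι ''ᵁ ⊤) => res L U.ι_image_top.ge t)
        fun s => (res_res (M := L) _ _ s).trans (res_self _ _),
      Function.RightInverse.surjective (g := fun t : Γ(L, U.ι ''ᵁ ⊤) => res L U.ι_image_top.ge t)
        fun t => (res_res (M := L) _ _ t).trans (res_self _ _)⟩
  rw [show toRes (L := L) (U := U) = φ.app ⊤ ∘ _ from funext h1]
  exact (ConcreteCategory.bijective_of_isIso (φ.app ⊤)).comp h2

section Rep

variable {X Y : Scheme.{u}} (f : X ⟶ Y)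

/-- Values at a point, as an algebra structure. -/
@[reducible] def evAlg {U : Y.Opens} {y : Y} (hy : y ∈ U) : Algebra Γ(Y, U) (Y.residueField y) :=
  (Y.evaluation U y hy).hom.toAlgebra

theorem fromSpecResidueField_eq {U : Y.Opens} (hU : IsAffineOpen U) {y : Y} (hy : y ∈ U) :
    Spec.map (Y.evaluation U y hy) ≫ hU.fromSpec = Y.fromSpecResidueField y := by
  rw [← Scheme.germ_residue, Spec.map_comp, Category.assoc, Scheme.fromSpecResidueField,
    ← hU.fromSpecStalk_eq_fromSpecStalk hy]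
  rfl

theorem toGlobal_restrict {U : Y.Opens} (hU : IsAffineOpen U) (a : Γ(Y, U)) :
    Coh.toGlobal (A := Γ(Y, U)) ((f ∣_ U) ≫ hU.isoSpec.hom) a =
      resX _ (Scheme.Opens.ι_preimage_self (f ⁻¹ᵁ U)).ge ((f ⁻¹ᵁ U).ι.app (f ⁻¹ᵁ U) (f.app U a)) := by
  have h1 : hU.isoSpec.hom.appTop ((Scheme.ΓSpecIso Γ(Y, U)).inv a) = U.topIso.inv a := by
    rw [hU.isoSpec_hom_appTop]
    exact congrArg U.topIso.inv (congr($((Scheme.ΓSpecIso Γ(Y, U)).inv_hom_id) a))
  have h2 : (f ∣_ U).appTop (U.topIso.inv a) = (f ⁻¹ᵁ U).topIso.inv (f.app U a) := by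
    have h3 := congr($(BC.morphismRestrict_appTop_topIso f U) (U.topIso.inv a))
    have h4 := congrArg (f ⁻¹ᵁ U).topIso.inv h3
    refine ((congr($((f ⁻¹ᵁ U).topIso.hom_inv_id) _)).symm.trans h4).trans ?_
    exact congrArg (fun t => (f ⁻¹ᵁ U).topIso.inv (f.app U t)) (congr($(U.topIso.inv_hom_id) a))
  refine (congrArg (f ∣_ U).appTop h1).trans (h2.trans ?_)
  exact congr($((X.presheaf.map_comp _ _)) (f.app U a))

variable [IsProper f] [Flat f] [IsLocallyNoetherian Y] {L : X.Modules}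

theorem isFlatOver_of_isInvertible {Z W : Scheme.{u}} (g : Z ⟶ W) [Flat g] {M : Z.Modules}
    (hM : PicF.IsInvertible M) : FlatMod.IsFlatOver g M := fun z => by
  let := (g.stalkMap z).hom.toAlgebra
  let := Module.compHom (M.presheaf.stalk z) (g.stalkMap z).hom
  have : IsScalarTower (W.presheaf.stalk (g z)) (Z.presheaf.stalk z) (M.presheaf.stalk z) :=
    IsScalarTower.of_compHom _ _ _
  have : Module.Flat (W.presheaf.stalk (g z)) (Z.presheaf.stalk z) := Flat.stalkMap g z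
  obtain ⟨U, hU, ⟨e⟩⟩ := (Groth.LocFree.isInvertible_iff_ofRank_one.1 hM) z
  have := Groth.KTheory.LocFree.free_stalk (M := M) (fun x => by
    obtain ⟨V, hV, he⟩ := (Groth.LocFree.isInvertible_iff_ofRank_one.1 hM) x
    exact ⟨V, 1, hV, he⟩) z
  exact Module.Flat.trans (W.presheaf.stalk (g z)) (Z.presheaf.stalk z) (M.presheaf.stalk z)

/-- Sections of `L` and of all its base changes to affine schemes over an affine open are
corepresented by one finite module. -/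
theorem exists_base_rep (hL : PicF.IsInvertible L) {U : Y.Opens} (hU : IsAffineOpen U) :
    ∃ (Q : ModuleCat.{u} Γ(Y, U)) (_ : Module.Finite Γ(Y, U) Q)
      (θ : (Q →ₗ[Γ(Y, U)] Γ(Y, U)) → Γ(L, f ⁻¹ᵁ U)), Function.Bijective θ ∧
      (∀ a φ, θ (LinearMap.mulLeft _ a ∘ₗ φ) = f.app U a • θ φ) ∧
      ∀ (B : Type u) [CommRing B] [Algebra Γ(Y, U) B] (X' : Scheme.{u}) (k : X' ⟶ X)
        (f' : X' ⟶ Spec (CommRingCat.of B))
        (_ : IsPullback k f' f
          (Spec.map (CommRingCat.ofHom (algebraMap Γ(Y, U) B)) ≫ hU.fromSpec)),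
        ∃ θ' : (Q →ₗ[Γ(Y, U)] B) → Γ((Scheme.Modules.pullback k).obj L, ⊤),
          Function.Bijective θ' ∧
          (∀ (b : B) φ, θ' (LinearMap.mulLeft _ b ∘ₗ φ) = BC.bSec B (f' := f') (⊤ : X'.Opens) b • θ' φ) ∧
          ∀ φ (h : ⊤ ≤ k ⁻¹ᵁ f ⁻¹ᵁ U),
            θ' (Algebra.linearMap _ _ ∘ₗ φ) = res _ h (pullSec k L (θ φ)) := by
  let XU : Scheme.{u} := f ⁻¹ᵁ U
  let hom : XU ⟶ Spec (CommRingCat.of Γ(Y, U)) := (f ∣_ U) ≫ hU.isoSpec.hom
  let : XU.Over (Spec (CommRingCat.of Γ(Y, U))) := ⟨hom⟩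
  have : IsProper (XU ↘ Spec (CommRingCat.of Γ(Y, U))) :=
    inferInstanceAs (IsProper ((f ∣_ U) ≫ hU.isoSpec.hom))
  have : Flat (XU ↘ Spec (CommRingCat.of Γ(Y, U))) :=
    inferInstanceAs (Flat ((f ∣_ U) ≫ hU.isoSpec.hom))
  have : IsNoetherianRing Γ(Y, U) := IsLocallyNoetherian.component_noetherian ⟨U, hU⟩
  let F := (Scheme.Modules.pullback (f ⁻¹ᵁ U).ι).obj L
  have hFi : PicF.IsInvertible F := isInvertible_pullback _ hL
  have hF : Coh.IsCoh F := Groth.KTheory.LocFree.isCoh fun x => by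
    obtain ⟨V, hV, he⟩ := (Groth.LocFree.isInvertible_iff_ofRank_one.1 hFi) x
    exact ⟨V, 1, hV, he⟩
  obtain ⟨Q, hQ, θ₀, hθ₀, hlin, hB⟩ :=
    BC.exists_rep Γ(Y, U) hF (isFlatOver_of_isInvertible _ hFi)
  let eS := Equiv.ofBijective _ (toRes_bijective L (f ⁻¹ᵁ U))
  have heS : ∀ t, toRes (eS.symm t) = t := eS.apply_symm_apply
  refine ⟨Q, hQ, fun φ => eS.symm (θ₀ φ), eS.symm.bijective.comp hθ₀, fun a φ => ?_,
    fun B _ _ X' k f' hbig => ?_⟩
  · refine eS.injective ((eS.apply_symm_apply _).trans ?_)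
    rw [hlin]
    change _ = toRes (f.app U a • eS.symm (θ₀ φ))
    rw [toRes, pullSec_smul, res_smul, ← toRes, heS]
    refine congrArg (· • _) ?_
    refine (congrArg (Groth.QCohMod.resFun XU (le_top : (⊤ : XU.Opens) ≤ ⊤))
      (toGlobal_restrict f hU a)).trans ?_
    exact resX_self _ _
  · have hr : Set.range k ⊆ Set.range (f ⁻¹ᵁ U).ι := by
      rintro _ ⟨x, rfl⟩
      rw [Scheme.Opens.range_ι]
      show f (k x) ∈ (U : Set Y)
      rw [show f (k x) = hU.fromSpec (Spec.map (CommRingCat.ofHom (algebraMap Γ(Y, U) B)) (f' x))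
        from congr($(hbig.w).base x), ← hU.range_fromSpec]
      exact ⟨_, rfl⟩
    let g := IsOpenImmersion.lift (f ⁻¹ᵁ U).ι k hr
    have hg : g ≫ (f ⁻¹ᵁ U).ι = k := IsOpenImmersion.lift_fac _ _ _
    have hsq : IsPullback g f' hom
        (Spec.map (CommRingCat.ofHom (algebraMap Γ(Y, U) B))) := by
      have hR : IsPullback (f ⁻¹ᵁ U).ι hom f hU.fromSpec :=
        (isPullback_morphismRestrict f U).flip.of_iso (Iso.refl _) (Iso.refl _) hU.isoSpec
          (Iso.refl _) (by simp) (by simp [hom]) (by simp)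
          (by rw [Iso.refl_hom, Category.comp_id, ← hU.isoSpec_inv_ι, Iso.hom_inv_id_assoc])
      have hbig' : IsPullback (g ≫ (f ⁻¹ᵁ U).ι) f' f
          (Spec.map (CommRingCat.ofHom (algebraMap Γ(Y, U) B)) ≫ hU.fromSpec) := by
        rw [hg]; exact hbig
      refine IsPullback.of_right hbig' ?_ hR
      refine (cancel_mono hU.fromSpec).1 ?_
      exact (Category.assoc g hom _).trans ((congrArg (g ≫ ·) hR.w.symm).trans
        ((Category.assoc _ _ _).symm.trans (hbig'.w.trans (Category.assoc _ _ _).symm)))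
    obtain ⟨θ', hθ', hlin', hnat⟩ := @hB B _ _ X' g f' hsq
    obtain ⟨ε, hε⟩ := exists_triangle_iso g (f ⁻¹ᵁ U).ι hg L
    refine ⟨fun φ => ε.hom.app ⊤ (θ' φ), (ConcreteCategory.bijective_of_isIso (ε.hom.app ⊤)).comp hθ',
      fun b φ => ?_, fun φ h => ?_⟩
    · exact (congrArg (ε.hom.app ⊤) (hlin' b φ)).trans
        (Scheme.Modules.Hom.app_smul ε.hom _ _)
    · have h2 := congrArg (res _ h) (hε (eS.symm (θ₀ φ)) (hg ▸ le_rfl))
      refine Eq.trans ?_ h2
      refine (congrArg (ε.hom.app ⊤) (hnat φ)).trans ?_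
      rw [res_res]
      refine Eq.trans ?_ (app_res ε.hom (V := (⊤ : X'.Opens))
        (g.preimage_mono (Scheme.Opens.ι_preimage_self (f ⁻¹ᵁ U)).ge) _)
      refine congrArg (ε.hom.app ⊤) ?_
      refine Eq.trans (congrArg (pullSec g _) (heS (θ₀ φ)).symm) ?_
      exact (res_pullSec (f := g) _ _ _).symm

/-- Sections of `L` and of its restrictions to the fibres over an affine open are corepresented by
one finite module. -/
theorem exists_fibre_rep (hL : PicF.IsInvertible L) {U : Y.Opens} (hU : IsAffineOpen U) :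
    ∃ (Q : ModuleCat.{u} Γ(Y, U)) (_ : Module.Finite Γ(Y, U) Q)
      (θ : (Q →ₗ[Γ(Y, U)] Γ(Y, U)) → Γ(L, f ⁻¹ᵁ U)), Function.Bijective θ ∧
      (∀ a φ, θ (LinearMap.mulLeft _ a ∘ₗ φ) = f.app U a • θ φ) ∧
      ∀ (y : Y) (hy : y ∈ U), letI := evAlg hy
        ∃ θy : (Q →ₗ[Γ(Y, U)] Y.residueField y) → Γ(CohIII.fiberMod f L y, ⊤),
          Function.Bijective θy ∧
          (∀ (b : Y.residueField y) φ, θy (LinearMap.mulLeft _ b ∘ₗ φ) =
            algebraMap (Y.residueField y) Γ(f.fiber y, ⊤) b • θy φ) ∧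
          ∀ φ (h : ⊤ ≤ f.fiberι y ⁻¹ᵁ f ⁻¹ᵁ U),
            θy (Algebra.linearMap _ _ ∘ₗ φ) = res _ h (pullSec (f.fiberι y) L (θ φ)) := by
  obtain ⟨Q, hQ, θ, hθ, hlin, hB⟩ := exists_base_rep f hL hU
  refine ⟨Q, hQ, θ, hθ, hlin, fun y hy => ?_⟩
  let := evAlg hy
  have hp : IsPullback (f.fiberι y) (f.fiberToSpecResidueField y) f
      (Spec.map (Y.evaluation U y hy) ≫ hU.fromSpec) := by
    rw [fromSpecResidueField_eq hU hy]
    exact IsPullback.of_hasPullback _ _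
  obtain ⟨θy, h1, h2, h3⟩ := @hB (Y.residueField y) _ (evAlg hy) (f.fiber y) (f.fiberι y)
    (f.fiberToSpecResidueField y) hp
  exact ⟨θy, h1, fun b φ => (h2 b φ).trans (congrArg (· • _) (resX_self _ _)), h3⟩

omit [IsLocallyNoetherian Y] in
/-- A finite module with no nonzero map to the residue field vanishes near the point. -/
theorem exists_smul_eq_zero {U : Y.Opens} (hU : IsAffineOpen U) {y : Y} (hy : y ∈ U) {M : Type u}
    [AddCommGroup M] [Module Γ(Y, U) M] [Module.Finite Γ(Y, U) M]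
    (h : letI := evAlg hy; ∀ ψ : M →ₗ[Γ(Y, U)] Y.residueField y, ψ = 0) :
    ∃ c : Γ(Y, U), Y.evaluation U y hy c ≠ 0 ∧ ∀ m : M, c • m = 0 := by
  classical
  let A := Γ(Y, U)
  let := evAlg hy
  let R := Y.presheaf.stalk y
  let : Algebra A R := TopCat.Presheaf.algebra_section_stalk Y.presheaf ⟨y, hy⟩
  have : IsLocalization.AtPrime R (hU.primeIdealOf ⟨y, hy⟩).asIdeal :=
    hU.isLocalization_stalk ⟨y, hy⟩
  have hN : Subsingleton (R ⊗[A] M) := by
    by_contra hne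
    rw [not_subsingleton_iff_nontrivial] at hne
    let I : Ideal R := IsLocalRing.maximalIdeal R
    have htop : I • (⊤ : Submodule R (R ⊗[A] M)) ≠ ⊤ := fun htop =>
      not_subsingleton (R ⊗[A] M) ((Submodule.subsingleton_iff R).1
        (subsingleton_iff_bot_eq_top.1 ((Submodule.eq_bot_of_le_smul_of_le_jacobson_bot I ⊤
          Module.Finite.fg_top htop.ge (IsLocalRing.maximalIdeal_le_jacobson ⊥)).symm)))
    let := Ideal.Quotient.field I
    let V := (R ⊗[A] M) ⧸ (I • ⊤ : Submodule R (R ⊗[A] M))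
    obtain ⟨v, hv⟩ : ∃ v : V, v ≠ 0 := by
      obtain ⟨x, -, hx⟩ := SetLike.exists_of_lt (lt_top_iff_ne_top.2 htop)
      exact ⟨Submodule.Quotient.mk x, fun e => hx ((Submodule.Quotient.mk_eq_zero _).1 e)⟩
    obtain ⟨q, hq⟩ : ∃ q : Module.Dual (R ⧸ I) V, q v ≠ 0 := by
      by_contra hc
      push Not at hc
      exact hv ((Module.forall_dual_apply_eq_zero_iff (R ⧸ I) v).1 hc)
    obtain ⟨x, rfl⟩ := Submodule.Quotient.mk_surjective _ v
    let ψ : M →ₗ[A] Y.residueField y :=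
      { toFun := fun m => q (Submodule.Quotient.mk ((1 : R) ⊗ₜ[A] m))
        map_add' := fun m m' => by rw [TensorProduct.tmul_add, Submodule.Quotient.mk_add, map_add]; rfl
        map_smul' := fun a m => by
          rw [TensorProduct.tmul_smul, ← algebraMap_smul R a ((1 : R) ⊗ₜ[A] m),
            Submodule.Quotient.mk_smul, RingHom.id_apply, Algebra.smul_def]
          exact map_smul q (Ideal.Quotient.mk I (algebraMap A R a))
            (Submodule.Quotient.mk ((1 : R) ⊗ₜ[A] m) : V) }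
    refine hq ?_
    have hψ := h ψ
    clear hv hq
    induction x using TensorProduct.induction_on with
    | zero => simp
    | tmul r m =>
      rw [show r ⊗ₜ[A] m = r • ((1 : R) ⊗ₜ[A] m) by rw [TensorProduct.smul_tmul', smul_eq_mul, mul_one],
        Submodule.Quotient.mk_smul]
      refine (map_smul q (Ideal.Quotient.mk I r) (Submodule.Quotient.mk ((1 : R) ⊗ₜ[A] m) : V)).trans ?_
      rw [show q (Submodule.Quotient.mk ((1 : R) ⊗ₜ[A] m)) = 0 from LinearMap.congr_fun hψ m,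
        smul_zero]
    | add a b ha hb => rw [Submodule.Quotient.mk_add, map_add, ha, hb, add_zero]
  have hloc : IsLocalizedModule (hU.primeIdealOf ⟨y, hy⟩).asIdeal.primeCompl
      (TensorProduct.mk A R M 1) :=
    (isLocalizedModule_iff_isBaseChange _ R _).2 (TensorProduct.isBaseChange A M R)
  have hm : ∀ m : M, ∃ c : (hU.primeIdealOf ⟨y, hy⟩).asIdeal.primeCompl, c • m = 0 := fun m =>
    (IsLocalizedModule.eq_zero_iff (hU.primeIdealOf ⟨y, hy⟩).asIdeal.primeCompl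
      (TensorProduct.mk A R M 1)).1 (Subsingleton.elim _ _)
  obtain ⟨S, hS⟩ := Module.Finite.fg_top (R := A) (M := M)
  choose c hc using hm
  refine ⟨((∏ m ∈ S, c m : (hU.primeIdealOf ⟨y, hy⟩).asIdeal.primeCompl) : A), ?_, fun m => ?_⟩
  · rw [Scheme.evaluation_ne_zero_iff_mem_basicOpen,
      Groth.QCohMod.mem_basicOpen_iff_notMem_primeIdealOf hU _ y hy]
    exact (∏ m ∈ S, c m).2
  · have hm : m ∈ Submodule.span A (S : Set M) := hS.symm ▸ trivial
    induction hm using Submodule.span_induction with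
    | mem x hx =>
      rw [← Finset.prod_erase_mul _ _ hx, Submonoid.coe_mul, mul_smul]
      erw [hc x]
      exact smul_zero _
    | zero => exact smul_zero _
    | add a b _ _ ha hb => rw [smul_add, ha, hb, add_zero]
    | smul r a _ ha => rw [smul_comm, ha, smul_zero]

omit [IsProper f] [Flat f] [IsLocallyNoetherian Y] in
theorem pullUnit_oneSec {Z W : Scheme.{u}} (k : Z ⟶ W) (U : W.Opens) :
    (pullUnit k).app (k ⁻¹ᵁ U) (pullSec k _ (oneSec W U)) = oneSec Z (k ⁻¹ᵁ U) := by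
  have h := congrArg (res _ (k.preimage_mono (le_top : U ≤ ⊤))) (pullbackObjUnit_oneSec k)
  rw [← app_res, res_pullSec (f := k) _ (le_top : U ≤ ⊤), res_oneSec (le_top : U ≤ ⊤),
    res_oneSec (k.preimage_mono (le_top : U ≤ ⊤))] at h
  exact h

/-- A section generating after restriction to a fibre generates near its points. -/
theorem exists_gen_near {Z W : Scheme.{u}} (k : Z ⟶ W) {M : W.Modules} (hM : PicF.IsInvertible M)
    {U : W.Opens} (s : Γ(M, U)) (hk : ⊤ ≤ k ⁻¹ᵁ U)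
    (hg : Gen ((Scheme.Modules.pullback k).obj M) ⊤ (res _ hk (pullSec k M s))) (z : Z) :
    ∃ (O : W.Opens) (h : O ≤ U), k z ∈ O ∧ Gen M O (res M h s) := by
  obtain ⟨V, e, -, hxV, he⟩ := exists_affine_gen_mem hM (k z)
  have hne : k z ∈ U ⊓ V := ⟨hk trivial, hxV⟩
  obtain ⟨c, hc⟩ := he.exists_coeff (inf_le_right : U ⊓ V ≤ V) (res M inf_le_left s)
  have hgP := hg.res (le_top : k ⁻¹ᵁ (U ⊓ V) ≤ ⊤)
  have hcP := congrArg (pullSec k M) hc
  rw [pullSec_smul, ← res_pullSec, ← res_pullSec] at hcP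
  rw [res_res] at hgP
  obtain ⟨d, hd⟩ := ((he.pull k).res (k.preimage_mono inf_le_right)).exists_unit hgP
  have hcd : k.app (U ⊓ V) c = (d : Γ(Z, k ⁻¹ᵁ (U ⊓ V))) :=
    (he.pull k).smul_inj (k.preimage_mono inf_le_right) (hcP.symm.trans hd)
  have hu : IsUnit (k.stalkMap z (W.presheaf.germ (U ⊓ V) (k z) hne c)) := by
    rw [Scheme.Hom.germ_stalkMap_apply, hcd]
    exact (Units.isUnit d).map _
  have hx : k z ∈ W.basicOpen c := (W.mem_basicOpen c (k z) hne).2
    (isUnit_of_map_unit (k.stalkMap z).hom _ hu)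
  refine ⟨W.basicOpen c, (W.basicOpen_le c).trans inf_le_left, hx, ?_⟩
  have h2 := congrArg (res M (W.basicOpen_le c)) hc
  rw [res_res, res_smul, res_res] at h2
  rw [h2]
  exact (he.res _).smul_unit (W.toRingedSpace.isUnit_res_basicOpen c)

/-- `H⁰(X_y, O) = k(y)` for all `y`. -/
def H0One : Prop := ∀ y : Y, Nontrivial Γ(f.fiber y, ⊤) ∧
  Function.Surjective (algebraMap (Y.residueField y) Γ(f.fiber y, ⊤))

omit [IsProper f] [Flat f] [IsLocallyNoetherian Y] in
theorem h0One_of_finrank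
    (h0 : ∀ y : Y, Module.finrank (Y.residueField y) Γ(f.fiber y, ⊤) = 1) : H0One f := fun y => by
  have : Nontrivial Γ(f.fiber y, ⊤) := Module.nontrivial_of_finrank_pos (R := Y.residueField y)
    (by rw [h0 y]; exact one_pos)
  refine ⟨this, fun v => ?_⟩
  obtain ⟨b, hb⟩ := (finrank_eq_one_iff_of_nonzero' (1 : Γ(f.fiber y, ⊤)) one_ne_zero).1 (h0 y) v
  exact ⟨b, (Algebra.algebraMap_eq_smul_one b).trans hb⟩

omit [IsProper f] [Flat f] [IsLocallyNoetherian Y] in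
theorem dual_fibre {U : Y.Opens} {y : Y} (hy : y ∈ U) (h0 : H0One f)
    (htriv : Nonempty (CohIII.fiberMod f L y ≅ Coh.structureModule (f.fiber y)))
    {Q : ModuleCat.{u} Γ(Y, U)} :
    letI := evAlg hy
    ∀ θy : (Q →ₗ[Γ(Y, U)] Y.residueField y) → Γ(CohIII.fiberMod f L y, ⊤), Function.Bijective θy →
      (∀ (b : Y.residueField y) φ, θy (LinearMap.mulLeft _ b ∘ₗ φ) =
        algebraMap (Y.residueField y) Γ(f.fiber y, ⊤) b • θy φ) →
      (∀ φ₀ : Q →ₗ[Γ(Y, U)] Y.residueField y, φ₀ ≠ 0 → Gen _ ⊤ (θy φ₀) ∧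
          ∀ ψ, ∃ b, ψ = LinearMap.mulLeft _ b ∘ₗ φ₀) ∧
        ∃ φ₀ : Q →ₗ[Γ(Y, U)] Y.residueField y, φ₀ ≠ 0 := by
  let := evAlg hy
  intro θy hθ hlin
  obtain ⟨ε⟩ := htriv
  obtain ⟨hnt, hsur⟩ := h0 y
  let t := ε.inv.app ⊤ (oneSec (f.fiber y) ⊤)
  have ht : Gen _ ⊤ t := (gen_oneSec ⊤).map ε.inv
  have hgen : ∀ v, ∃ b, v = algebraMap (Y.residueField y) Γ(f.fiber y, ⊤) b • t := fun v => by
    obtain ⟨r, hr⟩ := ht.exists_coeff le_rfl v
    obtain ⟨b, hb⟩ := hsur r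
    exact ⟨b, by rw [hb, hr, res_self]⟩
  have h00 : θy 0 = 0 := by
    have h := hlin 0 0
    rwa [LinearMap.comp_zero, map_zero, zero_smul] at h
  obtain ⟨φt, hφt⟩ := hθ.2 t
  refine ⟨fun φ₀ hφ₀ => ?_, φt, fun e => ?_⟩
  · obtain ⟨b, hb⟩ := hgen (θy φ₀)
    have hb0 : b ≠ 0 := fun e => hφ₀ (hθ.1 (by rw [hb, e, map_zero, zero_smul, h00]))
    refine ⟨hb ▸ ht.smul_unit ((IsUnit.mk0 b hb0).map _), fun ψ => ?_⟩
    obtain ⟨b', hb'⟩ := hgen (θy ψ)
    refine ⟨b' * b⁻¹, hθ.1 ?_⟩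
    rw [hlin, hb, hb', smul_smul, ← map_mul, mul_assoc, inv_mul_cancel₀ hb0, mul_one]
  · have h1 : t = 0 := by rw [← hφt, e, h00]
    have h2 := (ht ⊤ le_rfl).1 (a₁ := (1 : Γ(f.fiber y, ⊤))) (a₂ := 0)
      (by simp [h1])
    exact one_ne_zero h2

include f in
/-- If `H⁰ = k(y)` on all fibres the module representing the sections of `O` is free on `1`. -/
theorem exists_unit_rep (h0 : H0One f) {U : Y.Opens} (hU : IsAffineOpen U) :
    ∃ (Q : ModuleCat.{u} Γ(Y, U)) (θ : (Q →ₗ[Γ(Y, U)] Γ(Y, U)) →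
        Γ(Coh.structureModule X, f ⁻¹ᵁ U)) (e1 : Q →ₗ[Γ(Y, U)] Γ(Y, U)),
      Function.Bijective θ ∧ Function.Bijective e1 ∧ θ e1 = oneSec X (f ⁻¹ᵁ U) ∧
      (∀ a φ, θ (LinearMap.mulLeft _ a ∘ₗ φ) = f.app U a • θ φ) ∧
      ∀ (B : Type u) [CommRing B] [Algebra Γ(Y, U) B] (X' : Scheme.{u}) (k : X' ⟶ X)
        (f' : X' ⟶ Spec (CommRingCat.of B))
        (_ : IsPullback k f' f
          (Spec.map (CommRingCat.ofHom (algebraMap Γ(Y, U) B)) ≫ hU.fromSpec)),
        ∃ θ' : (Q →ₗ[Γ(Y, U)] B) → Γ((Scheme.Modules.pullback k).obj (Coh.structureModule X), ⊤),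
          Function.Bijective θ' ∧
          (∀ (b : B) φ, θ' (LinearMap.mulLeft _ b ∘ₗ φ) =
            BC.bSec B (f' := f') (⊤ : X'.Opens) b • θ' φ) ∧
          ∀ φ (h : ⊤ ≤ k ⁻¹ᵁ f ⁻¹ᵁ U),
            θ' (Algebra.linearMap _ _ ∘ₗ φ) =
              res _ h (pullSec k (Coh.structureModule X) (θ φ)) := by
  obtain ⟨Q, hQ, θ, hθ, hlin, hB⟩ :=
    exists_base_rep f ((isInvertible_of_gen_cover (fun _ : Unit => (⊤ : X.Opens)) (by simp) _ fun _ => gen_oneSec ⊤)) hU
  have hfib : ∀ (y : Y) (hy : y ∈ U), letI := evAlg hy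
        ∃ θy : (Q →ₗ[Γ(Y, U)] Y.residueField y) →
            Γ(CohIII.fiberMod f (Coh.structureModule X) y, ⊤),
          Function.Bijective θy ∧
          (∀ (b : Y.residueField y) φ, θy (LinearMap.mulLeft _ b ∘ₗ φ) =
            algebraMap (Y.residueField y) Γ(f.fiber y, ⊤) b • θy φ) ∧
          ∀ φ (h : ⊤ ≤ f.fiberι y ⁻¹ᵁ f ⁻¹ᵁ U),
            θy (Algebra.linearMap _ _ ∘ₗ φ) = res _ h (pullSec (f.fiberι y) _ (θ φ)) := by
    intro y hy
    let := evAlg hy
    have hp : IsPullback (f.fiberι y) (f.fiberToSpecResidueField y) f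
        (Spec.map (Y.evaluation U y hy) ≫ hU.fromSpec) := by
      rw [fromSpecResidueField_eq hU hy]
      exact IsPullback.of_hasPullback _ _
    obtain ⟨θy, h1, h2, h3⟩ := @hB (Y.residueField y) _ (evAlg hy) (f.fiber y) (f.fiberι y)
      (f.fiberToSpecResidueField y) hp
    exact ⟨θy, h1, fun b φ => (h2 b φ).trans (congrArg (· • _) (resX_self _ _)), h3⟩
  obtain ⟨e1, he1⟩ := hθ.2 (oneSec X (f ⁻¹ᵁ U))
  have key : ∀ (y : Y) (hy : y ∈ U), letI := evAlg hy
      (Algebra.linearMap _ (Y.residueField y) ∘ₗ e1 ≠ 0) ∧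
        ∀ ψ : Q →ₗ[Γ(Y, U)] Y.residueField y,
          ∃ b, ψ = LinearMap.mulLeft _ b ∘ₗ (Algebra.linearMap _ _ ∘ₗ e1) := by
    intro y hy
    let := evAlg hy
    obtain ⟨θy, hy1, hy2, hy3⟩ := hfib y hy
    have hk : ⊤ ≤ f.fiberι y ⁻¹ᵁ f ⁻¹ᵁ U := fun z _ => by
      have : f (f.fiberι y z) = y := by
        have hz : f.fiberι y z ∈ Set.range (f.fiberι y) := ⟨z, rfl⟩
        rw [Scheme.Hom.range_fiberι] at hz
        exact hz
      show f (f.fiberι y z) ∈ U
      rwa [this]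
    have hd := dual_fibre f (L := Coh.structureModule X) hy h0
      ⟨@asIso _ _ _ _ (pullUnit (f.fiberι y)) (isIso_pullUnit _)⟩ θy hy1 hy2
    have hne : Algebra.linearMap _ (Y.residueField y) ∘ₗ e1 ≠ 0 := fun e => by
      have h1 := hy3 e1 hk
      have h00 : θy 0 = 0 := by
        have h := hy2 0 0
        rwa [LinearMap.comp_zero, map_zero, zero_smul] at h
      rw [e, h00, he1] at h1
      have h2 := congrArg ((pullUnit (f.fiberι y)).app ⊤) h1
      rw [map_zero, app_res, pullUnit_oneSec, res_oneSec] at h2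
      have := (h0 y).1
      exact one_ne_zero (congrArg toFun h2.symm : (1 : Γ(f.fiber y, ⊤)) = 0)
    exact ⟨hne, (hd.1 _ hne).2⟩
  obtain ⟨e, he⟩ : ∃ e : Q, e1 e = 1 := by
    by_contra hno
    have hI : LinearMap.range e1 ≠ ⊤ := fun htop => hno (LinearMap.range_eq_top.1 htop 1)
    obtain ⟨m, hm, hle⟩ := Ideal.exists_le_maximal (LinearMap.range e1) hI
    let p : Spec Γ(Y, U) := ⟨m, hm.isPrime⟩
    have hy : hU.fromSpec p ∈ U := hU.range_fromSpec.le ⟨p, rfl⟩
    let := evAlg hy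
    refine (key _ hy).1 (LinearMap.ext fun q => ?_)
    change Y.evaluation U _ hy (e1 q) = 0
    rw [Scheme.evaluation_eq_zero_iff_notMem_basicOpen]
    intro hb
    have h1 : p ∈ hU.fromSpec ⁻¹ᵁ Y.basicOpen (e1 q) := hb
    rw [hU.fromSpec_preimage_basicOpen] at h1
    exact h1 (hle ⟨q, rfl⟩)
  have hspan : ∀ q : Q, ∃ a : Γ(Y, U), q = a • e := by
    let M := Q ⧸ Submodule.span Γ(Y, U) {e}
    have hM : ∀ (y : Y) (hy : y ∈ U), ∃ c : Γ(Y, U), Y.evaluation U y hy c ≠ 0 ∧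
        ∀ m : M, c • m = 0 := fun y hy => exists_smul_eq_zero hU hy (by
      let := evAlg hy
      intro ψ
      obtain ⟨b, hb⟩ := (key y hy).2 (ψ ∘ₗ Submodule.mkQ _)
      refine Submodule.linearMap_qext _ ?_
      rw [LinearMap.zero_comp, hb]
      have h2 := LinearMap.congr_fun hb e
      have hmk : Submodule.mkQ (Submodule.span Γ(Y, U) {e}) e = 0 :=
        (Submodule.Quotient.mk_eq_zero _).2 (Submodule.mem_span_singleton_self e)
      rw [LinearMap.comp_apply, hmk, map_zero, LinearMap.comp_apply, LinearMap.comp_apply,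
        LinearMap.mulLeft_apply, Algebra.linearMap_apply, he, map_one, mul_one] at h2
      rw [← h2, LinearMap.mulLeft_zero_eq_zero, LinearMap.zero_comp])
    have hann : Ideal.span {c : Γ(Y, U) | ∀ m : M, c • m = 0} = ⊤ := by
      rw [← hU.self_le_iSup_basicOpen_iff]
      intro y hy
      obtain ⟨c, hc, hc'⟩ := hM y hy
      exact Opens.mem_iSup.2 ⟨⟨c, hc'⟩, (Scheme.evaluation_ne_zero_iff_mem_basicOpen _ _ hy c).1 hc⟩
    intro q
    have h1 : (1 : Γ(Y, U)) • (Submodule.Quotient.mk q : M) = 0 := by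
      have : (1 : Γ(Y, U)) ∈ Ideal.span {c : Γ(Y, U) | ∀ m : M, c • m = 0} := hann ▸ trivial
      revert this
      generalize (1 : Γ(Y, U)) = x
      intro hx
      induction hx using Submodule.span_induction with
      | mem x hx => exact hx _
      | zero => exact zero_smul _ _
      | add a b _ _ ha hb => rw [add_smul, ha, hb, add_zero]
      | smul r a _ ha => rw [smul_assoc, ha, smul_zero]
    rw [one_smul, Submodule.Quotient.mk_eq_zero, Submodule.mem_span_singleton] at h1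
    obtain ⟨a, ha⟩ := h1
    exact ⟨a, ha.symm⟩
  refine ⟨Q, θ, e1, hθ, ⟨fun q q' h => ?_, fun a => ⟨a • e, by simp [he]⟩⟩, he1, hlin, hB⟩
  obtain ⟨a, rfl⟩ := hspan q
  obtain ⟨a', rfl⟩ := hspan q'
  simp only [map_smul, he, smul_eq_mul, mul_one] at h
  rw [h]

include f in
theorem app_bijective_affine (h0 : H0One f) {U : Y.Opens} (hU : IsAffineOpen U) :
    Function.Bijective (f.app U) := by
  obtain ⟨Q, θ, e1, hθ, he, he1, hlin, -⟩ := exists_unit_rep f h0 hU
  obtain ⟨e, he'⟩ := he.2 1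
  refine ⟨fun a b hab => ?_, fun z => ?_⟩
  · have : LinearMap.mulLeft _ a ∘ₗ e1 = LinearMap.mulLeft _ b ∘ₗ e1 :=
      hθ.1 (by rw [hlin, hlin, hab])
    simpa [he'] using LinearMap.congr_fun this e
  · obtain ⟨φ, hφ⟩ := hθ.2 (z • oneSec X (f ⁻¹ᵁ U))
    have h1 : φ = LinearMap.mulLeft _ (φ e) ∘ₗ e1 := LinearMap.ext fun q => by
      rw [LinearMap.comp_apply, LinearMap.mulLeft_apply]
      have hq : q = e1 q • e := he.1 (by rw [map_smul, he', smul_eq_mul, mul_one])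
      conv_lhs => rw [hq]
      rw [map_smul, smul_eq_mul, mul_comm]
    rw [h1, hlin, he1] at hφ
    refine ⟨φ e, ?_⟩
    simpa [toFun_smul, toFun_oneSec] using congrArg toFun hφ

include f in
/-- `f_* O_X = O_Y`. -/
theorem app_bijective (h0 : H0One f) (V : Y.Opens) : Function.Bijective (f.app V) := by
  have hA := fun {W : Y.Opens} (hW : IsAffineOpen W) => app_bijective_affine f h0 hW
  have hnat : ∀ {V W : Y.Opens} (h : W ≤ V) (z : Γ(Y, V)),
      f.app W (resX Y h z) = resX X (f.preimage_mono h) (f.app V z) := fun h z =>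
    congr($(f.naturality (homOfLE h).op) z)
  have hinj : ∀ V : Y.Opens, Function.Injective (f.app V) := by
    intro V a b hab
    refine resX_ext (fun W : {W : Y.Opens // IsAffineOpen W ∧ W ≤ V} => W.1) (fun W => W.2.2)
      (fun y hy => ?_) fun W => (hA W.2.1).1 (by rw [hnat, hnat, hab])
    obtain ⟨_, ⟨W, hW, rfl⟩, hyW, hle⟩ :=
      Y.isBasis_affineOpens.exists_subset_of_mem_open hy V.2
    exact Opens.mem_iSup.2 ⟨⟨W, hW, hle⟩, hyW⟩
  refine ⟨hinj V, fun z => ?_⟩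
  have hc : V ≤ ⨆ W : {W : Y.Opens // IsAffineOpen W ∧ W ≤ V}, W.1 := fun y hy => by
    obtain ⟨_, ⟨W, hW, rfl⟩, hyW, hle⟩ :=
      Y.isBasis_affineOpens.exists_subset_of_mem_open hy V.2
    exact Opens.mem_iSup.2 ⟨⟨W, hW, hle⟩, hyW⟩
  choose r hr using fun W : {W : Y.Opens // IsAffineOpen W ∧ W ≤ V} =>
    (hA W.2.1).2 (resX X (f.preimage_mono W.2.2) z)
  obtain ⟨a, ha, -⟩ := resX_glue (fun W : {W : Y.Opens // IsAffineOpen W ∧ W ≤ V} => W.1)
    (fun W => W.2.2) hc r fun W W' => hinj _ (by rw [hnat, hnat, hr, hr, resX_resX, resX_resX])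
  refine ⟨a, resX_ext (fun W : {W : Y.Opens // IsAffineOpen W ∧ W ≤ V} => f ⁻¹ᵁ W.1)
    (fun W => f.preimage_mono W.2.2) (fun x hx => ?_) fun W => ?_⟩
  · obtain ⟨W, hW⟩ := Opens.mem_iSup.1 (hc (show f x ∈ V from hx))
    exact Opens.mem_iSup.2 ⟨W, hW⟩
  · rw [← hnat W.2.2, ha, hr]

/-- Fibrewise triviality gives generating sections near every point of a reduced base. -/
theorem exists_gen_of_fibre_trivial [IsReduced Y] (h0 : H0One f) (hL : PicF.IsInvertible L)
    (htriv : ∀ y : Y, Nonempty (CohIII.fiberMod f L y ≅ Coh.structureModule (f.fiber y))) (y : Y) :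
    ∃ (V : Y.Opens) (s : Γ(L, f ⁻¹ᵁ V)), y ∈ V ∧ Gen L (f ⁻¹ᵁ V) s := by
  obtain ⟨_, ⟨U, hU, rfl⟩, hy, -⟩ :=
    Y.isBasis_affineOpens.exists_subset_of_mem_open (Set.mem_univ y) isOpen_univ
  obtain ⟨Q, hQ, θ, hθ, -, hfib⟩ := exists_fibre_rep f hL hU
  have hd : ∀ (z : Y) (hz : z ∈ U), letI := evAlg hz
      ∃ φ₀ : Q →ₗ[Γ(Y, U)] Y.residueField z, φ₀ ≠ 0 ∧
        ∀ ψ : Q →ₗ[Γ(Y, U)] Y.residueField z, ∃ b, ψ = LinearMap.mulLeft _ b ∘ₗ φ₀ := by
    intro z hz
    let := evAlg hz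
    obtain ⟨θz, h1, h2, -⟩ := hfib z hz
    obtain ⟨h3, φ₀, h4⟩ := dual_fibre f hz h0 (htriv z) θz h1 h2
    exact ⟨φ₀, h4, (h3 φ₀ h4).2⟩
  obtain ⟨c, e, hc, hspan⟩ : ∃ (c : Γ(Y, U)) (e : Q), Y.evaluation U y hy c ≠ 0 ∧
      ∀ q : Q, ∃ a : Γ(Y, U), c • q = a • e := by
    let := evAlg hy
    obtain ⟨φ₀, hne, hb⟩ := hd y hy
    obtain ⟨e, he⟩ : ∃ e, φ₀ e ≠ 0 := by
      by_contra hno
      push Not at hno
      exact hne (LinearMap.ext hno)
    obtain ⟨c, hc, hM⟩ := exists_smul_eq_zero (M := Q ⧸ Submodule.span Γ(Y, U) {e}) hU hy (by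
      intro ψ
      obtain ⟨b, hb'⟩ := hb (ψ ∘ₗ Submodule.mkQ _)
      refine Submodule.linearMap_qext _ ?_
      rw [LinearMap.zero_comp, hb']
      have h2 := LinearMap.congr_fun hb' e
      have hmk : Submodule.mkQ (Submodule.span Γ(Y, U) {e}) e = 0 :=
        (Submodule.Quotient.mk_eq_zero _).2 (Submodule.mem_span_singleton_self e)
      rw [LinearMap.comp_apply, hmk, map_zero, LinearMap.comp_apply, LinearMap.mulLeft_apply] at h2
      rcases mul_eq_zero.1 h2.symm with hb0 | h0'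
      · rw [hb0, LinearMap.mulLeft_zero_eq_zero, LinearMap.zero_comp]
      · exact absurd h0' he)
    refine ⟨c, e, hc, fun q => ?_⟩
    have h1 := hM (Submodule.Quotient.mk q)
    rw [← Submodule.Quotient.mk_smul, Submodule.Quotient.mk_eq_zero,
      Submodule.mem_span_singleton] at h1
    obtain ⟨a, ha⟩ := h1
    exact ⟨a, ha.symm⟩
  choose a ha using hspan
  have hkill : ∀ b b' : Γ(Y, U), b • e = b' • e → c * b = c * b' := fun b b' h => by
    rw [← sub_eq_zero, ← mul_sub]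
    refine (Y.basicOpen_eq_bot_iff_forall_evaluation_eq_zero _).2 ?_ |> fun h0' =>
      (basicOpen_eq_bot_iff _).1 h0'
    rintro ⟨z, hz⟩
    let := evAlg hz
    rw [map_mul, mul_eq_zero]
    by_contra hno
    push Not at hno
    obtain ⟨φ₀, hne, -⟩ := hd z hz
    refine hne (LinearMap.ext fun q => ?_)
    have h1 : Y.evaluation U z hz c * φ₀ q = Y.evaluation U z hz (a q) * φ₀ e := by
      have := congrArg φ₀ (ha q)
      rwa [map_smul, map_smul, Algebra.smul_def, Algebra.smul_def] at this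
    have h2 : Y.evaluation U z hz (b - b') * φ₀ e = 0 := by
      have := congrArg φ₀ (show (b - b') • e = 0 by rw [sub_smul, h, sub_self])
      rwa [map_smul, map_zero, Algebra.smul_def] at this
    rw [(mul_eq_zero.1 h2).resolve_left hno.2, mul_zero] at h1
    exact (mul_eq_zero.1 h1).resolve_left hno.1
  let φ : Q →ₗ[Γ(Y, U)] Γ(Y, U) :=
    { toFun := fun q => c * a q
      map_add' := fun q q' => by
        rw [← mul_add]
        exact hkill _ _ (by rw [add_smul, ← ha, ← ha, ← ha, smul_add])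
      map_smul' := fun r q => by
        rw [RingHom.id_apply, smul_eq_mul, mul_left_comm]
        exact hkill _ _ (by rw [mul_smul, ← ha, ← ha, smul_comm]) }
  have hφe : φ e = c * c := hkill _ _ (ha e).symm
  let := evAlg hy
  obtain ⟨θy, h1, h2, h3⟩ := hfib y hy
  have hk : ⊤ ≤ f.fiberι y ⁻¹ᵁ f ⁻¹ᵁ U := fun z _ => by
    have hz : f.fiberι y z ∈ Set.range (f.fiberι y) := ⟨z, rfl⟩
    rw [Scheme.Hom.range_fiberι] at hz
    show f (f.fiberι y z) ∈ U
    rw [show f (f.fiberι y z) = y from hz]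
    exact hy
  have hne : Algebra.linearMap _ (Y.residueField y) ∘ₗ φ ≠ 0 := fun h => by
    have h4 : Y.evaluation U y hy (φ e) = 0 := LinearMap.congr_fun h e
    rw [hφe, map_mul, mul_eq_zero] at h4
    exact hc (h4.elim id id)
  have hG := ((dual_fibre f hy h0 (htriv y) θy h1 h2).1 _ hne).1
  rw [h3 φ hk] at hG
  let O : X.Opens := ⨆ W : {W : X.Opens // ∃ h : W ≤ f ⁻¹ᵁ U, Gen L W (res L h (θ φ))}, W.1
  have hO : ∀ x, f x = y → x ∈ O := fun x hx => by
    obtain ⟨z, rfl⟩ : x ∈ Set.range (f.fiberι y) := by rw [Scheme.Hom.range_fiberι]; exact hx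
    obtain ⟨W, hW, hzW, hgW⟩ := exists_gen_near (f.fiberι y) hL (θ φ) hk hG z
    exact Opens.mem_iSup.2 ⟨⟨W, hW, hgW⟩, hzW⟩
  let V : Y.Opens := U ⊓ ⟨(f '' (O : Set X)ᶜ)ᶜ, (f.isClosedMap _ O.2.isClosed_compl).isOpen_compl⟩
  refine ⟨V, res L (f.preimage_mono inf_le_left) (θ φ),
    ⟨hy, fun ⟨x, hx, hxy⟩ => hx (hO x hxy)⟩, ?_⟩
  refine Gen.of_cover (fun W : {W : X.Opens // ∃ h : W ≤ f ⁻¹ᵁ U, Gen L W (res L h (θ φ))} =>
    f ⁻¹ᵁ V ⊓ W.1) (fun _ => inf_le_left) (fun x hx => ?_) fun W => ?_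
  · have hxO : x ∈ O := by
      by_contra hxO
      exact hx.2 ⟨x, hxO, rfl⟩
    obtain ⟨W, hW⟩ := Opens.mem_iSup.1 hxO
    exact Opens.mem_iSup.2 ⟨W, hx, hW⟩
  · obtain ⟨h, hgW⟩ := W.2
    rw [res_res]
    have := hgW.res (inf_le_right : f ⁻¹ᵁ V ⊓ W.1 ≤ W.1)
    rwa [res_res] at this

include f in
/-- Seesaw over a reduced base. -/
theorem pushforward_counit_of_fibre_trivial [IsReduced Y] (h0 : H0One f) (hL : PicF.IsInvertible L)
    (htriv : ∀ y : Y, Nonempty (CohIII.fiberMod f L y ≅ Coh.structureModule (f.fiber y))) :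
    PicF.IsInvertible ((Scheme.Modules.pushforward f).obj L) ∧
      IsIso ((Scheme.Modules.pullbackPushforwardAdjunction f).counit.app L) := by
  choose V s hy hs using exists_gen_of_fibre_trivial f h0 hL htriv
  exact pushforward_invertible_and_counit f (app_bijective f h0) V
    (eq_top_iff.2 fun z _ => Opens.mem_iSup.2 ⟨z, hy z⟩) s hs

omit [IsProper f] [Flat f] [IsLocallyNoetherian Y] in
theorem fibre_trivial_of_pullback {M : Y.Modules} (hM : PicF.IsInvertible M)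
    (e : (Scheme.Modules.pullback f).obj M ≅ L) (y : Y) :
    Nonempty (CohIII.fiberMod f L y ≅ Coh.structureModule (f.fiber y)) := by
  obtain ⟨V, t, -, hyV, ht⟩ := exists_affine_gen_mem hM y
  have hk : (⊤ : (f.fiber y).Opens) ≤ f.fiberι y ⁻¹ᵁ f ⁻¹ᵁ V := fun z _ => by
    have hz : f.fiberι y z ∈ Set.range (f.fiberι y) := ⟨z, rfl⟩
    rw [Scheme.Hom.range_fiberι] at hz
    show f (f.fiberι y z) ∈ V
    rw [show f (f.fiberι y z) = y from hz]
    exact hyV
  have h1 := (((ht.pull f).map e.hom).pull (f.fiberι y)).res hk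
  exact nonempty_iso_structure_iff.2 ⟨_, h1⟩

end Rep

end Groth.PicAux.Seesaw
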