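import Groth.Agent.CohBase.ExchangeStmt
import Groth.Agent.CohFin.ProjFinite
import Groth.Agent.QCohMod.PullbackSections
import Mathlib.AlgebraicGeometry.Morphisms.Affine

/-!
# Global sections of a base change as a corepresentable functor

For `X` proper over `Spec A` (`A` Noetherian) and `F` coherent and flat over `A` there is a finite
`A`-module `Q` with `Γ(X', g^*F) = Hom_A(Q, B)` for every cartesian square over an `A`-algebra `B`.
-/

universe u

open CategoryTheory Limits AlgebraicGeometry TopologicalSpace Opposite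
open scoped TensorProduct
open Groth.QCohMod (resFun resFun_resFun res_app)

noncomputable section

namespace Groth.PicAux.BC

open Groth.CohBase

variable (A : Type u) [CommRing A] {X : Scheme.{u}} [X.Over (Spec (CommRingCat.of A))]

theorem pullSec_add {Y Z : Scheme.{u}} (g : Y ⟶ Z) (N : Z.Modules) {W : Z.Opens} (s s' : Γ(N, W)) :
    pullSec g N (s + s') = pullSec g N s + pullSec g N s' :=
  map_add _ _ _

theorem pullSec_zero {Y Z : Scheme.{u}} (g : Y ⟶ Z) (N : Z.Modules) {W : Z.Opens} :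
    pullSec g N (0 : Γ(N, W)) = 0 :=
  map_zero _

theorem ι_comp_appTop {R : Type u} [CommRing R] {Y : Scheme.{u}} (h : Y ⟶ Spec (CommRingCat.of R))
    (W : Y.Opens) : (W.ι ≫ h).appTop ≫ W.topIso.hom = (Scheme.ΓSpecIso (CommRingCat.of R)).hom ≫
      CommRingCat.ofHom ((resFun Y (le_top : W ≤ ⊤)).comp (Coh.toGlobal h)) := by
  refine CommRingCat.hom_ext (RingHom.ext fun z => ?_)
  have e := congr($((Scheme.ΓSpecIso (CommRingCat.of R)).hom_inv_id) z)
  change Y.presheaf.map _ (Y.presheaf.map _ (h.appTop z)) =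
    resFun Y _ (h.appTop ((Scheme.ΓSpecIso (CommRingCat.of R)).inv
      ((Scheme.ΓSpecIso (CommRingCat.of R)).hom z)))
  refine Eq.trans ?_ (congrArg (fun t => resFun Y (le_top : W ≤ ⊤) (h.appTop t)) e.symm)
  exact congr($((Y.presheaf.map_comp _ _).symm) (h.appTop z))

theorem morphismRestrict_appTop_topIso {Y Z : Scheme.{u}} (g : Y ⟶ Z) (W : Z.Opens) :
    (g ∣_ W).appTop ≫ (g ⁻¹ᵁ W).topIso.hom = W.topIso.hom ≫ g.app W := by
  simp [Scheme.Opens.topIso_hom, Scheme.Hom.app_eq_appLE, Scheme.Hom.appTop, eqToHom_op]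
  erw [Scheme.Hom.appLE_map, Scheme.Hom.map_appLE]

section Square

variable (B : Type u) [CommRing B] [Algebra A B] {X' : Scheme.{u}} {g : X' ⟶ X}
  {f' : X' ⟶ Spec (CommRingCat.of B)}
  (hp : IsPullback g f' (X ↘ Spec (CommRingCat.of A))
    (Spec.map (CommRingCat.ofHom (algebraMap A B))))

/-- Scalars of `B` as functions on an open of the base change. -/
def bSec (W : X'.Opens) : B →+* Γ(X', W) :=
  (resFun X' (le_top : W ≤ ⊤)).comp (Coh.toGlobal f')

theorem resFun_bSec {V W : X'.Opens} (h : V ≤ W) (b : B) :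
    resFun X' h (bSec B (f' := f') W b) = bSec B (f' := f') V b :=
  resFun_resFun _ _ _

include hp in
theorem appLE_toSec (W : X.Opens) (a : A) :
    g.app W (toSec A W a) = bSec B (f' := f') (g ⁻¹ᵁ W) (algebraMap A B a) := by
  have h1 : g.appTop (Coh.toGlobal (X ↘ Spec (CommRingCat.of A)) a) =
      Coh.toGlobal f' (algebraMap A B a) := by
    have h3 := congrArg (fun q : X' ⟶ Spec (CommRingCat.of A) =>
      q.appTop ((Scheme.ΓSpecIso (CommRingCat.of A)).inv a)) hp.w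
    have h4 : (Spec.map (CommRingCat.ofHom (algebraMap A B))).appTop
        ((Scheme.ΓSpecIso (CommRingCat.of A)).inv a) =
        (Scheme.ΓSpecIso (CommRingCat.of B)).inv (algebraMap A B a) :=
      (congr($(Scheme.ΓSpecIso_inv_naturality (CommRingCat.ofHom (algebraMap A B))) a)).symm
    exact h3.trans (congrArg f'.appTop h4)
  exact (congr($(g.naturality (homOfLE (le_top : W ≤ ⊤)).op) (Coh.toGlobal _ a))).trans
    (congrArg (resFun X' (le_top : g ⁻¹ᵁ W ≤ ⊤)) h1)

theorem isAffineHom_fst (hp : IsPullback g f' (X ↘ Spec (CommRingCat.of A))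
    (Spec.map (CommRingCat.ofHom (algebraMap A B)))) : IsAffineHom g :=
  MorphismProperty.of_isPullback (P := @IsAffineHom) hp.flip inferInstance

include hp in
theorem secPushout_bijective {W : X.Opens} (hW : IsAffineOpen W) :
    letI := (toSec A W).toAlgebra
    ∃ χ : Γ(X, W) ⊗[A] B ≃+ Γ(X', g ⁻¹ᵁ W),
      ∀ s b, χ (s ⊗ₜ b) = g.app W s * bSec B (f' := f') (g ⁻¹ᵁ W) b := by
  have : IsAffine W := hW
  have := isAffineHom_fst A B hp
  have hq := (isPullback_morphismRestrict g W).paste_vert hp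
  have h1 := isPushout_appTop_of_isPullback hq
  letI := (toSec A W).toAlgebra
  letI : Algebra Γ(X, W) Γ(X', g ⁻¹ᵁ W) := (g.app W).hom.toAlgebra
  letI : Algebra B Γ(X', g ⁻¹ᵁ W) := (bSec B (f' := f') (g ⁻¹ᵁ W)).toAlgebra
  letI : Algebra A Γ(X', g ⁻¹ᵁ W) := ((g.app W).hom.comp (toSec A W)).toAlgebra
  haveI : IsScalarTower A Γ(X, W) Γ(X', g ⁻¹ᵁ W) := IsScalarTower.of_algebraMap_eq fun _ => rfl
  haveI : IsScalarTower A B Γ(X', g ⁻¹ᵁ W) :=
    IsScalarTower.of_algebraMap_eq fun a => appLE_toSec A B hp W a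
  have h2 : IsPushout (CommRingCat.ofHom (algebraMap A Γ(X, W)))
      (CommRingCat.ofHom (algebraMap A B)) (CommRingCat.ofHom (algebraMap Γ(X, W) Γ(X', g ⁻¹ᵁ W)))
      (CommRingCat.ofHom (algebraMap B Γ(X', g ⁻¹ᵁ W))) := by
    refine h1.of_iso (Scheme.ΓSpecIso _) W.topIso (Scheme.ΓSpecIso _) (g ⁻¹ᵁ W).topIso ?_ ?_ ?_ ?_
    · exact ι_comp_appTop _ W
    · exact (Scheme.ΓSpecIso_naturality (CommRingCat.ofHom (algebraMap A B)))
    · exact morphismRestrict_appTop_topIso g W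
    · exact ι_comp_appTop f' (g ⁻¹ᵁ W)
  have h3 := CommRingCat.isPushout_iff_isPushout.mp h2
  exact ⟨(Algebra.IsPushout.equiv A Γ(X, W) B Γ(X', g ⁻¹ᵁ W)).toAddEquiv, fun s b =>
    Algebra.IsPushout.equiv_tmul A Γ(X, W) B Γ(X', g ⁻¹ᵁ W) s b⟩

variable (F : X.Modules)

/-- The comparison of sections over an open. -/
def bcΦ (W : X.Opens) : secA A F W ⊗[A] B →+ Γ((Scheme.Modules.pullback g).obj F, g ⁻¹ᵁ W) :=
  TensorProduct.liftAddHom
    (AddMonoidHom.mk' (fun s => AddMonoidHom.mk'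
      (fun b => bSec B (f' := f') (g ⁻¹ᵁ W) b • pullSec g F (show Γ(F, W) from s))
      fun b b' => by rw [map_add, add_smul]) fun s s' => AddMonoidHom.ext fun b => by
        exact (congrArg (bSec B (f' := f') (g ⁻¹ᵁ W) b • ·)
          (pullSec_add g F (show Γ(F, W) from s) (show Γ(F, W) from s'))).trans (smul_add _ _ _))
    fun a s b => by
      change bSec B (g ⁻¹ᵁ W) b • pullSec g F (toSec A W a • (show Γ(F, W) from s)) =
        bSec B (g ⁻¹ᵁ W) (a • b) • pullSec g F (show Γ(F, W) from s)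
      rw [pullSec_smul, appLE_toSec A B hp W a, Algebra.smul_def, map_mul, smul_smul, mul_comm]

theorem bcΦ_tmul (W : X.Opens) (s : secA A F W) (b : B) : bcΦ A B hp F W (s ⊗ₜ b) =
    bSec B (f' := f') (g ⁻¹ᵁ W) b • pullSec g F (show Γ(F, W) from s) := rfl

theorem bcΦ_res {V W : X.Opens} (h : V ≤ W) (z : secA A F W ⊗[A] B) :
    QCohMod.res _ (g.preimage_mono h) (bcΦ A B hp F W z) =
      bcΦ A B hp F V ((secRes A F h).rTensor B z) := by
  induction z using TensorProduct.induction_on with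
  | zero => simp
  | tmul s b =>
    rw [LinearMap.rTensor_tmul, bcΦ_tmul, bcΦ_tmul, QCohMod.res_smul, resFun_bSec]
    exact congrArg _ (res_pullSec (f := g) F h (show Γ(F, W) from s))
  | add p q hp hq => simp [hp, hq]

theorem bcΦ_bijective [F.IsQuasicoherent] {W : X.Opens} (hW : IsAffineOpen W) :
    Function.Bijective (bcΦ A B hp F W) := by
  have := isAffineHom_fst A B hp
  let := (toSec A W).toAlgebra
  let := QCohMod.sectionsAlg g (le_refl (g ⁻¹ᵁ W))
  obtain ⟨χ, hχ⟩ := secPushout_bijective A B hp hW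
  have happ : ∀ r : Γ(X, W), algebraMap Γ(X, W) Γ(X', g ⁻¹ᵁ W) r = g.app W r := fun r => by
    rw [Scheme.Hom.app_eq_appLE]; rfl
  let χ' : Γ(X, W) ⊗[A] B ≃ₗ[Γ(X, W)] Γ(X', g ⁻¹ᵁ W) :=
    AddEquiv.toLinearEquiv χ fun r z => by
      induction z using TensorProduct.induction_on with
      | zero => simp
      | tmul s b => rw [TensorProduct.smul_tmul', hχ, hχ, smul_eq_mul, map_mul, Algebra.smul_def,
          happ, mul_assoc]
      | add p q hp hq => rw [smul_add, map_add, hp, hq, map_add, smul_add]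
  let : Module A Γ(F, W) := Module.compHom _ (toSec A W)
  have : IsScalarTower A Γ(X, W) Γ(F, W) := IsScalarTower.of_compHom _ _ _
  let e₁ : secA A F W ⊗[A] B ≃+ Γ(F, W) ⊗[Γ(X, W)] (Γ(X, W) ⊗[A] B) :=
    (TensorProduct.AlgebraTensorModule.cancelBaseChange A Γ(X, W) Γ(X, W) Γ(F, W) B).symm.toAddEquiv
  let e₂ : Γ(F, W) ⊗[Γ(X, W)] (Γ(X, W) ⊗[A] B) ≃+ Γ(X', g ⁻¹ᵁ W) ⊗[Γ(X, W)] Γ(F, W) :=
    ((TensorProduct.comm Γ(X, W) Γ(F, W) (Γ(X, W) ⊗[A] B)).trans
      (TensorProduct.congr χ' (LinearEquiv.refl _ _))).toAddEquiv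
  have hb := QCohMod.pullSecTensor_bijective g F (le_refl (g ⁻¹ᵁ W)) hW (hW.preimage g)
  have key : ∀ z, bcΦ A B hp F W z =
      QCohMod.pullSecTensor g F (le_refl (g ⁻¹ᵁ W)) (e₂ (e₁ z)) := by
    intro z
    induction z using TensorProduct.induction_on with
    | zero => simp
    | tmul s b =>
      rw [bcΦ_tmul]
      change _ = χ ((1 : Γ(X, W)) ⊗ₜ b) • QCohMod.res _ _ (pullSec g F (show Γ(F, W) from s))
      rw [hχ, map_one, one_mul]
      exact congrArg _ (QCohMod.res_self _ _).symm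
    | add p q hp hq => simp [hp, hq]
  rw [show (bcΦ A B hp F W : _ → _) = QCohMod.pullSecTensor g F (le_refl (g ⁻¹ᵁ W)) ∘ e₂ ∘ e₁
    from funext key]
  exact hb.comp (e₂.bijective.comp e₁.bijective)

/-- The model of a base change. -/
def bcModel [F.IsQuasicoherent] (G : GoodCover X) :
    SecModel A G.U F B g ((Scheme.Modules.pullback g).obj F) where
  Φ W := bcΦ A B hp F W
  nat h z := bcΦ_res A B hp F h z
  bij x := bcΦ_bijective A B hp F (G.affine x)

end Square

section Zero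

variable {F : X.Modules} (G : GoodCover X) {M : Type u} [AddCommGroup M] [Module A M]
  {X' : Scheme.{u}} {g : X' ⟶ X} {H : X'.Modules} (Ψ : SecModel A G.U F M g H)

/-- Cocycles of degree zero. -/
abbrev Cyc : Type u :=
  LinearMap.ker (((cxA A G.U F).d ((0 : ℕ) : ℤ) (((0 : ℕ) : ℤ) + 1)).hom.rTensor M)

/-- The value of a cochain on an intersection. -/
abbrev comp₀ (z : cxC A G.U F 0 ⊗[A] M) (x : Fin 1 → G.ι) : Γ(H, g ⁻¹ᵁ tupOpen G.U x) :=
  Ψ.Φ (tupOpen G.U x)
    ((LinearMap.proj (R := A) (φ := fun x => secA A F (tupOpen G.U x)) x).rTensor M z)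

theorem exists_sec (z : Cyc A G (F := F) (M := M)) :
    ∃ s : Γ(H, ⊤), ∀ x, QCohMod.res H (le_top : g ⁻¹ᵁ tupOpen G.U x ≤ ⊤) s = comp₀ A G Ψ z.1 x := by
  obtain ⟨s, hs⟩ := Res.mem_cyc_zero_iff.1 (Ψ.toTop_mem_cyc G.hcov z)
  refine ⟨s, fun x => (qres_bijective_of_eq H (inf_le_right.trans (tupOpen_preimage g x).le)
    (le_inf le_top (tupOpen_preimage g x).ge)).1 ?_⟩
  have h1 := congrFun hs x
  rw [Ψ.toTop_apply] at h1
  refine Eq.trans ?_ h1
  rw [QCohMod.res_res]
  rfl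

/-- A cocycle of degree zero as a global section. -/
def sec (z : Cyc A G (F := F) (M := M)) : Γ(H, ⊤) := (exists_sec A G Ψ z).choose

theorem res_sec (z : Cyc A G (F := F) (M := M)) (x : Fin 1 → G.ι) :
    QCohMod.res H (le_top : g ⁻¹ᵁ tupOpen G.U x ≤ ⊤) (sec A G Ψ z) = comp₀ A G Ψ z.1 x :=
  (exists_sec A G Ψ z).choose_spec x

theorem sec_unique {s t : Γ(H, ⊤)}
    (h : ∀ x : Fin 1 → G.ι, QCohMod.res H (le_top : g ⁻¹ᵁ tupOpen G.U x ≤ ⊤) s =
      QCohMod.res H le_top t) : s = t := by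
  refine Res.ι_app_injective (R := SecModel.res' (g := g) G.hcov H) ⊤ (funext fun x => ?_)
  change QCohMod.res H _ s = QCohMod.res H _ t
  have e := congrArg (QCohMod.res H (inf_le_right.trans (tupOpen_preimage g x).le :
    ⊤ ⊓ tupOpen (fun i => g ⁻¹ᵁ G.U i) x ≤ g ⁻¹ᵁ tupOpen G.U x)) (h x)
  rwa [QCohMod.res_res, QCohMod.res_res] at e

theorem sec_bijective : Function.Bijective (sec A G Ψ) := by
  refine ⟨fun z w h => Subtype.ext ((Ψ.toTop_bijective 0).1 (funext fun x => ?_)), fun s => ?_⟩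
  · rw [Ψ.toTop_apply, Ψ.toTop_apply]
    exact congrArg _ ((res_sec A G Ψ z x).symm.trans ((congrArg _ h).trans (res_sec A G Ψ w x)))
  · obtain ⟨z, hz⟩ := (Ψ.toTop_bijective 0).2 ((SecModel.res' (g := g) G.hcov H).ι.app ⊤ s)
    have hc : (SecModel.res' (g := g) G.hcov H).ι.app ⊤ s ∈
        (SecModel.res' (g := g) G.hcov H).Cyc ⊤ 0 := Res.mem_cyc_zero_iff.2 ⟨s, rfl⟩
    have hz0 : ((cxA A G.U F).d ((0 : ℕ) : ℤ) (((0 : ℕ) : ℤ) + 1)).hom.rTensor M z = 0 := by
      refine (SecModel.cxA_d_rTensor 0 z).trans ((Ψ.toTop_bijective 1).1 ?_)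
      refine ((SecModel.toTop_d _ 0 z).trans ?_).trans (map_zero (Ψ.toTop 1)).symm
      rw [hz]
      exact hc
    refine ⟨⟨z, hz0⟩, sec_unique (g := g) G fun x => ?_⟩
    rw [res_sec]
    refine (qres_bijective_of_eq H (inf_le_right.trans (tupOpen_preimage g x).le)
      (le_inf le_top (tupOpen_preimage g x).ge)).1 ?_
    have h1 := congrFun hz x
    rw [Ψ.toTop_apply] at h1
    refine h1.trans ?_
    rw [QCohMod.res_res]
    rfl

theorem sec_map {N : Type u} [AddCommGroup N] [Module A N] {X'' : Scheme.{u}} {g' : X'' ⟶ X}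
    {H' : X''.Modules} (Ψ' : SecModel A G.U F N g' H') (t : M →ₗ[A] N)
    (μ : ∀ W : X.Opens, Γ(H, g ⁻¹ᵁ W) → Γ(H', g' ⁻¹ᵁ W))
    (hμ : ∀ W z, μ W (Ψ.Φ W z) = Ψ'.Φ W (t.lTensor _ z))
    (hres : ∀ (W : X.Opens) (s : Γ(H, ⊤)), μ W (QCohMod.res H (le_top : g ⁻¹ᵁ W ≤ ⊤) s) =
      QCohMod.res H' (le_top : g' ⁻¹ᵁ W ≤ ⊤) (μ ⊤ s))
    (z : Cyc A G (F := F) (M := M)) (w : Cyc A G (F := F) (M := N))
    (hw : w.1 = t.lTensor _ z.1) :
    sec A G Ψ' w = μ ⊤ (sec A G Ψ z) := by
  refine sec_unique (g := g') G fun x => ?_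
  rw [res_sec, ← hres, res_sec, comp₀, comp₀, hμ, hw]
  refine congrArg _ ((LinearMap.congr_fun (LinearMap.rTensor_comp_lTensor
    (f := LinearMap.proj x) (g := t)) z.1).trans ?_)
  exact (LinearMap.congr_fun (LinearMap.lTensor_comp_rTensor
    (f := LinearMap.proj x) (g := t)) z.1).symm

end Zero

/-- Global sections of all base changes are corepresented by a finite module. -/
theorem exists_rep [IsNoetherianRing A] [IsProper (X ↘ Spec (CommRingCat.of A))] {F : X.Modules}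
    (hF : Coh.IsCoh F) (hfl : FlatMod.IsFlatOver (X ↘ Spec (CommRingCat.of A)) F) :
    ∃ (Q : ModuleCat.{u} A) (_ : Module.Finite A Q) (θ₀ : (Q →ₗ[A] A) → Γ(F, ⊤)),
      Function.Bijective θ₀ ∧
      (∀ (a : A) (φ : Q →ₗ[A] A), θ₀ (LinearMap.mulLeft A a ∘ₗ φ) = toSec A (⊤ : X.Opens) a • θ₀ φ) ∧
      ∀ (B : Type u) [CommRing B] [Algebra A B] (X' : Scheme.{u}) (g : X' ⟶ X)
        (f' : X' ⟶ Spec (CommRingCat.of B))
        (_ : IsPullback g f' (X ↘ Spec (CommRingCat.of A))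
          (Spec.map (CommRingCat.ofHom (algebraMap A B)))),
        ∃ θ : (Q →ₗ[A] B) → Γ((Scheme.Modules.pullback g).obj F, g ⁻¹ᵁ ⊤),
          Function.Bijective θ ∧
          (∀ (b : B) (φ : Q →ₗ[A] B), θ (LinearMap.mulLeft A b ∘ₗ φ) =
            bSec B (f' := f') (g ⁻¹ᵁ ⊤) b • θ φ) ∧
          ∀ φ : Q →ₗ[A] A, θ (Algebra.linearMap A B ∘ₗ φ) = pullSec g F (θ₀ φ) := by
  have := CohFin.compactSpace_of_proper (X ↘ Spec (CommRingCat.of A))
  have := CohFin.isSeparated_of_proper (X ↘ Spec (CommRingCat.of A))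
  have := hF.1
  obtain ⟨G⟩ := exists_goodCover X
  obtain ⟨L, ψ, hL, -, hq⟩ := exists_finiteFree_qis A G F hfl fun p =>
    CohFin.hFin_of_proper CohFin.projFinite p X (X ↘ Spec (CommRingCat.of A)) F hF
  have : ∀ i, Module.Finite A (L.X i) := fun i => (hL i).1
  have : ∀ i, Module.Flat A (L.X i) := fun i => have := (hL i).2; inferInstance
  have hneg : ∀ M : ModuleCat.{u} A, IsZero (CohIII.T L (-1) M) := fun M => by
    refine IsZero.of_iso ?_ ((tFunIso ψ (-1) hq).app M)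
    refine (FlatCxBase.isZero_T_iff _ (FlatCxBase.cochain_prev (-1))
      (FlatCxBase.cochain_next (-1)) M).2 fun x _ => ⟨0, ?_⟩
    have := ModuleCat.subsingleton_of_isZero
      (isZero_cxA_of_neg A G.U F (i := (-1 : ℤ)) (by norm_num))
    exact Subsingleton.elim _ _
  obtain ⟨Q, hQ, ⟨c⟩⟩ := CxExch.exists_corep L (-1) (CxExch.preservesEpi_of_isZero L (-1) hneg)
  let e : CohIII.TFun (cxA A G.U F) ((0 : ℕ) : ℤ) ≅
      (linearCoyoneda A (ModuleCat.{u} A)).obj (op Q) := (tFunIso ψ _ hq).symm ≪≫ c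
  let toCyc : ∀ (M : ModuleCat.{u} A), (Q →ₗ[A] M) → Cyc A G (F := F) (M := M) := fun M φ =>
    (LinearEquiv.ofBijective _ (clsT_zero_bijective A G F M)).symm (e.inv.app M (ModuleCat.ofHom φ))
  have hbij : ∀ M, Function.Bijective (toCyc M) := fun M =>
    (LinearEquiv.ofBijective _ (clsT_zero_bijective A G F M)).symm.bijective.comp
      ((ConcreteCategory.bijective_of_isIso (e.inv.app M)).comp ModuleCat.homEquiv.symm.bijective)
  have hnat : ∀ {M N : ModuleCat.{u} A} (t : M ⟶ N) (φ : Q →ₗ[A] M),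
      (toCyc N (t.hom ∘ₗ φ)).1 = t.hom.lTensor _ (toCyc M φ).1 := by
    intro M N t φ
    have h1 : e.inv.app N (ModuleCat.ofHom (t.hom ∘ₗ φ)) =
        (CohIII.TFun (cxA A G.U F) ((0 : ℕ) : ℤ)).map t (e.inv.app M (ModuleCat.ofHom φ)) :=
      congr($(e.inv.naturality t) (ModuleCat.ofHom φ))
    obtain ⟨z, hz⟩ := (clsT_zero_bijective A G F M).2 (e.inv.app M (ModuleCat.ofHom φ))
    have hM : toCyc M φ = z := (LinearEquiv.symm_apply_eq _).2 hz.symm
    rw [← hz, FlatCxBase.TFun_map_clsT] at h1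
    have hN : toCyc N (t.hom ∘ₗ φ) = ⟨_, FlatCxBase.lTensor_mem_ker _ M t z⟩ :=
      (LinearEquiv.symm_apply_eq _).2 h1
    rw [hN, hM]
  refine ⟨Q, hQ, fun φ => sec A G (selfModel A G.U F) (toCyc (ModuleCat.of A A) φ),
    (sec_bijective A G (selfModel A G.U F)).comp (hbij _), fun a φ => ?_,
    fun B _ _ X' g f' hp => ?_⟩
  · refine sec_map A G (selfModel A G.U F) (selfModel A G.U F) (LinearMap.mulLeft A a)
      (fun W s => toSec A W a • (show Γ(F, W) from s)) (fun W z => ?_) (fun W s => ?_) _ _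
      (hnat (ModuleCat.ofHom (LinearMap.mulLeft A a)) φ)
    · induction z using TensorProduct.induction_on with
      | zero => rw [map_zero, map_zero, map_zero]; exact smul_zero (A := Γ(F, W)) (toSec A W a)
      | tmul s c =>
        change toSec A W a • (toSec A W c • (show Γ(F, W) from s)) =
          toSec A W (a * c) • (show Γ(F, W) from s)
        rw [map_mul, smul_smul]
      | add p q hp hq =>
        rw [map_add, map_add, map_add, ← hp, ← hq]
        exact smul_add (A := Γ(F, W)) (toSec A W a) _ _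
    · exact ((QCohMod.res_smul F (le_top : W ≤ ⊤) _ s).trans
        (congrArg (· • _) (resFun_toSec A (le_top : W ≤ ⊤) a))).symm
  refine ⟨fun φ => sec A G (bcModel A B hp F G) (toCyc (ModuleCat.of A B) φ),
    (sec_bijective A G (bcModel A B hp F G)).comp (hbij _), fun b φ => ?_, fun φ => ?_⟩
  · refine sec_map A G (bcModel A B hp F G) (bcModel A B hp F G) (LinearMap.mulLeft A b)
      (fun W s => bSec B (f' := f') (g ⁻¹ᵁ W) b • s) (fun W z => ?_) (fun W s => ?_) _ _
      (hnat (ModuleCat.ofHom (LinearMap.mulLeft A b)) φ)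
    · change bSec B _ b • bcΦ A B hp F W z = bcΦ A B hp F W _
      induction z using TensorProduct.induction_on with
      | zero => simp
      | tmul s c => rw [LinearMap.lTensor_tmul, bcΦ_tmul, bcΦ_tmul, LinearMap.mulLeft_apply,
          map_mul, smul_smul]
      | add p q hp hq => simp only [map_add, smul_add, hp, hq]
    · exact ((QCohMod.res_smul _ (le_top : g ⁻¹ᵁ W ≤ ⊤) _ _).trans
        (congrArg (· • _) (resFun_bSec B _ b))).symm
  · refine sec_map A G (selfModel A G.U F) (bcModel A B hp F G) (Algebra.linearMap A B)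
      (fun W s => pullSec g F (show Γ(F, W) from s)) (fun W z => ?_) (fun W s => ?_) _ _
      (hnat (ModuleCat.ofHom (Algebra.linearMap A B)) φ)
    · induction z using TensorProduct.induction_on with
      | zero =>
        rw [map_zero, map_zero, map_zero]
        exact pullSec_zero g F
      | tmul s a =>
        change pullSec g F (toSec A W a • (show Γ(F, W) from s)) = bcΦ A B hp F W (s ⊗ₜ _)
        rw [pullSec_smul, appLE_toSec A B hp W a, bcΦ_tmul]
        rfl
      | add p q hp hq =>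
        rw [map_add, map_add, map_add, ← hp, ← hq]
        exact pullSec_add g F _ _
    · exact (res_pullSec (f := g) F (le_top : W ≤ ⊤) s).symm

end Groth.PicAux.BC
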