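import Groth.Agent.PicAux.LimitInv
import Groth.Agent.Abvar.Seesaw.Global
import Groth.Agent.Abvar.PicCalc
import Groth.Agent.CohBase.InvNearFibre
import Groth.Agent.CurveDiv.DescGen
import Groth.Agent.SpectralTopology.AlgSystem

/-!
# The seesaw principle over an arbitrary base, for families coming from a Noetherian one

The family is a base change of a proper flat `g : T ⟶ Spec R` with `R` Noetherian and geometrically
integral fibres; the statements over any base follow by descending invertible modules to finitely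
generated `R`-subalgebras.
-/

set_option backward.isDefEq.respectTransparency false
set_option backward.defeqAttrib.useBackward true

universe u

open CategoryTheory Limits AlgebraicGeometry TopologicalSpace Opposite

noncomputable section

namespace Groth.PicAux.SeesawAnyBase

open Groth.Abvar.Seesaw Groth.SpectralTopology
open Groth.PicAux (Gen)

theorem geometricallyConnected_of_integral {X Y : Scheme.{u}} (f : X ⟶ Y)
    [GeometricallyIntegral f] : GeometricallyConnected f :=
  ⟨fun K _ b Q fst snd H => by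
    have : IsIntegral Q := GeometricallyIntegral.geometrically_isIntegral (f := f) b fst snd H
    exact (inferInstance : ConnectedSpace Q)⟩

/-- A square with a trivial fibre: triviality does not depend on the field. -/
theorem fibTriv_iff_of_isPullback {X' S' X S : Scheme.{u}} {p : X' ⟶ X} {π' : X' ⟶ S'}
    {π : X ⟶ S} {q : S' ⟶ S} (sq : IsPullback p π' π q) [IsProper π] [Flat π]
    [LocallyOfFinitePresentation π] [GeometricallyReduced π] [GeometricallyConnected π]
    {L : X.Modules} (hL : PicF.IsInvertible L) (y : S') :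
    FibTriv π' ((Scheme.Modules.pullback p).obj L) y ↔ FibTriv π L (q y) := by
  obtain ⟨m, sqy, hm1⟩ : ∃ m : π'.fiber y ⟶ π.fiber (q y),
      IsPullback m (π'.fiberToSpecResidueField y) (π.fiberToSpecResidueField (q y))
        (Spec.map (q.residueFieldMap y)) ∧ m ≫ π.fiberι (q y) = π'.fiberι y ≫ p :=
    ⟨_, isPullback_fiberToSpecResidueField_of_isPullback sq y, pullback.lift_fst _ _ _⟩
  let e := (Scheme.Modules.pullbackComp (π'.fiberι y) p).app L ≪≫
    (Scheme.Modules.pullbackCongr hm1.symm).app L ≪≫
    ((Scheme.Modules.pullbackComp m (π.fiberι (q y))).app L).symm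
  constructor
  · rintro ⟨i⟩
    have : GeometricallyReduced (π.fiberToSpecResidueField (q y)) :=
      MorphismProperty.of_isPullback (IsPullback.of_hasPullback π (S.fromSpecResidueField (q y))) ‹_›
    have : GeometricallyConnected (π.fiberToSpecResidueField (q y)) :=
      MorphismProperty.of_isPullback (IsPullback.of_hasPullback π (S.fromSpecResidueField (q y))) ‹_›
    have : Flat (π.fiberToSpecResidueField (q y)) :=
      MorphismProperty.of_isPullback (IsPullback.of_hasPullback π (S.fromSpecResidueField (q y))) ‹_›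
    have : LocallyOfFinitePresentation (π.fiberToSpecResidueField (q y)) :=
      MorphismProperty.of_isPullback (IsPullback.of_hasPullback π (S.fromSpecResidueField (q y))) ‹_›
    have : IsProper (π.fiberToSpecResidueField (q y)) :=
      MorphismProperty.of_isPullback (IsPullback.of_hasPullback π (S.fromSpecResidueField (q y))) ‹_›
    obtain ⟨N, hN, ⟨j⟩⟩ := CurveDiv.DescGen.exists_iso_pullback
      (f := π.fiberToSpecResidueField (q y))
      (GrpschAbsch.H0General.app_bijective _)
      (PicAux.isInvertible_pullback (π.fiberι (q y)) hL)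
      fun _ => ⟨_, _, _, m, _, sqy, inferInstance,
        ⟨IsLocalRing.closedPoint _, Subsingleton.elim _ _⟩,
        Coh.structureModule _, PicLoc.isInvertible_structureModule _,
        ⟨e.symm ≪≫ i ≪≫ (PicAux.pullback_structure_iso _).some.symm⟩⟩
    obtain ⟨k⟩ := (Abvar.PicCalc.nonempty_iso_structure_iff hN).2
      (Abvar.PicCalc.eq_one_of_subsingleton _)
    exact ⟨j ≪≫ (Scheme.Modules.pullback _).mapIso k ≪≫ (PicAux.pullback_structure_iso _).some⟩
  · rintro ⟨i⟩
    exact ⟨e ≪≫ (Scheme.Modules.pullback m).mapIso i ≪≫ (PicAux.pullback_structure_iso _).some⟩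

variable {R A : CommRingCat.{u}} [Algebra R A] {T : Scheme.{u}} (g : T ⟶ Spec R)

/-- The family over the finitely generated subalgebras. -/
def stage (s : (AlgSub R A)ᵒᵖ) : Scheme.{u} := pullback g (algToBase R A s)

/-- The stages as a diagram. -/
def stageDiagram : (AlgSub R A)ᵒᵖ ⥤ Scheme.{u} where
  obj s := pullback g (algToBase R A s)
  map {s t} φ := pullback.map g (algToBase R A s) g (algToBase R A t) (𝟙 T)
    ((algSchemes R A).map φ) (𝟙 _) (by simp) (by rw [algSchemes_map_toBase, Category.comp_id])
  map_id s := by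
    refine pullback.hom_ext ?_ ?_ <;> simp
  map_comp φ ψ := by
    refine pullback.hom_ext ?_ ?_ <;> simp

/-- The family over `A` as a cone over the stages. -/
def stageCone : Cone (stageDiagram (A := A) g) where
  pt := pullback g (Spec.map (CommRingCat.ofHom (algebraMap R A)))
  π :=
    { app := fun s => pullback.map _ _ g (algToBase R A s) (𝟙 T) ((algCone R A).π.app s) (𝟙 _)
        (by simp) (by rw [algCone_π_toBase, Category.comp_id])
      naturality := fun s t φ => by
        refine pullback.hom_ext ?_ ?_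
        · simp [stageDiagram]
        · simp only [stageDiagram, Functor.const_obj_map, Category.assoc,
            pullback.lift_snd, pullback.lift_snd_assoc]
          exact congrArg (pullback.snd g _ ≫ ·) ((algCone R A).w φ).symm }

theorem nonempty_isLimit_stageCone : Nonempty (IsLimit (stageCone (A := A) g)) := by
  have : IsConnected (AlgSub R A)ᵒᵖ := IsCofiltered.isConnected _
  obtain ⟨s₀⟩ := (inferInstance : Nonempty (AlgSub R A)ᵒᵖ)
  let sndCone : ∀ c : Cone (stageDiagram (A := A) g), Cone (algSchemes R A) := fun c =>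
    { pt := c.pt
      π :=
        { app := fun s => c.π.app s ≫ pullback.snd g (algToBase R A s)
          naturality := fun s t φ => by
            refine (Category.id_comp _).trans ?_
            refine (congrArg (· ≫ pullback.snd g (algToBase R A t)) (c.w φ).symm).trans ?_
            simp [stageDiagram] } }
  have hfst : ∀ (c : Cone (stageDiagram (A := A) g)) (s : (AlgSub R A)ᵒᵖ),
      c.π.app s ≫ pullback.fst g (algToBase R A s) =
        c.π.app s₀ ≫ pullback.fst g (algToBase R A s₀) := fun c s => by
    refine constant_of_preserves_morphisms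
      (fun s => c.π.app s ≫ pullback.fst g (algToBase R A s)) (fun a b φ => ?_) s s₀
    show _ = c.π.app b ≫ _
    rw [← c.w φ]
    simp [stageDiagram]
  let hl := isLimitAlgCone R A
  have hlift : ∀ c : Cone (stageDiagram (A := A) g),
      (c.π.app s₀ ≫ pullback.fst g (algToBase R A s₀)) ≫ g =
        hl.lift (sndCone c) ≫ Spec.map (CommRingCat.ofHom (algebraMap R A)) := fun c => by
    rw [← algCone_π_toBase R A s₀, ← Category.assoc (hl.lift (sndCone c)), hl.fac (sndCone c) s₀]
    simp [sndCone, pullback.condition]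
  refine ⟨{ lift := fun c => pullback.lift _ _ (hlift c),
            fac := fun c s => ?_, uniq := fun c l hl' => ?_ }⟩
  · refine pullback.hom_ext ?_ ?_
    · simp [stageCone, hfst c s]
    · simp only [stageCone, Category.assoc, pullback.lift_snd, pullback.lift_snd_assoc]
      exact hl.fac (sndCone c) s
  · refine pullback.hom_ext ?_ ?_
    · rw [pullback.lift_fst, ← hl' s₀]
      simp [stageCone]
    · rw [pullback.lift_snd]
      refine hl.uniq (sndCone c) _ fun s => ?_
      show _ = c.π.app s ≫ _
      rw [← hl' s]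
      simp [stageCone]

theorem isPullback_stageCone (s : (AlgSub R A)ᵒᵖ) :
    IsPullback ((stageCone (A := A) g).π.app s)
      (pullback.snd g (Spec.map (CommRingCat.ofHom (algebraMap R A))))
      (pullback.snd g (algToBase R A s)) ((algCone R A).π.app s) := by
  refine IsPullback.of_right ?_ (pullback.lift_snd _ _ _) (IsPullback.of_hasPullback g (algToBase R A s))
  simp only [stageCone, pullback.lift_fst, Category.comp_id, algCone_π_toBase]
  exact IsPullback.of_hasPullback _ _

theorem isAffineHom_stageDiagram {s t : (AlgSub R A)ᵒᵖ} (φ : s ⟶ t) :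
    IsAffineHom ((stageDiagram (A := A) g).map φ) := by
  have h1 : IsAffineHom ((algSchemes R A).map φ) := inferInstance
  have sq : IsPullback ((stageDiagram (A := A) g).map φ) (pullback.snd g (algToBase R A s))
      (pullback.snd g (algToBase R A t)) ((algSchemes R A).map φ) := by
    refine IsPullback.of_right ?_ (pullback.lift_snd _ _ _)
      (IsPullback.of_hasPullback g (algToBase R A t))
    simp only [stageDiagram, pullback.lift_fst, Category.comp_id, algSchemes_map_toBase]
    exact IsPullback.of_hasPullback _ _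
  exact MorphismProperty.of_isPullback (P := @IsAffineHom) sq.flip h1

/-- An invertible module on the family over `A` comes from a stage. -/
theorem exists_stage [IsProper g] {P : Scheme.{u}} {p : P ⟶ T} {π : P ⟶ Spec A}
    (sq : IsPullback p π g (Spec.map (CommRingCat.ofHom (algebraMap R A))))
    {E : P.Modules} (hE : PicF.IsInvertible E) :
    ∃ (s : (AlgSub R A)ᵒᵖ) (m : P ⟶ pullback g (algToBase R A s))
      (E₀ : (pullback g (algToBase R A s)).Modules),
      IsPullback m π (pullback.snd g (algToBase R A s)) ((algCone R A).π.app s) ∧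
      PicF.IsInvertible E₀ ∧ Nonempty ((Scheme.Modules.pullback m).obj E₀ ≅ E) := by
  have : ∀ {s t : (AlgSub R A)ᵒᵖ} (φ : s ⟶ t), IsAffineHom ((stageDiagram (A := A) g).map φ) :=
    isAffineHom_stageDiagram g
  have : ∀ s, IsAffine ((algSchemes R A).obj s) := fun s => inferInstanceAs (IsAffine (Spec _))
  have : ∀ s, CompactSpace ((stageDiagram (A := A) g).obj s) := fun s =>
    QuasiCompact.compactSpace_of_compactSpace (pullback.snd g (algToBase R A s))
  have : ∀ s, QuasiSeparatedSpace ((stageDiagram (A := A) g).obj s) := fun s =>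
    quasiSeparatedSpace_of_quasiSeparated (pullback.snd g (algToBase R A s))
  obtain ⟨hl⟩ := nonempty_isLimit_stageCone (A := A) g
  let e := sq.isoPullback
  obtain ⟨s₀⟩ := (inferInstance : Nonempty (AlgSub R A)ᵒᵖ)
  obtain ⟨s, -, E₀, hE₀, ⟨i⟩⟩ := LimitInv.exists_stage_invertible (stageDiagram (A := A) g)
    (stageCone g) hl s₀ (PicAux.isInvertible_pullback e.inv hE)
  refine ⟨s, e.hom ≫ (stageCone g).π.app s, E₀, ?_, hE₀, ⟨?_⟩⟩
  · exact (isPullback_stageCone g s).of_iso e.symm (Iso.refl _) (Iso.refl _) (Iso.refl _)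
      (by simp) (by simp [e]) (by simp) (by simp)
  · exact ((Scheme.Modules.pullbackComp e.hom ((stageCone g).π.app s)).app E₀).symm ≪≫
      (Scheme.Modules.pullback e.hom).mapIso i ≪≫
      (Scheme.Modules.pullbackComp e.hom e.inv).app E ≪≫
      (Scheme.Modules.pullbackCongr e.hom_inv_id).app E ≪≫
      (Scheme.Modules.pullbackId P).app E

variable [IsNoetherianRing R] [IsProper g] [Flat g] [GeometricallyIntegral g]
  {P S : Scheme.{u}} {p : P ⟶ T} {π : P ⟶ S} {a : S ⟶ Spec R} (sq : IsPullback p π g a)
  {E : P.Modules} (hE : PicF.IsInvertible E)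

omit [Algebra R A] in
include sq in
/-- The family over `S` has only constant functions. -/
theorem app_bijective (V : S.Opens) : Function.Bijective (π.app V) := by
  have : IsProper π := MorphismProperty.of_isPullback sq ‹_›
  have : Flat π := MorphismProperty.of_isPullback sq ‹_›
  have : LocallyOfFinitePresentation π := MorphismProperty.of_isPullback sq inferInstance
  have : GeometricallyReduced π := MorphismProperty.of_isPullback sq inferInstance
  have : GeometricallyConnected π :=
    MorphismProperty.of_isPullback sq (geometricallyConnected_of_integral g)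
  exact GrpschAbsch.H0General.app_bijective π V

omit [Algebra R A] in
include sq hE in
/-- Descent to a Noetherian base near a point. -/
theorem exists_chart (y : S) :
    ∃ (V : S.Opens) (hV : IsAffineOpen V) (x : PrimeSpectrum Γ(S, V)) (B : CommRingCat.{u})
      (_ : IsNoetherianRing B) (P₀ : Scheme.{u}) (π₀ : P₀ ⟶ Spec B) (_ : IsProper π₀)
      (_ : Flat π₀) (_ : GeometricallyIntegral π₀) (c : Spec Γ(S, V) ⟶ Spec B)
      (m : pullback π hV.fromSpec ⟶ P₀) (m₁ : P₀ ⟶ T) (b : Spec B ⟶ Spec R) (E₀ : P₀.Modules),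
      hV.fromSpec x = y ∧ IsPullback m₁ π₀ g b ∧
      IsPullback m (pullback.snd π hV.fromSpec) π₀ c ∧ PicF.IsInvertible E₀ ∧
      Nonempty ((Scheme.Modules.pullback m).obj E₀ ≅
        (Scheme.Modules.pullback (pullback.fst π hV.fromSpec)).obj E) := by
  obtain ⟨_, ⟨V, hV, rfl⟩, hyV, -⟩ :=
    S.isBasis_affineOpens.exists_subset_of_mem_open (Set.mem_univ y) isOpen_univ
  obtain ⟨x, rfl⟩ : y ∈ Set.range hV.fromSpec := by rw [hV.range_fromSpec]; exact hyV
  let φ : R ⟶ Γ(S, V) := Spec.preimage (hV.fromSpec ≫ a)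
  let _ : Algebra R Γ(S, V) := φ.hom.toAlgebra
  have hφ : Spec.map (CommRingCat.ofHom (algebraMap R Γ(S, V))) = hV.fromSpec ≫ a :=
    Spec.map_preimage _
  have sqA : IsPullback (pullback.fst π hV.fromSpec ≫ p) (pullback.snd π hV.fromSpec) g
      (Spec.map (CommRingCat.ofHom (algebraMap R Γ(S, V)))) := by
    rw [hφ]; exact (IsPullback.of_hasPullback π hV.fromSpec).paste_horiz sq
  obtain ⟨s, m, E₀, hsq, hE₀, hiso⟩ := exists_stage g sqA
    (PicAux.isInvertible_pullback (pullback.fst π hV.fromSpec) hE)
  have : Algebra.FiniteType R s.unop.1 := s.unop.1.fg_iff_finiteType.1 s.unop.2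
  exact ⟨V, hV, x, CommRingCat.of s.unop.1, Algebra.FiniteType.isNoetherianRing R _,
    pullback g (algToBase R Γ(S, V) s), pullback.snd g (algToBase R Γ(S, V) s),
    MorphismProperty.pullback_snd _ _ ‹_›, MorphismProperty.pullback_snd _ _ ‹_›,
    MorphismProperty.pullback_snd _ _ ‹_›, (algCone R Γ(S, V)).π.app s, m, _, _, E₀, rfl,
    IsPullback.of_hasPullback _ _, hsq, hE₀, hiso⟩

omit [Algebra R A] in
include sq hE in
/-- Where a fibre without first cohomology is trivial, so is the module near it. -/
theorem exists_gen_near (y : S)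
    (h1 : ∀ (K : Type u) [Field K] (b : Spec (CommRingCat.of K) ⟶ Spec R) (Q : Scheme.{u})
      (m : Q ⟶ T) (q : Q ⟶ Spec (CommRingCat.of K)), IsPullback m q g b →
        Subsingleton (Coh.HH Q (Coh.structureModule Q) 1))
    (ht : FibTriv π E y) : ∃ U : S.Opens, y ∈ U ∧ ∃ s : Γ(E, π ⁻¹ᵁ U), Gen E _ s := by
  obtain ⟨V, hV, x, B, hB, P₀, π₀, hp, hf, hgi, c, m, m₁, b, E₀, hx, sq₀, sqm, hE₀, ⟨i⟩⟩ :=
    exists_chart g sq hE y
  subst hx
  have : GeometricallyConnected π₀ := geometricallyConnected_of_integral π₀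
  have ht' : FibTriv (B := Spec B) π₀ E₀ (c x) := by
    refine (fibTriv_iff_of_isPullback sqm hE₀ x).1 ?_
    obtain ⟨j⟩ := (fibTriv_restrict_iff π hV E x).2 ht
    exact ⟨(Scheme.Modules.pullback _).mapIso i ≪≫ j⟩
  obtain ⟨U, hU, s, hs⟩ := CohBase.exists_gen_near_fibre π₀ E₀ hE₀
    (CohBase.isFlatOver_of_isInvertible π₀ hE₀) (c x)
    (h1 _ _ _ _ _ ((IsPullback.of_hasPullback π₀ _).paste_horiz sq₀)) ht'.some
  refine exists_gen_descend π hV E ⟨c ⁻¹ᵁ U, hU, ?_⟩
  have e : pullback.snd π hV.fromSpec ⁻¹ᵁ (c ⁻¹ᵁ U) = m ⁻¹ᵁ (π₀ ⁻¹ᵁ U) := by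
    rw [← Scheme.Hom.comp_preimage, ← Scheme.Hom.comp_preimage, sqm.w]
  exact ⟨_, (((hs.pull m).map i.hom)).res e.le⟩

omit [Algebra R A] in
include sq hE in
/-- The locus of trivial fibres is closed. -/
theorem isClosed_fibTriv : IsClosed {y | FibTriv π E y} := by
  rw [← isOpen_compl_iff, isOpen_iff_forall_mem_open]
  intro y hy
  obtain ⟨V, hV, x, B, hB, P₀, π₀, hp, hf, hgi, c, m, m₁, b, E₀, hx, sq₀, sqm, hE₀, ⟨i⟩⟩ :=
    exists_chart g sq hE y
  subst hx
  have : GeometricallyConnected π₀ := geometricallyConnected_of_integral π₀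
  have key : ∀ z : PrimeSpectrum Γ(S, V),
      FibTriv (B := Spec B) π₀ E₀ (c z) ↔ FibTriv π E (hV.fromSpec z) := fun z => by
    refine (fibTriv_iff_of_isPullback sqm hE₀ z).symm.trans
      (Iff.trans ?_ (fibTriv_restrict_iff π hV E z))
    exact ⟨fun ⟨j⟩ => ⟨(Scheme.Modules.pullback _).mapIso i.symm ≪≫ j⟩,
      fun ⟨j⟩ => ⟨(Scheme.Modules.pullback _).mapIso i ≪≫ j⟩⟩
  have hcl := Groth.Abvar.Seesaw.isClosed_fibTriv π₀ hE₀
    (fun z => h0Const_of_geometrically π₀ z) (fun z => inferInstance)
  refine ⟨hV.fromSpec '' (c ⁻¹' {z | FibTriv (B := Spec B) π₀ E₀ z})ᶜ, ?_,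
    hV.fromSpec.isOpenEmbedding.isOpenMap _ (hcl.preimage c.continuous).isOpen_compl, x, ?_, rfl⟩
  · rintro _ ⟨z, hz, rfl⟩ h
    exact hz ((key z).2 h)
  · exact fun h => hy ((key x).1 h)

omit [Algebra R A] in
include sq hE in
/-- Seesaw: over a connected base, one trivial fibre makes the module come from the base. -/
theorem pushforward_counit_of_connected [PreconnectedSpace S] {y₀ : S} (ht : FibTriv π E y₀)
    (h1 : ∀ (K : Type u) [Field K] (b : Spec (CommRingCat.of K) ⟶ Spec R) (Q : Scheme.{u})
      (m : Q ⟶ T) (q : Q ⟶ Spec (CommRingCat.of K)), IsPullback m q g b →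
        Subsingleton (Coh.HH Q (Coh.structureModule Q) 1)) :
    PicF.IsInvertible ((Scheme.Modules.pushforward π).obj E) ∧
      IsIso ((Scheme.Modules.pullbackPushforwardAdjunction π).counit.app E) := by
  have hfib : ∀ (U : S.Opens) (z : S), z ∈ U → (∃ s : Γ(E, π ⁻¹ᵁ U), Gen E _ s) → FibTriv π E z :=
    fun U z hz ⟨s, hs⟩ => by
      have h := hs.pull (π.fiberι z)
      have e : π.fiberι z ⁻¹ᵁ (π ⁻¹ᵁ U) = ⊤ := eq_top_iff.2 fun w _ => by
        show π (π.fiberι z w) ∈ U
        rw [show π (π.fiberι z w) = z from by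
          have := π.range_fiberι z ▸ Set.mem_range_self (f := π.fiberι z) w
          exact this]
        exact hz
      exact PicAux.nonempty_iso_structure_iff.2 ⟨_, h.res e.ge⟩
  have hopen : IsOpen {y | FibTriv π E y} := isOpen_iff_forall_mem_open.2 fun z hz => by
    obtain ⟨U, hzU, hU⟩ := exists_gen_near g sq hE z h1 hz
    exact ⟨U, fun w hw => hfib U w hw hU, U.isOpen, hzU⟩
  have hall : ∀ y, FibTriv π E y := fun y => by
    have h := IsClopen.eq_univ ⟨isClosed_fibTriv g sq hE, hopen⟩ ⟨y₀, ht⟩
    exact h.ge (Set.mem_univ y)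
  choose U hyU s hs using fun y => exists_gen_near g sq hE y h1 (hall y)
  exact PicAux.pushforward_invertible_and_counit π (app_bijective g sq) U
    (eq_top_iff.2 fun y _ => Opens.mem_iSup.2 ⟨y, hyU y⟩) s hs

end Groth.PicAux.SeesawAnyBase
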