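import Groth.Agent.PicAux.FibTrivClosed
import Groth.Agent.Abvar.PicCalc
import Groth.Prelude.Def_AbDual
import Mathlib.AlgebraicGeometry.Morphisms.Flat
import Mathlib.AlgebraicGeometry.Morphisms.UniversallyOpen
import Mathlib.AlgebraicGeometry.Morphisms.Immersion

/-!
# Separatedness of the relative Picard scheme
-/

universe u

open CategoryTheory Limits AlgebraicGeometry TopologicalSpace Opposite

noncomputable section

namespace Groth.PicAux.RelPicSep

open Groth.Abvar.Seesaw Groth.Abvar.PicCalc
open scoped Groth.Abvar.PicCalc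

/-- `Spec` of a field extension is an epimorphism of schemes. -/
theorem epi_spec_field {K L : Type u} [Field K] [Field L] (φ : CommRingCat.of K ⟶ CommRingCat.of L) :
    Epi (Spec.map φ) := by
  have : Surjective (Spec.map φ) := by
    constructor
    intro x
    exact ⟨IsLocalRing.closedPoint L, Subsingleton.elim (α := PrimeSpectrum K) _ _⟩
  have : Flat (Spec.map φ) := by
    rw [HasRingHomProperty.Spec_iff (P := @Flat)]
    algebraize [φ.hom]
    exact (inferInstance : Module.Flat K L)
  have : QuasiCompact (Spec.map φ) := inferInstance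
  exact Flat.epi_of_flat_of_surjective _

theorem exists_of_mem_fppf {T : Scheme.{u}} {R : Presieve T}
    (hR : R ∈ Scheme.fppfPrecoverage T) (t : T) :
    ∃ (U : Scheme.{u}) (u : U ⟶ T) (z : U), R u ∧ Flat u ∧ LocallyOfFinitePresentation u ∧
      u z = t := by
  obtain ⟨ι, U, g, rfl⟩ := R.exists_eq_ofArrows
  obtain ⟨h₁, h₂⟩ := (Scheme.ofArrows_mem_precoverage_iff _).mp hR
  obtain ⟨j, z, hz⟩ := h₁ t
  exact ⟨U j, g j, z, ⟨j⟩, (h₂ j).1, (h₂ j).2, hz⟩

variable {X S : Scheme.{u}} (f : X ⟶ S)

theorem isPullback_XTmap {T T' : Over S} (g : T' ⟶ T) :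
    IsPullback (PicF.XTmap f g) (PicF.XTproj f T') (PicF.XTproj f T) g.left := by
  refine IsPullback.of_right ?_ (pullback.lift_snd _ _ _) (IsPullback.of_hasPullback f T.hom)
  simp only [PicF.XTmap, pullback.lift_fst, Category.comp_id, Over.w g]
  exact IsPullback.of_hasPullback f T'.hom

variable [IsProper f] [Flat f] [LocallyOfFinitePresentation f] [GeometricallyIntegral f]
  {P : Over S} {φ : ∀ T : Over S, PicF.Cl (PicF.XT f T) → (T ⟶ P)}
  (hP : AbDual.IsRelPicK Scheme.fppfPrecoverage f P φ)

include hP in
/-- At a point two classes have the same image exactly when their quotient is trivial on the fibre. -/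
theorem agree_iff (T : Over S) (a b : PicLoc.PicSet (PicF.XT f T)) {N : (PicF.XT f T).Modules}
    (hN : PicF.IsInvertible N) (hab : a = cls hN * b) (t : T.left) :
    T.left.fromSpecResidueField t ≫ (φ T a.1).left =
        T.left.fromSpecResidueField t ≫ (φ T b.1).left ↔
      FibTriv (PicF.XTproj f T) N t := by
  let T₀ := AbDual.ovr T (T.left.fromSpecResidueField t)
  let v : T₀ ⟶ T := AbDual.ovrHom T (T.left.fromSpecResidueField t)
  let g := PicF.XTmap f v
  have sq : IsPullback g (PicF.XTproj f T₀) (PicF.XTproj f T) (T.left.fromSpecResidueField t) :=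
    isPullback_XTmap f v
  have hfib : FibTriv (PicF.XTproj f T) N t ↔
      Nonempty ((Scheme.Modules.pullback g).obj N ≅ Coh.structureModule _) := by
    let e := sq.isoPullback
    exact ⟨fun h => trivial_of_factor e.hom sq.isoPullback_hom_fst h,
      fun h => trivial_of_factor e.inv sq.isoPullback_inv_fst h⟩
  have hφ : ∀ c : PicLoc.PicSet (PicF.XT f T), (φ T₀ (pull g c).1).left =
      T.left.fromSpecResidueField t ≫ (φ T c.1).left := fun c =>
    congrArg (fun h : T₀ ⟶ P => h.left) (hP.natural T T₀ v c.1 c.2)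
  rw [hfib, ← hφ, ← hφ]
  have hcls : Nonempty ((Scheme.Modules.pullback g).obj N ≅ Coh.structureModule _) ↔
      pull g (cls hN) = 1 := by
    rw [pull_cls, Abvar.PicCalc.nonempty_iso_structure_iff]
  constructor
  · intro h
    obtain ⟨R, hR, hRu⟩ := hP.locallyInjective T₀ _ _ (pull g a).2 (pull g b).2
      (Over.OverMorphism.ext h)
    obtain ⟨U, u, z, hu, -, -, -⟩ :=
      exists_of_mem_fppf hR (IsLocalRing.closedPoint (T.left.residueField t))
    let K := T.left.residueField t
    let L := U.residueField z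
    let ψ : K ⟶ L := Spec.preimage (U.fromSpecResidueField z ≫ u)
    let _ : Algebra K L := ψ.hom.toAlgebra
    let w := AbDual.ovrHom T₀ u
    let j : AbDual.ovr (AbDual.ovr T₀ u) (U.fromSpecResidueField z) ⟶ AbDual.ovr T₀ u :=
      AbDual.ovrHom (AbDual.ovr T₀ u) (U.fromSpecResidueField z)
    have e1 : pull (PicF.XTmap f w) (pull g a) = pull (PicF.XTmap f w) (pull g b) :=
      Subtype.ext (hRu u hu)
    have e2 : pull (PicF.XTmap f j ≫ PicF.XTmap f w) (pull g (cls hN)) = 1 := by
      rw [pull_comp]
      have : pull (PicF.XTmap f w) (pull g (cls hN)) = 1 := by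
        rw [hab, map_mul, map_mul] at e1
        exact mul_eq_right.mp e1
      rw [this, map_one]
    rw [pull_cls] at e2
    rw [pull_cls, ← Abvar.PicCalc.nonempty_iso_structure_iff] at e2
    have hpr : GeometricallyIntegral (PicF.XTproj f T₀) :=
      MorphismProperty.of_isPullback (IsPullback.of_hasPullback f T₀.hom) ‹_›
    refine trivial_of_extension (K := K) (PicF.XTproj f T₀)
      (PicLoc.isInvertible_pullback g hN) (K' := L) (q := PicF.XTproj f _) ?_ e2
    have hs : Spec.map (CommRingCat.ofHom (algebraMap K L)) = j.left ≫ w.left :=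
      Spec.map_preimage _
    exact hs ▸ (isPullback_XTmap f j).paste_horiz (isPullback_XTmap f w)
  · intro h
    rw [hcls] at h
    rw [hab, map_mul, h, one_mul]

include hP in
/-- The relative Picard scheme is separated. -/
theorem isSeparated : IsSeparated P.hom := by
  refine ⟨IsClosedImmersion.of_isPreimmersion _ ?_⟩
  let T : Over S := Over.mk (pullback.fst P.hom P.hom ≫ P.hom)
  let a : T ⟶ P := Over.homMk (pullback.fst P.hom P.hom) rfl
  let b : T ⟶ P := Over.homMk (pullback.snd P.hom P.hom) pullback.condition.symm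
  let E : Set T.left := {t | T.left.fromSpecResidueField t ≫ a.left =
    T.left.fromSpecResidueField t ≫ b.left}
  have hrange : Set.range (pullback.diagonal P.hom) = E := by
    ext t
    constructor
    · rintro ⟨p, rfl⟩
      have := epi_spec_field ((pullback.diagonal P.hom).residueFieldMap p)
      have hsq := Scheme.Hom.SpecMap_residueFieldMap_fromSpecResidueField
        (pullback.diagonal P.hom) p
      refine (cancel_epi (Spec.map ((pullback.diagonal P.hom).residueFieldMap p))).mp ?_
      refine ((Category.assoc _ _ _).symm.trans ((congrArg (· ≫ a.left) hsq).trans ?_)).trans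
        ((congrArg (· ≫ b.left) hsq).symm.trans (Category.assoc _ _ _))
      rw [Category.assoc, Category.assoc]
      exact congrArg (_ ≫ ·) ((pullback.diagonal_fst P.hom).trans (pullback.diagonal_snd P.hom).symm)
    · intro h
      refine ⟨(T.left.fromSpecResidueField t ≫ a.left) (IsLocalRing.closedPoint _), ?_⟩
      have e : (T.left.fromSpecResidueField t ≫ a.left) ≫ pullback.diagonal P.hom =
          T.left.fromSpecResidueField t := by
        apply pullback.hom_ext
        · rw [Category.assoc, pullback.diagonal_fst, Category.comp_id]; rfl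
        · rw [Category.assoc, pullback.diagonal_snd, Category.comp_id]; exact h
      rw [← Scheme.Hom.comp_apply, e, Scheme.fromSpecResidueField_apply]
  rw [hrange, ← isOpen_compl_iff, isOpen_iff_forall_mem_open]
  intro t ht
  obtain ⟨Ra, hRa, ha⟩ := hP.locallySurjective T a
  obtain ⟨Rb, hRb, hb⟩ := hP.locallySurjective T b
  obtain ⟨U, u, x, hu, hu1, hu2, hx⟩ := exists_of_mem_fppf hRa t
  obtain ⟨V, v, y, hv, hv1, hv2, hy⟩ := exists_of_mem_fppf hRb t
  obtain ⟨z, hz, -⟩ := Scheme.Pullback.exists_preimage_pullback (f := u) (g := v) x y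
    (hx.trans hy.symm)
  let q : pullback u v ⟶ T.left := pullback.fst u v ≫ u
  have : Flat q := inferInstance
  have : LocallyOfFinitePresentation q := inferInstance
  let W := AbDual.ovr T q
  let wu : W ⟶ AbDual.ovr T u := Over.homMk (pullback.fst u v) (Category.assoc _ _ _).symm
  let wv : W ⟶ AbDual.ovr T v := Over.homMk (pullback.snd u v) (by
    change pullback.snd u v ≫ v ≫ T.hom = (pullback.fst u v ≫ u) ≫ T.hom
    rw [← Category.assoc, ← pullback.condition])
  obtain ⟨c, hc, hcφ⟩ := ha u hu
  obtain ⟨d, hd, hdφ⟩ := hb v hv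
  let cW : PicLoc.PicSet (PicF.XT f W) := pull (PicF.XTmap f wu) ⟨c, hc⟩
  let dW : PicLoc.PicSet (PicF.XT f W) := pull (PicF.XTmap f wv) ⟨d, hd⟩
  have hcW : (φ W cW.1).left = q ≫ a.left := by
    refine (congrArg (fun h : W ⟶ P => h.left) (hP.natural _ W wu c hc)).trans ?_
    rw [Over.comp_left, hcφ]
    exact (Category.assoc _ _ _).symm
  have hdW : (φ W dW.1).left = q ≫ b.left := by
    refine (congrArg (fun h : W ⟶ P => h.left) (hP.natural _ W wv d hd)).trans ?_
    rw [Over.comp_left, hdφ]
    exact ((Category.assoc _ _ _).symm).trans (congrArg (· ≫ b.left) pullback.condition.symm)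
  obtain ⟨N, hN, hNcls⟩ := PicGrp.exists_eq_cls (cW * dW⁻¹)
  have hab : cW = cls hN * dW :=
    (inv_mul_cancel_right cW dW).symm.trans (congrArg (· * dW) hNcls)
  have hGI : GeometricallyIntegral (PicF.XTproj f W) :=
    MorphismProperty.of_isPullback (IsPullback.of_hasPullback f W.hom) ‹_›
  have hclosed := FibTrivClosed.isClosed_fibTriv (PicF.XTproj f W) hN
  have hpre : ∀ w : W.left, q w ∈ E ↔ FibTriv (PicF.XTproj f W) N w := fun w => by
    rw [← agree_iff f hP W cW dW hN hab w, hcW, hdW]
    have := epi_spec_field (q.residueFieldMap w)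
    have e : ∀ p : T.left ⟶ P.left, W.left.fromSpecResidueField w ≫ q ≫ p =
        Spec.map (q.residueFieldMap w) ≫ T.left.fromSpecResidueField (q w) ≫ p := fun p => by
      rw [← Category.assoc, ← Category.assoc]
      exact congrArg (· ≫ p) (Scheme.Hom.SpecMap_residueFieldMap_fromSpecResidueField q w).symm
    rw [e, e, cancel_epi]
    rfl
  have hqz : q z = t := by
    change (pullback.fst u v ≫ u) z = t
    rw [Scheme.Hom.comp_apply, hz, hx]
  refine ⟨q '' {w | FibTriv (PicF.XTproj f W) N w}ᶜ, ?_, q.isOpenMap _ hclosed.isOpen_compl,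
    z, ?_, hqz⟩
  · rintro _ ⟨w, hw, rfl⟩ hE
    exact hw ((hpre w).mp hE)
  · intro h
    exact ht (hqz ▸ (hpre z).mpr h)

end Groth.PicAux.RelPicSep
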