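import Groth.Agent.PicAux.TensorLift
import Groth.Agent.PicAux.Powers

/-!
# A module with a tensor inverse is invertible
-/

universe u

open CategoryTheory AlgebraicGeometry Opposite TopologicalSpace

namespace Groth.PicAux

variable {X : Scheme.{u}} {L N : X.Modules}

/-- A morphism to the structure module, as a function on sections. -/
noncomputable def pairing (φ : CohB1.tensorMod L N ⟶ Coh.structureModule X) {W : X.Opens}
    (a : Γ(L, W)) (b : Γ(N, W)) : Γ(X, W) :=
  toFun (φ.app W (tmulSec a b))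

theorem resX_pairing (φ : CohB1.tensorMod L N ⟶ Coh.structureModule X) {V W : X.Opens} (h : V ≤ W)
    (a : Γ(L, W)) (b : Γ(N, W)) :
    resX X h (pairing φ a b) = pairing φ (res L h a) (res N h b) := by
  rw [pairing, ← toFun_res, ← app_res, res_tmulSec]
  rfl

/-- Near every point, an isomorphism `L ⊗ N ≅ O_X` takes the value `1` on some pure tensor. -/
theorem exists_pairing_eq_one (φ : CohB1.tensorMod L N ≅ Coh.structureModule X) (x : X) :
    ∃ (U : X.Opens) (a : Γ(L, U)) (b : Γ(N, U)), x ∈ U ∧ pairing φ.hom a b = 1 := by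
  obtain ⟨W, hW, p, hxW, hp⟩ :=
    ptenUnit_locally_surjective L N ⊤ (φ.inv.app ⊤ (oneSec X ⊤)) x trivial
  have h1 : IsUnit (X.presheaf.germ W x hxW (toFun (φ.hom.app W (ptenUnit L N W p)))) := by
    rw [hp, app_res]
    have : φ.hom.app ⊤ (φ.inv.app ⊤ (oneSec X ⊤)) = oneSec X ⊤ :=
      congr(($(φ.inv_hom_id)).app ⊤ (oneSec X ⊤))
    rw [this, res_oneSec, toFun_oneSec, map_one]
    exact isUnit_one
  suffices H : ∃ (a : Γ(L, W)) (b : Γ(N, W)),
      IsUnit (X.presheaf.germ W x hxW (pairing φ.hom a b)) by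
    obtain ⟨a, b, hab⟩ := H
    have hU := X.basicOpen_le (pairing φ.hom a b)
    have hu : IsUnit (resX X hU (pairing φ.hom a b)) :=
      X.toRingedSpace.isUnit_res_basicOpen _
    refine ⟨X.basicOpen (pairing φ.hom a b),
      (↑hu.unit⁻¹ : Γ(X, X.basicOpen (pairing φ.hom a b))) • res L hU a, res N hU b,
      (X.mem_basicOpen (pairing φ.hom a b) x hxW).2 hab, ?_⟩
    change toFun (φ.hom.app _ (tmulSec _ (res N hU b))) = _
    rw [tmulSec_smul_left, Scheme.Modules.Hom.app_smul, toFun_smul]
    refine (congrArg _ (?_ : _ = resX X hU (pairing φ.hom a b))).trans hu.val_inv_mul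
    rw [resX_pairing]
    rfl
  clear hp
  induction p using TensorProduct.induction_on with
  | zero =>
    rw [map_zero, map_zero] at h1
    exact absurd ((show toFun (0 : Γ(Coh.structureModule X, W)) = (0 : Γ(X, W)) from rfl) ▸ h1)
      (by rw [map_zero]; exact not_isUnit_zero)
  | tmul a b => exact ⟨a, b, h1⟩
  | add p q hp hq =>
    rw [map_add, map_add] at h1
    have : IsUnit (X.presheaf.germ W x hxW (toFun (φ.hom.app W (ptenUnit L N W p))) +
        X.presheaf.germ W x hxW (toFun (φ.hom.app W (ptenUnit L N W q)))) := by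
      rw [← map_add]; exact h1
    exact (IsLocalRing.isUnit_or_isUnit_of_isUnit_add this).elim hp hq

/-- If an isomorphism `L ⊗ N ≅ O_X` sends `a ⊗ b` to `1` on `U`, then `a` is a basis of `L`
on `U`. -/
theorem gen_of_pairing_eq_one (φ : CohB1.tensorMod L N ≅ Coh.structureModule X) {U : X.Opens}
    (a : Γ(L, U)) (b : Γ(N, U)) (hab : pairing φ.hom a b = 1) : Gen L U a := by
  intro V h
  have hV : ∀ {V : X.Opens} (h : V ≤ U), pairing φ.hom (res L h a) (res N h b) = 1 := fun h => by
    rw [← resX_pairing, hab, map_one]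
  refine ⟨fun r r' e => ?_, fun c => ⟨pairing φ.hom c (res N h b), ?_⟩⟩
  · have := congrArg (fun c => pairing φ.hom c (res N h b)) e
    simpa only [pairing, tmulSec_smul_left, Scheme.Modules.Hom.app_smul, toFun_smul,
      show toFun (φ.hom.app V (tmulSec (res L h a) (res N h b))) = (1 : Γ(X, V)) from hV h,
      mul_one] using this
  set k : Γ(L, V) := c - pairing φ.hom c (res N h b) • res L h a with hk
  have hk0 : ptenUnit L N V (k ⊗ₜ res N h b) = ptenUnit L N V 0 := by
    rw [map_zero]
    refine (ConcreteCategory.bijective_of_isIso (φ.hom.app V)).1 ?_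
    rw [map_zero, hk, TensorProduct.sub_tmul, map_sub, map_sub]
    refine sub_eq_zero.2 ?_
    change φ.hom.app V (tmulSec c (res N h b)) =
      φ.hom.app V (tmulSec (pairing φ.hom c (res N h b) • res L h a) (res N h b))
    rw [tmulSec_smul_left, Scheme.Modules.Hom.app_smul,
      eq_toFun_smul_oneSec (φ.hom.app V (tmulSec c (res N h b))),
      eq_toFun_smul_oneSec (φ.hom.app V (tmulSec (res L h a) (res N h b))),
      show toFun (φ.hom.app V (tmulSec (res L h a) (res N h b))) = (1 : Γ(X, V)) from hV h,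
      one_smul]
    rfl
  refine (sub_eq_zero.1 ?_).symm
  change k = 0
  choose W hW hxW hWe using fun x : (V : Type u) =>
    ptenUnit_locally_injective L N V _ _ hk0 x.1 x.2
  refine res_ext W hW (fun x hx => Opens.mem_iSup.2 ⟨⟨x, hx⟩, hxW ⟨x, hx⟩⟩) fun x => ?_
  let T : Γ(L, W x) →ₗ[Γ(X, W x)] Γ(N, W x) →ₗ[Γ(X, W x)] Γ(L, W x) :=
    LinearMap.mk₂ _ (fun c' d => pairing φ.hom (res L ((hW x).trans h) a) d • c')
      (fun m₁ m₂ d => smul_add _ _ _) (fun r m d => smul_comm _ _ _)
      (fun m d₁ d₂ => by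
        simp only [pairing, tmulSec_add_right, map_add, ← add_smul]
        rfl)
      (fun r m d => by
        simp only [pairing, tmulSec_smul_right, Scheme.Modules.Hom.app_smul, toFun_smul,
          mul_smul])
  have := congrArg (TensorProduct.lift T) (hWe x)
  rw [ptenRes_tmul, map_zero, TensorProduct.lift.tmul, map_zero] at this
  simpa [T, res_res, hV ((hW x).trans h)] using this

/-- A module with a tensor inverse is invertible. -/
theorem isInvertible_of_tensor_iso (φ : CohB1.tensorMod L N ≅ Coh.structureModule X) :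
    PicF.IsInvertible L := by
  intro x
  obtain ⟨U, a, b, hx, hab⟩ := exists_pairing_eq_one φ x
  exact ⟨U, hx, (nonempty_restrict_iso_iff U).2 ⟨a, gen_of_pairing_eq_one φ a b hab⟩⟩

/-- A module with a tensor inverse is invertible. -/
theorem isInvertible_left_of_isInverseOf {M : X.Modules} (h : ClSub.IsInverseOf L M) :
    PicF.IsInvertible L ∧ PicF.IsInvertible M := by
  obtain ⟨e⟩ := h
  obtain ⟨e'⟩ := isInverseOf_symm ⟨e⟩
  exact ⟨isInvertible_of_tensor_iso e, isInvertible_of_tensor_iso e'⟩

end Groth.PicAux
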