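import Groth.Agent.PicAux.UFDExtend

/-!
# Invertible modules on opens of the spectrum of a factorial ring are trivial
-/

universe u

open CategoryTheory AlgebraicGeometry Opposite TopologicalSpace IsLocalRing

namespace Groth.PicAux

variable (R : CommRingCat.{u}) [IsDomain R]

theorem isUnitAt_spec_iff (y : PrimeSpectrum R) (c : R) :
    IsUnitAt (W := Spec R) y (algebraMap R (Spec R).functionField c) ↔ c ∉ y.asIdeal := by
  have e : algebraMap R (Spec R).functionField c =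
      algebraMap ((Spec R).presheaf.stalk y) (Spec R).functionField
        (StructureSheaf.toStalk R y c) :=
    (congr($(StructureSheaf.toStalk_stalkSpecializes
      ((genericPoint_spec (Spec R)).specializes (y := y) trivial)) c)).symm
  rw [e, isUnitAt_algebraMap_iff (W := Spec R) (specializes_refl y),
    TopCat.Presheaf.stalkSpecializes_refl]
  exact @IsLocalization.AtPrime.isUnit_to_map_iff R _ _ _ _ y.asIdeal y.isPrime
    (StructureSheaf.IsLocalization.to_stalk R y) c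

variable [UniqueFactorizationMonoid R]

open Classical in
/-- Units at the points of the spectrum of a factorial ring. -/
noncomputable def specUnitData : UnitData R (Spec R).functionField (PrimeSpectrum R) where
  P y z := IsUnitAt (W := Spec R) y z
  pt π := if h : Prime π then
    ⟨Ideal.span {π}, (Ideal.span_singleton_prime h.ne_zero).2 h⟩ else ⟨⊥, Ideal.isPrime_bot⟩
  mul' h h' := h.mul h'
  inv' h := h.inv
  unit' {y c} hc := (isUnitAt_spec_iff R y c).2 fun h =>
    y.isPrime.ne_top (Ideal.eq_top_of_isUnit_mem _ h hc)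
  assoc' {π π'} hπ e := by
    rw [dif_pos hπ, dif_pos (e.prime hπ)]
    exact PrimeSpectrum.ext (Ideal.span_singleton_eq_span_singleton.2 e)
  pt_iff' {π c} hπ := by
    rw [isUnitAt_spec_iff, dif_pos hπ, ← Ideal.mem_span_singleton]

/-- A unit cocycle on opens of the spectrum of a factorial ring is a coboundary. -/
theorem exists_trivialize_spec {ι : Type u} (U : ι → (Spec R).Opens)
    (η : ∀ i j, Γ(Spec R, U i ⊓ U j)) (hunit : ∀ i j, IsUnit (η i j))
    (hη : ∀ i j k : ι,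
      resX _ (inf_le_inf_right (U k) inf_le_left : U i ⊓ U j ⊓ U k ≤ U i ⊓ U k) (η i k) =
        resX _ (inf_le_left : U i ⊓ U j ⊓ U k ≤ U i ⊓ U j) (η i j) *
          resX _ (inf_le_inf_right (U k) inf_le_right : U i ⊓ U j ⊓ U k ≤ U j ⊓ U k) (η j k)) :
    ∃ h : ∀ i, Γ(Spec R, U i), (∀ i, IsUnit (h i)) ∧
      ∀ i j, resX _ (inf_le_right : U i ⊓ U j ≤ U j) (h j) =
        resX _ (inf_le_left : U i ⊓ U j ≤ U i) (h i) * η i j := by
  let ι' := {i : ι // ∃ y, y ∈ U i}
  by_cases hne : IsEmpty ι'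
  · refine ⟨fun _ => 1, fun _ => isUnit_one, fun i j => ?_⟩
    have := subsingleton_sections_of_isEmpty (V := U i ⊓ U j)
      fun y hy => hne.false ⟨i, y, hy.1⟩
    exact Subsingleton.elim _ _
  obtain ⟨i₀⟩ := not_isEmpty_iff.1 hne
  have gmem : ∀ i : ι', genericPoint (Spec R) ∈ U i.1 := fun i => genericPoint_mem i.2.choose_spec
  let gK {V : (Spec R).Opens} (hV : genericPoint (Spec R) ∈ V) :
      Γ(Spec R, V) →+* (Spec R).functionField :=
    ((Spec R).presheaf.germ V (genericPoint (Spec R)) hV).hom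
  have gK_res : ∀ {U V : (Spec R).Opens} (h : V ≤ U) (hV : genericPoint (Spec R) ∈ V)
      (s : Γ(Spec R, U)), gK hV (resX _ h s) = gK (h hV) s :=
    fun h hV s => (Spec R).presheaf.germ_res_apply (homOfLE h) _ hV s
  let f : ι' → (Spec R).functionField := fun i =>
    gK (V := U i₀.1 ⊓ U i.1) ⟨gmem i₀, gmem i⟩ (η i₀.1 i.1)
  have hf0 : ∀ i, f i ≠ 0 := fun i => ((hunit i₀.1 i.1).map _).ne_zero
  have hfrel : ∀ i j : ι', f j = f i * gK (V := U i.1 ⊓ U j.1) ⟨gmem i, gmem j⟩ (η i.1 j.1) := by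
    intro i j
    have := congrArg (gK (V := U i₀.1 ⊓ U i.1 ⊓ U j.1) ⟨⟨gmem i₀, gmem i⟩, gmem j⟩)
      (hη i₀.1 i.1 j.1)
    simpa only [map_mul, gK_res] using this
  have hcompat : ∀ i j : ι', ∀ y, y ∈ U i.1 → y ∈ U j.1 → IsUnitAt y (f j / f i) := by
    intro i j y hi hj
    have : Nonempty (U i.1 ⊓ U j.1 : (Spec R).Opens) := ⟨⟨y, hi, hj⟩⟩
    rw [hfrel i j, mul_div_cancel_left₀ _ (hf0 i)]
    exact isUnitAt_germ (V := U i.1 ⊓ U j.1) ⟨hi, hj⟩ (hunit i.1 j.1)
  obtain ⟨_, ⟨s, rfl⟩, hs, hsU⟩ :=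
    PrimeSpectrum.isTopologicalBasis_basic_opens.exists_subset_of_mem_open
      (show (⊥ : PrimeSpectrum R) ∈ ((U i₀.1).carrier : Set (PrimeSpectrum R)) from
        genericPoint_eq_bot_of_affine R ▸ gmem i₀) (U i₀.1).isOpen
  have hs0 : s ≠ 0 := fun e => hs (by simp [e])
  obtain ⟨g, hg0, hg⟩ := exists_div (specUnitData R) (fun (i : ι') (y : PrimeSpectrum R) => y ∈ U i.1)
    f hf0 (fun i j y hi hj => hcompat j i y hj hi)
    (fun π hπ y i h hy => by
      refine Specializes.mem_open (X := PrimeSpectrum R) ?_ (U i.1).isOpen hy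
      refine (PrimeSpectrum.le_iff_specializes _ _).1 ?_
      change ((specUnitData R).pt π).asIdeal ≤ y.asIdeal
      simp only [specUnitData, dif_pos hπ]
      rw [Ideal.span_singleton_le_iff_mem]
      by_contra hc
      exact h ((isUnitAt_spec_iff R y π).2 hc)) i₀ hs0
    (fun π hπ hdvd => by
      simp only [specUnitData, dif_pos hπ]
      exact hsU (a := (⟨Ideal.span {π}, (Ideal.span_singleton_prime hπ.ne_zero).2 hπ⟩ :
        PrimeSpectrum R)) (show s ∉ Ideal.span {π} from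
          fun e => hdvd (Ideal.mem_span_singleton.1 e)))
  have key : ∀ i, ∃ h : Γ(Spec R, U i), IsUnit h ∧ ∀ (hi : ∃ y, y ∈ U i),
      gK (genericPoint_mem hi.choose_spec) h = f ⟨i, hi⟩ / g := by
    intro i
    by_cases hi : ∃ y, y ∈ U i
    · have : Nonempty (U i) := ⟨⟨_, gmem ⟨i, hi⟩⟩⟩
      obtain ⟨h, hu, he⟩ := exists_unit_section (V := U i) fun y hy => hg ⟨i, hi⟩ y hy
      exact ⟨h, hu, fun _ => he⟩
    · exact ⟨1, isUnit_one, fun h => absurd h hi⟩
  choose h hu hh using key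
  refine ⟨h, hu, fun i j => ?_⟩
  by_cases hij : (∃ y, y ∈ U i) ∧ ∃ y, y ∈ U j
  · obtain ⟨hi, hj⟩ := hij
    apply germ_injective_of_isIntegral (Spec R) (genericPoint (Spec R))
      (show genericPoint (Spec R) ∈ U i ⊓ U j from ⟨gmem ⟨i, hi⟩, gmem ⟨j, hj⟩⟩)
    change gK _ _ = gK _ _
    rw [map_mul, gK_res, gK_res, hh j hj, hh i hi, div_mul_eq_mul_div,
      hfrel ⟨i, hi⟩ ⟨j, hj⟩]
  · have := subsingleton_sections_of_isEmpty (V := U i ⊓ U j)
      fun y hy => hij ⟨⟨y, hy.1⟩, ⟨y, hy.2⟩⟩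
    exact Subsingleton.elim _ _

end Groth.PicAux

namespace Groth.PicAux

/-- An invertible module on an open of the spectrum of a factorial ring is trivial. -/
theorem trivial_of_open_spec (R : CommRingCat.{u}) [IsDomain R] [UniqueFactorizationMonoid R]
    (U : (Spec R).Opens) (L : (U : Scheme.{u}).Modules) (hL : PicF.IsInvertible L) :
    Nonempty (L ≅ Coh.structureModule (U : Scheme.{u})) := by
  obtain ⟨V, e, hV, -, he⟩ := exists_gen_cover hL
  choose c hc using fun a b =>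
    (he b).exists_coeff (inf_le_right : V a ⊓ V b ≤ V b) (res L inf_le_left (e a))
  have hle : ∀ a b, U.ι ''ᵁ V a ⊓ U.ι ''ᵁ V b ≤ U.ι ''ᵁ (V a ⊓ V b) := by
    rintro a b _ ⟨⟨y, hy, rfl⟩, ⟨z, hz, hzy⟩⟩
    rw [U.ι.isOpenEmbedding.injective hzy] at hz
    exact ⟨y, ⟨hy, hz⟩, rfl⟩
  have hcc : ∀ a b d,
      resX (U : Scheme.{u}) (inf_le_inf_right _ inf_le_left : V a ⊓ V b ⊓ V d ≤ V a ⊓ V d) (c a d) =
      resX (U : Scheme.{u}) (inf_le_left : V a ⊓ V b ⊓ V d ≤ V a ⊓ V b) (c a b) *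
        resX (U : Scheme.{u}) (inf_le_inf_right _ inf_le_right : V a ⊓ V b ⊓ V d ≤ V b ⊓ V d)
          (c b d) := by
    intro a b d
    refine (he d).smul_inj inf_le_right ?_
    have h1 := congrArg (res L (inf_le_inf_right _ inf_le_left : V a ⊓ V b ⊓ V d ≤ V a ⊓ V d))
      (hc a d)
    have h2 := congrArg (res L (inf_le_left : V a ⊓ V b ⊓ V d ≤ V a ⊓ V b)) (hc a b)
    have h3 := congrArg (res L (inf_le_inf_right _ inf_le_right : V a ⊓ V b ⊓ V d ≤ V b ⊓ V d))
      (hc b d)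
    simp only [res_smul, res_res] at h1 h2 h3 ⊢
    rw [mul_smul, ← h3, ← h2, ← h1]
  have hcu : ∀ a b, IsUnit (c a b) := fun a b =>
    ((he b).res inf_le_right).isUnit_of_smul (hc a b ▸ (he a).res inf_le_left)
  obtain ⟨h, hu, hrel⟩ := exists_trivialize_spec R (fun a => U.ι ''ᵁ V a)
    (fun a b => resX (Spec R) (hle a b) (c a b)) (fun a b => (hcu a b).map _)
    (fun a b d => by
      have hle3 : U.ι ''ᵁ V a ⊓ U.ι ''ᵁ V b ⊓ U.ι ''ᵁ V d ≤ U.ι ''ᵁ (V a ⊓ V b ⊓ V d) := by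
        rintro _ ⟨⟨⟨y, hy, rfl⟩, ⟨z, hz, hzy⟩⟩, ⟨w, hw, hwy⟩⟩
        rw [U.ι.isOpenEmbedding.injective hzy] at hz
        rw [U.ι.isOpenEmbedding.injective hwy] at hw
        exact ⟨y, ⟨⟨hy, hz⟩, hw⟩, rfl⟩
      have := (congrArg (resX (Spec R) hle3) (hcc a b d)).trans (map_mul (resX (Spec R) hle3) _ _)
      change resX _ hle3 (resX (Spec R) (U.ι.image_mono (inf_le_inf_right _ inf_le_left)) (c a d)) =
        resX _ hle3 (resX (Spec R) (U.ι.image_mono inf_le_left) (c a b)) * resX _ hle3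
          (resX (Spec R) (U.ι.image_mono (inf_le_inf_right _ inf_le_right)) (c b d)) at this
      simp only [resX_resX] at this ⊢
      exact this)
  let h' : ∀ a, Γ((U : Scheme.{u}), V a) := fun a => h a
  have hrel' : ∀ a b, resX (U : Scheme.{u}) (inf_le_right : V a ⊓ V b ≤ V b) (h' b) =
      resX (U : Scheme.{u}) (inf_le_left : V a ⊓ V b ≤ V a) (h' a) * c a b := by
    intro a b
    have h4 : U.ι ''ᵁ (V a ⊓ V b) ≤ U.ι ''ᵁ V a ⊓ U.ι ''ᵁ V b :=
      le_inf (U.ι.image_mono inf_le_left) (U.ι.image_mono inf_le_right)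
    have := congrArg (resX (Spec R) h4) (hrel a b)
    simp only [map_mul, resX_resX, resX_self] at this
    exact this
  obtain ⟨t, ht, -⟩ := res_glue (M := L) V (fun _ => le_top) hV.ge (fun a => h' a • e a) fun a b => by
    simp only [res_smul]
    rw [hc a b, ← mul_smul, ← hrel' a b]
  exact nonempty_iso_structure_iff.2 ⟨t, Gen.of_cover V (fun _ => le_top) hV.ge fun a =>
    (ht a).symm ▸ (he a).smul_unit (hu a)⟩

end Groth.PicAux
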