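import Groth.Agent.PicAux.SeesawReduced
import Mathlib.AlgebraicGeometry.IdealSheaf.Subscheme

/-!
# Invertible modules on a union of two closed subschemes

`X = V(I) ∪ V(J)` with `I ⊓ J = ⊥`: functions, and invertible modules with an isomorphism on the
intersection `V(I ⊔ J)`, glue.
-/

universe u

open CategoryTheory AlgebraicGeometry TopologicalSpace Opposite

noncomputable section

namespace Groth.PicAux.UnionGlue

open Groth.PicAux

section pullTo

variable {A B : Scheme.{u}} (k : A ⟶ B) {M : B.Modules}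

/-- Pullback of a section, restricted to a smaller open. -/
def pullTo (M : B.Modules) {U : B.Opens} {U' : A.Opens} (h : U' ≤ k ⁻¹ᵁ U) (m : Γ(M, U)) :
    Γ((Scheme.Modules.pullback k).obj M, U') :=
  res _ h (pullSec k M m)

theorem pullTo_smul {U : B.Opens} {U' : A.Opens} (h : U' ≤ k ⁻¹ᵁ U) (r : Γ(B, U)) (m : Γ(M, U)) :
    pullTo k M h (r • m) = k.appLE U U' h r • pullTo k M h m := by
  rw [pullTo, pullSec_smul, res_smul]
  rfl

theorem pullTo_res {U V : B.Opens} {U' : A.Opens} (hVU : V ≤ U) (h : U' ≤ k ⁻¹ᵁ V) (m : Γ(M, U)) :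
    pullTo k M h (res M hVU m) = pullTo k M (h.trans (k.preimage_mono hVU)) m := by
  rw [pullTo, ← res_pullSec, res_res]
  rfl

theorem res_pullTo {U : B.Opens} {U' V' : A.Opens} (h : U' ≤ k ⁻¹ᵁ U) (h' : V' ≤ U') (m : Γ(M, U)) :
    res _ h' (pullTo k M h m) = pullTo k M (h'.trans h) m := by
  rw [pullTo, res_res]
  rfl

theorem gen_pullTo {U : B.Opens} {U' : A.Opens} (h : U' ≤ k ⁻¹ᵁ U) {m : Γ(M, U)}
    (hm : Gen M U m) : Gen _ U' (pullTo k M h m) :=
  (hm.pull k).res h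

theorem appLE_resX {U V : B.Opens} {U' : A.Opens} (hVU : V ≤ U) (h : U' ≤ k ⁻¹ᵁ V) (r : Γ(B, U)) :
    k.appLE V U' h (resX B hVU r) = k.appLE U U' (h.trans (k.preimage_mono hVU)) r :=
  congr($(Scheme.Hom.map_appLE k h (homOfLE hVU).op) r)

theorem resX_appLE {U : B.Opens} {U' V' : A.Opens} (h : U' ≤ k ⁻¹ᵁ U) (h' : V' ≤ U') (r : Γ(B, U)) :
    resX A h' (k.appLE U U' h r) = k.appLE U V' (h'.trans h) r :=
  congr($(Scheme.Hom.appLE_map k h (homOfLE h').op) r)

theorem app_resX {U V : B.Opens} (hVU : V ≤ U) (r : Γ(B, U)) :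
    k.app V (resX B hVU r) = resX A (k.preimage_mono hVU) (k.app U r) :=
  congr($(k.naturality (homOfLE hVU).op) r)

end pullTo

/-- Over the empty open there is one section only. -/
theorem subsingleton_sections {B : Scheme.{u}} (M : B.Modules) {U : B.Opens} (hU : U ≤ ⊥) :
    Subsingleton Γ(M, U) :=
  ⟨fun x y => res_ext (fun e : Empty => e.elim) (fun e => e.elim)
    (hU.trans bot_le) fun e => e.elim⟩

theorem subsingleton_functions {B : Scheme.{u}} {U : B.Opens} (hU : U ≤ ⊥) :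
    Subsingleton Γ(B, U) :=
  ⟨fun x y => resX_ext (fun e : Empty => e.elim) (fun e => e.elim)
    (hU.trans bot_le) fun e => e.elim⟩

variable {X : Scheme.{u}} (I J : X.IdealSheafData)

/-- The inclusion of the intersection in the first piece. -/
abbrev jY : (I ⊔ J).subscheme ⟶ I.subscheme :=
  Scheme.IdealSheafData.inclusion (le_sup_left : I ≤ I ⊔ J)

/-- The inclusion of the intersection in the second piece. -/
abbrev jZ : (I ⊔ J).subscheme ⟶ J.subscheme :=
  Scheme.IdealSheafData.inclusion (le_sup_right : J ≤ I ⊔ J)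

theorem leY (V : X.Opens) :
    (I ⊔ J).subschemeι ⁻¹ᵁ V ≤ jY I J ⁻¹ᵁ I.subschemeι ⁻¹ᵁ V := by
  rw [← Scheme.Hom.comp_preimage, Scheme.IdealSheafData.inclusion_subschemeι]

theorem leZ (V : X.Opens) :
    (I ⊔ J).subschemeι ⁻¹ᵁ V ≤ jZ I J ⁻¹ᵁ J.subschemeι ⁻¹ᵁ V := by
  rw [← Scheme.Hom.comp_preimage, Scheme.IdealSheafData.inclusion_subschemeι]

/-- Restriction of functions to the intersection. -/
def wY (V : X.Opens) : Γ(I.subscheme, I.subschemeι ⁻¹ᵁ V) →+*
    Γ((I ⊔ J).subscheme, (I ⊔ J).subschemeι ⁻¹ᵁ V) :=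
  ((jY I J).appLE _ _ (leY I J V)).hom

/-- Restriction of functions to the intersection. -/
def wZ (V : X.Opens) : Γ(J.subscheme, J.subschemeι ⁻¹ᵁ V) →+*
    Γ((I ⊔ J).subscheme, (I ⊔ J).subschemeι ⁻¹ᵁ V) :=
  ((jZ I J).appLE _ _ (leZ I J V)).hom

theorem app_eq_appLE_comp {A B C : Scheme.{u}} {q : A ⟶ B} {i : B ⟶ C} {k : A ⟶ C}
    (hk : q ≫ i = k) (V : C.Opens) (h : k ⁻¹ᵁ V ≤ q ⁻¹ᵁ i ⁻¹ᵁ V) (e : Γ(C, V)) :
    q.appLE (i ⁻¹ᵁ V) (k ⁻¹ᵁ V) h (i.app V e) = k.app V e := by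
  subst hk
  exact resX_self _ _

theorem wY_app (V : X.Opens) (e : Γ(X, V)) :
    wY I J V (I.subschemeι.app V e) = (I ⊔ J).subschemeι.app V e :=
  app_eq_appLE_comp (Scheme.IdealSheafData.inclusion_subschemeι _) V _ e

theorem wZ_app (V : X.Opens) (e : Γ(X, V)) :
    wZ I J V (J.subschemeι.app V e) = (I ⊔ J).subschemeι.app V e :=
  app_eq_appLE_comp (Scheme.IdealSheafData.inclusion_subschemeι _) V _ e

theorem wY_res {U V : X.Opens} (h : V ≤ U) (r : Γ(I.subscheme, I.subschemeι ⁻¹ᵁ U)) :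
    wY I J V (resX _ (I.subschemeι.preimage_mono h) r) =
      resX _ ((I ⊔ J).subschemeι.preimage_mono h) (wY I J U r) := by
  rw [wY, appLE_resX, wY, resX_appLE]

theorem wZ_res {U V : X.Opens} (h : V ≤ U) (r : Γ(J.subscheme, J.subschemeι ⁻¹ᵁ U)) :
    wZ I J V (resX _ (J.subschemeι.preimage_mono h) r) =
      resX _ ((I ⊔ J).subschemeι.preimage_mono h) (wZ I J U r) := by
  rw [wZ, appLE_resX, wZ, resX_appLE]

variable {I J}

theorem exists_affine_cover (V : X.Opens) :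
    V ≤ ⨆ W : {W : X.affineOpens // W.1 ≤ V}, W.1.1 := fun x hx => by
  obtain ⟨_, ⟨W, hW, rfl⟩, hxW, hle⟩ :=
    X.isBasis_affineOpens.exists_subset_of_mem_open hx V.2
  exact Opens.mem_iSup.2 ⟨⟨⟨W, hW⟩, hle⟩, hxW⟩

variable (hIJ : I ⊓ J = ⊥)
include hIJ

/-- A function vanishing on both pieces vanishes. -/
theorem eq_of_app {V : X.Opens} {e e' : Γ(X, V)}
    (h₁ : I.subschemeι.app V e = I.subschemeι.app V e')
    (h₂ : J.subschemeι.app V e = J.subschemeι.app V e') : e = e' := by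
  refine resX_ext (fun W : {W : X.affineOpens // W.1 ≤ V} => W.1.1) (fun W => W.2)
    (exists_affine_cover V) fun W => ?_
  rw [← sub_eq_zero, ← map_sub]
  have h1 : resX X W.2 (e - e') ∈ I.ideal W.1 := by
    rw [← Scheme.IdealSheafData.ker_subschemeι_app, RingHom.mem_ker]
    refine (app_resX I.subschemeι W.2 _).trans ?_
    rw [map_sub, h₁, sub_self, map_zero]
  have h2 : resX X W.2 (e - e') ∈ J.ideal W.1 := by
    rw [← Scheme.IdealSheafData.ker_subschemeι_app, RingHom.mem_ker]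
    refine (app_resX J.subschemeι W.2 _).trans ?_
    rw [map_sub, h₂, sub_self, map_zero]
  have h3 : resX X W.2 (e - e') ∈ (I ⊓ J).ideal W.1 := by
    rw [Scheme.IdealSheafData.ideal_inf]
    exact ⟨h1, h2⟩
  rw [hIJ, Scheme.IdealSheafData.ideal_bot] at h3
  exact h3

/-- Functions on the two pieces agreeing on the intersection glue. -/
theorem exists_glue {V : X.Opens} (a : Γ(I.subscheme, I.subschemeι ⁻¹ᵁ V))
    (b : Γ(J.subscheme, J.subschemeι ⁻¹ᵁ V)) (h : wY I J V a = wZ I J V b) :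
    ∃ e : Γ(X, V), I.subschemeι.app V e = a ∧ J.subschemeι.app V e = b := by
  have loc : ∀ W : {W : X.affineOpens // W.1 ≤ V}, ∃ e : Γ(X, W.1.1),
      I.subschemeι.app W.1.1 e = resX _ (I.subschemeι.preimage_mono W.2) a ∧
      J.subschemeι.app W.1.1 e = resX _ (J.subschemeι.preimage_mono W.2) b := by
    intro W
    obtain ⟨p, hp⟩ := I.subschemeι.app_surjective W.1.1 W.1.2
      (resX _ (I.subschemeι.preimage_mono W.2) a)
    obtain ⟨q, hq⟩ := J.subschemeι.app_surjective W.1.1 W.1.2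
      (resX _ (J.subschemeι.preimage_mono W.2) b)
    have hmem : p - q ∈ (I ⊔ J).ideal W.1 := by
      rw [← Scheme.IdealSheafData.ker_subschemeι_app, RingHom.mem_ker, map_sub, sub_eq_zero]
      refine (wY_app I J _ p).symm.trans (Eq.trans ?_ (wZ_app I J _ q))
      rw [hp, hq, wY_res I J W.2, wZ_res I J W.2, h]
    rw [Scheme.IdealSheafData.ideal_sup] at hmem
    obtain ⟨c, hc, d, hd, hcd⟩ := Submodule.mem_sup.1 hmem
    rw [← Scheme.IdealSheafData.ker_subschemeι_app] at hc hd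
    refine ⟨p - c, ?_, ?_⟩
    · rw [map_sub, show I.subschemeι.app W.1.1 c = 0 from hc, sub_zero, hp]
    · have : p - c = q + d := by linear_combination (-1 : Γ(X, W.1.1)) * hcd
      rw [this, map_add, show J.subschemeι.app W.1.1 d = 0 from hd, add_zero, hq]
  choose e he₁ he₂ using loc
  obtain ⟨s, hs, -⟩ := resX_glue (fun W : {W : X.affineOpens // W.1 ≤ V} => W.1.1) (fun W => W.2)
    (exists_affine_cover V) e fun W W' => eq_of_app hIJ
      (by rw [app_resX, app_resX, he₁, he₁, resX_resX, resX_resX])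
      (by rw [app_resX, app_resX, he₂, he₂, resX_resX, resX_resX])
  refine ⟨s, ?_, ?_⟩
  · refine resX_ext (fun W : {W : X.affineOpens // W.1 ≤ V} => I.subschemeι ⁻¹ᵁ W.1.1)
      (fun W => I.subschemeι.preimage_mono W.2) (fun x hx => ?_) fun W => ?_
    · obtain ⟨W, hW⟩ := Opens.mem_iSup.1 (exists_affine_cover V
        (show I.subschemeι x ∈ V from hx))
      exact Opens.mem_iSup.2 ⟨W, hW⟩
    · rw [← app_resX I.subschemeι W.2, hs, he₁]
  · refine resX_ext (fun W : {W : X.affineOpens // W.1 ≤ V} => J.subschemeι ⁻¹ᵁ W.1.1)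
      (fun W => J.subschemeι.preimage_mono W.2) (fun x hx => ?_) fun W => ?_
    · obtain ⟨W, hW⟩ := Opens.mem_iSup.1 (exists_affine_cover V
        (show J.subschemeι x ∈ V from hx))
      exact Opens.mem_iSup.2 ⟨W, hW⟩
    · rw [← app_resX J.subschemeι W.2, hs, he₂]

theorem exists_glue_unit {V : X.Opens} {a : Γ(I.subscheme, I.subschemeι ⁻¹ᵁ V)}
    {b : Γ(J.subscheme, J.subschemeι ⁻¹ᵁ V)} (ha : IsUnit a) (hb : IsUnit b)
    (h : wY I J V a = wZ I J V b) :
    ∃ e : Γ(X, V), IsUnit e ∧ I.subschemeι.app V e = a ∧ J.subschemeι.app V e = b := by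
  obtain ⟨a, rfl⟩ := ha
  obtain ⟨b, rfl⟩ := hb
  obtain ⟨e, he₁, he₂⟩ := exists_glue hIJ (a : Γ(I.subscheme, I.subschemeι ⁻¹ᵁ V)) b h
  obtain ⟨e', he'₁, he'₂⟩ := exists_glue hIJ (↑a⁻¹ : Γ(I.subscheme, I.subschemeι ⁻¹ᵁ V)) ↑b⁻¹
    (congrArg (fun t : Γ((I ⊔ J).subscheme, (I ⊔ J).subschemeι ⁻¹ᵁ V)ˣ =>
        ((t⁻¹ : Γ((I ⊔ J).subscheme, (I ⊔ J).subschemeι ⁻¹ᵁ V)ˣ) :
          Γ((I ⊔ J).subscheme, (I ⊔ J).subschemeι ⁻¹ᵁ V)))
      (Units.ext h : Units.map (wY I J V).toMonoidHom a = Units.map (wZ I J V).toMonoidHom b))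
  refine ⟨e, isUnit_iff_exists_inv.2 ⟨e', eq_of_app hIJ ?_ ?_⟩, he₁, he₂⟩
  · rw [map_mul, he₁, he'₁, Units.mul_inv, map_one]
  · rw [map_mul, he₂, he'₂, Units.mul_inv, map_one]

/-- A module is trivial when it is so on both pieces and units of the intersection extend to the
second piece. -/
theorem nonempty_iso_structure {L : X.Modules} (hL : PicF.IsInvertible L)
    (hu : ∀ u : Γ((I ⊔ J).subscheme, ⊤), IsUnit u →
      ∃ v : Γ(J.subscheme, ⊤), IsUnit v ∧ (jZ I J).appTop v = u)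
    (hY : Nonempty ((Scheme.Modules.pullback I.subschemeι).obj L ≅ Coh.structureModule _))
    (hZ : Nonempty ((Scheme.Modules.pullback J.subschemeι).obj L ≅ Coh.structureModule _)) :
    Nonempty (L ≅ Coh.structureModule X) := by
  obtain ⟨sY, hsY⟩ := nonempty_iso_structure_iff.1 hY
  obtain ⟨sZ₀, hsZ₀⟩ := nonempty_iso_structure_iff.1 hZ
  obtain ⟨εY, hεY⟩ := Seesaw.exists_triangle_iso (jY I J) I.subschemeι
    (Scheme.IdealSheafData.inclusion_subschemeι _) L
  obtain ⟨εZ, hεZ⟩ := Seesaw.exists_triangle_iso (jZ I J) J.subschemeι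
    (Scheme.IdealSheafData.inclusion_subschemeι _) L
  obtain ⟨u, hu'⟩ := Gen.exists_unit
    ((((hsZ₀.pull (jZ I J)).res (le_refl _))).map εZ.hom) (((hsY.pull (jY I J))).map εY.hom)
  obtain ⟨v, hv, hvu⟩ := hu _ u.isUnit
  let sZ := v • sZ₀
  have hsZ : Gen _ ⊤ sZ := hsZ₀.smul_unit hv
  have hsame : εY.hom.app ⊤ (pullSec (jY I J) _ sY) = εZ.hom.app ⊤ (pullSec (jZ I J) _ sZ) := by
    refine hu'.trans ?_
    simp only [sZ]
    rw [pullSec_smul]
    refine Eq.trans ?_ (Scheme.Modules.Hom.app_smul εZ.hom _ _).symm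
    rw [res_self]
    exact congrArg (· • _) hvu.symm
  choose U e hxU he using isInvertible_iff_exists_gen L |>.1 hL
  choose α hα using fun x => (he x).pull I.subschemeι |>.exists_coeff le_rfl
    (res _ (le_top : I.subschemeι ⁻¹ᵁ U x ≤ ⊤) sY)
  choose β hβ using fun x => (he x).pull J.subschemeι |>.exists_coeff le_rfl
    (res _ (le_top : J.subschemeι ⁻¹ᵁ U x ≤ ⊤) sZ)
  have hαu : ∀ x, IsUnit (α x) := fun x =>
    Gen.isUnit_of_smul ((he x).pull I.subschemeι) (by
      have := hsY.res (le_top : I.subschemeι ⁻¹ᵁ U x ≤ ⊤)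
      rwa [hα x, res_self] at this)
  have hβu : ∀ x, IsUnit (β x) := fun x =>
    Gen.isUnit_of_smul ((he x).pull J.subschemeι) (by
      have := hsZ.res (le_top : J.subschemeι ⁻¹ᵁ U x ≤ ⊤)
      rwa [hβ x, res_self] at this)
  have hαβ : ∀ x, wY I J (U x) (α x) = wZ I J (U x) (β x) := fun x => by
    refine ((he x).pull (I ⊔ J).subschemeι).smul_inj le_rfl ?_
    rw [res_self]
    have key : ∀ {P : Scheme.{u}} (k : P ⟶ X) (j : (I ⊔ J).subscheme ⟶ P)
        (hjk : j ≫ k = (I ⊔ J).subschemeι)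
        (ε : (Scheme.Modules.pullback j).obj ((Scheme.Modules.pullback k).obj L) ≅
          (Scheme.Modules.pullback (I ⊔ J).subschemeι).obj L)
        (hε : ∀ {V : X.Opens} (s : Γ(L, V)) (hV : (I ⊔ J).subschemeι ⁻¹ᵁ V ≤ j ⁻¹ᵁ k ⁻¹ᵁ V),
          res _ hV (ε.hom.app (j ⁻¹ᵁ k ⁻¹ᵁ V) (pullSec j _ (pullSec k L s))) =
            pullSec (I ⊔ J).subschemeι L s)
        (S : Γ((Scheme.Modules.pullback k).obj L, ⊤)) (γ : Γ(P, k ⁻¹ᵁ U x))
        (hS : res _ le_top S = γ • res _ le_rfl (pullSec k L (e x)))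
        (hle : (I ⊔ J).subschemeι ⁻¹ᵁ U x ≤ j ⁻¹ᵁ k ⁻¹ᵁ U x),
        j.appLE _ _ hle γ • pullSec (I ⊔ J).subschemeι L (e x) =
          res _ le_top (ε.hom.app ⊤ (pullSec j _ S)) := by
      intro P k j hjk ε hε S γ hS hle
      rw [res_self] at hS
      have h1 : res _ hle (ε.hom.app _ (pullSec j _ (res _ (le_top : k ⁻¹ᵁ U x ≤ ⊤) S))) =
          res _ le_top (ε.hom.app ⊤ (pullSec j _ S)) := by
        rw [← res_pullSec, app_res, res_res]; rfl
      rw [← h1, hS, pullSec_smul, Scheme.Modules.Hom.app_smul, res_smul, hε (e x) hle]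
      rfl
    exact (key _ _ (Scheme.IdealSheafData.inclusion_subschemeι _) εY hεY sY (α x) (hα x)
        (leY I J _)).trans
      ((congrArg (res _ le_top) hsame).trans
        (key _ _ (Scheme.IdealSheafData.inclusion_subschemeι _) εZ hεZ sZ (β x) (hβ x)
          (leZ I J _)).symm)
  choose γ hγu hγY hγZ using fun x => exists_glue_unit hIJ (hαu x) (hβu x) (hαβ x)
  have hU : iSup U = ⊤ := eq_top_iff.2 fun x _ => Opens.mem_iSup.2 ⟨x, hxU x⟩
  obtain ⟨s, hs, -⟩ := res_glue U (fun x => le_top) hU.ge (fun x => γ x • e x) fun x y => by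
    obtain ⟨c, hc⟩ := (he y).exists_coeff (inf_le_right : U x ⊓ U y ≤ U y)
      (res L inf_le_left (e x))
    rw [res_smul, res_smul, hc, smul_smul]
    refine congrArg (· • _) (eq_of_app hIJ ?_ ?_)
    all_goals
      rw [map_mul, app_resX, app_resX]
      first | rw [hγY x, hγY y] | rw [hγZ x, hγZ y]
    · refine ((he y).pull I.subschemeι).smul_inj (I.subschemeι.preimage_mono inf_le_right) ?_
      have h1 := congrArg (pullSec I.subschemeι L) hc
      rw [pullSec_smul, ← res_pullSec, ← res_pullSec] at h1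
      have h2 := congrArg (res _ (I.subschemeι.preimage_mono (inf_le_left : U x ⊓ U y ≤ U x))) (hα x)
      have h3 := congrArg (res _ (I.subschemeι.preimage_mono (inf_le_right : U x ⊓ U y ≤ U y))) (hα y)
      simp only [res_res, res_smul] at h2 h3
      rw [mul_smul, ← h1, ← h2]
      exact h3
    · refine ((he y).pull J.subschemeι).smul_inj (J.subschemeι.preimage_mono inf_le_right) ?_
      have h1 := congrArg (pullSec J.subschemeι L) hc
      rw [pullSec_smul, ← res_pullSec, ← res_pullSec] at h1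
      have h2 := congrArg (res _ (J.subschemeι.preimage_mono (inf_le_left : U x ⊓ U y ≤ U x))) (hβ x)
      have h3 := congrArg (res _ (J.subschemeι.preimage_mono (inf_le_right : U x ⊓ U y ≤ U y))) (hβ y)
      simp only [res_res, res_smul] at h2 h3
      rw [mul_smul, ← h1, ← h2]
      exact h3
  refine nonempty_iso_structure_iff.2 ⟨s, Gen.of_cover U (fun x => le_top) hU.ge fun x => ?_⟩
  rw [hs x]
  exact (he x).smul_unit (hγu x)

omit hIJ in
/-- Near each point the preimage in a closed subscheme carries a generating section. -/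
theorem exists_gen_preimage {P : Scheme.{u}} (k : P ⟶ X) [IsClosedImmersion k] {M : P.Modules}
    (hM : PicF.IsInvertible M) (x : X) :
    ∃ (U : X.Opens) (m : Γ(M, k ⁻¹ᵁ U)), x ∈ U ∧ Gen M (k ⁻¹ᵁ U) m := by
  by_cases hx : x ∈ Set.range k
  · obtain ⟨p, rfl⟩ := hx
    obtain ⟨O, m, hpO, hm⟩ := (isInvertible_iff_exists_gen M).1 hM p
    obtain ⟨V, hV, hVO⟩ := k.isClosedEmbedding.isInducing.isOpen_iff.1 O.2
    have h : k ⁻¹ᵁ (⟨V, hV⟩ : X.Opens) ≤ O := fun z hz => by
      rw [← SetLike.mem_coe, ← Opens.carrier_eq_coe, ← hVO]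
      exact hz
    refine ⟨⟨V, hV⟩, res M h m, ?_, hm.res h⟩
    show p ∈ k ⁻¹' V
    rw [hVO]
    exact hpO
  · refine ⟨⟨(Set.range k)ᶜ, k.isClosedEmbedding.isClosed_range.isOpen_compl⟩, 0, hx, ?_⟩
    intro V hV
    have hbot : V ≤ ⊥ := fun z hz => (hV hz ⟨z, rfl⟩).elim
    have := subsingleton_sections M hbot
    have := subsingleton_functions hbot
    exact ⟨Function.injective_of_subsingleton _, fun t => ⟨0, Subsingleton.elim _ _⟩⟩

omit hIJ in
/-- Matching generating sections near each point. -/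
theorem exists_matching {M : I.subscheme.Modules} {N : J.subscheme.Modules}
    (hM : PicF.IsInvertible M) (hN : PicF.IsInvertible N)
    (φ : (Scheme.Modules.pullback (jY I J)).obj M ≅ (Scheme.Modules.pullback (jZ I J)).obj N)
    (x : X) :
    ∃ (U : X.Opens) (m : Γ(M, I.subschemeι ⁻¹ᵁ U)) (n : Γ(N, J.subschemeι ⁻¹ᵁ U)), x ∈ U ∧
      Gen M _ m ∧ Gen N _ n ∧
      φ.hom.app _ (pullTo (jY I J) M (leY I J U) m) = pullTo (jZ I J) N (leZ I J U) n := by
  obtain ⟨U₁, m, hx₁, hm⟩ := exists_gen_preimage I.subschemeι hM x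
  obtain ⟨U₂, n, hx₂, hn⟩ := exists_gen_preimage J.subschemeι hN x
  obtain ⟨_, ⟨U, hU, rfl⟩, hxU, hle⟩ := X.isBasis_affineOpens.exists_subset_of_mem_open
    (show x ∈ ((U₁ ⊓ U₂ : X.Opens) : Set X) from ⟨hx₁, hx₂⟩) (U₁ ⊓ U₂).2
  have hU₁ : U ≤ U₁ := fun z hz => (hle hz).1
  have hU₂ : U ≤ U₂ := fun z hz => (hle hz).2
  let m' := res M (I.subschemeι.preimage_mono hU₁) m
  let n' := res N (J.subschemeι.preimage_mono hU₂) n
  have hm' : Gen M _ m' := hm.res _
  have hn' : Gen N _ n' := hn.res _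
  obtain ⟨w, hw⟩ := (gen_pullTo (jZ I J) (leZ I J U) hn').exists_unit
    ((gen_pullTo (jY I J) (leY I J U) hm').map φ.hom)
  obtain ⟨ŵ, hŵ⟩ := (I ⊔ J).subschemeι.app_surjective U hU
    (w : Γ((I ⊔ J).subscheme, (I ⊔ J).subschemeι ⁻¹ᵁ U))
  have hfin : ∀ (V : X.Opens) (hVU : V ≤ U) (a : Γ(J.subscheme, J.subschemeι ⁻¹ᵁ V)), IsUnit a →
      x ∈ V → wZ I J V a = resX _ ((I ⊔ J).subschemeι.preimage_mono hVU) w →
      ∃ (U : X.Opens) (m : Γ(M, I.subschemeι ⁻¹ᵁ U)) (n : Γ(N, J.subschemeι ⁻¹ᵁ U)), x ∈ U ∧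
        Gen M _ m ∧ Gen N _ n ∧
        φ.hom.app _ (pullTo (jY I J) M (leY I J U) m) = pullTo (jZ I J) N (leZ I J U) n := by
    intro V hVU a ha hxV haw
    refine ⟨V, res M (I.subschemeι.preimage_mono hVU) m',
      a • res N (J.subschemeι.preimage_mono hVU) n', hxV, hm'.res _,
      (hn'.res _).smul_unit ha, ?_⟩
    rw [pullTo_smul, pullTo_res, pullTo_res]
    refine Eq.trans ?_ (congrArg (· • _) haw.symm)
    have h2 := congrArg (res _ ((I ⊔ J).subschemeι.preimage_mono hVU)) hw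
    rw [res_smul, ← app_res, res_pullTo, res_pullTo] at h2
    simp only [m', n', pullTo_res] at h2 ⊢
    exact h2
  by_cases hx : x ∈ Set.range (I ⊔ J).subschemeι
  · obtain ⟨z, rfl⟩ := hx
    refine hfin (X.basicOpen ŵ) (X.basicOpen_le ŵ)
      (J.subschemeι.app _ (resX X (X.basicOpen_le ŵ) ŵ))
      ((X.toRingedSpace.isUnit_res_basicOpen ŵ).map _) ?_ ?_
    · have hz : z ∈ (I ⊔ J).subscheme.basicOpen
          (w : Γ((I ⊔ J).subscheme, (I ⊔ J).subschemeι ⁻¹ᵁ U)) := by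
        rw [Scheme.basicOpen_of_isUnit _ w.isUnit]
        exact hxU
      rw [← hŵ, ← Scheme.preimage_basicOpen] at hz
      exact hz
    · rw [wZ_app, app_resX, hŵ]
  · let C : X.Opens := ⟨(Set.range (I ⊔ J).subschemeι)ᶜ,
      (I ⊔ J).subschemeι.isClosedEmbedding.isClosed_range.isOpen_compl⟩
    refine hfin (U ⊓ C) inf_le_left 1 isUnit_one ⟨hxU, hx⟩ ?_
    have := subsingleton_functions (B := (I ⊔ J).subscheme)
      (U := (I ⊔ J).subschemeι ⁻¹ᵁ (U ⊓ C)) fun z hz => (hz.2 ⟨z, rfl⟩).elim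
    exact Subsingleton.elim _ _

/-- Invertible modules on the two pieces with an isomorphism on the intersection glue. -/
theorem exists_module_glue {M : I.subscheme.Modules} {N : J.subscheme.Modules}
    (hM : PicF.IsInvertible M) (hN : PicF.IsInvertible N)
    (φ : (Scheme.Modules.pullback (jY I J)).obj M ≅ (Scheme.Modules.pullback (jZ I J)).obj N) :
    ∃ L : X.Modules, PicF.IsInvertible L ∧
      Nonempty ((Scheme.Modules.pullback I.subschemeι).obj L ≅ M) ∧
      Nonempty ((Scheme.Modules.pullback J.subschemeι).obj L ≅ N) := by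
  choose U m n hxU hm hn hmn using exists_matching hM hN φ
  have hU : iSup U = ⊤ := eq_top_iff.2 fun x _ => Opens.mem_iSup.2 ⟨x, hxU x⟩
  choose a ha using fun x y => ((hm y).res
    (I.subschemeι.preimage_mono (inf_le_right : U x ⊓ U y ≤ U y))).exists_unit
      ((hm x).res (I.subschemeι.preimage_mono (inf_le_left : U x ⊓ U y ≤ U x)))
  choose b hb using fun x y => ((hn y).res
    (J.subschemeι.preimage_mono (inf_le_right : U x ⊓ U y ≤ U y))).exists_unit
      ((hn x).res (J.subschemeι.preimage_mono (inf_le_left : U x ⊓ U y ≤ U x)))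
  have hab : ∀ x y, wY I J (U x ⊓ U y) (a x y) = wZ I J (U x ⊓ U y) (b x y) := fun x y => by
    refine (gen_pullTo (jZ I J) ((Scheme.Hom.preimage_mono _ inf_le_right).trans (leZ I J (U y)))
      (hn y)).smul_inj (le_refl ((I ⊔ J).subschemeι ⁻¹ᵁ (U x ⊓ U y))) ?_
    rw [res_self]
    have h1 := congrArg (fun t => φ.hom.app _ (pullTo (jY I J) M (leY I J (U x ⊓ U y)) t)) (ha x y)
    have h2 := congrArg (pullTo (jZ I J) N (leZ I J (U x ⊓ U y))) (hb x y)
    simp only [pullTo_smul, pullTo_res, Scheme.Modules.Hom.app_smul] at h1 h2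
    have h3 := congrArg (res _ ((I ⊔ J).subschemeι.preimage_mono
      (inf_le_left : U x ⊓ U y ≤ U x))) (hmn x)
    have h4 := congrArg (res _ ((I ⊔ J).subschemeι.preimage_mono
      (inf_le_right : U x ⊓ U y ≤ U y))) (hmn y)
    simp only [← app_res, res_pullTo] at h3 h4
    rw [h4] at h1
    exact h1.symm.trans (h3.trans h2)
  choose η hηu hηY hηZ using fun x y =>
    exists_glue_unit hIJ (a x y).isUnit (b x y).isUnit (hab x y)
  obtain ⟨L, s, hs, hL, hrel⟩ := exists_module_of_cocycle U η hU hηu fun x y z => by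
    refine eq_of_app hIJ ?_ ?_
    · rw [map_mul, app_resX, app_resX, app_resX, hηY, hηY, hηY]
      refine ((hm z).res (I.subschemeι.preimage_mono inf_le_right)).smul_inj
        (le_refl (I.subschemeι ⁻¹ᵁ (U x ⊓ U y ⊓ U z))) ?_
      rw [res_self, mul_smul]
      have e1 := congrArg (res M (I.subschemeι.preimage_mono
        (inf_le_inf_right (U z) inf_le_left : U x ⊓ U y ⊓ U z ≤ U x ⊓ U z))) (ha x z)
      have e2 := congrArg (res M (I.subschemeι.preimage_mono
        (inf_le_left : U x ⊓ U y ⊓ U z ≤ U x ⊓ U y))) (ha x y)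
      have e3 := congrArg (res M (I.subschemeι.preimage_mono
        (inf_le_inf_right (U z) inf_le_right : U x ⊓ U y ⊓ U z ≤ U y ⊓ U z))) (ha y z)
      simp only [res_smul, res_res] at e1 e2 e3
      rw [← e1, ← e3]
      exact e2
    · rw [map_mul, app_resX, app_resX, app_resX, hηZ, hηZ, hηZ]
      refine ((hn z).res (J.subschemeι.preimage_mono inf_le_right)).smul_inj
        (le_refl (J.subschemeι ⁻¹ᵁ (U x ⊓ U y ⊓ U z))) ?_
      rw [res_self, mul_smul]
      have e1 := congrArg (res N (J.subschemeι.preimage_mono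
        (inf_le_inf_right (U z) inf_le_left : U x ⊓ U y ⊓ U z ≤ U x ⊓ U z))) (hb x z)
      have e2 := congrArg (res N (J.subschemeι.preimage_mono
        (inf_le_left : U x ⊓ U y ⊓ U z ≤ U x ⊓ U y))) (hb x y)
      have e3 := congrArg (res N (J.subschemeι.preimage_mono
        (inf_le_inf_right (U z) inf_le_right : U x ⊓ U y ⊓ U z ≤ U y ⊓ U z))) (hb y z)
      simp only [res_smul, res_res] at e1 e2 e3
      rw [← e1, ← e3]
      exact e2
  have key : ∀ {P : Scheme.{u}} (k : P ⟶ X) {M : P.Modules} (m : ∀ x, Γ(M, k ⁻¹ᵁ U x))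
      (_ : ∀ x, Gen M _ (m x)) (c : ∀ x y, Γ(P, k ⁻¹ᵁ (U x ⊓ U y)))
      (_ : ∀ x y, k.app _ (η x y) = c x y)
      (_ : ∀ x y, res M (k.preimage_mono inf_le_left) (m x) =
        c x y • res M (k.preimage_mono inf_le_right) (m y)),
      Nonempty ((Scheme.Modules.pullback k).obj L ≅ M) := by
    intro P k M m hm c hηc hc
    obtain ⟨e, -⟩ := exists_iso_of_gen (U := fun x => k ⁻¹ᵁ U x)
      (eq_top_iff.2 fun z _ => Opens.mem_iSup.2 ⟨k z, hxU (k z)⟩)
      (fun x => pullSec k L (s x)) (fun x => (hs x).pull k) m hm fun x y r hr => by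
        have h1 := congrArg (pullSec k L) (hrel x y)
        rw [pullSec_smul, ← res_pullSec, ← res_pullSec, hηc] at h1
        have h2 : c x y = r := ((hs y).pull k).smul_inj (k.preimage_mono inf_le_right) (h1.symm.trans hr)
        subst h2
        exact hc x y
    exact ⟨e⟩
  exact ⟨L, hL, key I.subschemeι m hm (fun x y => a x y) hηY ha,
    key J.subschemeι n hn (fun x y => b x y) hηZ hb⟩

end Groth.PicAux.UnionGlue
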