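import Groth.Agent.PicAux.CechOne
import Groth.Agent.PicAux.Pullback
import Groth.Agent.PicAux.PicLaw
import Groth.Agent.OmegaSheaf.IdealMod
import Mathlib.AlgebraicGeometry.IdealSheaf.Subscheme

/-!
# Restriction of invertible modules to a first order thickening is injective when `H¹(I) = 0`
-/

universe u

open CategoryTheory AlgebraicGeometry TopologicalSpace Opposite

noncomputable section

namespace Groth.PicAux.ThickInj

open Groth.PicAux

variable {X : Scheme.{u}} {I : X.IdealSheafData} (hI : I * I = ⊥)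
include hI

theorem mem_range (x : X) : x ∈ Set.range I.subschemeι := by
  rw [Scheme.IdealSheafData.range_subschemeι]
  have h : (I * I).support = ⊤ := by rw [hI, Scheme.IdealSheafData.support_bot]
  rw [Scheme.IdealSheafData.support_mul] at h
  have : x ∈ (I.support ⊔ I.support : Closeds X) := h ▸ trivial
  simpa using this

/-- Units are detected on the closed subscheme. -/
theorem isUnit_of_app {W : X.Opens} {e : Γ(X, W)} (h : IsUnit (I.subschemeι.app W e)) : IsUnit e := by
  refine (X.toRingedSpace.isUnit_of_isUnit_germ W e fun x hx => ?_)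
  obtain ⟨z, rfl⟩ := mem_range hI x
  have hz : z ∈ I.subscheme.basicOpen (I.subschemeι.app W e) := by
    rw [Scheme.basicOpen_of_isUnit _ h]
    exact hx
  rw [← Scheme.preimage_basicOpen] at hz
  exact (X.mem_basicOpen e _ hx).1 hz

theorem mul_eq_zero_of_app {W : X.Opens} {a b : Γ(X, W)} (ha : I.subschemeι.app W a = 0)
    (hb : I.subschemeι.app W b = 0) : a * b = 0 := by
  have hc : W ≤ ⨆ V : {V : X.affineOpens // V.1 ≤ W}, V.1.1 := fun x hx => by
    obtain ⟨_, ⟨V, hV, rfl⟩, hxV, hle⟩ :=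
      X.isBasis_affineOpens.exists_subset_of_mem_open hx W.2
    exact Opens.mem_iSup.2 ⟨⟨⟨V, hV⟩, hle⟩, hxV⟩
  refine resX_ext (fun V : {V : X.affineOpens // V.1 ≤ W} => V.1.1) (fun V => V.2) hc fun V => ?_
  rw [map_mul, map_zero]
  have key : ∀ a : Γ(X, W), I.subschemeι.app W a = 0 → resX X V.2 a ∈ I.ideal V.1 := fun a ha => by
    rw [← Scheme.IdealSheafData.ker_subschemeι_app, RingHom.mem_ker]
    refine (congr($(I.subschemeι.naturality (homOfLE V.2).op) a)).trans ?_
    rw [CommRingCat.comp_apply, ha, map_zero]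
  have h3 : resX X V.2 a * resX X V.2 b ∈ (I * I).ideal V.1 := by
    rw [Scheme.IdealSheafData.ideal_mul]
    exact Ideal.mul_mem_mul (key a ha) (key b hb)
  rw [hI, Scheme.IdealSheafData.ideal_bot] at h3
  exact h3

theorem exists_lift_gen {L M : X.Modules} (hL : PicF.IsInvertible L) (hM : PicF.IsInvertible M)
    (ψ : (Scheme.Modules.pullback I.subschemeι).obj L ≅ (Scheme.Modules.pullback I.subschemeι).obj M)
    (x : X) : ∃ (U : X.Opens) (e : Γ(L, U)) (f : Γ(M, U)), x ∈ U ∧ Gen L U e ∧ Gen M U f ∧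
      ψ.hom.app _ (pullSec I.subschemeι L e) = pullSec I.subschemeι M f := by
  obtain ⟨U₁, e, hx₁, he⟩ := (isInvertible_iff_exists_gen L).1 hL x
  obtain ⟨U₂, f, hx₂, hf⟩ := (isInvertible_iff_exists_gen M).1 hM x
  obtain ⟨_, ⟨U, hU, rfl⟩, hxU, hle⟩ := X.isBasis_affineOpens.exists_subset_of_mem_open
    (show x ∈ ((U₁ ⊓ U₂ : X.Opens) : Set X) from ⟨hx₁, hx₂⟩) (U₁ ⊓ U₂).2
  have he' := he.res (show U ≤ U₁ from fun z hz => (hle hz).1)
  have hf' := hf.res (show U ≤ U₂ from fun z hz => (hle hz).2)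
  obtain ⟨w, hw⟩ := (hf'.pull I.subschemeι).exists_unit ((he'.pull I.subschemeι).map ψ.hom)
  obtain ⟨c, hc⟩ := I.subschemeι.app_surjective U hU
    (w : Γ(I.subscheme, I.subschemeι ⁻¹ᵁ U))
  have hcu : IsUnit c := isUnit_of_app hI (hc ▸ w.isUnit)
  refine ⟨U, _, c • res M (show U ≤ U₂ from fun z hz => (hle hz).2) f, hxU, he',
    hf'.smul_unit hcu, ?_⟩
  rw [pullSec_smul, hc]
  exact hw

theorem nonempty_iso (h1 : Subsingleton (Coh.HH X (ClSub.idealMod I) 1)) {L M : X.Modules}
    (hL : PicF.IsInvertible L) (hM : PicF.IsInvertible M)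
    (h : Nonempty ((Scheme.Modules.pullback I.subschemeι).obj L ≅
      (Scheme.Modules.pullback I.subschemeι).obj M)) :
    Nonempty (L ≅ M) := by
  obtain ⟨ψ⟩ := h
  choose U e f hxU he hf hef using exists_lift_gen hI hL hM ψ
  let ι := I.subschemeι
  choose a ha using fun x y => ((he y).res (inf_le_right : U x ⊓ U y ≤ U y)).exists_unit
    ((he x).res (inf_le_left : U x ⊓ U y ≤ U x))
  choose b hb using fun x y => ((hf y).res (inf_le_right : U x ⊓ U y ≤ U y)).exists_unit
    ((hf x).res (inf_le_left : U x ⊓ U y ≤ U x))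
  have hab : ∀ x y, ι.app (U x ⊓ U y) (a x y) = ι.app (U x ⊓ U y) (b x y) := fun x y => by
    refine ((hf y).pull ι).smul_inj (ι.preimage_mono (inf_le_right : U x ⊓ U y ≤ U y)) ?_
    have h1 := congrArg (fun t => ψ.hom.app _ (pullSec ι L t)) (ha x y)
    have h2 := congrArg (pullSec ι M) (hb x y)
    simp only [pullSec_smul, Scheme.Modules.Hom.app_smul, ← res_pullSec] at h1 h2
    have h3 := congrArg (res _ (ι.preimage_mono (inf_le_left : U x ⊓ U y ≤ U x))) (hef x)
    have h4 := congrArg (res _ (ι.preimage_mono (inf_le_right : U x ⊓ U y ≤ U y))) (hef y)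
    rw [← app_res] at h3 h4
    rw [h3, h4] at h1
    exact h1.symm.trans h2
  let c : ∀ x y, Γ(X, U x ⊓ U y) := fun x y => (b x y : Γ(X, U x ⊓ U y)) * ↑(a x y)⁻¹ - 1
  have hc : ∀ x y, ι.app _ (c x y) = 0 := fun x y => by
    simp only [c, map_sub, map_mul, map_one]
    rw [← hab x y, ← map_mul, Units.mul_inv, map_one, sub_self]
  have hb' : ∀ x y, (b x y : Γ(X, U x ⊓ U y)) = (a x y : Γ(X, U x ⊓ U y)) * (1 + c x y) :=
    fun x y => by
      simp only [c, add_sub_cancel]
      rw [mul_comm, mul_assoc, Units.inv_mul, mul_one]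
  choose g hg using fun x y => Groth.OmegaSheaf.exists_idealSect_eq I _ (c x y) (hc x y)
  obtain ⟨α', hα'⟩ := CechOne.exists_split (Coh.toAb (ClSub.idealMod I)) h1 U
    (fun x _ => Opens.mem_iSup.2 ⟨x, hxU x⟩) g fun x y z => by
    refine Groth.OmegaSheaf.idealSect_injective I _ ?_
    change OmegaSh.idealSect I _ (res _ _ (g x y) + res _ _ (g y z)) =
      OmegaSh.idealSect I _ (res _ _ (g x z))
    refine ((OmegaSh.idealSect I _).map_add _ _).trans ?_
    rw [show ∀ {V W : X.Opens} (h : V ≤ W) (k : Γ(ClSub.idealMod I, W)),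
        OmegaSh.idealSect I V (res _ h k) = resX X h (OmegaSh.idealSect I W k) from
      fun h k => Groth.OmegaSheaf.idealSect_res I h k]
    rw [show ∀ {V W : X.Opens} (h : V ≤ W) (k : Γ(ClSub.idealMod I, W)),
        OmegaSh.idealSect I V (res _ h k) = resX X h (OmegaSh.idealSect I W k) from
      fun h k => Groth.OmegaSheaf.idealSect_res I h k]
    rw [show ∀ {V W : X.Opens} (h : V ≤ W) (k : Γ(ClSub.idealMod I, W)),
        OmegaSh.idealSect I V (res _ h k) = resX X h (OmegaSh.idealSect I W k) from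
      fun h k => Groth.OmegaSheaf.idealSect_res I h k, hg, hg, hg]
    change resX X inf_le_left (c x y) +
      resX X (inf_le_inf_right (U z) inf_le_right) (c y z) =
        resX X (inf_le_inf_right (U z) inf_le_left) (c x z)
    have key : ∀ {N : X.Modules} (n : ∀ x, Γ(N, U x)) (_ : ∀ x, Gen N (U x) (n x))
        (d : ∀ x y, Γ(X, U x ⊓ U y))
        (_ : ∀ x y, res N inf_le_left (n x) = d x y • res N inf_le_right (n y)),
        resX X (inf_le_inf_right (U z) inf_le_left : U x ⊓ U y ⊓ U z ≤ U x ⊓ U z) (d x z) =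
          resX X (inf_le_left : U x ⊓ U y ⊓ U z ≤ U x ⊓ U y) (d x y) *
            resX X (inf_le_inf_right (U z) inf_le_right : U x ⊓ U y ⊓ U z ≤ U y ⊓ U z) (d y z) := by
      intro N n hn d hd
      refine (hn z).smul_inj inf_le_right ?_
      have e1 := congrArg (res N (inf_le_inf_right (U z) inf_le_left :
        U x ⊓ U y ⊓ U z ≤ U x ⊓ U z)) (hd x z)
      have e2 := congrArg (res N (inf_le_left : U x ⊓ U y ⊓ U z ≤ U x ⊓ U y)) (hd x y)
      have e3 := congrArg (res N (inf_le_inf_right (U z) inf_le_right :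
        U x ⊓ U y ⊓ U z ≤ U y ⊓ U z)) (hd y z)
      simp only [res_smul, res_res] at e1 e2 e3
      rw [mul_smul, ← e1, ← e3]
      exact e2
    have kA := key e he (fun x y => a x y) ha
    have kB := key f hf (fun x y => b x y) hb
    simp only [hb', map_mul, map_add, map_one] at kB
    rw [kA] at kB
    have hmul : resX X inf_le_left (c x y) *
        resX X (inf_le_inf_right (U z) inf_le_right) (c y z) = 0 :=
      mul_eq_zero_of_app hI
        ((congr($(ι.naturality (homOfLE (inf_le_left : U x ⊓ U y ⊓ U z ≤ U x ⊓ U y)).op) (c x y))).trans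
          (by rw [CommRingCat.comp_apply, hc, map_zero]))
        ((congr($(ι.naturality (homOfLE (inf_le_inf_right (U z) inf_le_right :
          U x ⊓ U y ⊓ U z ≤ U y ⊓ U z)).op) (c y z))).trans
          (by rw [CommRingCat.comp_apply, hc, map_zero]))
    have hu : IsUnit (resX X (inf_le_left : U x ⊓ U y ⊓ U z ≤ U x ⊓ U y) (a x y : Γ(X, U x ⊓ U y)) *
        resX X (inf_le_inf_right (U z) inf_le_right : U x ⊓ U y ⊓ U z ≤ U y ⊓ U z)
          (a y z : Γ(X, U y ⊓ U z))) :=
      ((a x y).isUnit.map _).mul ((a y z).isUnit.map _)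
    refine hu.mul_left_cancel ?_
    linear_combination -kB - (resX X (inf_le_left : U x ⊓ U y ⊓ U z ≤ U x ⊓ U y)
      (a x y : Γ(X, U x ⊓ U y)) * resX X (inf_le_inf_right (U z) inf_le_right :
        U x ⊓ U y ⊓ U z ≤ U y ⊓ U z) (a y z : Γ(X, U y ⊓ U z))) * hmul
  let α : ∀ x, Γ(X, U x) := fun x => OmegaSh.idealSect I (U x) (α' x)
  have hα0 : ∀ x, ι.app _ (α x) = 0 := fun x =>
    Groth.OmegaSheaf.subschemeι_app_idealSect I _ _
  have hα : ∀ x y, c x y = resX X inf_le_right (α y) - resX X inf_le_left (α x) := fun x y => by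
    rw [← hg x y, hα' x y]
    change OmegaSh.idealSect I _ (res _ _ (α' y) - res _ _ (α' x)) = _
    refine ((OmegaSh.idealSect I _).map_sub _ _).trans ?_
    exact congrArg₂ (· - ·) (Groth.OmegaSheaf.idealSect_res I inf_le_right (α' y))
      (Groth.OmegaSheaf.idealSect_res I inf_le_left (α' x))
  have hαu : ∀ x, IsUnit (1 + α x) := fun x =>
    isUnit_of_app hI (by rw [map_add, map_one, hα0, add_zero]; exact isUnit_one)
  have hprod : ∀ x y, (1 + resX X (inf_le_left : U x ⊓ U y ≤ U x) (α x)) * (1 + c x y) =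
      1 + resX X (inf_le_right : U x ⊓ U y ≤ U y) (α y) := fun x y => by
    have h0 : resX X (inf_le_left : U x ⊓ U y ≤ U x) (α x) * c x y = 0 :=
      mul_eq_zero_of_app hI
        ((congr($(ι.naturality (homOfLE (inf_le_left : U x ⊓ U y ≤ U x)).op) (α x))).trans
          (by rw [CommRingCat.comp_apply, hα0, map_zero])) (hc x y)
    linear_combination h0 + hα x y
  obtain ⟨E, -⟩ := exists_iso_of_gen (U := U) (eq_top_iff.2 fun x _ => Opens.mem_iSup.2 ⟨x, hxU x⟩)
    e he (fun x => (1 + α x) • f x) (fun x => (hf x).smul_unit (hαu x)) fun x y r hr => by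
      have hr' : (a x y : Γ(X, U x ⊓ U y)) = r :=
        (he y).smul_inj inf_le_right ((ha x y).symm.trans hr)
      subst hr'
      rw [res_smul, res_smul, hb x y, smul_smul, smul_smul, hb', map_add, map_add, map_one, map_one]
      refine congrArg (· • _) ?_
      rw [← hprod]
      ring
  exact ⟨E⟩

end Groth.PicAux.ThickInj
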