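import Groth.Agent.PicAux.SeesawAnyBase
import Groth.Agent.KTheory.RegSheaf
import Groth.Agent.PnCoh.OverAffine
import Groth.Agent.PnCoh.PicProjSpace
import Groth.Agent.PnCoh.GlobalFun
import Groth.Agent.PnCoh.TwistSplit
import Groth.Agent.Misc15.P1Stalk
import Groth.Agent.Misc13.ProjFactor
import Groth.Agent.FlatStrata.ProjSpace
import Groth.Agent.HilbStab.BC.Euler

/-!
# Invertible modules on projective space over a connected base
-/

set_option backward.isDefEq.respectTransparency false

universe u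

open CategoryTheory Limits AlgebraicGeometry TopologicalSpace

noncomputable section

namespace Groth.PicAux.ProjBundlePic

open Groth.Abvar.PicCalc

variable {n : ℕ}

theorem subsingleton_projSpace_zero (K : Type u) [Field K] :
    Subsingleton (CohB1.ProjSpace 0 K) := by
  classical
  have key : ∀ x : ProjectiveSpectrum (CohB1.polyGrading 0 K), x.asHomogeneousIdeal.toIdeal = ⊥ := by
    intro x
    rw [eq_bot_iff]
    intro f hf
    by_contra hf0
    obtain ⟨j, hj⟩ : ∃ j, (DirectSum.decompose (CohB1.polyGrading 0 K) f j : MvPolynomial (Fin 1) K) ≠ 0 := by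
      by_contra h
      push Not at h
      refine hf0 ((Submodule.mem_bot _).2 ?_)
      exact (DirectSum.sum_support_decompose (CohB1.polyGrading 0 K) f).symm.trans
        (Finset.sum_eq_zero fun j _ => h j)
    have hmem := x.asHomogeneousIdeal.isHomogeneous j hf
    set g : MvPolynomial (Fin 1) K := (DirectSum.decompose (CohB1.polyGrading 0 K) f j : MvPolynomial (Fin 1) K) with hg
    have hgh : g.IsHomogeneous j := (MvPolynomial.mem_homogeneousSubmodule _ _).1
      (DirectSum.decompose (CohB1.polyGrading 0 K) f j).2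
    have e : g = MvPolynomial.C (g.coeff (Finsupp.single 0 j)) * MvPolynomial.X 0 ^ j := by
      rw [MvPolynomial.X_pow_eq_monomial, MvPolynomial.C_mul_monomial, mul_one]
      refine MvPolynomial.ext _ _ fun d => ?_
      rw [MvPolynomial.coeff_monomial]
      split_ifs with h
      · rw [h]
      · by_contra hd
        refine h (Finsupp.ext fun i => ?_)
        have hw := hgh hd
        rw [Subsingleton.elim i 0, Finsupp.single_eq_same]
        rw [← hw, Finsupp.weight_apply, Finsupp.sum_fintype _ _ (by simp)]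
        simp
    have hc : g.coeff (Finsupp.single 0 j) ≠ 0 := fun h => hj (by rw [e, h, map_zero, zero_mul])
    have hXj : (MvPolynomial.X 0 : MvPolynomial (Fin 1) K) ^ j ∈ x.asHomogeneousIdeal.toIdeal := by
      have h1 := Ideal.mul_mem_left x.asHomogeneousIdeal.toIdeal
        (MvPolynomial.C (g.coeff (Finsupp.single 0 j))⁻¹) hmem
      have h2 : MvPolynomial.C (g.coeff (Finsupp.single 0 j))⁻¹ * g = MvPolynomial.X 0 ^ j :=
        (congrArg (MvPolynomial.C (g.coeff (Finsupp.single 0 j))⁻¹ * ·) e).trans (by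
          rw [← mul_assoc, ← map_mul, inv_mul_cancel₀ hc, map_one, one_mul])
      exact h2 ▸ h1
    refine x.not_irrelevant_le ((PnCoh.irrelevant_le_span_X 0 K).trans (Ideal.span_le.2 ?_))
    rintro _ ⟨i, rfl⟩
    show MvPolynomial.X i.down ∈ x.asHomogeneousIdeal.toIdeal
    rw [show i.down = (0 : Fin 1) from Subsingleton.elim (α := Fin 1) _ _]
    exact x.isPrime.mem_of_pow_mem _ hXj
  exact ⟨fun x y => ProjectiveSpectrum.ext (HomogeneousIdeal.toIdeal_injective ((key x).trans (key y).symm))⟩

section Field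

variable (n) (K : Type u) [Field K]

theorem isInvertible_twK (d : ℤ) : PicF.IsInvertible (Twist.twistProjSpace n K d) :=
  Ega2Proj.isInvertible_twist (PnCoh.irrelevant_le_span_one n K) d

/-- The class of `O(d)` on projective space over a field. -/
def twK (d : ℤ) : PicLoc.PicSet (CohB1.ProjSpace n K) := cls (isInvertible_twK n K d)

theorem twK_zero : twK n K 0 = 1 :=
  (PicGrp.cls_eq_one_iff (isInvertible_twK n K 0)).2 (PnCoh.nonempty_twist_zero_iso _)

theorem twK_add (a b : ℤ) : twK n K (a + b) = twK n K a * twK n K b := by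
  rw [twK, twK, twK, ← cls_tensorMod]
  exact ((nonempty_iso_iff _ _).1 (Ega2Proj.nonempty_tensor_iso (PnCoh.irrelevant_le_span_one n K) a b)).symm

theorem twK_neg (a : ℤ) : twK n K (-a) = (twK n K a)⁻¹ :=
  eq_inv_of_mul_eq_one_left (by rw [← twK_add, neg_add_cancel, twK_zero])

variable {n}

theorem not_neg_of_twK_eq_one (hn : 1 ≤ n) {d : ℤ} (h : twK n K d = 1) : ¬ d < 0 := by
  intro hd
  obtain ⟨e⟩ := (PicGrp.cls_eq_one_iff (isInvertible_twK n K d)).1 h
  obtain ⟨e₀⟩ := PnCoh.nonempty_twist_zero_iso (CohB1.polyGrading n K)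
  have h1 := PnCoh.subsingleton_HH_twist (n := n) (R := K) d 0 (by omega) (by omega)
  have h2 : Subsingleton (Coh.HH (CohB1.ProjSpace n K) (Twist.twistProjSpace n K ((0 : ℕ) : ℤ)) 0) :=
    PnCoh.subsingleton_HH_of_iso (CohB1.ProjSpace.toSpec n K) (e ≪≫ e₀.symm) h1
  have h3 : Subsingleton (MvPolynomial.homogeneousSubmodule (Fin (n + 1)) K 0) :=
    (PnCoh.h0Equiv (n := n) (R := K) 0).toEquiv.subsingleton
  exact one_ne_zero (congrArg Subtype.val (h3.elim
    ⟨(1 : MvPolynomial (Fin (n + 1)) K), MvPolynomial.isHomogeneous_one _ _⟩ 0))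

/-- The twists are pairwise non-isomorphic. -/
theorem twK_injective (hn : 1 ≤ n) : Function.Injective (twK n K) := fun a b h => by
  have h1 := not_neg_of_twK_eq_one K hn (d := a - b)
    (by rw [sub_eq_add_neg, twK_add, twK_neg, h, mul_inv_cancel])
  have h2 := not_neg_of_twK_eq_one K hn (d := b - a)
    (by rw [sub_eq_add_neg, twK_add, twK_neg, h, mul_inv_cancel])
  omega

/-- Every class is a twist. -/
theorem exists_eq_twK (c : PicLoc.PicSet (CohB1.ProjSpace n K)) : ∃ d, c = twK n K d := by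
  rcases Nat.eq_zero_or_pos n with rfl | hn
  · have := subsingleton_projSpace_zero K
    exact ⟨0, (eq_one_of_subsingleton c).trans (twK_zero 0 K).symm⟩
  · obtain ⟨L, hL, rfl⟩ := PicGrp.exists_eq_cls c
    obtain ⟨d, hd⟩ := PnCoh.exists_iso_twist_of_isInvertible (n := n) (k := K) hn L hL
    exact ⟨d, (nonempty_iso_iff hL (isInvertible_twK n K d)).1 hd⟩

end Field

variable (n) (S : Scheme.{u})

/-- The class of `O(d)`. -/
def tw (d : ℤ) : PicLoc.PicSet (CohB1.ProjSpaceOver n S) :=
  cls (KTheory.RegSheaf.isInvertible_twistOver n S d)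

variable {n S}

/-- Projective space over a field point. -/
def pointMap {K : Type u} [Field K] (σ : Spec (CommRingCat.of K) ⟶ S) :
    CohB1.ProjSpace n K ⟶ CohB1.ProjSpaceOver n S :=
  (PnCoh.overIso n K).hom ≫ FGA.projMap n σ

theorem isPullback_pointMap {K : Type u} [Field K] (σ : Spec (CommRingCat.of K) ⟶ S) :
    IsPullback (pointMap (n := n) σ) (CohB1.ProjSpace.toSpec n K) (CohB1.ProjSpaceOver.toBase n S) σ := by
  refine (FlatStrata.isPullback_projMap n σ).of_iso (PnCoh.overIso n K).symm (Iso.refl _) (Iso.refl _)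
    (Iso.refl _) ?_ ?_ ?_ ?_ <;> simp [pointMap, Iso.eq_inv_comp]

theorem pull_pointMap_tw {K : Type u} [Field K] (σ : Spec (CommRingCat.of K) ⟶ S) (d : ℤ) :
    pull (pointMap (n := n) σ) (tw n S d) = twK n K d := by
  rw [pointMap, pull_comp, tw, pull_cls, pull_cls]
  refine (nonempty_iso_iff _ (isInvertible_twK n K d)).1 ?_
  obtain ⟨e⟩ := PnCoh.nonempty_pullback_overIso_twist n K d
  refine ⟨(Scheme.Modules.pullback (PnCoh.overIso n K).hom).mapIso ?_ ≪≫ e⟩
  exact (Scheme.Modules.pullbackComp (FGA.projMap n σ) _).app _ ≪≫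
    (Scheme.Modules.pullbackCongr ((pullback.lift_fst _ _ _).trans (Category.comp_id _))).app _

theorem pull_pointMap_toBase {K : Type u} [Field K] (σ : Spec (CommRingCat.of K) ⟶ S)
    (c : PicLoc.PicSet S) :
    pull (pointMap (n := n) σ) (pull (CohB1.ProjSpaceOver.toBase n S) c) = 1 := by
  rw [← pull_comp, (isPullback_pointMap σ).w, pull_comp, eq_one_of_subsingleton (pull σ c), map_one]

instance geometricallyIntegral_toSpec (n : ℕ) :
    GeometricallyIntegral (CohB1.ProjSpace.toSpec n (ULift.{u} ℤ)) :=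
  ⟨fun K _ b Q m q H => by
    obtain rfl : b = specULiftZIsTerminal.from _ := specULiftZIsTerminal.hom_ext _ _
    have H' : IsPullback m q (CohB1.ProjSpace.toSpec n (ULift.{u} ℤ))
      (specULiftZIsTerminal.from (Spec (CommRingCat.of K))) := H
    have := Misc15.P1Stalk.isIntegral_projSpaceOver n K
    have : IsIntegral (pullback (CohB1.ProjSpace.toSpec n (ULift.{u} ℤ))
      (specULiftZIsTerminal.from (Spec (CommRingCat.of K)))) := this
    have : Nonempty Q := ⟨H'.isoPullback.inv (Classical.arbitrary _)⟩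
    exact isIntegral_of_isOpenImmersion H'.isoPullback.hom⟩

theorem h1_projSpace (K : Type u) [Field K]
    (b : Spec (CommRingCat.of K) ⟶ Spec (CommRingCat.of (ULift.{u} ℤ))) (Q : Scheme.{u})
    (m : Q ⟶ CohB1.ProjSpace n (ULift.{u} ℤ)) (q : Q ⟶ Spec (CommRingCat.of K))
    (H : IsPullback m q (CohB1.ProjSpace.toSpec n (ULift.{u} ℤ)) b) :
    Subsingleton (Coh.HH Q (Coh.structureModule Q) 1) := by
  obtain rfl : b = specULiftZIsTerminal.from _ := specULiftZIsTerminal.hom_ext _ _
  let e : CohB1.ProjSpace n K ≅ Q := PnCoh.overIso n K ≪≫ H.isoPullback.symm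
  have he : e.hom ≫ q = CohB1.ProjSpace.toSpec n K := by
    show ((PnCoh.overIso n K).hom ≫ H.isoPullback.inv) ≫ q = _
    rw [Category.assoc, H.isoPullback_inv_snd]
    exact PnCoh.overIso_hom_toBase n K
  let _ : Q.Over (Spec (CommRingCat.of K)) := ⟨q⟩
  have hbc : CohBase.IsBC (A := K) (A' := K) e.hom := by
    change IsPullback e.hom _ _ (Spec.map (CommRingCat.ofHom (algebraMap K K)))
    rw [Algebra.algebraMap_self, CommRingCat.ofHom_id, Spec.map_id]
    exact IsPullback.of_horiz_isIso ⟨he.trans (Category.comp_id _).symm⟩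
  have : IsProper q := MorphismProperty.of_isPullback H (Variety2.isProper_projSpace_toSpec n _)
  have : CompactSpace Q := QuasiCompact.compactSpace_of_compactSpace q
  have : Q.IsSeparated := by
    rw [Scheme.isSeparated_iff, show terminal.from Q = q ≫ terminal.from _ from Subsingleton.elim _ _]
    infer_instance
  refine (HilbStab.BC.subsingleton_HH_baseChange_iff hbc (Coh.structureModule Q) 1).1 ?_
  obtain ⟨e₀⟩ := PnCoh.nonempty_twist_zero_iso (CohB1.polyGrading n K)
  exact PnCoh.subsingleton_HH_of_iso (CohB1.ProjSpace.toSpec n K)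
    (e₀ ≪≫ (PicAux.pullback_structure_iso e.hom).some.symm)
    (PnCoh.subsingleton_HH_twist (n := n) (R := K) 0 1 (by omega) (by omega))

theorem flat_toSpec (n : ℕ) : Flat (CohB1.ProjSpace.toSpec n (ULift.{u} ℤ)) := by
  have := Misc13.ProjFactor.smooth_projSpace_toSpec.{u} n
  infer_instance

/-- Pic of projective space over a connected base: existence. -/
theorem exists_eq_pull_mul_tw [PreconnectedSpace S] [Nonempty S]
    (c : PicLoc.PicSet (CohB1.ProjSpaceOver n S)) :
    ∃ (l : PicLoc.PicSet S) (d : ℤ), c = pull (CohB1.ProjSpaceOver.toBase n S) l * tw n S d := by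
  have : IsNoetherianRing (CommRingCat.of (ULift.{u} ℤ)) :=
    isNoetherianRing_of_ringEquiv ℤ ULift.ringEquiv.{0, u}.symm
  have := flat_toSpec.{u} n
  have sq : IsPullback (pullback.fst _ _) (CohB1.ProjSpaceOver.toBase n S)
      (CohB1.ProjSpace.toSpec n (ULift.{u} ℤ)) (specULiftZIsTerminal.from S) :=
    IsPullback.of_hasPullback _ _
  obtain ⟨y⟩ := (inferInstance : Nonempty S)
  obtain ⟨d, hd⟩ := exists_eq_twK (S.residueField y)
    (pull (pointMap (n := n) (S.fromSpecResidueField y)) c)
  obtain ⟨E, hE, hEc⟩ := PicGrp.exists_eq_cls (c * (tw n S d)⁻¹)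
  change c * (tw n S d)⁻¹ = cls hE at hEc
  have ht : Abvar.Seesaw.FibTriv (CohB1.ProjSpaceOver.toBase n S) E y := by
    refine Abvar.Seesaw.trivial_of_factor
      ((isPullback_pointMap (n := n) (S.fromSpecResidueField y)).isoPullback.inv)
      (IsPullback.isoPullback_inv_fst _) ?_
    refine (Abvar.PicCalc.nonempty_iso_structure_iff (PicLoc.isInvertible_pullback _ hE)).2 ?_
    rw [← pull_cls _ hE, ← hEc, map_mul, map_inv, hd, pull_pointMap_tw]
    exact mul_inv_cancel _
  obtain ⟨hL, hc⟩ := SeesawAnyBase.pushforward_counit_of_connected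
    (CohB1.ProjSpace.toSpec n (ULift.{u} ℤ)) sq hE ht (fun K _ b Q m q H => h1_projSpace K b Q m q H)
  refine ⟨cls hL, d, ?_⟩
  have e : pull (CohB1.ProjSpaceOver.toBase n S) (cls hL) = cls hE := by
    rw [pull_cls, ← nonempty_iso_iff]
    exact ⟨asIso ((Scheme.Modules.pullbackPushforwardAdjunction _).counit.app E)⟩
  rw [e, ← hEc, inv_mul_cancel_right]

/-- Pic of projective space over a base: uniqueness. -/
theorem pull_mul_tw_inj [Nonempty S] (hn : 1 ≤ n) {l l' : PicLoc.PicSet S} {d d' : ℤ}
    (h : pull (CohB1.ProjSpaceOver.toBase n S) l * tw n S d =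
      pull (CohB1.ProjSpaceOver.toBase n S) l' * tw n S d') : d = d' ∧ l = l' := by
  have : IsNoetherianRing (CommRingCat.of (ULift.{u} ℤ)) :=
    isNoetherianRing_of_ringEquiv ℤ ULift.ringEquiv.{0, u}.symm
  have := flat_toSpec.{u} n
  obtain ⟨y⟩ := (inferInstance : Nonempty S)
  have hd : d = d' := by
    refine twK_injective (S.residueField y) hn ?_
    have := congrArg (pull (pointMap (n := n) (S.fromSpecResidueField y))) h
    simp only [map_mul, pull_pointMap_toBase, pull_pointMap_tw, one_mul] at this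
    exact this
  subst hd
  refine ⟨rfl, ?_⟩
  rw [mul_left_inj] at h
  obtain ⟨L, hL, rfl⟩ := PicGrp.exists_eq_cls l
  obtain ⟨L', hL', rfl⟩ := PicGrp.exists_eq_cls l'
  change pull _ (cls hL) = pull _ (cls hL') at h
  rw [pull_cls, pull_cls, ← nonempty_iso_iff] at h
  have hf := SeesawAnyBase.app_bijective (CohB1.ProjSpace.toSpec n (ULift.{u} ℤ))
    (IsPullback.of_hasPullback _ _ : IsPullback (pullback.fst _ _) (CohB1.ProjSpaceOver.toBase n S)
      (CohB1.ProjSpace.toSpec n (ULift.{u} ℤ)) (specULiftZIsTerminal.from S))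
  have := PicAux.isIso_unit_of_invertible (CohB1.ProjSpaceOver.toBase n S) hf hL
  have := PicAux.isIso_unit_of_invertible (CohB1.ProjSpaceOver.toBase n S) hf hL'
  exact (nonempty_iso_iff hL hL').1
    ⟨asIso ((Scheme.Modules.pullbackPushforwardAdjunction _).unit.app L) ≪≫
      (Scheme.Modules.pushforward _).mapIso h.some ≪≫
      (asIso ((Scheme.Modules.pullbackPushforwardAdjunction _).unit.app L')).symm⟩

theorem cls_box {L : S.Modules} (hL : PicF.IsInvertible L) (d : ℤ) :
    cls (isInvertible_tensorMod (PicLoc.isInvertible_pullback (CohB1.ProjSpaceOver.toBase n S) hL)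
      (KTheory.RegSheaf.isInvertible_twistOver n S d)) =
      pull (CohB1.ProjSpaceOver.toBase n S) (cls hL) * tw n S d := by
  rw [pull_cls, tw, ← cls_tensorMod]

/-- Every invertible module is `π^*L ⊗ O(d)`. -/
theorem exists_iso_box [PreconnectedSpace S] [Nonempty S] {N : (CohB1.ProjSpaceOver n S).Modules}
    (hN : PicF.IsInvertible N) :
    ∃ (L : S.Modules) (d : ℤ), PicF.IsInvertible L ∧ Nonempty (N ≅ CohB1.tensorMod
      ((Scheme.Modules.pullback (CohB1.ProjSpaceOver.toBase n S)).obj L) (Twist.twistOver n S d)) := by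
  obtain ⟨l, d, h⟩ := exists_eq_pull_mul_tw (cls hN)
  obtain ⟨L, hL, rfl⟩ := PicGrp.exists_eq_cls l
  refine ⟨L, d, hL, (nonempty_iso_iff hN _).2 (h.trans (cls_box hL d).symm)⟩

/-- The expression `π^*L ⊗ O(d)` is unique. -/
theorem box_inj [Nonempty S] (hn : 1 ≤ n) {L L' : S.Modules} {d d' : ℤ} (hL : PicF.IsInvertible L)
    (hL' : PicF.IsInvertible L')
    (h : Nonempty (CohB1.tensorMod ((Scheme.Modules.pullback (CohB1.ProjSpaceOver.toBase n S)).obj L)
        (Twist.twistOver n S d) ≅ CohB1.tensorMod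
        ((Scheme.Modules.pullback (CohB1.ProjSpaceOver.toBase n S)).obj L') (Twist.twistOver n S d'))) :
    d = d' ∧ Nonempty (L ≅ L') := by
  rw [nonempty_iso_iff (isInvertible_tensorMod (PicLoc.isInvertible_pullback _ hL)
    (KTheory.RegSheaf.isInvertible_twistOver n S d)) (isInvertible_tensorMod
    (PicLoc.isInvertible_pullback _ hL') (KTheory.RegSheaf.isInvertible_twistOver n S d')),
    cls_box hL d, cls_box hL' d'] at h
  obtain ⟨rfl, h'⟩ := pull_mul_tw_inj hn h
  exact ⟨rfl, (nonempty_iso_iff hL hL').2 h'⟩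

end Groth.PicAux.ProjBundlePic
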