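import Groth.Agent.PicAux.KummerAlg
import Groth.Agent.PicAux.PullTensor
import Groth.Agent.PicAux.GenLocusAffine
import Groth.Agent.RelSpecH.Gamma
import Groth.Agent.Ega2Proj2.RelSpecBasic
import Groth.Prelude.Def_Mor2
import Mathlib.RingTheory.Etale.StandardEtale
import Mathlib.AlgebraicGeometry.Morphisms.FlatRank
import Mathlib.AlgebraicGeometry.Morphisms.Etale

/-!
# The cyclic cover of a torsion invertible module
-/

universe u

open CategoryTheory AlgebraicGeometry Opposite TopologicalSpace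
open scoped Polynomial

noncomputable section

namespace Groth.PicAux

variable {X : Scheme.{u}}

theorem isUnit_toFun_of_gen {U : X.Opens} {s : Γ(Coh.structureModule X, U)}
    (hs : Gen (Coh.structureModule X) U s) : IsUnit (toFun s) := by
  obtain ⟨b, hb⟩ := hs.exists_coeff le_rfl (oneSec X U)
  rw [res_self] at hb
  have := congrArg toFun hb
  rw [toFun_oneSec, toFun_smul] at this
  exact IsUnit.of_mul_eq_one b (by rw [mul_comm]; exact this.symm)

/-- A scheme whose ring of global functions is a field is connected. -/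
theorem connectedSpace_of_isField (h : IsField (Γ(X, ⊤) : Type u)) : ConnectedSpace X := by
  have hne : Nonempty X := by
    by_contra hX
    rw [not_nonempty_iff] at hX
    obtain ⟨x, y, hxy⟩ := h.exists_pair_ne
    exact hxy (resX_ext (fun i : PEmpty.{1} => (i.elim : X.Opens)) (fun i => i.elim)
      (fun z _ => (hX.false z).elim) (fun i => i.elim))
  refine connectedSpace_iff_clopen.mpr ⟨hne, fun s hs => ?_⟩
  by_contra hcon
  push Not at hcon
  obtain ⟨⟨x, hx⟩, hsu⟩ := hcon
  obtain ⟨y, hy⟩ := (Set.ne_univ_iff_exists_notMem s).1 hsu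
  let V : Bool → X.Opens := fun b => bif b then ⟨s, hs.2⟩ else ⟨sᶜ, hs.1.isOpen_compl⟩
  let v : ∀ b, Γ(X, V b) := fun b => bif b then 0 else 1
  obtain ⟨e, he, -⟩ := resX_glue V (fun _ => le_top)
    (fun z _ => Opens.mem_iSup.2 (by
      rcases em (z ∈ s) with hz | hz
      · exact ⟨true, hz⟩
      · exact ⟨false, hz⟩)) v (fun a b => by
      by_cases hab : a = b
      · subst hab; rfl
      · refine resX_ext (fun i : PEmpty.{1} => (i.elim : X.Opens)) (fun i => i.elim) ?_ (fun i => i.elim)
        intro z hz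
        cases a <;> cases b
        · exact absurd rfl hab
        · exact absurd hz.2 hz.1
        · exact absurd hz.1 hz.2
        · exact absurd rfl hab)
  rcases eq_or_ne e 0 with rfl | hne'
  · have h1 := he false
    rw [map_zero] at h1
    have h2 := congrArg (X.presheaf.germ (V false) y hy) h1
    simp [v] at h2
  · obtain ⟨f, hf⟩ := h.mul_inv_cancel hne'
    have h1 := congrArg (resX X (le_top : V true ≤ ⊤)) hf
    rw [map_mul, he true, map_one] at h1
    have h2 := congrArg (X.presheaf.germ (V true) x hx) h1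
    simp [v] at h2

variable [IsIntegral X]

namespace KummerDatum

variable {d : ℕ} [NeZero d] (D : KummerDatum X d)

/-- The cover. -/
abbrev cover' : Scheme.{u} := D.alg.spec

/-- Functions on the cover over `V` are sections of the algebra. -/
def secEquiv (V : X.Opens) : Γ(D.cover', D.alg.π ⁻¹ᵁ V) ≃+* D.sec V :=
  haveI := Groth.RelSpecH.isIso_gammaMap D.alg
  (asIso (D.alg.gammaMap.app (op V))).commRingCatIsoToRingEquiv

theorem secEquiv_res {V W : X.Opens} (h : W ≤ V) (z : Γ(D.cover', D.alg.π ⁻¹ᵁ V)) :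
    D.secEquiv W (resX _ (D.alg.π.preimage_mono h) z) = D.secRes h (D.secEquiv V z) :=
  congr($(D.alg.gammaMap.naturality (homOfLE h).op) z)

theorem secEquiv_app (V : X.Opens) (r : Γ(X, V)) :
    D.secEquiv V (D.alg.π.app V r) = D.strHom V r :=
  congr($(NatTrans.congr_app D.alg.π_c_gammaMap (op V)) r)

/-- The chart of the cover over the `a`-th open is the spectrum of the model ring. -/
def chartIso (a : D.ι) :
    Spec (D.alg.presheaf.obj (op (D.U a))) ≅ Spec (CommRingCat.of (D.Mdl a (D.U a) le_rfl)) :=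
  asIso (Spec.map (RingEquiv.ofBijective _ (D.toSec_bijective a)).toCommRingCatIso.hom)

theorem chart_eq (a : D.ι) : Spec.map (D.alg.str.app (op (D.U a))) =
    (D.chartIso a).hom ≫
      Spec.map (CommRingCat.ofHom (algebraMap Γ(X, D.U a) (D.Mdl a (D.U a) le_rfl))) :=
  (congrArg Spec.map (CommRingCat.hom_ext (RingHom.ext fun r => (D.toSec_of a r).symm))).trans
    (Spec.map_comp _ _)

/-- A property of the cover local on the base follows from the property of the model rings. -/
theorem prop_of_model (P : MorphismProperty Scheme.{u}) [IsZariskiLocalAtTarget P]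
    (h : ∀ a : D.ι,
      P (Spec.map (CommRingCat.ofHom (algebraMap Γ(X, D.U a) (D.Mdl a (D.U a) le_rfl))))) :
    P D.alg.π := by
  refine (IsZariskiLocalAtTarget.iff_of_iSup_eq_top (P := P) D.U
    (eq_top_iff.2 fun x _ => Opens.mem_iSup.2 (D.cover x))).2 fun a => ?_
  have hp := Groth.Ega2P2.isPullback_specι D.alg (D.U a) (D.isAffine a)
  have hq := isPullback_morphismRestrict D.alg.π (D.U a)
  have key : P (Spec.map (D.alg.str.app (op (D.U a))) ≫ (D.isAffine a).isoSpec.inv) := by
    rw [P.cancel_right_of_respectsIso]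
    rw [chart_eq, P.cancel_left_of_respectsIso]
    exact h a
  rw [← hp.isoIsPullback_hom_fst _ _ hq, P.cancel_left_of_respectsIso] at key
  exact key

theorem model_free (a : D.ι) : Module.Free Γ(X, D.U a) (D.Mdl a (D.U a) le_rfl) :=
  Module.Free.of_basis (D.mdlBas a le_rfl (D.ne a))

theorem model_finite (a : D.ι) : Module.Finite Γ(X, D.U a) (D.Mdl a (D.U a) le_rfl) :=
  Module.Finite.of_basis (D.mdlBas a le_rfl (D.ne a))

theorem isFinite_π : IsFinite D.alg.π :=
  D.prop_of_model @IsFinite fun a => (IsFinite.SpecMap_iff _).2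
    (RingHom.finite_algebraMap.2 (D.model_finite a))

theorem flat_π : Flat D.alg.π :=
  D.prop_of_model @Flat fun a => Flat.SpecMap_iff.2
    (RingHom.flat_algebraMap_iff.2 (by have := D.model_free a; infer_instance))

theorem lfp_π : LocallyOfFinitePresentation D.alg.π :=
  D.prop_of_model @LocallyOfFinitePresentation fun a =>
    (HasRingHomProperty.Spec_iff (P := @LocallyOfFinitePresentation)).2
      (RingHom.finitePresentation_algebraMap.2 (by
        exact AdjoinRoot.finitePresentation _))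

theorem finrank_π (x : X) :
    haveI := D.isFinite_π; haveI := D.flat_π
    D.alg.π.finrank x = d := by
  have := D.isFinite_π
  have := D.flat_π
  obtain ⟨a, ha⟩ := D.cover x
  have := D.model_free a
  have := D.model_finite a
  have : Nonempty (D.U a) := ⟨⟨x, ha⟩⟩
  have h1 := Scheme.Hom.finrank_of_isPullback _ _ _ _
    (Groth.Ega2P2.isPullback_specι D.alg (D.U a) (D.isAffine a)).flip (⟨x, ha⟩ : D.U a)
  refine h1.symm.trans ?_
  let e := (D.chartIso a).hom
  let m := CommRingCat.ofHom (algebraMap Γ(X, D.U a) (D.Mdl a (D.U a) le_rfl))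
  have hm1 : IsFinite (Spec.map m) := (IsFinite.SpecMap_iff _).2 (RingHom.finite_algebraMap.2 inferInstance)
  have hm2 : Flat (Spec.map m) := Flat.SpecMap_iff.2 (RingHom.flat_algebraMap_iff.2 inferInstance)
  have h2 : Spec.map (D.alg.str.app (op (D.U a))) = e ≫ Spec.map m := D.chart_eq a
  have hd : ∀ q, (Spec.map m).finrank q = d := fun q => by
    refine ((Scheme.Hom.finrank_SpecMap_algebraMap _ _ q).trans
      (congrFun Module.rankAtStalk_eq_finrank_of_free q)).trans ?_
    exact (Module.finrank_eq_card_basis (D.mdlBas a le_rfl (D.ne a))).trans (Fintype.card_fin d)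
  have h3 := Scheme.Hom.finrank_of_isPullback (f := Spec.map m)
    (g := (D.isAffine a).isoSpec.hom) (fst := e)
    (snd := Spec.map (D.alg.str.app (op (D.U a))) ≫ (D.isAffine a).isoSpec.inv)
    (IsPullback.of_horiz_isIso ⟨by simp [h2]⟩) (⟨x, ha⟩ : D.U a)
  exact h3.trans (hd _)

theorem isFinLocFreeOfDeg_π : Mor2.IsFinLocFreeOfDeg d D.alg.π :=
  ⟨⟨D.isFinite_π, D.flat_π, D.lfp_π⟩, D.finrank_π⟩

theorem etale_π (hd : IsUnit ((d : ℕ) : Γ(X, ⊤))) : Etale D.alg.π :=
  D.prop_of_model @Etale fun a => by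
    refine (HasRingHomProperty.Spec_iff (P := @Etale)).2 (RingHom.etale_algebraMap.2 ?_)
    set A := Γ(X, D.U a)
    set c : A := resX X le_rfl (D.u a)
    obtain ⟨v, hv⟩ : IsUnit ((d : ℕ) : A) := by
      simpa using hd.map (resX X (le_top : D.U a ≤ ⊤))
    obtain ⟨w, hw⟩ : IsUnit c := (D.isUnit_u a).map _
    have hd0 : d ≠ 0 := NeZero.ne d
    let P : StandardEtalePair A :=
      { f := Polynomial.X ^ d - Polynomial.C c
        monic_f := Polynomial.monic_X_pow_sub_C c hd0
        g := 1
        cond := ⟨Polynomial.C ((↑v⁻¹ : A) * ↑w⁻¹) * Polynomial.X, -Polynomial.C (↑w⁻¹ : A), 0, by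
          rw [Polynomial.derivative_sub, Polynomial.derivative_C, sub_zero,
            Polynomial.derivative_X_pow, pow_zero, sub_mul,
            show Polynomial.C ((d : ℕ) : A) * Polynomial.X ^ (d - 1) *
                (Polynomial.C ((↑v⁻¹ : A) * ↑w⁻¹) * Polynomial.X) =
              Polynomial.C (↑w⁻¹ : A) * Polynomial.X ^ d by
              rw [mul_mul_mul_comm, ← map_mul, ← pow_succ, ← hv, ← mul_assoc, Units.mul_inv, one_mul]
              congr 2; omega]
          have : Polynomial.C c * Polynomial.C (↑w⁻¹ : A) = 1 := by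
            rw [← map_mul, ← hw, Units.mul_inv, map_one]
          linear_combination this⟩ }
    have hone : IsUnit (AdjoinRoot.mk P.f P.g) := by simp [P]
    exact Algebra.Etale.of_equiv (P.equivAwayAdjoinRoot.trans
      ((IsLocalization.atUnit (AdjoinRoot P.f) (Localization.Away (AdjoinRoot.mk P.f P.g)) _ hone).symm.restrictScalars A))

/-- Global sections of the algebra are constants if no smaller power has a nonzero regular section. -/
theorem strHom_top_bijective
    (hz : ∀ (i : Fin d), (i : ℕ) ≠ 0 → ∀ c : X.functionField,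
      (∀ a, c / D.g a ^ (i : ℕ) ∈ regOn (D.U a)) → c = 0) :
    Function.Bijective (D.strHom ⊤) := by
  have htop : ((⊤ : X.Opens) : Set X).Nonempty := ⟨genericPoint X, trivial⟩
  have : Nontrivial D.E := AdjoinRoot.nontrivial _ (by
    rw [Polynomial.degree_X_pow_sub_C (NeZero.pos d)]; simp [NeZero.ne d])
  refine ⟨fun r r' e => gK_injective ⊤ htop ((algebraMap X.functionField D.E).injective
    (congrFun (congrArg Subtype.val e) ⟨genericPoint X, trivial⟩)), fun f => ?_⟩
  set P := f.1 ⟨genericPoint X, trivial⟩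
  have hP : ∀ a, ∀ i, D.co a P i ∈ regOn (D.U a) := fun a => by
    refine (D.mem_R_iff a le_rfl (D.ne a) P).1 ((D.forall_loc_iff a le_rfl (D.ne a) P).1 ?_)
    intro x _
    rw [show P = f.1 ⟨x, trivial⟩ from f.2.1 _ _]
    exact f.2.2 ⟨x, trivial⟩
  have h0 : ∀ i : Fin d, (i : ℕ) ≠ 0 → D.bas.repr P i = 0 := fun i hi =>
    hz i hi _ fun a => hP a i
  obtain ⟨_, r, hr⟩ : D.bas.repr P 0 ∈ regOn (⊤ : X.Opens) := mem_regOn_of_local htop fun x _ => by
    obtain ⟨a, ha⟩ := D.cover x
    exact ⟨D.U a, ha, by simpa [co] using hP a 0⟩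
  refine ⟨r, Subtype.ext (funext fun x => ?_)⟩
  rw [f.2.1 x ⟨genericPoint X, trivial⟩]
  change algebraMap _ D.E (gK ⊤ _ r) = P
  rw [hr]
  conv_rhs => rw [← D.bas.sum_repr P]
  rw [Finset.sum_eq_single 0 (fun i _ hi => by rw [h0 i (Fin.val_ne_zero_iff.2 hi), zero_smul])
    (by simp), bas_apply, Fin.val_zero, pow_zero, Algebra.smul_def, mul_one]

theorem connectedSpace_cover (hfield : IsField (Γ(X, ⊤) : Type u))
    (hz : ∀ (i : Fin d), (i : ℕ) ≠ 0 → ∀ c : X.functionField,
      (∀ a, c / D.g a ^ (i : ℕ) ∈ regOn (D.U a)) → c = 0) : ConnectedSpace D.cover' :=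
  connectedSpace_of_isField <| MulEquiv.isField hfield
    ((D.secEquiv ⊤).toMulEquiv.trans
      (RingEquiv.ofBijective _ (D.strHom_top_bijective hz)).symm.toMulEquiv)

/-- The root over the `a`-th open, as a function on the cover. -/
def w (a : D.ι) : Γ(D.cover', D.alg.π ⁻¹ᵁ D.U a) :=
  (D.secEquiv _).symm (D.toSec a (AdjoinRoot.root _))

theorem isUnit_w (a : D.ι) : IsUnit (D.w a) := by
  refine IsUnit.map _ (IsUnit.map _ ((isUnit_pow_iff (NeZero.ne d)).1 ?_))
  have := AdjoinRoot.eval₂_root (Polynomial.X ^ d - Polynomial.C (resX X (le_refl (D.U a)) (D.u a)))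
  rw [Polynomial.eval₂_sub, Polynomial.eval₂_pow, Polynomial.eval₂_X, Polynomial.eval₂_C,
    sub_eq_zero] at this
  rw [this]
  exact ((D.isUnit_u a).map _).map _

theorem res_w {a b : D.ι} {r : Γ(X, D.U a ⊓ D.U b)}
    (hr : gK _ (inter_nonempty (D.ne a) (D.ne b)) r * D.g b = D.g a) :
    resX _ (D.alg.π.preimage_mono inf_le_left) (D.w a) =
      D.alg.π.app (D.U a ⊓ D.U b) r * resX _ (D.alg.π.preimage_mono inf_le_right) (D.w b) := by
  apply (D.secEquiv (D.U a ⊓ D.U b)).injective
  rw [map_mul, secEquiv_app, D.secEquiv_res inf_le_left, D.secEquiv_res inf_le_right, w, w, RingEquiv.apply_symm_apply,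
    RingEquiv.apply_symm_apply]
  refine Subtype.ext (funext fun x => ?_)
  change D.Φ a le_rfl _ (AdjoinRoot.root _) =
    algebraMap _ D.E (gK _ _ r) * D.Φ b le_rfl _ (AdjoinRoot.root _)
  rw [Φ, Φ, AdjoinRoot.lift_root, AdjoinRoot.lift_root, S, S, ← hr, map_mul, mul_assoc]

theorem nonempty_pullback_iso {L : X.Modules} (e : ∀ a, Γ(L, D.U a)) (he : ∀ a, Gen L (D.U a) (e a))
    (hrel : ∀ a b (r : Γ(X, D.U a ⊓ D.U b)), res L inf_le_left (e a) = r • res L inf_le_right (e b) →
      gK _ (inter_nonempty (D.ne a) (D.ne b)) r * D.g b = D.g a) :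
    Nonempty ((Scheme.Modules.pullback D.alg.π).obj L ≅ Coh.structureModule D.cover') := by
  obtain ⟨φ, -⟩ := exists_iso_of_gen (U := fun a => D.alg.π ⁻¹ᵁ D.U a)
    (eq_top_iff.2 fun z _ => Opens.mem_iSup.2 (D.cover (D.alg.π.base z)))
    (fun a => pullSec D.alg.π L (e a)) (fun a => (he a).pull D.alg.π)
    (fun a => D.w a • oneSec D.cover' (D.alg.π ⁻¹ᵁ D.U a))
    (fun a => (gen_oneSec _).smul_unit (D.isUnit_w a)) fun a b r hr => by
      obtain ⟨r0, hr0⟩ := (he b).exists_coeff (inf_le_right : D.U a ⊓ D.U b ≤ D.U b)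
        (res L inf_le_left (e a))
      have h1 := congrArg (pullSec D.alg.π L) hr0
      rw [pullSec_smul, ← res_pullSec, ← res_pullSec] at h1
      have hrr : r = D.alg.π.app (D.U a ⊓ D.U b) r0 :=
        ((he b).pull D.alg.π).smul_inj (D.alg.π.preimage_mono inf_le_right) (hr.symm.trans h1)
      rw [res_smul, res_smul, res_oneSec, res_oneSec, smul_smul, hrr]
      exact congrArg (· • _) (D.res_w (hrel a b r0 hr0))
  exact ⟨φ⟩

end KummerDatum

/-- The cyclic cover datum of a torsion invertible module. -/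
theorem exists_kummerDatum {L : X.Modules} (hL : PicF.IsInvertible L) {d : ℕ}
    (φ : CohB1.tensorPow L d ≅ Coh.structureModule X) :
    ∃ (D : KummerDatum X d) (e : ∀ a, Γ(L, D.U a)), (∀ a, Gen L (D.U a) (e a)) ∧
      ∀ a b (r : Γ(X, D.U a ⊓ D.U b)), res L inf_le_left (e a) = r • res L inf_le_right (e b) →
        gK _ (inter_nonempty (D.ne a) (D.ne b)) r * D.g b = D.g a := by
  choose U e hU hxU he using exists_affine_gen_mem hL
  have hne : ∀ x, (U x : Set X).Nonempty := fun x => ⟨x, hxU x⟩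
  let o := genericPoint X
  let uu (i : X) : Γ(X, U i) := toFun (φ.hom.app (U i) (powSec (e i) d))
  choose r hr using fun i j => (he j).exists_coeff (inf_le_right : U i ⊓ U j ≤ U j) (res L inf_le_left (e i))
  let g (i : X) : X.functionField := gK _ (inter_nonempty (hne i) (hne o)) (r i o)
  have hrat : ∀ i j (s : Γ(X, U i ⊓ U j)), res L inf_le_left (e i) = s • res L inf_le_right (e j) →
      gK _ (inter_nonempty (hne i) (hne j)) s * g j = g i := by
    intro i j s hs
    have h3 : ((U i ⊓ U j ⊓ U o : X.Opens) : Set X).Nonempty :=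
      inter_nonempty (inter_nonempty (hne i) (hne j)) (hne o)
    have e1 := congrArg (res L (inf_le_left : U i ⊓ U j ⊓ U o ≤ U i ⊓ U j)) hs
    have e2 := congrArg (res L (inf_le_inf_right (U o) inf_le_left : U i ⊓ U j ⊓ U o ≤ U i ⊓ U o)) (hr i o)
    have e3 := congrArg (res L (inf_le_inf_right (U o) inf_le_right : U i ⊓ U j ⊓ U o ≤ U j ⊓ U o)) (hr j o)
    simp only [res_smul, res_res] at e1 e2 e3
    rw [e2, e3, smul_smul] at e1
    have e4 := congrArg (gK _ h3) ((he o).smul_inj _ e1)
    rw [map_mul, gK_res _ (inter_nonempty (hne i) (hne o)), gK_res _ (inter_nonempty (hne i) (hne j)),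
      gK_res _ (inter_nonempty (hne j) (hne o))] at e4
    exact e4.symm
  have huu : ∀ i, IsUnit (uu i) := fun i => isUnit_toFun_of_gen (((he i).pow d).map φ.hom)
  have heq : ∀ i, gK _ (hne i) (uu i) = g i ^ d * gK _ (hne o) (uu o) := by
    intro i
    have h1 : resX X inf_le_left (uu i) = r i o ^ d * resX X inf_le_right (uu o) := by
      rw [← toFun_res, ← toFun_res, ← app_res, ← app_res, res_powSec, res_powSec, hr i o, powSec_smul,
        Scheme.Modules.Hom.app_smul, toFun_smul]
    have h2 := congrArg (gK _ (inter_nonempty (hne i) (hne o))) h1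
    rwa [gK_res _ (hne i), map_mul, map_pow, gK_res _ (hne o)] at h2
  refine ⟨{
      ι := X, U := U, isAffine := hU, cover := fun x => ⟨x, hxU x⟩, ne := hne
      u := uu, isUnit_u := huu, g := g, h := gK _ (hne o) (uu o), eq := heq
      g_ne := fun i => ?_
      ratio := fun a b => ⟨_, ⟨inter_nonempty (hne a) (hne b), r a b, rfl⟩, hrat a b _ (hr a b)⟩ },
    e, he, hrat⟩
  refine ((Gen.exists_unit ((he o).res (inf_le_right : U i ⊓ U o ≤ U o))
    ((he i).res (inf_le_left : U i ⊓ U o ≤ U i))).elim fun c hc => ?_)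
  have hcr : (c : Γ(X, U i ⊓ U o)) = r i o :=
    (he o).smul_inj inf_le_right (hc.symm.trans (hr i o))
  exact ((hcr ▸ c.isUnit).map (gK _ (inter_nonempty (hne i) (hne o)))).ne_zero

/-- If no power below `d` of `L` is trivial, a rational section of such a power which is regular
everywhere is zero. -/
theorem kummer_coeff_eq_zero (hfield : IsField (Γ(X, ⊤) : Type u)) {L : X.Modules} {d : ℕ}
    (D : KummerDatum X d) (e : ∀ a, Γ(L, D.U a)) (he : ∀ a, Gen L (D.U a) (e a))
    (hrel : ∀ a b (r : Γ(X, D.U a ⊓ D.U b)), res L inf_le_left (e a) = r • res L inf_le_right (e b) →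
      gK _ (inter_nonempty (D.ne a) (D.ne b)) r * D.g b = D.g a)
    {i : ℕ} (hd : 0 < d) (hi : IsEmpty (CohB1.tensorPow L i ≅ Coh.structureModule X)) {c : X.functionField}
    (hc : ∀ a, c / D.g a ^ i ∈ regOn (D.U a)) : c = 0 := by
  by_contra hc0
  have htop : ((⊤ : X.Opens) : Set X).Nonempty := ⟨genericPoint X, trivial⟩
  choose hne q hq using hc
  have hh : D.h ≠ 0 := fun h0 => by
    obtain ⟨a, -⟩ := D.cover (genericPoint X)
    have := ((D.isUnit_u a).map (gK _ (D.ne a))).ne_zero
    rw [D.eq, h0, mul_zero] at this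
    exact this rfl
  have hγ : ∀ a, gK _ (D.ne a) (q a ^ d * D.u a ^ i) = c ^ d * D.h ^ i := fun a => by
    have := D.g_ne a
    rw [map_mul, map_pow, map_pow, hq, D.eq, mul_pow, div_pow, ← pow_mul, ← pow_mul, mul_comm d i]
    field_simp
  obtain ⟨_, s, hs⟩ : c ^ d * D.h ^ i ∈ regOn (⊤ : X.Opens) := mem_regOn_of_local htop fun x _ => by
    obtain ⟨a, ha⟩ := D.cover x
    exact ⟨D.U a, ha, D.ne a, _, hγ a⟩
  have hs0 : s ≠ 0 := fun h0 =>
    mul_ne_zero (pow_ne_zero _ hc0) (pow_ne_zero _ hh) (by rw [← hs, h0, map_zero])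
  obtain ⟨s', hs'⟩ := hfield.mul_inv_cancel hs0
  have hsu : IsUnit s := IsUnit.of_mul_eq_one _ hs'
  have hqu : ∀ a, IsUnit (q a) := fun a => by
    have : q a ^ d * D.u a ^ i = resX X le_top s :=
      gK_injective _ (D.ne a) (by rw [hγ, gK_res _ htop, hs])
    exact (isUnit_pow_iff hd.ne').1 (isUnit_of_mul_isUnit_left (this ▸ hsu.map _))
  obtain ⟨ψ, -⟩ := exists_iso_of_gen (U := D.U)
    (eq_top_iff.2 fun x _ => Opens.mem_iSup.2 (D.cover x))
    (fun a => powSec (e a) i) (fun a => (he a).pow i)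
    (fun a => (((hqu a).unit⁻¹ : (Γ(X, D.U a))ˣ) : Γ(X, D.U a)) • oneSec X (D.U a))
    (fun a => (gen_oneSec _).smul_unit (Units.isUnit _)) fun a b r hr => by
      obtain ⟨r0, hr0⟩ := (he b).exists_coeff (inf_le_right : D.U a ⊓ D.U b ≤ D.U b)
        (res L inf_le_left (e a))
      have h1 : r = r0 ^ i := ((he b).pow i).smul_inj inf_le_right (by
        rw [← hr, res_powSec, res_powSec, hr0, powSec_smul])
      rw [res_smul, res_smul, res_oneSec, res_oneSec, smul_smul, h1]
      refine congrArg (· • _) (gK_injective _ (inter_nonempty (D.ne a) (D.ne b)) ?_)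
      rw [map_mul, map_pow, gK_res _ (D.ne a), gK_res _ (D.ne b)]
      have hinv : ∀ a', gK _ (D.ne a') (((hqu a').unit⁻¹ : (Γ(X, D.U a'))ˣ) : Γ(X, D.U a')) =
          (c / D.g a' ^ i)⁻¹ := fun a' => by
        refine eq_inv_of_mul_eq_one_left ?_
        rw [← hq a', ← map_mul, IsUnit.val_inv_mul, map_one]
      rw [hinv, hinv, inv_div, inv_div, ← hrel a b r0 hr0, mul_pow, mul_div_assoc]
  exact hi.false ψ

end Groth.PicAux
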