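import Groth.Agent.CohBase.Acyclic
import Groth.Agent.CohBase.GlobalSections
import Mathlib.Algebra.Homology.DerivedCategory.Ext.ExactSequences

/-!
# Exact sequences of abelian sheaves on a space, on sections and in cohomology
-/

universe u

open CategoryTheory Limits Opposite TopologicalSpace
open CategoryTheory.Abelian (Ext)

noncomputable section

namespace Groth.PicAux.AbLES

open Groth.CohBase

variable {X : TopCat.{u}}

/-- A complex exact on sections, with locally surjective second map, is short exact. -/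
theorem shortExact_of_sections (S : ShortComplex (AbSheaf X))
    (hinj : ∀ V : Opens X, Function.Injective (S.f.hom.app (op V)))
    (hex : ∀ (V : Opens X) (s : S.X₂.obj.obj (op V)), S.g.hom.app (op V) s = 0 →
      ∃ t, S.f.hom.app (op V) t = s)
    (hsurj : ∀ (W : Opens X) (q : S.X₃.obj.obj (op W)) (x : X), x ∈ W →
      ∃ (V : Opens X) (h : V ≤ W), x ∈ V ∧ ∃ s, S.g.hom.app (op V) s = res S.X₃.obj h q) :
    S.ShortExact where
  exact := by
    refine ShortComplex.exact_of_f_is_kernel _ (KernelFork.IsLimit.ofι _ _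
      (fun {T} k hk => ?_) (fun {T} k hk => ?_) (fun {T} k hk m hm => ?_))
    · have h : ∀ (V : (Opens X)ᵒᵖ) (t : T.obj.obj V), ∃ a, S.f.hom.app V a = k.hom.app V t :=
        fun V t => hex V.unop _ (congr($(congrArg (fun γ : T ⟶ S.X₃ => γ.hom.app V) hk) t))
      choose a ha using h
      have hinj' : ∀ V : (Opens X)ᵒᵖ, Function.Injective (S.f.hom.app V) := fun V => hinj V.unop
      exact ⟨{
        app := fun V => AddCommGrpCat.ofHom (AddMonoidHom.mk' (a V) fun t t' =>
          hinj' V (by rw [ha, map_add, map_add, ha, ha]))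
        naturality := fun V V' i => by
          ext t
          refine hinj' V' ?_
          change S.f.hom.app V' (a V' (T.obj.map i t)) = S.f.hom.app V' (S.X₁.obj.map i (a V t))
          rw [ha, show S.f.hom.app V' (S.X₁.obj.map i (a V t)) = S.X₂.obj.map i (S.f.hom.app V (a V t))
            from congr($(S.f.hom.naturality i) (a V t)), ha]
          exact congr($(k.hom.naturality i) t) }⟩
    · apply Sheaf.hom_ext
      ext V t
      exact Classical.choose_spec (hex V.unop _ (congr($(congrArg (fun γ : T ⟶ S.X₃ => γ.hom.app V) hk) t)))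
    · apply Sheaf.hom_ext
      ext V t
      refine hinj V.unop ?_
      refine (congr($(congrArg (fun γ : T ⟶ S.X₂ => γ.hom.app V) hm) t)).trans ?_
      exact (Classical.choose_spec
        (hex V.unop _ (congr($(congrArg (fun γ : T ⟶ S.X₃ => γ.hom.app V) hk) t)))).symm
  mono_f := by
    have : Mono S.f.hom := (NatTrans.mono_iff_mono_app _).mpr fun V =>
      (AddCommGrpCat.mono_iff_injective _).mpr (hinj V.unop)
    exact (sheafToPresheaf _ _).mono_of_mono_map (f := S.f) this
  epi_g := by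
    refine (CategoryTheory.Sheaf.isLocallySurjective_iff_epi' AddCommGrpCat.{u} S.g).mp ?_
    refine (TopCat.Presheaf.isLocallySurjective_iff S.g.hom).mpr fun W q x hx => ?_
    obtain ⟨V, h, hxV, s, hs⟩ := hsurj W q x hx
    exact ⟨V, h, ⟨s, hs⟩, hxV⟩

variable {S : ShortComplex (AbSheaf X)} (hS : S.ShortExact)

/-- The connecting map. -/
def δ (n : ℕ) : (Sheaf.H S.X₃ n : Type u) →+ (Sheaf.H S.X₁ (n + 1) : Type u) :=
  hS.extClass.postcomp _ rfl

include hS

omit hS in
theorem hmap_g_f (n : ℕ) (x : (Sheaf.H S.X₁ n : Type u)) :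
    Sheaf.H.map S.g n (Sheaf.H.map S.f n x) = 0 := by
  rw [← Sheaf.H.map_comp_apply, S.zero, Sheaf.H.map_apply, Ext.mk₀_zero, Ext.comp_zero]

theorem exists_of_hmap_g_eq_zero (n : ℕ) {x : (Sheaf.H S.X₂ n : Type u)}
    (h : Sheaf.H.map S.g n x = 0) : ∃ y, Sheaf.H.map S.f n y = x :=
  Ext.covariant_sequence_exact₂ _ hS x h

theorem δ_hmap_g (n : ℕ) (x : (Sheaf.H S.X₂ n : Type u)) : δ hS n (Sheaf.H.map S.g n x) = 0 := by
  change (Ext.comp (Ext.comp x (Ext.mk₀ S.g) (add_zero n)) hS.extClass rfl) = 0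
  rw [Ext.comp_assoc_of_second_deg_zero, hS.comp_extClass, Ext.comp_zero]

theorem exists_of_δ_eq_zero (n : ℕ) {x : (Sheaf.H S.X₃ n : Type u)} (h : δ hS n x = 0) :
    ∃ y, Sheaf.H.map S.g n y = x :=
  Ext.covariant_sequence_exact₃ _ hS x rfl h

theorem hmap_f_δ (n : ℕ) (x : (Sheaf.H S.X₃ n : Type u)) :
    Sheaf.H.map S.f (n + 1) (δ hS n x) = 0 := by
  change (Ext.comp (Ext.comp x hS.extClass rfl) (Ext.mk₀ S.f) (add_zero _)) = 0
  rw [Ext.comp_assoc_of_third_deg_zero, hS.extClass_comp, Ext.comp_zero]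

theorem exists_of_hmap_f_eq_zero (n : ℕ) {x : (Sheaf.H S.X₁ (n + 1) : Type u)}
    (h : Sheaf.H.map S.f (n + 1) x = 0) : ∃ y, δ hS n y = x :=
  Ext.covariant_sequence_exact₁ _ hS x h rfl

theorem hmap_f_zero_injective : Function.Injective (Sheaf.H.map S.f 0 : _ → (Sheaf.H S.X₂ 0 : Type u)) :=
  fun a b h => by
    refine (Sheaf.H.equiv₀ S.X₁ (isTerminalTop (α := Opens X))).injective (sections_injective hS ⊤ ?_)
    rw [Sheaf.H.equiv₀_naturality, Sheaf.H.equiv₀_naturality, h]

end Groth.PicAux.AbLES
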