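import Groth.Agent.PicAux.RigClasses

/-!
# Rigidified classes are the points of the relative Picard sheaf
-/

set_option autoImplicit false
set_option backward.isDefEq.respectTransparency.types false

universe u

open CategoryTheory CategoryTheory.Limits AlgebraicGeometry TopologicalSpace Opposite
open scoped Groth.Abvar.PicCalc
open Groth.Flatmor4.OverRep (piece pieceHom)

noncomputable section

namespace Groth.PicAux.RigPoints

open Groth.Abvar.PicCalc (pull pull_cls pull_comp pull_id cls)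
open Groth.PicCurve (RS norm norm_map norm_self XTmap_comp' XTmap_snd)
open Groth.PicAux.RigDescent

/-- An fppf cover is refined by single fppf morphisms onto the members of an open cover. -/
theorem exists_refine {S : Scheme.{u}} (T : Over S) {R : Presieve T.left}
    (hR : R ∈ Scheme.fppfPrecoverage T.left) :
    ∃ (𝒰 : Scheme.OpenCover.{u} T.left) (U : 𝒰.I₀ → Over S) (v : ∀ i, U i ⟶ piece T 𝒰 i),
      ∀ i, Flat (v i).left ∧ LocallyOfFinitePresentation (v i).left ∧ Surjective (v i).left ∧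
        ∃ (W : Scheme.{u}) (u : W ⟶ T.left) (_ : R u) (j : U i ⟶ AbDual.ovr T u),
          j ≫ AbDual.ovrHom T u = v i ≫ pieceHom T 𝒰 i := by
  have ex : ∀ t : T.left, ∃ (U : Scheme.{u}) (u : U ⟶ T.left) (z : U), R u ∧ Flat u ∧
      LocallyOfFinitePresentation u ∧ u z = t := by
    intro t
    obtain ⟨ι, U, g, rfl⟩ := R.exists_eq_ofArrows
    obtain ⟨h₁, h₂⟩ := (Scheme.ofArrows_mem_precoverage_iff _).mp hR
    obtain ⟨j, z, hz⟩ := h₁ t
    exact ⟨U j, g j, z, ⟨j⟩, (h₂ j).1, (h₂ j).2, hz⟩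
  choose W u z hu hfl hlfp hz using ex
  let V : T.left → T.left.Opens := fun t =>
    ⟨Set.range (u t), haveI := hfl t; haveI := hlfp t; (u t).isOpenMap.isOpen_range⟩
  have hV : IsOpenCover V := eq_top_iff.2 fun t _ => Opens.mem_iSup.2 ⟨t, z t, hz t⟩
  let 𝒰 := T.left.openCoverOfIsOpenCover V hV
  refine ⟨𝒰, fun t => AbDual.ovr (piece T 𝒰 t) ((u t) ∣_ V t),
    fun t => AbDual.ovrHom (piece T 𝒰 t) ((u t) ∣_ V t), fun t => ?_⟩
  have := hfl t
  have := hlfp t
  refine ⟨IsZariskiLocalAtTarget.restrict (P := @Flat) (hfl t) (V t),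
    IsZariskiLocalAtTarget.restrict (P := @LocallyOfFinitePresentation) (hlfp t) (V t), ⟨fun y => ?_⟩,
    W t, u t, hu t, Over.homMk (u t ⁻¹ᵁ V t).ι ?_, Over.OverMorphism.ext ?_⟩
  · obtain ⟨w, hw⟩ := y.2
    refine ⟨⟨w, show u t w ∈ V t from ⟨w, rfl⟩⟩, Subtype.ext ?_⟩
    exact (congr(($(morphismRestrict_ι (u t) (V t))) ⟨w, show u t w ∈ V t from ⟨w, rfl⟩⟩)).trans hw
  · show (u t ⁻¹ᵁ V t).ι ≫ u t ≫ T.hom = (u t ∣_ V t) ≫ (V t).ι ≫ T.hom
    rw [morphismRestrict_ι_assoc]
  · exact (morphismRestrict_ι (u t) (V t)).symm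

variable {X S : Scheme.{u}} {f : X ⟶ S} {σ : S ⟶ X} {hσ : σ ≫ f = 𝟙 S}
  {P : Over S} {φ : ∀ T : Over S, PicF.Cl (PicF.XT f T) → (T ⟶ P)}
  (hP : AbDual.IsRelPicK Scheme.fppfPrecoverage f P φ)

/-- The value of `φ` on an invertible class. -/
abbrev phi (φ : ∀ T : Over S, PicF.Cl (PicF.XT f T) → (T ⟶ P)) (T : Over S)
    (c : PicLoc.PicSet (PicF.XT f T)) : T ⟶ P := φ T c.1

include hP in
theorem phi_pull {T T' : Over S} (g : T' ⟶ T) (c : PicLoc.PicSet (PicF.XT f T)) :
    phi φ T' (pull (PicF.XTmap f g) c) = g ≫ phi φ T c :=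
  hP.natural T T' g c.1 c.2

include hP in
theorem phi_map {T T' : Over S} (g : T' ⟶ T) (c : RS f σ hσ T) :
    phi φ T' (c.map g).1 = g ≫ phi φ T c.1 := phi_pull hP g c.1

theorem hom_ext_pieces {T : Over S} (𝒰 : Scheme.OpenCover.{u} T.left) {a b : T ⟶ P}
    (h : ∀ i, pieceHom T 𝒰 i ≫ a = pieceHom T 𝒰 i ≫ b) : a = b :=
  Over.OverMorphism.ext (Scheme.Cover.hom_ext 𝒰 _ _ fun i => congrArg (fun m => m.left) (h i))

include hP in
/-- Normalisation does not change the point. -/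
theorem phi_norm (T : Over S) (c : PicLoc.PicSet (PicF.XT f T)) :
    phi φ T (norm f σ hσ T c).1 = phi φ T c := by
  obtain ⟨M, hM, hMe⟩ := PicGrp.exists_eq_cls (pull (PicF.secT f σ hσ T) c)
  have hM' := hM
  choose V hyV hV using hM'
  have hcov : IsOpenCover V := eq_top_iff.2 fun t _ => Opens.mem_iSup.2 ⟨t, hyV t⟩
  refine hom_ext_pieces (T.left.openCoverOfIsOpenCover V hcov) fun i => ?_
  rw [← phi_pull hP, ← phi_pull hP]
  refine congrArg (phi φ _) ?_
  have h1 : pull (V i).ι (pull (PicF.secT f σ hσ T) c) = 1 := by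
    obtain ⟨e⟩ := hV i
    rw [hMe, pull_cls, ← Abvar.PicCalc.nonempty_iso_structure_iff]
    exact ⟨(Scheme.Modules.restrictFunctorIsoPullback (V i).ι).symm.app M ≪≫ e⟩
  show pull _ (c * _) = _
  rw [map_mul, map_inv, ← pull_comp, XTmap_snd, pull_comp,
    show pull (pieceHom T (T.left.openCoverOfIsOpenCover V hcov) i).left
      (pull (PicF.secT f σ hσ T) c) = 1 from h1, map_one, inv_one, mul_one]

variable (hc : PicCurve.ConstFun f)

include hP hc in
/-- Rigidified classes with the same point are equal. -/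
theorem phi_injective (T : Over S) : Function.Injective (fun c : RS f σ hσ T => phi φ T c.1) := by
  intro c d h
  obtain ⟨R, hR, hRu⟩ := hP.locallyInjective T c.1.1 d.1.1 c.1.2 d.1.2 h
  obtain ⟨𝒰, U, v, hv⟩ := exists_refine T hR
  refine PicCurve.ext_of_cover hc 𝒰 fun i => ?_
  obtain ⟨_, _, _, W, u, hu, j, hj⟩ := hv i
  refine map_injective (v i) (mem_fpqc_XTmap (v i)) (hc _ ⊤) ?_
  have e : c.map (AbDual.ovrHom T u) = d.map (AbDual.ovrHom T u) :=
    Subtype.ext (Subtype.ext (hRu u hu))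
  show (c.map _).map _ = (d.map _).map _
  rw [PicCurve.map_map, PicCurve.map_map, ← hj, ← PicCurve.map_map, e, PicCurve.map_map]

include hP hc in
/-- Every point comes from a rigidified class. -/
theorem phi_surjective (T : Over S) : Function.Surjective (fun c : RS f σ hσ T => phi φ T c.1) := by
  intro g
  obtain ⟨R, hR, hRu⟩ := hP.locallySurjective T g
  obtain ⟨𝒰, U, v, hv⟩ := exists_refine T hR
  have hloc : ∀ i, ∃ c : RS f σ hσ (piece T 𝒰 i), phi φ _ c.1 = pieceHom T 𝒰 i ≫ g := by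
    intro i
    obtain ⟨_, _, _, W, u, hu, j, hj⟩ := hv i
    obtain ⟨a, ha, hag⟩ := hRu u hu
    obtain ⟨c', hc'⟩ : ∃ c' : RS f σ hσ (U i), phi φ (U i) c'.1 = v i ≫ pieceHom T 𝒰 i ≫ g := by
      refine ⟨(norm f σ hσ (AbDual.ovr T u) ⟨a, ha⟩).map j, ?_⟩
      rw [phi_map hP, phi_norm hP, ← Category.assoc, ← hj, Category.assoc]
      exact congrArg (j ≫ ·) hag
    obtain ⟨c, hcv⟩ := exists_map_eq (v i) (mem_fpqc_XTmap (v i)) (hc _ ⊤) (hc _ ⊤) c'
      (phi_injective hP hc _ (by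
        show phi φ _ (c'.map (pr₁ (v i))).1 = phi φ _ (c'.map (pr₂ (v i))).1
        rw [phi_map hP, phi_map hP, hc', ← Category.assoc, pr_condition, Category.assoc]))
    refine ⟨c, ?_⟩
    have : Epi (v i).left := Flat.epi_of_flat_of_surjective _
    rw [← hcv, phi_map hP] at hc'
    exact Over.OverMorphism.ext ((cancel_epi (v i).left).1 (congrArg (fun m => m.left) hc'))
  choose c hc' using hloc
  obtain ⟨d, hd⟩ := PicCurve.exists_of_cover hc 𝒰 c fun i k W p q e => phi_injective hP hc W (by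
    show phi φ _ ((c i).map p).1 = phi φ _ ((c k).map q).1
    rw [phi_map hP, phi_map hP, hc', hc', ← Category.assoc, e, Category.assoc])
  refine ⟨d, hom_ext_pieces 𝒰 fun i => ?_⟩
  show pieceHom T 𝒰 i ≫ phi φ T d.1 = _
  rw [← phi_map hP, hd i, hc']

include hP in
/-- Rigidified classes are the points of the relative Picard scheme. -/
theorem rig_bijective (ha : ∀ (T : Over S) (U : T.left.Opens), IsIso ((PicF.XTproj f T).app U))
    (T : Over S) : Function.Bijective (fun c : PicF.Rig f σ hσ T => φ T c.1) := by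
  have hc : PicCurve.ConstFun f := fun T V =>
    haveI := ha T V
    ConcreteCategory.bijective_of_isIso ((PicF.XTproj f T).app V)
  refine ⟨fun c d h => ?_, fun g => ?_⟩
  · exact congrArg ofRS (phi_injective hP hc T (a₁ := toRS c) (a₂ := toRS d) h)
  · obtain ⟨c, hc⟩ := phi_surjective (σ := σ) (hσ := hσ) hP hc T g
    exact ⟨ofRS c, hc⟩

end Groth.PicAux.RigPoints
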