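import Groth.Agent.PicAux.MeroDivOps
import Groth.Agent.Divisors.AssocNzd
import Groth.Agent.LocCohBase.DepthLocal
import Groth.Agent.LocCohBase.CM
import Mathlib.RingTheory.KrullDimension.Zero
import Mathlib.RingTheory.Ideal.MinimalPrime.Localization

/-!
# Effectivity of divisors is checked in depth one
-/

universe u

open CategoryTheory AlgebraicGeometry Opposite TopologicalSpace
open scoped Pointwise

namespace Groth.PicAux

section Algebra

variable {A : Type u} [CommRing A] [IsLocalRing A] [IsNoetherianRing A]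

theorem depth_eq_one_of_socle {b z : A} (hb : b ∈ IsLocalRing.maximalIdeal A)
    (hreg : IsSMulRegular A b) (hz : ¬ b ∣ z)
    (hzm : ∀ r ∈ IsLocalRing.maximalIdeal A, b ∣ r * z) : LocCoh.depth A A = 1 := by
  have hI : IsLocalRing.maximalIdeal A ≠ ⊤ := (IsLocalRing.maximalIdeal.isMaximal A).ne_top
  have hIM := Groth.LocCohBase.smul_maximalIdeal_ne_top (R := A) A hI
  have h0 : LocCoh.idealDepth (IsLocalRing.maximalIdeal A) (QuotSMulTop b A) = 0 := by
    by_contra h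
    obtain ⟨r, hr, hrreg⟩ := Groth.LocCohBase.exists_regular_of_one_le
      (Groth.LocCohBase.smul_top_quotSMulTop_ne_top hb hIM) (Order.one_le_iff_pos.2 (pos_iff_ne_zero.2 h))
    have e1 : (Submodule.Quotient.mk z : QuotSMulTop b A) = 0 := by
      refine hrreg.right_eq_zero_of_smul ?_
      rw [← Submodule.Quotient.mk_smul, Submodule.Quotient.mk_eq_zero,
        Submodule.mem_smul_pointwise_iff_exists]
      obtain ⟨c, hc⟩ := hzm r hr
      exact ⟨c, trivial, hc.symm⟩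
    rw [Submodule.Quotient.mk_eq_zero, Submodule.mem_smul_pointwise_iff_exists] at e1
    obtain ⟨c, -, hc⟩ := e1
    exact hz ⟨c, hc.symm⟩
  rw [LocCoh.depth, ← Groth.LocCohBase.idealDepth_quotSMulTop_add_one _ A hIM hb hreg, h0, zero_add]

theorem one_le_depth_of_regular {b : A} (hb : b ∈ IsLocalRing.maximalIdeal A)
    (hreg : IsSMulRegular A b) : (1 : ℕ∞) ≤ LocCoh.depth A A := by
  have hI : IsLocalRing.maximalIdeal A ≠ ⊤ := (IsLocalRing.maximalIdeal.isMaximal A).ne_top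
  rw [LocCoh.depth, ← Groth.LocCohBase.idealDepth_quotSMulTop_add_one _ A
    (Groth.LocCohBase.smul_maximalIdeal_ne_top (R := A) A hI) hb hreg]
  exact le_add_self

omit [IsNoetherianRing A] in
theorem one_le_dim_of_regular {b : A} (hb : b ∈ IsLocalRing.maximalIdeal A)
    (hreg : b ∈ nonZeroDivisors A) : (1 : WithBot ℕ∞) ≤ ringKrullDim A := by
  by_contra hd
  have h0 : ringKrullDim A ≤ 0 := by
    obtain ⟨n, hn⟩ := WithBot.ne_bot_iff_exists.mp
      (lt_of_lt_of_le (WithBot.bot_lt_coe (0 : ℕ∞)) (ringKrullDim_nonneg_of_nontrivial (R := A))).ne'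
    rw [← hn] at hd ⊢
    norm_cast at hd ⊢
    exact ENat.lt_one_iff_eq_zero.1 (not_le.1 hd) |>.le
  have : Ring.KrullDimLE 0 A := Ring.krullDimLE_iff.mpr h0
  have hmin : IsLocalRing.maximalIdeal A ∈ minimalPrimes A :=
    Ideal.mem_minimalPrimes_of_krullDimLE_zero _
  exact Set.disjoint_left.mp (Ideal.disjoint_nonZeroDivisors_of_mem_minimalPrimes hmin) hb hreg

end Algebra

variable {X : Scheme.{u}}

theorem germ_mem_nzd {U : X.Opens} (f : (Γ(Mero.kmod X, U))ˣ) {a : Γ(X, U)} {b : Mero.regSub X U}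
    (hab : (f : Γ(Mero.kmod X, U)) = kfr a b) : a ∈ Mero.regSub X U := fun y => by
  obtain ⟨V, hV, a', b', hyV, hab'⟩ :=
    exists_kfr ((f⁻¹ : (Γ(Mero.kmod X, U))ˣ) : Γ(Mero.kmod X, U)) y.1 y.2
  have h1 : (f : Γ(Mero.kmod X, U)).1 y * ((f⁻¹ : (Γ(Mero.kmod X, U))ˣ) : Γ(Mero.kmod X, U)).1 y = 1 := by
    rw [← Mero.kmod_mul_apply, Units.mul_inv]
    rfl
  have e1 : ((f⁻¹ : (Γ(Mero.kmod X, U))ˣ) : Γ(Mero.kmod X, U)).1 y = (kfr a' b').1 ⟨y.1, hyV⟩ := by
    rw [← hab']; rfl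
  rw [hab, e1] at h1
  have h2 : X.presheaf.germ U y.1 y.2 a * X.presheaf.germ V y.1 hyV a' =
      X.presheaf.germ U y.1 y.2 b.1 * X.presheaf.germ V y.1 hyV b'.1 := by
    refine toKStalk_injective y.1 ?_
    rw [map_mul, map_mul, ← kfr_mul_toKStalk a b y, ← kfr_mul_toKStalk a' b' ⟨y.1, hyV⟩,
      mul_mul_mul_comm, h1, one_mul]
  have h3 := Submonoid.mul_mem _ (b.2 y) (b'.2 ⟨y.1, hyV⟩)
  rw [← h2] at h3
  exact (mul_mem_nonZeroDivisors.1 h3).1

/-- Near every point a divisor is a quotient of two regular functions. -/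
theorem exists_frac_rep (D : Mero.Divisor X) (x : X) :
    ∃ (W : X.affineOpens) (a b : Mero.regSub X W.1), x ∈ W.1 ∧
      ∀ y : (W.1 : X.Opens), D.1 y.1 = Mero.germOf (regUnit a * (regUnit b)⁻¹) y := by
  obtain ⟨U, hxU, f, hf⟩ := exists_rep D x
  obtain ⟨V, hV, a, b, hxV, hab⟩ := exists_kfr (f : Γ(Mero.kmod X, U)) x hxU
  obtain ⟨_, ⟨W, hW, rfl⟩, hxW, hWV⟩ := X.isBasis_affineOpens.exists_subset_of_mem_open hxV V.2
  have hWV' : W ≤ V := hWV
  have ha : a ∈ Mero.regSub X V := germ_mem_nzd (resU hV f) hab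
  refine ⟨⟨W, hW⟩, ⟨resX X hWV' a, Mero.regSub_res _ ha⟩, ⟨resX X hWV' b.1, Mero.regSub_res _ b.2⟩,
    hxW, fun y => (hf ⟨y.1, (hWV'.trans hV) y.2⟩).trans ((germOf_resU (hWV'.trans hV) f y).symm.trans ?_)⟩
  congr 1
  refine Units.ext ?_
  rw [Units.val_mul, Units.eq_mul_inv_iff_mul_eq, resU_coe, ← res_res hV hWV', hab]
  change res (Mero.kmod X) hWV' (kfr a b) * Mero.toK X W (resX X hWV' b.1) =
    Mero.toK X W (resX X hWV' a)
  rw [← res_toK, ← res_toK, ← kfr_mul_toK a b]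
  exact (map_mul ((Mero.kring X).obj.map (homOfLE hWV').op).hom _ _).symm

theorem germOf_frac {U : X.Opens} (a b : Mero.regSub X U) (y : U) :
    Mero.germOf (regUnit a * (regUnit b)⁻¹) y =
      QuotientGroup.mk ((isUnit_toKStalk (Mero.regGerm y a)).unit *
        (isUnit_toKStalk (Mero.regGerm y b)).unit⁻¹) := by
  rw [germOf_mul, germOf_regUnit, QuotientGroup.mk_mul]
  congr 1
  rw [QuotientGroup.mk_inv, ← germOf_regUnit b y, Mero.germOf, Mero.germOf, map_inv,
    QuotientGroup.mk_inv]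

variable [IsLocallyNoetherian X]

theorem regStalk_eq (x : X) : Mero.regStalk X x = nonZeroDivisors (X.presheaf.stalk x) := by
  refine le_antisymm (Mero.regStalk_le_nonZeroDivisors x) fun g hg => ?_
  obtain ⟨U, hx, t, ht, e⟩ := Groth.Divisors.exists_isNzdSec_of_germ g hg
  exact ⟨U, hx, t, fun y => ht y.1 y.2, e⟩

/-- Effectivity at a point in terms of a fraction. -/
theorem isEffectiveAt_iff {D : Mero.Divisor X} {U : X.Opens} {a b : Mero.regSub X U}
    (hD : ∀ y : U, D.1 y.1 = Mero.germOf (regUnit a * (regUnit b)⁻¹) y) (y : U) :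
    Mero.IsEffectiveAt D y.1 ↔
      X.presheaf.germ U y.1 y.2 b.1 ∣ X.presheaf.germ U y.1 y.2 a.1 := by
  rw [Mero.IsEffectiveAt, hD y, germOf_frac]
  constructor
  · rintro ⟨c, hc⟩
    obtain ⟨v, hv⟩ := QuotientGroup.eq.1 hc.symm
    refine ⟨(c : X.presheaf.stalk y.1) * (v : (X.presheaf.stalk y.1)ˣ), toKStalk_injective _ ?_⟩
    have h1 := congrArg Units.val (eq_mul_inv_iff_mul_eq.1 (eq_inv_mul_iff_mul_eq.1 hv))
    simp only [Units.val_mul, IsUnit.unit_spec] at h1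
    rw [map_mul, map_mul]
    exact h1.symm.trans (mul_comm _ _)
  · rintro ⟨c, hc⟩
    have hmem : c ∈ Mero.regStalk X y.1 := by
      rw [regStalk_eq]
      exact (mul_mem_nonZeroDivisors.1 (hc ▸ a.2 y)).2
    refine ⟨⟨c, hmem⟩, QuotientGroup.eq.2 ⟨1, ?_⟩⟩
    rw [map_one, eq_inv_mul_iff_mul_eq, mul_one, mul_inv_eq_iff_eq_mul]
    refine Units.ext ?_
    simp only [Units.val_mul, IsUnit.unit_spec]
    change toKStalk y.1 _ = toKStalk y.1 c * toKStalk y.1 _
    rw [← map_mul, mul_comm]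
    exact congrArg _ hc

/-- A non effective point generises to a non effective point of depth one. -/
theorem exists_depth_one_not_effective (D : Mero.Divisor X) (x : X) (h : ¬ Mero.IsEffectiveAt D x) :
    ∃ y : X, y ⤳ x ∧ LocCoh.depth (X.presheaf.stalk y) (X.presheaf.stalk y) = 1 ∧
      ¬ Mero.IsEffectiveAt D y := by
  obtain ⟨⟨W, hW⟩, a, b, hxW, hD⟩ := exists_frac_rep D x
  have : IsNoetherianRing Γ(X, W) := IsLocallyNoetherian.component_noetherian ⟨W, hW⟩
  let R := Γ(X, W)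
  let P := hW.primeIdealOf ⟨x, hxW⟩
  have hPx : hW.fromSpec P = x := hW.fromSpec_primeIdealOf ⟨x, hxW⟩
  let M := Γ(X, W) ⧸ Ideal.span {b.1}
  let N := Submodule.span Γ(X, W) {(Submodule.Quotient.mk a.1 : M)}
  have hJ : ∀ s : Γ(X, W), s ∈ Module.annihilator Γ(X, W) N ↔ b.1 ∣ s * a.1 := fun s => by
    rw [Submodule.mem_annihilator_span_singleton, ← Submodule.Quotient.mk_smul,
      Submodule.Quotient.mk_eq_zero, Ideal.mem_span_singleton, smul_eq_mul]
  have hJP : Module.annihilator Γ(X, W) N ≤ P.asIdeal := by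
    intro s hs
    by_contra hsP
    refine h ?_
    rw [← hPx]
    have hy : hW.fromSpec P ∈ W := hPx.symm ▸ hxW
    refine (isEffectiveAt_iff hD ⟨_, hy⟩).2 ?_
    obtain ⟨c, hc⟩ := (hJ s).1 hs
    let _ : Algebra Γ(X, W) (X.presheaf.stalk (hW.fromSpec P)) :=
      TopCat.Presheaf.algebra_section_stalk X.presheaf (⟨_, hy⟩ : W)
    have : IsLocalization.AtPrime (X.presheaf.stalk (hW.fromSpec P)) P.asIdeal :=
      hW.isLocalization_stalk' P hy
    obtain ⟨u, hu⟩ := IsLocalization.map_units (X.presheaf.stalk (hW.fromSpec P))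
      (⟨s, hsP⟩ : P.asIdeal.primeCompl)
    have h1 := congrArg (algebraMap Γ(X, W) (X.presheaf.stalk (hW.fromSpec P))) hc
    rw [map_mul, map_mul, ← hu, mul_comm] at h1
    exact (IsUnit.dvd_mul_right u.isUnit).1 ⟨_, h1⟩
  obtain ⟨q, hq, hqP⟩ := Ideal.exists_minimalPrimes_le hJP
  have hqass : q ∈ associatedPrimes Γ(X, W) N :=
    Module.associatedPrimes.minimalPrimes_annihilator_subset_associatedPrimes Γ(X, W) N hq
  have hqp := hqass.isPrime
  obtain ⟨-, ⟨z', hz'N⟩, hz⟩ := isAssociatedPrime_iff.1 hqass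
  obtain ⟨z, rfl⟩ := Submodule.Quotient.mk_surjective _ z'
  have hzq : ∀ r : Γ(X, W), r ∈ q ↔ b.1 ∣ r * z := fun r => by
    rw [hz, Submodule.mem_colon_singleton, Submodule.mem_bot, Subtype.ext_iff]
    change r • (Submodule.Quotient.mk z : M) = 0 ↔ _
    rw [← Submodule.Quotient.mk_smul, Submodule.Quotient.mk_eq_zero, Ideal.mem_span_singleton,
      smul_eq_mul]
  let Q : PrimeSpectrum Γ(X, W) := ⟨q, hqp⟩
  let y : X := hW.fromSpec Q
  have hy : y ∈ W := hW.range_fromSpec.le ⟨Q, rfl⟩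
  let _ : Algebra Γ(X, W) (X.presheaf.stalk y) :=
    TopCat.Presheaf.algebra_section_stalk X.presheaf (⟨y, hy⟩ : W)
  have : IsLocalization.AtPrime (X.presheaf.stalk y) q := hW.isLocalization_stalk' Q hy
  let L := X.presheaf.stalk y
  have hcancel : ∀ (s : Γ(X, W)) (w : Γ(X, W)), s ∉ q → algebraMap _ L b.1 ∣ algebraMap _ L w →
      ∃ s' ∉ q, b.1 ∣ s' * w := by
    intro _ w _ ⟨c, hc⟩
    obtain ⟨⟨c₀, t⟩, ht⟩ := IsLocalization.surj q.primeCompl c
    have : algebraMap _ L ((t : Γ(X, W)) * w) = algebraMap _ L (b.1 * c₀) := by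
      rw [map_mul, map_mul, hc, ← ht]; ring
    obtain ⟨t', ht'⟩ := (IsLocalization.eq_iff_exists q.primeCompl L).1 this
    exact ⟨t' * t, (t' * t).2, (t' : Γ(X, W)) * c₀, by
      rw [mul_assoc, ht', mul_left_comm]⟩
  refine ⟨y, ?_, ?_, fun heff => ?_⟩
  · rw [← hPx]
    exact ((PrimeSpectrum.le_iff_specializes Q P).1 hqP).map hW.fromSpec.continuous
  · have hbq : b.1 ∈ q := (hzq b.1).2 (dvd_mul_right _ _)
    refine depth_eq_one_of_socle (b := algebraMap _ L b.1) (z := algebraMap _ L z) ?_ ?_ ?_ ?_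
    · exact ((IsLocalization.AtPrime.to_map_mem_maximal_iff L q b.1).2 hbq)
    · exact isSMulRegular_iff_right_eq_zero_of_smul.2 fun r hr =>
        mem_nonZeroDivisors_iff_right.1 (b.2 ⟨y, hy⟩) r ((mul_comm _ _).trans hr)
    · intro hdvd
      obtain ⟨s, hs, hsd⟩ := hcancel 1 z (fun h1 => hqp.ne_top (Ideal.eq_top_iff_one _ |>.2 h1)) hdvd
      exact hs ((hzq s).2 hsd)
    · intro r hr
      obtain ⟨⟨r₀, t⟩, ht⟩ := IsLocalization.surj q.primeCompl r
      obtain ⟨u, hu⟩ := IsLocalization.map_units L t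
      have hr₀ : r₀ ∈ q := by
        refine (IsLocalization.AtPrime.to_map_mem_maximal_iff L q r₀).1 ?_
        rw [← ht]
        exact Ideal.mul_mem_right _ _ hr
      obtain ⟨c, hc⟩ := (hzq r₀).1 hr₀
      have h1 := congrArg (algebraMap Γ(X, W) L) hc
      rw [map_mul, map_mul, ← ht, ← hu, mul_right_comm] at h1
      exact (IsUnit.dvd_mul_right u.isUnit).1 ⟨_, h1⟩
  · obtain ⟨s, hs, hsd⟩ := hcancel 1 a.1 (fun h1 => hqp.ne_top (Ideal.eq_top_iff_one _ |>.2 h1))
      ((isEffectiveAt_iff hD ⟨y, hy⟩).1 heff)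
    exact hs (hq.1.2 ((hJ s).2 hsd))

/-- A divisor effective together with its inverse is trivial. -/
theorem eq_one_of_effectiveAt_inv {D : Mero.Divisor X} {x : X} (h : Mero.IsEffectiveAt D x)
    (h' : Mero.IsEffectiveAt D⁻¹ x) : D.1 x = 1 := by
  obtain ⟨c, hc⟩ := h
  obtain ⟨c', hc'⟩ := h'
  have h1 : (QuotientGroup.mk ((isUnit_toKStalk c).unit * (isUnit_toKStalk c').unit) :
      Mero.Germ X x) = 1 := by
    rw [QuotientGroup.mk_mul, ← hc, ← hc']
    exact mul_inv_cancel (D.1 x)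
  obtain ⟨v, hv⟩ := (QuotientGroup.eq_one_iff _).1 h1
  have h2 : (c : X.presheaf.stalk x) * c' = v := toKStalk_injective x (by
    rw [map_mul]
    have := congrArg Units.val hv
    simp only [Units.val_mul, IsUnit.unit_spec] at this
    exact this.symm)
  have hcu : IsUnit (c : X.presheaf.stalk x) := (IsUnit.mul_iff.1 (h2 ▸ v.isUnit)).1
  rw [hc]
  exact (QuotientGroup.eq_one_iff _).2 ⟨hcu.unit, Units.ext rfl⟩

theorem effectiveAt_one (x : X) : Mero.IsEffectiveAt (1 : Mero.Divisor X) x :=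
  ⟨1, ((QuotientGroup.eq_one_iff _).2 (show _ ∈ Mero.stalkUnits X x from ⟨1, Units.ext (by simp)⟩)).symm⟩

/-- A point of the support carries a regular non unit. -/
theorem exists_regular_nonunit {D : Mero.Divisor X} {x : X} (hx : x ∈ Mero.supp D) :
    ∃ c ∈ nonZeroDivisors (X.presheaf.stalk x), c ∈ IsLocalRing.maximalIdeal (X.presheaf.stalk x) := by
  by_contra hne
  push_neg at hne
  have hu : ∀ c ∈ nonZeroDivisors (X.presheaf.stalk x), IsUnit c := fun c hc => by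
    by_contra h
    exact hne c hc h
  refine hx ?_
  obtain ⟨W, a, b, hxW, hD⟩ := exists_frac_rep D x
  have ha := hu _ (a.2 ⟨x, hxW⟩)
  have hb := hu _ (b.2 ⟨x, hxW⟩)
  rw [hD ⟨x, hxW⟩, germOf_frac, QuotientGroup.eq_one_iff]
  exact ⟨ha.unit * hb.unit⁻¹, by
    rw [map_mul, map_inv]
    congr 1
    · exact Units.ext rfl
    · exact congrArg (·⁻¹) (Units.ext rfl)⟩

end Groth.PicAux
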