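import Groth.Agent.PicAux.CechOne
import Groth.Agent.PicAux.PicLaw
import Groth.Agent.PicAux.TensorLift
import Groth.Prelude.Def_UnitsSh
import Groth.Prelude.Def_PicGrp
import Mathlib.GroupTheory.QuotientGroup.Basic

/-!
# `Pic X = H¹(X, O^×)`

Both groups are cokernels of `J(X) → Q(X)` for an injective presentation `0 → O^× → J → Q → 0`.
-/

universe u

open CategoryTheory Limits AlgebraicGeometry Opposite TopologicalSpace
open CategoryTheory.Abelian (Ext)

noncomputable section

namespace Groth.PicAux.PicH1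

open Groth.PicAux

variable (X : Scheme.{u})

/-- The injective presentation of the units. -/
abbrev SU : ShortComplex (CohBase.AbSheaf X.toTopCat) :=
  CohBase.injPres (X := X.toTopCat) (UnitsSh.unitsAb X)

/-- The surjection of the presentation on sections. -/
abbrev bU (W : X.Opens) : (SU X).X₂.obj.obj (op W) →+ (SU X).X₃.obj.obj (op W) :=
  ((SU X).g.hom.app (op W)).hom

/-- Restriction in the quotient. -/
abbrev resQ {V W : X.Opens} (h : V ≤ W) : (SU X).X₃.obj.obj (op W) →+ (SU X).X₃.obj.obj (op V) :=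
  CohBase.res (X := X.toTopCat) (SU X).X₃.obj h

/-- Restriction in the injective sheaf. -/
abbrev resJ {V W : X.Opens} (h : V ≤ W) : (SU X).X₂.obj.obj (op W) →+ (SU X).X₂.obj.obj (op V) :=
  CohBase.res (X := X.toTopCat) (SU X).X₂.obj h

variable {X}

/-- A unit as a section of the injective sheaf. -/
def jl {W : X.Opens} (a : Γ(X, W)ˣ) : (SU X).X₂.obj.obj (op W) :=
  (SU X).f.hom.app (op W) (UnitsSh.sectOfUnit (O := X.presheaf) a)

theorem jl_mul {W : X.Opens} (a b : Γ(X, W)ˣ) : jl (a * b) = jl a + jl b :=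
  ((SU X).f.hom.app (op W)).hom.map_add (UnitsSh.sectOfUnit (O := X.presheaf) a)
    (UnitsSh.sectOfUnit (O := X.presheaf) b)

theorem jl_res {V W : X.Opens} (h : V ≤ W) (a : Γ(X, W)ˣ) :
    resJ X h (jl a) = jl (Units.map (resX X h).toMonoidHom a) :=
  ((CohBase.res_naturality (X := X.toTopCat) _ (SU X).f.hom h
    (UnitsSh.sectOfUnit (O := X.presheaf) a))).symm

theorem jl_injective {W : X.Opens} : Function.Injective (jl (X := X) (W := W)) :=
  (CohBase.sections_injective (CohBase.injPres_shortExact (X := X.toTopCat) _) W).comp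
    Additive.ofMul.injective

theorem bU_jl {W : X.Opens} (a : Γ(X, W)ˣ) : bU X W (jl a) = 0 :=
  (CohBase.sections_exact (CohBase.injPres_shortExact (X := X.toTopCat) _) W).apply_apply_eq_zero _

theorem exists_jl {W : X.Opens} {s : (SU X).X₂.obj.obj (op W)} (hs : bU X W s = 0) :
    ∃ a, jl a = s := by
  obtain ⟨z, hz⟩ :=
    (CohBase.sections_exact (CohBase.injPres_shortExact (X := X.toTopCat) _) W s).1 hs
  exact ⟨UnitsSh.unitOfSect z, hz⟩

theorem resJ_resJ {U V W : X.Opens} (h : U ≤ V) (h' : V ≤ W) (s) :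
    resJ X h (resJ X h' s) = resJ X (h.trans h') s :=
  CohBase.res_res (X := X.toTopCat) _ h h' s

theorem resQ_resQ {U V W : X.Opens} (h : U ≤ V) (h' : V ≤ W) (s) :
    resQ X h (resQ X h' s) = resQ X (h.trans h') s :=
  CohBase.res_res (X := X.toTopCat) _ h h' s

theorem bU_res {V W : X.Opens} (h : V ≤ W) (s : (SU X).X₂.obj.obj (op W)) :
    bU X V (resJ X h s) = resQ X h (bU X W s) :=
  CohBase.res_naturality (X := X.toTopCat) _ (SU X).g.hom h s

/-- `L` is glued from `q`: local lifts of `q` differ by the transition units of `L`. -/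
def Rel (q : (SU X).X₃.obj.obj (op (⊤ : X.Opens))) (L : X.Modules) : Prop :=
  ∃ (U : X → X.Opens) (e : ∀ x, Γ(L, U x)) (t : ∀ x, (SU X).X₂.obj.obj (op (U x))),
    (∀ x, x ∈ U x) ∧ (∀ x, Gen L (U x) (e x)) ∧ (∀ x, bU X _ (t x) = resQ X le_top q) ∧
    ∀ x y (a : Γ(X, U x ⊓ U y)ˣ),
      res L inf_le_left (e x) = (a : Γ(X, U x ⊓ U y)) • res L inf_le_right (e y) →
        resJ X inf_le_left (t x) = jl a + resJ X inf_le_right (t y)

theorem iSup_eq_top {U : X → X.Opens} (h : ∀ x, x ∈ U x) : iSup U = ⊤ :=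
  eq_top_iff.2 fun x _ => Opens.mem_iSup.2 ⟨x, h x⟩

theorem Rel.isInvertible {q L} (h : Rel (X := X) q L) : PicF.IsInvertible L := by
  obtain ⟨U, e, t, hxU, he, -, -⟩ := h
  exact isInvertible_of_gen_cover U (iSup_eq_top hxU) e he

theorem exists_rel (q : (SU X).X₃.obj.obj (op (⊤ : X.Opens))) : ∃ L, Rel q L := by
  have hS := CohBase.injPres_shortExact (X := X.toTopCat) (UnitsSh.unitsAb X)
  choose U hU hxU t ht using fun x : X =>
    CohBase.exists_local_lift hS (W := (⊤ : X.Opens)) q x trivial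
  have hd : ∀ x y, ∃ a, jl a = resJ X (inf_le_left : U x ⊓ U y ≤ U x) (t x) -
      resJ X (inf_le_right : U x ⊓ U y ≤ U y) (t y) := fun x y => exists_jl (by
    rw [map_sub, bU_res, bU_res, show bU X (U x) (t x) = _ from ht x,
      show bU X (U y) (t y) = _ from ht y]
    exact sub_eq_zero.2 ((resQ_resQ _ _ q).trans (resQ_resQ _ _ q).symm))
  choose η hη using hd
  obtain ⟨L, s, hs, -, hrel⟩ := exists_module_of_cocycle U
    (fun x y => (η x y : Γ(X, U x ⊓ U y))) (iSup_eq_top hxU) (fun x y => (η x y).isUnit)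
    fun x y z => by
      refine congrArg Units.val (jl_injective
        (a₁ := Units.map (resX X (inf_le_inf_right (U z) inf_le_left)).toMonoidHom (η x z))
        (a₂ := Units.map (resX X inf_le_left).toMonoidHom (η x y) *
          Units.map (resX X (inf_le_inf_right (U z) inf_le_right)).toMonoidHom (η y z)) ?_)
      rw [jl_mul, ← jl_res, ← jl_res, ← jl_res, hη, hη, hη, map_sub, map_sub, map_sub]
      simp only [resJ_resJ]
      exact (sub_add_sub_cancel _ _ _).symm
  refine ⟨L, U, s, t, hxU, hs, ht, fun x y a ha => ?_⟩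
  have : η x y = a := Units.ext ((hs y).smul_inj inf_le_right ((hrel x y).symm.trans ha))
  rw [← this, hη, sub_add_cancel]

theorem exists_of_invertible {L : X.Modules} (hL : PicF.IsInvertible L) :
    ∃ q, Rel (X := X) q L := by
  choose U e hxU he using (isInvertible_iff_exists_gen L).1 hL
  choose a ha using fun x y => ((he y).res (inf_le_right : U x ⊓ U y ≤ U y)).exists_unit
    ((he x).res (inf_le_left : U x ⊓ U y ≤ U x))
  have hJ : Subsingleton (Sheaf.H (SU X).X₂ 1 : Type u) :=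
    subsingleton_of_forall_eq 0 fun x => Ext.eq_zero_of_injective x
  obtain ⟨t, ht⟩ := CechOne.exists_split (X := X.toTopCat) (SU X).X₂ hJ U
    (fun x _ => Opens.mem_iSup.2 ⟨x, hxU x⟩) (fun x y => jl (a x y)) fun x y z => by
    change resJ X _ (jl (a x y)) + resJ X _ (jl (a y z)) = resJ X _ (jl (a x z))
    rw [jl_res, jl_res, jl_res, ← jl_mul]
    refine congrArg jl (Units.ext ?_)
    refine (he z).smul_inj inf_le_right ?_
    have e1 := congrArg (res L (inf_le_inf_right (U z) inf_le_left :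
      U x ⊓ U y ⊓ U z ≤ U x ⊓ U z)) (ha x z)
    have e2 := congrArg (res L (inf_le_left : U x ⊓ U y ⊓ U z ≤ U x ⊓ U y)) (ha x y)
    have e3 := congrArg (res L (inf_le_inf_right (U z) inf_le_right :
      U x ⊓ U y ⊓ U z ≤ U y ⊓ U z)) (ha y z)
    simp only [res_smul, res_res] at e1 e2 e3
    rw [Units.val_mul, mul_smul]
    refine Eq.trans ?_ e1
    exact (congrArg (resX X _ (a x y : Γ(X, U x ⊓ U y)) • ·) e3).symm.trans e2.symm
  obtain ⟨q, hq, -⟩ := TopCat.Sheaf.existsUnique_gluing' (X := X.toTopCat) (SU X).X₃ U ⊤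
    (fun x => homOfLE le_top) (fun x _ => Opens.mem_iSup.2 ⟨x, hxU x⟩)
    (fun x => bU X (U x) (-t x)) (fun x y => by
      change resQ X _ (bU X (U x) (-t x)) = resQ X _ (bU X (U y) (-t y))
      rw [← bU_res, ← bU_res, map_neg, map_neg, map_neg, map_neg, neg_inj]
      refine (sub_eq_zero.1 ?_).symm
      rw [← map_sub, show resJ X _ (t y) - resJ X _ (t x) = _ from (ht x y).symm, bU_jl])
  refine ⟨q, U, e, fun x => -t x, hxU, he, fun x => (hq x).symm, fun x y b hb => ?_⟩
  have : a x y = b := Units.ext ((he y).smul_inj inf_le_right ((ha x y).symm.trans hb))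
  rw [← this, show jl (a x y) = _ from ht x y, map_neg, map_neg]
  abel

theorem Rel.iso {q} {L M : X.Modules} (hL : Rel (X := X) q L) (hM : Rel q M) : Nonempty (L ≅ M) := by
  obtain ⟨U, e, t, hxU, he, ht, hLt⟩ := hL
  obtain ⟨V, f, t', hxV, hf, ht', hMt⟩ := hM
  have hw : ∀ x, ∃ w, jl w = resJ X (inf_le_left : U x ⊓ V x ≤ U x) (t x) -
      resJ X (inf_le_right : U x ⊓ V x ≤ V x) (t' x) := fun x => exists_jl (by
    rw [map_sub, bU_res, bU_res, ht, ht', resQ_resQ, resQ_resQ, sub_self])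
  choose w hw using hw
  obtain ⟨E, -⟩ := exists_iso_of_gen (U := fun x => U x ⊓ V x)
    (iSup_eq_top fun x => ⟨hxU x, hxV x⟩)
    (fun x => res L inf_le_left (e x)) (fun x => (he x).res _)
    (fun x => (w x : Γ(X, U x ⊓ V x)) • res M inf_le_right (f x))
    (fun x => ((hf x).res _).smul_unit (w x).isUnit) fun x y r hr => by
      let W := U x ⊓ V x ⊓ (U y ⊓ V y)
      have hx : W ≤ U x ⊓ V x := inf_le_left
      have hy : W ≤ U y ⊓ V y := inf_le_right
      obtain ⟨a, ha⟩ := ((he y).res (inf_le_right : U x ⊓ U y ≤ U y)).exists_unit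
        ((he x).res (inf_le_left : U x ⊓ U y ≤ U x))
      obtain ⟨b, hb⟩ := ((hf y).res (inf_le_right : V x ⊓ V y ≤ V y)).exists_unit
        ((hf x).res (inf_le_left : V x ⊓ V y ≤ V x))
      have hUW : W ≤ U x ⊓ U y := inf_le_inf inf_le_left inf_le_left
      have hVW : W ≤ V x ⊓ V y := inf_le_inf inf_le_right inf_le_right
      have h1 := congrArg (res L hUW) ha
      have h2 := congrArg (res M hVW) hb
      simp only [res_smul, res_res] at h1 h2 hr ⊢
      have har : r = resX X hUW (a : Γ(X, U x ⊓ U y)) :=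
        (he y).smul_inj (hy.trans inf_le_left) (hr.symm.trans h1)
      have key : Units.map (resX X hx).toMonoidHom (w x) * Units.map (resX X hVW).toMonoidHom b =
          Units.map (resX X hUW).toMonoidHom a * Units.map (resX X hy).toMonoidHom (w y) := by
        refine jl_injective ?_
        have h3 := congrArg (resJ X hUW) (hLt x y a ha)
        have h4 := congrArg (resJ X hVW) (hMt x y b hb)
        rw [jl_mul, jl_mul, ← jl_res, ← jl_res, ← jl_res, ← jl_res, hw, hw]
        simp only [map_add, map_sub, resJ_resJ] at h3 h4 ⊢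
        rw [h3, h4]
        abel
      rw [har, smul_smul, h2, smul_smul]
      exact congrArg (· • _) (congrArg Units.val key)
  exact ⟨E⟩

theorem Rel.of_iso {q} {L M : X.Modules} (h : Rel (X := X) q L) (φ : L ≅ M) : Rel q M := by
  obtain ⟨U, e, t, hxU, he, ht, hrel⟩ := h
  refine ⟨U, fun x => φ.hom.app _ (e x), t, hxU, fun x => (he x).map φ.hom, ht,
    fun x y a ha => hrel x y a ?_⟩
  refine (ConcreteCategory.bijective_of_isIso (φ.hom.app (U x ⊓ U y))).1 ?_
  simpa [app_res] using ha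

theorem Rel.tensor {q q'} {L M : X.Modules} (hL : Rel (X := X) q L) (hM : Rel q' M) :
    Rel (q + q') (CohB1.tensorMod L M) := by
  obtain ⟨U, e, t, hxU, he, ht, hLt⟩ := hL
  obtain ⟨V, f, t', hxV, hf, ht', hMt⟩ := hM
  refine ⟨fun x => U x ⊓ V x,
    fun x => tmulSec (res L inf_le_left (e x)) (res M inf_le_right (f x)),
    fun x => resJ X inf_le_left (t x) + resJ X inf_le_right (t' x),
    fun x => ⟨hxU x, hxV x⟩, fun x => ((he x).res _).tensor ((hf x).res _), fun x => ?_, ?_⟩
  · rw [map_add, bU_res, bU_res, ht, ht', resQ_resQ, resQ_resQ, map_add]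
  intro x y c hc
  let W := U x ⊓ V x ⊓ (U y ⊓ V y)
  have hx : W ≤ U x ⊓ V x := inf_le_left
  have hy : W ≤ U y ⊓ V y := inf_le_right
  obtain ⟨a, ha⟩ := ((he y).res (inf_le_right : U x ⊓ U y ≤ U y)).exists_unit
    ((he x).res (inf_le_left : U x ⊓ U y ≤ U x))
  obtain ⟨b, hb⟩ := ((hf y).res (inf_le_right : V x ⊓ V y ≤ V y)).exists_unit
    ((hf x).res (inf_le_left : V x ⊓ V y ≤ V x))
  have hUW : W ≤ U x ⊓ U y := inf_le_inf inf_le_left inf_le_left
  have hVW : W ≤ V x ⊓ V y := inf_le_inf inf_le_right inf_le_right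
  have h1 := congrArg (res L hUW) ha
  have h2 := congrArg (res M hVW) hb
  simp only [res_smul, res_res] at h1 h2
  rw [res_tmulSec, res_tmulSec] at hc
  simp only [res_res] at hc
  have h5 : (c : Γ(X, W)) =
      resX X hUW (a : Γ(X, U x ⊓ U y)) * resX X hVW (b : Γ(X, V x ⊓ V y)) := by
    refine (((he y).res (hy.trans inf_le_left)).tensor ((hf y).res (hy.trans inf_le_right))).smul_inj
      le_rfl ?_
    rw [res_self, ← hc, h1, h2, tmulSec_smul_left, tmulSec_smul_right, mul_smul]
  have h3 := congrArg (resJ X hUW) (hLt x y a ha)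
  have h4 := congrArg (resJ X hVW) (hMt x y b hb)
  have hc' : c = Units.map (resX X hUW).toMonoidHom a * Units.map (resX X hVW).toMonoidHom b :=
    Units.ext h5
  rw [hc', jl_mul, ← jl_res, ← jl_res]
  simp only [map_add, resJ_resJ] at h3 h4 ⊢
  rw [h3, h4]
  abel

theorem rel_structure (w : (SU X).X₂.obj.obj (op (⊤ : X.Opens))) :
    Rel (X := X) (bU X ⊤ w) (Coh.structureModule X) := by
  refine ⟨fun _ => ⊤, fun _ => oneSec X ⊤, fun _ => w, fun _ => trivial, fun _ => gen_oneSec ⊤,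
    fun _ => (CohBase.res_self (X := X.toTopCat) _ _).symm, fun x y a ha => ?_⟩
  have h1 : a = 1 := by
    refine Units.ext ((gen_oneSec (⊤ : X.Opens)).smul_inj inf_le_right ?_)
    rw [Units.val_one, one_smul, ← ha]
  have h0 : jl a = 0 := by
    have h := jl_mul a a
    rw [h1, one_mul] at h
    rw [h1]
    exact add_left_cancel (a := jl (1 : Γ(X, ⊤ ⊓ ⊤)ˣ)) (h.symm.trans (add_zero _).symm)
  rw [h0, zero_add]

theorem exists_lift_of_rel {q} (h : Rel (X := X) q (Coh.structureModule X)) :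
    ∃ w, bU X ⊤ w = q := by
  obtain ⟨U, e, t, hxU, he, ht, hrel⟩ := h
  choose v hv using fun x => (he x).exists_unit (gen_oneSec (U x))
  obtain ⟨w, hw, -⟩ := TopCat.Sheaf.existsUnique_gluing' (X := X.toTopCat) (SU X).X₂ U ⊤
    (fun x => homOfLE le_top) (fun x _ => Opens.mem_iSup.2 ⟨x, hxU x⟩)
    (fun x => t x + jl (v x)) (fun x y => by
      change resJ X inf_le_left (t x + jl (v x)) = resJ X inf_le_right (t y + jl (v y))
      obtain ⟨a, ha⟩ := ((he y).res (inf_le_right : U x ⊓ U y ≤ U y)).exists_unit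
        ((he x).res (inf_le_left : U x ⊓ U y ≤ U x))
      rw [map_add, map_add, hrel x y a ha, jl_res, jl_res]
      have h1 := congrArg (res _ (inf_le_left : U x ⊓ U y ≤ U x)) (hv x)
      have h2 := congrArg (res _ (inf_le_right : U x ⊓ U y ≤ U y)) (hv y)
      rw [res_oneSec, res_smul, ha, smul_smul] at h1
      rw [res_oneSec, res_smul] at h2
      have h3 : a * Units.map (resX X inf_le_left).toMonoidHom (v x) =
          Units.map (resX X inf_le_right).toMonoidHom (v y) :=
        Units.ext (by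
          rw [Units.val_mul, mul_comm]
          exact (he y).smul_inj inf_le_right (h1.symm.trans h2))
      rw [← h3, jl_mul]
      abel)
  refine ⟨w, ?_⟩
  refine TopCat.Sheaf.eq_of_locally_eq' (X := X.toTopCat) (SU X).X₃ U ⊤
    (fun x => homOfLE le_top) (fun x _ => Opens.mem_iSup.2 ⟨x, hxU x⟩) _ _ fun x => ?_
  change resQ X le_top (bU X ⊤ w) = resQ X le_top q
  rw [← bU_res, show resJ X le_top w = _ from hw x, map_add, bU_jl, add_zero, ht x]

/-- The class of the glued module. -/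
theorem exists_hom [PicGrp.Law X] : ∃ Φ : (SU X).X₃.obj.obj (op (⊤ : X.Opens)) →+
    Additive (PicLoc.PicSet X), Function.Surjective Φ ∧
      ∀ q, Φ q = 0 ↔ q ∈ (bU X ⊤).range := by
  choose L hL using exists_rel (X := X)
  refine ⟨AddMonoidHom.mk' (fun q => Additive.ofMul (PicGrp.cls (L q) (hL q).isInvertible))
    fun q q' => ?_, fun c => ?_, fun q => ?_⟩
  · refine congrArg Additive.ofMul (Subtype.ext ?_)
    exact ((PicGrp.cl_eq_cl_iff _ _).2 ((hL _).iso ((hL q).tensor (hL q')))).trans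
      (PicGrp.cls_mul_cls_val (hL q).isInvertible (hL q').isInvertible).symm
  · obtain ⟨c, rfl⟩ := Additive.ofMul.surjective c
    obtain ⟨_, M, rfl, hM⟩ := c
    obtain ⟨q, hq⟩ := exists_of_invertible hM
    exact ⟨q, congrArg Additive.ofMul (Subtype.ext ((PicGrp.cl_eq_cl_iff _ _).2 ((hL q).iso hq)))⟩
  · constructor
    · intro h
      exact exists_lift_of_rel ((hL q).of_iso
        ((PicGrp.cls_eq_one_iff (hL q).isInvertible).1 (Additive.ofMul.injective h)).some)
    · rintro ⟨w, rfl⟩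
      exact congrArg Additive.ofMul ((PicGrp.cls_eq_one_iff (hL _).isInvertible).2
        ((hL _).iso (rel_structure w)))

/-- The connecting map. -/
theorem exists_delta : ∃ δ : (SU X).X₃.obj.obj (op (⊤ : X.Opens)) →+
    CohTop.H (UnitsSh.unitsAb X) 1, Function.Surjective δ ∧
      ∀ q, δ q = 0 ↔ q ∈ (bU X ⊤).range := by
  have hS := CohBase.injPres_shortExact (X := X.toTopCat) (UnitsSh.unitsAb X)
  let P := CohBase.freeOpen (X := X.toTopCat) (⊤ : X.Opens)
  let δ' : (SU X).X₃.obj.obj (op (⊤ : X.Opens)) →+ Ext P (SU X).X₁ 1 :=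
    AddMonoidHom.mk' (fun q => (Ext.mk₀ ((CohBase.homFreeOpen (X := X.toTopCat) _ _).symm q)).comp
      hS.extClass (zero_add 1)) fun q q' => by rw [map_add, Ext.mk₀_add, Ext.add_comp]
  let E := (CohBase.equivHTop (X := X.toTopCat) (UnitsSh.unitsAb X) 1).symm
  refine ⟨E.toAddMonoidHom.comp δ', ?_, fun q => ?_⟩
  · refine E.surjective.comp fun x => ?_
    obtain ⟨y, rfl⟩ := Ext.covariant_sequence_exact₁ P hS x (Ext.eq_zero_of_injective _) rfl
    refine ⟨CohBase.homFreeOpen (X := X.toTopCat) _ _ (Ext.addEquiv₀ y), ?_⟩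
    change (Ext.mk₀ ((CohBase.homFreeOpen (X := X.toTopCat) (⊤ : X.Opens) (SU X).X₃).symm
      (CohBase.homFreeOpen (X := X.toTopCat) _ _ (Ext.addEquiv₀ y)))).comp hS.extClass (zero_add 1) = _
    rw [AddEquiv.symm_apply_apply, Ext.mk₀_addEquiv₀_apply]
  · rw [AddMonoidHom.comp_apply]
    refine (map_eq_zero_iff E E.injective).trans ⟨fun h => ?_, ?_⟩
    · obtain ⟨x, hx⟩ := Ext.covariant_sequence_exact₃ P hS
        (Ext.mk₀ ((CohBase.homFreeOpen (X := X.toTopCat) _ _).symm q)) (zero_add 1) h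
      refine ⟨CohBase.homFreeOpen (X := X.toTopCat) _ _ (Ext.addEquiv₀ x), ?_⟩
      change (SU X).g.hom.app (op ⊤) _ = q
      rw [← CohBase.homFreeOpen_comp]
      refine (congrArg _ ((Ext.mk₀_bijective _ _).injective ?_)).trans
        ((CohBase.homFreeOpen (X := X.toTopCat) _ _).apply_symm_apply q)
      rw [← Ext.mk₀_comp_mk₀, Ext.mk₀_addEquiv₀_apply, hx]
    · rintro ⟨w, rfl⟩
      change (Ext.mk₀ _).comp hS.extClass (zero_add 1) = 0
      obtain ⟨g, rfl⟩ := (CohBase.homFreeOpen (X := X.toTopCat) (⊤ : X.Opens) (SU X).X₂).surjective w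
      rw [show bU X ⊤ (CohBase.homFreeOpen _ _ g) = CohBase.homFreeOpen _ _ (g ≫ (SU X).g) from
        (CohBase.homFreeOpen_comp _ _ _).symm, AddEquiv.symm_apply_apply, ← Ext.mk₀_comp_mk₀,
        Ext.comp_assoc_of_second_deg_zero, hS.comp_extClass, Ext.comp_zero]

/-- `Pic X ≅ H¹(X, O^×)`. -/
theorem nonempty_addEquiv [PicGrp.Law X] :
    Nonempty (Additive (PicLoc.PicSet X) ≃+ CohTop.H (UnitsSh.unitsAb X) 1) := by
  obtain ⟨Φ, hΦ, hΦk⟩ := exists_hom (X := X)
  obtain ⟨δ, hδ, hδk⟩ := exists_delta (X := X)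
  have hk : Φ.ker = δ.ker := AddSubgroup.ext fun q => (hΦk q).trans (hδk q).symm
  exact ⟨(QuotientAddGroup.quotientKerEquivOfSurjective Φ hΦ).symm.trans
    ((QuotientAddGroup.quotientAddEquivOfEq hk).trans
      (QuotientAddGroup.quotientKerEquivOfSurjective δ hδ))⟩

end Groth.PicAux.PicH1
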