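import Groth.Agent.PicAux.CechOne
import Groth.Agent.PicAux.PicLaw
import Groth.Agent.PicAux.TensorLift
import Groth.Prelude.Def_UnitsSh
import Groth.Prelude.Def_PicGrp

/-!
# Invertible modules and the direct image of the units along a homeomorphism

For `i : Y ⟶ X` inducing and surjective, invertible modules on `Y` are glued from sections of the
cokernel of an injective presentation of `i_* O_Y^×`.
-/

universe u

open CategoryTheory Limits AlgebraicGeometry Opposite TopologicalSpace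

noncomputable section

namespace Groth.PicAux.PicPush

open Groth.PicAux

variable {X Y : Scheme.{u}} (i : Y ⟶ X)

/-- The direct image of the units. -/
abbrev F : CohBase.AbSheaf X.toTopCat := (CohTop.push i.base).obj (UnitsSh.unitsAb Y)

/-- The injective presentation of the direct image of the units. -/
abbrev SU : ShortComplex (CohBase.AbSheaf X.toTopCat) :=
  CohBase.injPres (X := X.toTopCat) (F i)

/-- The surjection of the presentation on sections. -/
abbrev bU (W : X.Opens) : (SU i).X₂.obj.obj (op W) →+ (SU i).X₃.obj.obj (op W) :=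
  ((SU i).g.hom.app (op W)).hom

/-- Restriction in the quotient. -/
abbrev resQ {V W : X.Opens} (h : V ≤ W) : (SU i).X₃.obj.obj (op W) →+ (SU i).X₃.obj.obj (op V) :=
  CohBase.res (X := X.toTopCat) (SU i).X₃.obj h

/-- Restriction in the injective sheaf. -/
abbrev resJ {V W : X.Opens} (h : V ≤ W) : (SU i).X₂.obj.obj (op W) →+ (SU i).X₂.obj.obj (op V) :=
  CohBase.res (X := X.toTopCat) (SU i).X₂.obj h

variable {i}

/-- A unit as a section of the injective sheaf. -/
def jl {W : X.Opens} (a : Γ(Y, i ⁻¹ᵁ W)ˣ) : (SU i).X₂.obj.obj (op W) :=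
  (SU i).f.hom.app (op W) (UnitsSh.sectOfUnit (O := Y.presheaf) a)

theorem jl_mul {W : X.Opens} (a b : Γ(Y, i ⁻¹ᵁ W)ˣ) : jl (i := i) (a * b) = jl a + jl b :=
  ((SU i).f.hom.app (op W)).hom.map_add (UnitsSh.sectOfUnit (O := Y.presheaf) a)
    (UnitsSh.sectOfUnit (O := Y.presheaf) b)

theorem jl_res {V W : X.Opens} (h : V ≤ W) (a : Γ(Y, i ⁻¹ᵁ W)ˣ) :
    resJ i h (jl a) = jl (Units.map (resX Y (i.preimage_mono h)).toMonoidHom a) :=
  ((CohBase.res_naturality (X := X.toTopCat) _ (SU i).f.hom h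
    (UnitsSh.sectOfUnit (O := Y.presheaf) a))).symm

theorem jl_injective {W : X.Opens} : Function.Injective (jl (i := i) (W := W)) :=
  (CohBase.sections_injective (CohBase.injPres_shortExact (X := X.toTopCat) _) W).comp
    Additive.ofMul.injective

theorem bU_jl {W : X.Opens} (a : Γ(Y, i ⁻¹ᵁ W)ˣ) : bU i W (jl a) = 0 :=
  (CohBase.sections_exact (CohBase.injPres_shortExact (X := X.toTopCat) _) W).apply_apply_eq_zero _

theorem exists_jl {W : X.Opens} {s : (SU i).X₂.obj.obj (op W)} (hs : bU i W s = 0) :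
    ∃ a, jl a = s := by
  obtain ⟨z, hz⟩ :=
    (CohBase.sections_exact (CohBase.injPres_shortExact (X := X.toTopCat) _) W s).1 hs
  exact ⟨UnitsSh.unitOfSect z, hz⟩

theorem resJ_resJ {U V W : X.Opens} (h : U ≤ V) (h' : V ≤ W) (s) :
    resJ i h (resJ i h' s) = resJ i (h.trans h') s :=
  CohBase.res_res (X := X.toTopCat) _ h h' s

theorem resQ_resQ {U V W : X.Opens} (h : U ≤ V) (h' : V ≤ W) (s) :
    resQ i h (resQ i h' s) = resQ i (h.trans h') s :=
  CohBase.res_res (X := X.toTopCat) _ h h' s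

theorem bU_res {V W : X.Opens} (h : V ≤ W) (s : (SU i).X₂.obj.obj (op W)) :
    bU i V (resJ i h s) = resQ i h (bU i W s) :=
  CohBase.res_naturality (X := X.toTopCat) _ (SU i).g.hom h s

/-- `L` on `Y` is glued from `q`: local lifts of `q` differ by the transition units of `L`. -/
def Rel (q : (SU i).X₃.obj.obj (op (⊤ : X.Opens))) (L : Y.Modules) : Prop :=
  ∃ (U : Y → X.Opens) (e : ∀ y, Γ(L, i ⁻¹ᵁ U y)) (t : ∀ y, (SU i).X₂.obj.obj (op (U y))),
    (∀ y, y ∈ i ⁻¹ᵁ U y) ∧ (∀ y, Gen L (i ⁻¹ᵁ U y) (e y)) ∧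
    (∀ y, bU i _ (t y) = resQ i le_top q) ∧
    ∀ x y (a : Γ(Y, i ⁻¹ᵁ (U x ⊓ U y))ˣ),
      res L (i.preimage_mono inf_le_left) (e x) =
          (a : Γ(Y, i ⁻¹ᵁ (U x ⊓ U y))) • res L (i.preimage_mono inf_le_right) (e y) →
        resJ i inf_le_left (t x) = jl a + resJ i inf_le_right (t y)

theorem iSup_eq_top_Y {U : Y → X.Opens} (h : ∀ y, y ∈ i ⁻¹ᵁ U y) :
    iSup (fun y => i ⁻¹ᵁ U y) = ⊤ :=
  eq_top_iff.2 fun y _ => Opens.mem_iSup.2 ⟨y, h y⟩

theorem top_le_iSup [Surjective i] {U : Y → X.Opens} (h : ∀ y, y ∈ i ⁻¹ᵁ U y) :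
    (⊤ : X.Opens) ≤ iSup U := fun x _ => by
  obtain ⟨y, rfl⟩ := i.surjective x
  exact Opens.mem_iSup.2 ⟨y, h y⟩

theorem Rel.isInvertible {q L} (h : Rel (i := i) q L) : PicF.IsInvertible L := by
  obtain ⟨U, e, t, hxU, he, -, -⟩ := h
  exact isInvertible_of_gen_cover (fun y => i ⁻¹ᵁ U y) (iSup_eq_top_Y hxU) e he

theorem exists_rel (q : (SU i).X₃.obj.obj (op (⊤ : X.Opens))) : ∃ L, Rel q L := by
  have hS := CohBase.injPres_shortExact (X := X.toTopCat) (F i)
  choose U hU hxU t ht using fun y : Y =>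
    CohBase.exists_local_lift hS (W := (⊤ : X.Opens)) q (i y) trivial
  have hd : ∀ x y, ∃ a, jl a = resJ i (inf_le_left : U x ⊓ U y ≤ U x) (t x) -
      resJ i (inf_le_right : U x ⊓ U y ≤ U y) (t y) := fun x y => exists_jl (by
    rw [map_sub, bU_res, bU_res, show bU i (U x) (t x) = _ from ht x,
      show bU i (U y) (t y) = _ from ht y]
    exact sub_eq_zero.2 ((resQ_resQ _ _ q).trans (resQ_resQ _ _ q).symm))
  choose η hη using hd
  obtain ⟨L, s, hs, -, hrel⟩ := exists_module_of_cocycle (fun y => i ⁻¹ᵁ U y)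
    (fun x y => (η x y : Γ(Y, i ⁻¹ᵁ (U x ⊓ U y)))) (iSup_eq_top_Y hxU) (fun x y => (η x y).isUnit)
    fun x y z => by
      refine congrArg Units.val (jl_injective (i := i) (W := U x ⊓ U y ⊓ U z)
        (a₁ := Units.map (resX Y (i.preimage_mono
          (inf_le_inf_right (U z) inf_le_left))).toMonoidHom (η x z))
        (a₂ := Units.map (resX Y (i.preimage_mono inf_le_left)).toMonoidHom (η x y) *
          Units.map (resX Y (i.preimage_mono
            (inf_le_inf_right (U z) inf_le_right))).toMonoidHom (η y z)) ?_)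
      rw [jl_mul, ← jl_res (inf_le_inf_right (U z) inf_le_left : U x ⊓ U y ⊓ U z ≤ U x ⊓ U z),
        ← jl_res (inf_le_left : U x ⊓ U y ⊓ U z ≤ U x ⊓ U y),
        ← jl_res (inf_le_inf_right (U z) inf_le_right : U x ⊓ U y ⊓ U z ≤ U y ⊓ U z),
        hη, hη, hη, map_sub, map_sub, map_sub]
      simp only [resJ_resJ]
      exact (sub_add_sub_cancel _ _ _).symm
  refine ⟨L, U, s, t, hxU, hs, ht, fun x y a ha => ?_⟩
  have : η x y = a := Units.ext ((hs y).smul_inj (i.preimage_mono inf_le_right)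
    ((hrel x y).symm.trans ha))
  rw [← this, hη, sub_add_cancel]

theorem exists_of_invertible [Surjective i] (hind : Topology.IsInducing i) {L : Y.Modules}
    (hL : PicF.IsInvertible L) : ∃ q, Rel (i := i) q L := by
  have h : ∀ y : Y, ∃ (U : X.Opens) (e : Γ(L, i ⁻¹ᵁ U)), y ∈ i ⁻¹ᵁ U ∧ Gen L (i ⁻¹ᵁ U) e :=
    fun y => by
      obtain ⟨O, e, hy, he⟩ := (isInvertible_iff_exists_gen L).1 hL y
      obtain ⟨V, hV, hVO⟩ := hind.isOpen_iff.1 O.2
      refine ⟨⟨V, hV⟩, res L (fun z hz => hVO.le hz) e, ?_, he.res _⟩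
      exact hVO.ge hy
  choose U e hxU he using h
  choose a ha using fun x y =>
    ((he y).res (i.preimage_mono (inf_le_right : U x ⊓ U y ≤ U y))).exists_unit
      ((he x).res (i.preimage_mono (inf_le_left : U x ⊓ U y ≤ U x)))
  have hJ : Subsingleton (Sheaf.H (SU i).X₂ 1 : Type u) :=
    subsingleton_of_forall_eq 0 fun x => CategoryTheory.Abelian.Ext.eq_zero_of_injective x
  obtain ⟨t, ht⟩ := CechOne.exists_split (X := X.toTopCat) (SU i).X₂ hJ U
    (top_le_iSup hxU) (fun x y => jl (a x y)) fun x y z => by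
    change resJ i _ (jl (a x y)) + resJ i _ (jl (a y z)) = resJ i _ (jl (a x z))
    rw [jl_res, jl_res, jl_res, ← jl_mul]
    refine congrArg jl (Units.ext ?_)
    refine (he z).smul_inj (i.preimage_mono inf_le_right) ?_
    have e1 := congrArg (res L (i.preimage_mono (inf_le_inf_right (U z) inf_le_left :
      U x ⊓ U y ⊓ U z ≤ U x ⊓ U z))) (ha x z)
    have e2 := congrArg (res L (i.preimage_mono (inf_le_left :
      U x ⊓ U y ⊓ U z ≤ U x ⊓ U y))) (ha x y)
    have e3 := congrArg (res L (i.preimage_mono (inf_le_inf_right (U z) inf_le_right :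
      U x ⊓ U y ⊓ U z ≤ U y ⊓ U z))) (ha y z)
    simp only [res_smul, res_res] at e1 e2 e3
    rw [Units.val_mul, mul_smul]
    refine Eq.trans ?_ e1
    exact (congrArg (resX Y _ (a x y : Γ(Y, i ⁻¹ᵁ (U x ⊓ U y))) • ·) e3).symm.trans e2.symm
  obtain ⟨q, hq, -⟩ := TopCat.Sheaf.existsUnique_gluing' (X := X.toTopCat) (SU i).X₃ U ⊤
    (fun x => homOfLE le_top) (top_le_iSup hxU)
    (fun x => bU i (U x) (-t x)) (fun x y => by
      change resQ i _ (bU i (U x) (-t x)) = resQ i _ (bU i (U y) (-t y))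
      rw [← bU_res, ← bU_res, map_neg, map_neg, map_neg, map_neg, neg_inj]
      refine (sub_eq_zero.1 ?_).symm
      rw [← map_sub, show resJ i _ (t y) - resJ i _ (t x) = _ from (ht x y).symm, bU_jl])
  refine ⟨q, U, e, fun x => -t x, hxU, he, fun x => (hq x).symm, fun x y b hb => ?_⟩
  have : a x y = b := Units.ext ((he y).smul_inj (i.preimage_mono inf_le_right)
    ((ha x y).symm.trans hb))
  rw [← this, show jl (a x y) = _ from ht x y, map_neg, map_neg]
  abel

theorem Rel.iso {q} {L M : Y.Modules} (hL : Rel (i := i) q L) (hM : Rel q M) :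
    Nonempty (L ≅ M) := by
  obtain ⟨U, e, t, hxU, he, ht, hLt⟩ := hL
  obtain ⟨V, f, t', hxV, hf, ht', hMt⟩ := hM
  have hw : ∀ x, ∃ w, jl w = resJ i (inf_le_left : U x ⊓ V x ≤ U x) (t x) -
      resJ i (inf_le_right : U x ⊓ V x ≤ V x) (t' x) := fun x => exists_jl (by
    rw [map_sub, bU_res, bU_res, ht, ht', resQ_resQ, resQ_resQ, sub_self])
  choose w hw using hw
  obtain ⟨E, -⟩ := exists_iso_of_gen (U := fun x => i ⁻¹ᵁ (U x ⊓ V x))
    (iSup_eq_top_Y fun x => ⟨hxU x, hxV x⟩)
    (fun x => res L (i.preimage_mono inf_le_left) (e x)) (fun x => (he x).res _)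
    (fun x => (w x : Γ(Y, i ⁻¹ᵁ (U x ⊓ V x))) • res M (i.preimage_mono inf_le_right) (f x))
    (fun x => ((hf x).res _).smul_unit (w x).isUnit) fun x y r hr => by
      let W := U x ⊓ V x ⊓ (U y ⊓ V y)
      have hx : W ≤ U x ⊓ V x := inf_le_left
      have hy : W ≤ U y ⊓ V y := inf_le_right
      obtain ⟨a, ha⟩ := ((he y).res (i.preimage_mono (inf_le_right : U x ⊓ U y ≤ U y))).exists_unit
        ((he x).res (i.preimage_mono (inf_le_left : U x ⊓ U y ≤ U x)))
      obtain ⟨b, hb⟩ := ((hf y).res (i.preimage_mono (inf_le_right : V x ⊓ V y ≤ V y))).exists_unit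
        ((hf x).res (i.preimage_mono (inf_le_left : V x ⊓ V y ≤ V x)))
      have hUW : W ≤ U x ⊓ U y := inf_le_inf inf_le_left inf_le_left
      have hVW : W ≤ V x ⊓ V y := inf_le_inf inf_le_right inf_le_right
      have h1 := congrArg (res L (i.preimage_mono hUW)) ha
      have h2 := congrArg (res M (i.preimage_mono hVW)) hb
      simp only [res_smul, res_res] at h1 h2 hr ⊢
      have har : r = resX Y (i.preimage_mono hUW) (a : Γ(Y, i ⁻¹ᵁ (U x ⊓ U y))) :=
        (he y).smul_inj (i.preimage_mono (hy.trans inf_le_left)) (hr.symm.trans h1)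
      have key : Units.map (resX Y (i.preimage_mono hx)).toMonoidHom (w x) *
            Units.map (resX Y (i.preimage_mono hVW)).toMonoidHom b =
          Units.map (resX Y (i.preimage_mono hUW)).toMonoidHom a *
            Units.map (resX Y (i.preimage_mono hy)).toMonoidHom (w y) := by
        refine jl_injective (i := i) (W := W) ?_
        have h3 := congrArg (resJ i hUW) (hLt x y a ha)
        have h4 := congrArg (resJ i hVW) (hMt x y b hb)
        rw [jl_mul, jl_mul, ← jl_res hx, ← jl_res hVW, ← jl_res hUW, ← jl_res hy, hw, hw]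
        simp only [map_add, map_sub, resJ_resJ] at h3 h4 ⊢
        rw [h3, h4]
        abel
      rw [har]
      exact ((congrArg (_ • ·) h2).trans (smul_smul _ _ _)).trans
        ((congrArg (· • _) (congrArg Units.val key)).trans (smul_smul _ _ _).symm)
  exact ⟨E⟩

theorem Rel.of_iso {q} {L M : Y.Modules} (h : Rel (i := i) q L) (φ : L ≅ M) : Rel q M := by
  obtain ⟨U, e, t, hxU, he, ht, hrel⟩ := h
  refine ⟨U, fun x => φ.hom.app _ (e x), t, hxU, fun x => (he x).map φ.hom, ht,
    fun x y a ha => hrel x y a ?_⟩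
  refine (ConcreteCategory.bijective_of_isIso (φ.hom.app (i ⁻¹ᵁ (U x ⊓ U y)))).1 ?_
  simpa [app_res] using ha

theorem Rel.tensor {q q'} {L M : Y.Modules} (hL : Rel (i := i) q L) (hM : Rel q' M) :
    Rel (q + q') (CohB1.tensorMod L M) := by
  obtain ⟨U, e, t, hxU, he, ht, hLt⟩ := hL
  obtain ⟨V, f, t', hxV, hf, ht', hMt⟩ := hM
  refine ⟨fun x => U x ⊓ V x,
    fun x => tmulSec (res L (i.preimage_mono inf_le_left) (e x))
      (res M (i.preimage_mono inf_le_right) (f x)),
    fun x => resJ i inf_le_left (t x) + resJ i inf_le_right (t' x),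
    fun x => ⟨hxU x, hxV x⟩, fun x => ((he x).res _).tensor ((hf x).res _), fun x => ?_, ?_⟩
  · rw [map_add, bU_res, bU_res, ht, ht', resQ_resQ, resQ_resQ, map_add]
  intro x y c hc
  let W := U x ⊓ V x ⊓ (U y ⊓ V y)
  have hx : W ≤ U x ⊓ V x := inf_le_left
  have hy : W ≤ U y ⊓ V y := inf_le_right
  obtain ⟨a, ha⟩ := ((he y).res (i.preimage_mono (inf_le_right : U x ⊓ U y ≤ U y))).exists_unit
    ((he x).res (i.preimage_mono (inf_le_left : U x ⊓ U y ≤ U x)))
  obtain ⟨b, hb⟩ := ((hf y).res (i.preimage_mono (inf_le_right : V x ⊓ V y ≤ V y))).exists_unit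
    ((hf x).res (i.preimage_mono (inf_le_left : V x ⊓ V y ≤ V x)))
  have hUW : W ≤ U x ⊓ U y := inf_le_inf inf_le_left inf_le_left
  have hVW : W ≤ V x ⊓ V y := inf_le_inf inf_le_right inf_le_right
  have h1 := congrArg (res L (i.preimage_mono hUW)) ha
  have h2 := congrArg (res M (i.preimage_mono hVW)) hb
  simp only [res_smul, res_res] at h1 h2
  rw [res_tmulSec, res_tmulSec] at hc
  simp only [res_res] at hc
  have h5 : (c : Γ(Y, i ⁻¹ᵁ W)) = resX Y (i.preimage_mono hUW) (a : Γ(Y, i ⁻¹ᵁ (U x ⊓ U y))) *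
      resX Y (i.preimage_mono hVW) (b : Γ(Y, i ⁻¹ᵁ (V x ⊓ V y))) := by
    refine (((he y).res (i.preimage_mono (hy.trans inf_le_left))).tensor
      ((hf y).res (i.preimage_mono (hy.trans inf_le_right)))).smul_inj le_rfl ?_
    rw [res_self]
    refine hc.symm.trans ?_
    rw [mul_smul, ← tmulSec_smul_right, ← tmulSec_smul_left]
    exact congrArg₂ tmulSec h1 h2
  have h3 := congrArg (resJ i hUW) (hLt x y a ha)
  have h4 := congrArg (resJ i hVW) (hMt x y b hb)
  have hc' : c = Units.map (resX Y (i.preimage_mono hUW)).toMonoidHom a *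
      Units.map (resX Y (i.preimage_mono hVW)).toMonoidHom b :=
    Units.ext h5
  rw [hc', jl_mul, ← jl_res hUW, ← jl_res hVW]
  simp only [map_add, resJ_resJ] at h3 h4 ⊢
  rw [h3, h4]
  abel

theorem rel_structure (w : (SU i).X₂.obj.obj (op (⊤ : X.Opens))) :
    Rel (i := i) (bU i ⊤ w) (Coh.structureModule Y) := by
  refine ⟨fun _ => ⊤, fun _ => oneSec Y _, fun _ => w, fun _ => trivial, fun _ => gen_oneSec _,
    fun _ => (CohBase.res_self (X := X.toTopCat) _ _).symm, fun x y a ha => ?_⟩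
  have h1 : a = 1 := by
    refine Units.ext ((gen_oneSec (i ⁻¹ᵁ (⊤ : X.Opens))).smul_inj (i.preimage_mono inf_le_right) ?_)
    rw [Units.val_one, one_smul]
    exact ha.symm
  have h0 : jl (i := i) a = 0 := by
    have h := jl_mul (i := i) a a
    rw [h1, one_mul] at h
    rw [h1]
    exact add_left_cancel (h.symm.trans (add_zero _).symm)
  rw [h0, zero_add]

theorem exists_lift_of_rel [Surjective i] {q} (h : Rel (i := i) q (Coh.structureModule Y)) :
    ∃ w, bU i ⊤ w = q := by
  obtain ⟨U, e, t, hxU, he, ht, hrel⟩ := h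
  choose v hv using fun x => (he x).exists_unit (gen_oneSec (i ⁻¹ᵁ U x))
  obtain ⟨w, hw, -⟩ := TopCat.Sheaf.existsUnique_gluing' (X := X.toTopCat) (SU i).X₂ U ⊤
    (fun x => homOfLE le_top) (top_le_iSup hxU)
    (fun x => t x + jl (v x)) (fun x y => by
      change resJ i inf_le_left (t x + jl (v x)) = resJ i inf_le_right (t y + jl (v y))
      obtain ⟨a, ha⟩ := ((he y).res (i.preimage_mono (inf_le_right : U x ⊓ U y ≤ U y))).exists_unit
        ((he x).res (i.preimage_mono (inf_le_left : U x ⊓ U y ≤ U x)))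
      rw [map_add, map_add, hrel x y a ha, jl_res, jl_res]
      have h1 := congrArg (res _ (i.preimage_mono (inf_le_left : U x ⊓ U y ≤ U x))) (hv x)
      have h2 := congrArg (res _ (i.preimage_mono (inf_le_right : U x ⊓ U y ≤ U y))) (hv y)
      rw [res_oneSec, res_smul, ha, smul_smul] at h1
      rw [res_oneSec, res_smul] at h2
      have h3 : a * Units.map (resX Y (i.preimage_mono inf_le_left)).toMonoidHom (v x) =
          Units.map (resX Y (i.preimage_mono inf_le_right)).toMonoidHom (v y) :=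
        Units.ext (by
          rw [Units.val_mul, mul_comm]
          exact (he y).smul_inj (i.preimage_mono inf_le_right) (h1.symm.trans h2))
      rw [← h3, jl_mul]
      abel)
  refine ⟨w, ?_⟩
  refine TopCat.Sheaf.eq_of_locally_eq' (X := X.toTopCat) (SU i).X₃ U ⊤
    (fun x => homOfLE le_top) (top_le_iSup hxU) _ _ fun x => ?_
  change resQ i le_top (bU i ⊤ w) = resQ i le_top q
  rw [← bU_res, show resJ i le_top w = _ from hw x, map_add, bU_jl, add_zero, ht x]

variable (i) in
/-- The glued classes. -/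
theorem exists_hom [Surjective i] (hind : Topology.IsInducing i) [PicGrp.Law Y] :
    ∃ Φ : (SU i).X₃.obj.obj (op (⊤ : X.Opens)) →+ Additive (PicLoc.PicSet Y),
      Function.Surjective Φ ∧ (∀ q, Φ q = 0 ↔ q ∈ (bU i ⊤).range) ∧
      ∀ q L, Rel q L → ∀ hL : PicF.IsInvertible L, Φ q = Additive.ofMul (PicGrp.cls L hL) := by
  choose L hL using exists_rel (i := i)
  have hkey : ∀ q M, Rel (i := i) q M → ∀ hM : PicF.IsInvertible M,
      Additive.ofMul (PicGrp.cls (L q) (hL q).isInvertible) = Additive.ofMul (PicGrp.cls M hM) :=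
    fun q M h hM => congrArg Additive.ofMul
      (Subtype.ext ((PicGrp.cl_eq_cl_iff _ _).2 ((hL q).iso h)))
  refine ⟨AddMonoidHom.mk' (fun q => Additive.ofMul (PicGrp.cls (L q) (hL q).isInvertible))
    fun q q' => ?_, fun c => ?_, fun q => ?_, hkey⟩
  · refine congrArg Additive.ofMul (Subtype.ext ?_)
    exact ((PicGrp.cl_eq_cl_iff _ _).2 ((hL _).iso ((hL q).tensor (hL q')))).trans
      (PicGrp.cls_mul_cls_val (hL q).isInvertible (hL q').isInvertible).symm
  · obtain ⟨c, rfl⟩ := Additive.ofMul.surjective c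
    obtain ⟨_, M, rfl, hM⟩ := c
    obtain ⟨q, hq⟩ := exists_of_invertible hind hM
    exact ⟨q, hkey q M hq hM⟩
  · constructor
    · intro h
      exact exists_lift_of_rel ((hL q).of_iso
        ((PicGrp.cls_eq_one_iff (hL q).isInvertible).1 (Additive.ofMul.injective h)).some)
    · rintro ⟨w, rfl⟩
      exact congrArg Additive.ofMul ((PicGrp.cls_eq_one_iff (hL _).isInvertible).2
        ((hL _).iso (rel_structure w)))

end Groth.PicAux.PicPush
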