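import Groth.Agent.PicAux.AbLES
import Groth.Agent.PicAux.PicPush
import Groth.Agent.PicAux.Pullback
import Mathlib.GroupTheory.QuotientGroup.Basic

/-!
# Pull-back of invertible modules along a homeomorphism as a map in cohomology
-/

universe u

open CategoryTheory Limits AlgebraicGeometry Opposite TopologicalSpace
open CategoryTheory.Abelian (Ext)

noncomputable section

namespace Groth.PicAux.PicThick

open Groth.PicAux Groth.PicAux.PicPush

section Pres

variable {T : TopCat.{u}} {F G : CohBase.AbSheaf T} (φ : F ⟶ G)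

/-- The connecting map of the injective presentation. -/
def δp (F : CohBase.AbSheaf T) :
    (CohBase.injPres F).X₃.obj.obj (op ⊤) →+ (Sheaf.H F 1 : Type u) :=
  (AbLES.δ (CohBase.injPres_shortExact F) 0).comp
    (Sheaf.H.equiv₀ (CohBase.injPres F).X₃ (isTerminalTop (α := Opens T))).symm.toAddMonoidHom

theorem δp_surjective (F : CohBase.AbSheaf T) : Function.Surjective (δp F) := fun x => by
  obtain ⟨y, rfl⟩ := AbLES.exists_of_hmap_f_eq_zero (CohBase.injPres_shortExact F) 0 (x := x)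
    (Ext.eq_zero_of_injective _)
  exact ⟨Sheaf.H.equiv₀ _ (isTerminalTop (α := Opens T)) y,
    congrArg (AbLES.δ (CohBase.injPres_shortExact F) 0) (AddEquiv.symm_apply_apply _ y)⟩

theorem δp_eq_zero_iff (F : CohBase.AbSheaf T) (q : (CohBase.injPres F).X₃.obj.obj (op ⊤)) :
    δp F q = 0 ↔ q ∈ ((CohBase.injPres F).g.hom.app (op ⊤)).hom.range := by
  have hS := CohBase.injPres_shortExact F
  let e₂ := Sheaf.H.equiv₀ (CohBase.injPres F).X₂ (isTerminalTop (α := Opens T))
  let e₃ := Sheaf.H.equiv₀ (CohBase.injPres F).X₃ (isTerminalTop (α := Opens T))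
  constructor
  · intro h
    obtain ⟨y, hy⟩ := AbLES.exists_of_δ_eq_zero hS 0 h
    refine ⟨e₂ y, ?_⟩
    show (CohBase.injPres F).g.hom.app (op ⊤) (e₂ y) = q
    have h1 := Sheaf.H.equiv₀_naturality (isTerminalTop (α := Opens T)) (CohBase.injPres F).g y
    rw [hy, AddEquiv.toAddMonoidHom_eq_coe, AddMonoidHom.coe_coe, AddEquiv.apply_symm_apply] at h1
    exact h1
  · rintro ⟨w, rfl⟩
    change AbLES.δ hS 0 (e₃.symm ((CohBase.injPres F).g.hom.app (op ⊤) w)) = 0
    rw [← Sheaf.H.equiv₀_symm_naturality (isTerminalTop (α := Opens T)) (CohBase.injPres F).g w]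
    exact AbLES.δ_hmap_g hS 0 _

/-- The extension to the injective sheaves. -/
def preMid : Injective.under F ⟶ Injective.under G :=
  Injective.factorThru (φ ≫ Injective.ι G) (Injective.ι F)

theorem ι_preMid : Injective.ι F ≫ preMid φ = φ ≫ Injective.ι G := Injective.comp_factorThru _ _

/-- The map of the cokernels. -/
def preEnd : cokernel (Injective.ι F) ⟶ cokernel (Injective.ι G) :=
  cokernel.desc _ (preMid φ ≫ cokernel.π _)
    (by rw [← Category.assoc, ι_preMid, Category.assoc, cokernel.condition, comp_zero])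

/-- The map of injective presentations. -/
def presMap : CohBase.injPres F ⟶ CohBase.injPres G where
  τ₁ := φ
  τ₂ := preMid φ
  τ₃ := preEnd φ
  comm₁₂ := (ι_preMid φ).symm
  comm₂₃ := (cokernel.π_desc _ _ _).symm

theorem presMap_τ₁ : (presMap φ).τ₁ = φ := rfl

theorem hmap_δp (q : (CohBase.injPres F).X₃.obj.obj (op ⊤)) :
    Sheaf.H.map φ 1 (δp F q) = δp G ((presMap φ).τ₃.hom.app (op ⊤) q) := by
  have hF := CohBase.injPres_shortExact F
  have hG := CohBase.injPres_shortExact G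
  let x := (Sheaf.H.equiv₀ (CohBase.injPres F).X₃ (isTerminalTop (α := Opens T))).symm q
  change (Ext.comp (Ext.comp x hF.extClass rfl) (Ext.mk₀ φ) (add_zero 1)) =
    Ext.comp ((Sheaf.H.equiv₀ (CohBase.injPres G).X₃ (isTerminalTop (α := Opens T))).symm
      ((presMap φ).τ₃.hom.app (op ⊤) q)) hG.extClass rfl
  rw [← Sheaf.H.equiv₀_symm_naturality (isTerminalTop (α := Opens T)) (presMap φ).τ₃ q]
  exact ((Ext.comp_assoc_of_third_deg_zero x hF.extClass (Ext.mk₀ φ) rfl).trans
    (congrArg (fun e => Ext.comp x e rfl)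
      (ShortComplex.ShortExact.extClass_naturality hF hG (presMap φ)))).trans
    (Ext.comp_assoc_of_second_deg_zero x (Ext.mk₀ (presMap φ).τ₃) hG.extClass rfl).symm

end Pres

variable {X Y : Scheme.{u}}

/-- `Pic Y ≅ H¹(X, i_* O_Y^×)`, computed by glueing. -/
theorem exists_theta (i : Y ⟶ X) [Surjective i] (hind : Topology.IsInducing i) [PicGrp.Law Y] :
    ∃ Θ : Additive (PicLoc.PicSet Y) ≃+ (Sheaf.H (F i) 1 : Type u),
      ∀ q L, Rel (i := i) q L → ∀ hL : PicF.IsInvertible L,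
        Θ (Additive.ofMul (PicGrp.cls L hL)) = δp (F i) q := by
  obtain ⟨Φ, hΦ, hΦk, hΦR⟩ := exists_hom i hind
  have hk : Φ.ker = (δp (F i)).ker := AddSubgroup.ext fun q =>
    (hΦk q).trans (δp_eq_zero_iff (F i) q).symm
  let e1 := QuotientAddGroup.quotientKerEquivOfSurjective Φ hΦ
  let e2 := QuotientAddGroup.quotientKerEquivOfSurjective (δp (F i)) (δp_surjective _)
  refine ⟨e1.symm.trans ((QuotientAddGroup.quotientAddEquivOfEq hk).trans e2),
    fun q L h hL => ?_⟩
  rw [← hΦR q L h hL]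
  have : e1.symm (Φ q) = QuotientAddGroup.mk q := e1.injective (by
    rw [AddEquiv.apply_symm_apply]; rfl)
  rw [AddEquiv.trans_apply, AddEquiv.trans_apply, this]
  rfl

variable (X) in
/-- The units as the direct image along the identity. -/
abbrev κ : UnitsSh.unitsAb X ⟶ F (𝟙 X) := UnitsSh.comap (𝟙 X)

instance : IsIso (κ X) := by
  have : IsIso ((sheafToPresheaf _ _).map (κ X)) := by
    refine (NatTrans.isIso_iff_isIso_app _).mpr fun U => ?_
    refine (ConcreteCategory.isIso_iff_bijective _).mpr ⟨fun a b h => h, fun a => ⟨a, rfl⟩⟩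
  exact isIso_of_reflects_iso (κ X) (sheafToPresheaf _ _)

variable (i : Y ⟶ X)

/-- Restriction of units along `i`, between direct images. -/
def ψ : F (𝟙 X) ⟶ F i := inv (κ X) ≫ UnitsSh.comap i

theorem ψ_app (W : X.Opens) (a : Γ(X, W)ˣ) :
    (ψ i).hom.app (op W) (UnitsSh.sectOfUnit (O := X.presheaf) a) =
      UnitsSh.sectOfUnit (O := Y.presheaf) (Units.map (i.app W).hom.toMonoidHom a) := by
  have h : κ X ≫ ψ i = UnitsSh.comap i := by rw [ψ, IsIso.hom_inv_id_assoc]
  exact congr($(congrArg (fun t : UnitsSh.unitsAb X ⟶ F i => t.hom.app (op W)) h)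
    (UnitsSh.sectOfUnit (O := X.presheaf) a))

theorem Rel.pull {q} {L : X.Modules} (h : Rel (i := 𝟙 X) q L) :
    Rel (i := i) ((presMap (ψ i)).τ₃.hom.app (op ⊤) q) ((Scheme.Modules.pullback i).obj L) := by
  obtain ⟨U, e, t, hxU, he, ht, hrel⟩ := h
  let τ := presMap (ψ i)
  refine ⟨fun y => U (i y), fun y => pullSec i L (e (i y)),
    fun y => τ.τ₂.hom.app (op (U (i y))) (t (i y)), fun y => hxU (i y), fun y => (he (i y)).pull i,
    fun y => ?_, fun x y a ha => ?_⟩
  · refine Eq.trans (congr($(congrArg (fun s : (SU (𝟙 X)).X₂ ⟶ (SU i).X₃ => s.hom.app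
      (op (U (i y)))) τ.comm₂₃) (t (i y)))) ?_
    change τ.τ₃.hom.app _ (bU (𝟙 X) _ (t (i y))) = _
    rw [ht]
    exact CohBase.res_naturality (X := X.toTopCat) _ τ.τ₃.hom le_top q
  · obtain ⟨b, hb⟩ := ((he (i y)).res (inf_le_right : U (i x) ⊓ U (i y) ≤ U (i y))).exists_unit
      ((he (i x)).res (inf_le_left : U (i x) ⊓ U (i y) ≤ U (i x)))
    have hab : a = Units.map (i.app _).hom.toMonoidHom b := by
      refine Units.ext (((he (i y)).pull i).smul_inj (i.preimage_mono inf_le_right)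
        (ha.symm.trans ?_))
      exact ((res_pullSec i L (inf_le_left : U (i x) ⊓ U (i y) ≤ U (i x)) (e (i x))).trans
        ((congrArg (pullSec i L) hb).trans (pullSec_smul i L _ _))).trans
        (congrArg (_ • ·) (res_pullSec i L (inf_le_right : U (i x) ⊓ U (i y) ≤ U (i y)) (e (i y))).symm)
    have h1 := congrArg (τ.τ₂.hom.app (op (U (i x) ⊓ U (i y)))) (hrel (i x) (i y) b hb)
    rw [map_add] at h1
    change resJ i _ (τ.τ₂.hom.app _ (t (i x))) = jl a + resJ i _ (τ.τ₂.hom.app _ (t (i y)))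
    rw [← CohBase.res_naturality (X := X.toTopCat) _ τ.τ₂.hom,
      ← CohBase.res_naturality (X := X.toTopCat) _ τ.τ₂.hom]
    refine h1.trans (congrArg (· + _) ?_)
    refine (congr($(congrArg (fun s : (SU (𝟙 X)).X₁ ⟶ (SU i).X₂ => s.hom.app
      (op (U (i x) ⊓ U (i y)))) τ.comm₁₂.symm)
      (UnitsSh.sectOfUnit (O := X.presheaf) b))).trans ?_
    change (SU i).f.hom.app _ ((ψ i).hom.app _ (UnitsSh.sectOfUnit (O := X.presheaf) b)) = jl a
    rw [ψ_app, hab]
    rfl

/-- Pull-back of classes is the map on `H¹` of the units. -/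
theorem exists_pic_H1 [Surjective i] (hind : Topology.IsInducing i) [PicGrp.Law X] [PicGrp.Law Y]
    (hi : PicGrp.PullMul i) :
    ∃ (eX : Additive (PicLoc.PicSet X) ≃+ (Sheaf.H (UnitsSh.unitsAb X) 1 : Type u))
      (eY : Additive (PicLoc.PicSet Y) ≃+ (Sheaf.H (F i) 1 : Type u)),
      ∀ c, eY (Additive.ofMul (PicGrp.pullHom i hi c)) =
        Sheaf.H.map (UnitsSh.comap i) 1 (eX (Additive.ofMul c)) := by
  obtain ⟨ΘX, hX⟩ := exists_theta (𝟙 X) Topology.IsInducing.id
  obtain ⟨ΘY, hY⟩ := exists_theta i hind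
  let K : (Sheaf.H (UnitsSh.unitsAb X) 1 : Type u) ≃+ (Sheaf.H (F (𝟙 X)) 1 : Type u) :=
    { Sheaf.H.map (κ X) 1 with
      invFun := Sheaf.H.map (inv (κ X)) 1
      left_inv := fun x => (Sheaf.H.map_comp_apply _ _ x).symm.trans
        (by rw [IsIso.hom_inv_id, Sheaf.H.map_id_apply])
      right_inv := fun x => (Sheaf.H.map_comp_apply _ _ x).symm.trans
        (by rw [IsIso.inv_hom_id, Sheaf.H.map_id_apply]) }
  refine ⟨ΘX.trans K.symm, ΘY, fun c => ?_⟩
  obtain ⟨L, hL, rfl⟩ := PicGrp.exists_eq_cls c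
  obtain ⟨q, hq⟩ := exists_of_invertible (i := 𝟙 X) Topology.IsInducing.id hL
  rw [PicGrp.pullHom_cls, AddEquiv.trans_apply, hX q L hq hL,
    hY _ _ (Rel.pull i hq) (PicLoc.isInvertible_pullback i hL), ← hmap_δp]
  exact Sheaf.H.map_comp_apply _ _ _

end Groth.PicAux.PicThick
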