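import Groth.Agent.PicAux.Sections

/-!
# Modules whose sections extend uniquely from an open subscheme
-/

universe u

open CategoryTheory AlgebraicGeometry Opposite TopologicalSpace

namespace Groth.PicAux

variable {U X : Scheme.{u}} (j : U ⟶ X) [IsOpenImmersion j] {L M : X.Modules}

/-- Sections of `M` over every open extend uniquely from the image of `j`. -/
def SecBij (M : X.Modules) : Prop :=
  ∀ V : X.Opens, Function.Bijective (res M (j.image_preimage_le V))

/-- Functions over every open extend uniquely from the image of `j`. -/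
def FunBij : Prop :=
  ∀ V : X.Opens, Function.Bijective (resX X (j.image_preimage_le V))

variable {j}

theorem secBij_of_isInvertible (h : FunBij j) (hM : PicF.IsInvertible M) : SecBij j M := by
  choose W e hxW he using fun x : X => (isInvertible_iff_exists_gen _).1 hM x
  have key : ∀ (V : X.Opens) x, V ≤ W x → Function.Bijective (res M (j.image_preimage_le V)) := by
    intro V x hV
    have e1 : res M (j.image_preimage_le V) ∘ (fun r : Γ(X, V) => r • res M hV (e x)) =
        (fun r => r • res M ((j.image_preimage_le V).trans hV) (e x)) ∘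
          resX X (j.image_preimage_le V) := by
      funext r
      simp
    refine (Function.Bijective.of_comp_iff _ (he x V hV)).1 ?_
    rw [e1]
    exact (he x _ ((j.image_preimage_le V).trans hV)).comp (h V)
  have hc : ∀ V : X.Opens, V ≤ ⨆ x, V ⊓ W x := fun V v hv =>
    Opens.mem_iSup.2 ⟨v, hv, hxW v⟩
  have him : ∀ {A B : X.Opens}, A ≤ B → j ''ᵁ j ⁻¹ᵁ A ≤ j ''ᵁ j ⁻¹ᵁ B := fun h =>
    j.image_mono (j.preimage_mono h)
  intro V
  constructor
  · intro a b hab
    refine res_ext (fun x => V ⊓ W x) (fun _ => inf_le_left) (hc V) fun x => (key _ x inf_le_right).1 ?_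
    have := congrArg (res M (him (inf_le_left : V ⊓ W x ≤ V))) hab
    simpa using this
  · intro t
    choose y hy using fun x => (key (V ⊓ W x) x inf_le_right).2 (res M (him inf_le_left) t)
    obtain ⟨z, hz, -⟩ := res_glue (fun x => V ⊓ W x) (fun _ => inf_le_left) (hc V) y fun x x' => by
      refine (key _ x (inf_le_left.trans inf_le_right)).1 ?_
      have e1 := congrArg (res M (him (inf_le_left : (V ⊓ W x) ⊓ (V ⊓ W x') ≤ V ⊓ W x))) (hy x)
      have e2 := congrArg (res M (him (inf_le_right : (V ⊓ W x) ⊓ (V ⊓ W x') ≤ V ⊓ W x'))) (hy x')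
      simp only [res_res] at e1 e2 ⊢
      rw [e1, e2]
    refine ⟨z, res_ext (fun x => j ''ᵁ j ⁻¹ᵁ (V ⊓ W x)) (fun x => him inf_le_left) ?_ fun x => ?_⟩
    · rintro _ ⟨v, hv, rfl⟩
      exact Opens.mem_iSup.2 ⟨j.base v, v, ⟨hv, hxW _⟩, rfl⟩
    · rw [res_res, ← hy x, ← hz x, res_res]

theorem funBij_iff :
    FunBij j ↔ SecBij j (Coh.structureModule X) :=
  Iff.rfl

/-- A morphism of restricted modules on sections. -/
noncomputable def restrictApp (χ : L.restrict j ⟶ M.restrict j) (W : U.Opens) :
    Γ(L, j ''ᵁ W) →+ Γ(M, j ''ᵁ W) :=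
  (χ.app W).hom

theorem res_restrictApp (χ : L.restrict j ⟶ M.restrict j) {W' W : U.Opens} (h : W' ≤ W)
    (x : Γ(L, j ''ᵁ W)) :
    restrictApp χ W' (res L (j.image_mono h) x) = res M (j.image_mono h) (restrictApp χ W x) :=
  app_res χ h x

/-- Scalars on a restricted module. -/
theorem restrictApp_smul (χ : L.restrict j ⟶ M.restrict j) (W : U.Opens) (r : Γ(X, j ''ᵁ W))
    (x : Γ(L, j ''ᵁ W)) :
    restrictApp χ W (r • x) = r • restrictApp χ W x := by
  have e : (j.appIso W).inv ((j.appIso W).hom r) = r :=
    congr($((j.appIso W).hom_inv_id) r)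
  have h' : restrictApp χ W ((j.appIso W).inv ((j.appIso W).hom r) • x) =
      (j.appIso W).inv ((j.appIso W).hom r) • restrictApp χ W x :=
    Scheme.Modules.Hom.app_smul χ ((j.appIso W).hom r) (x : Γ(L.restrict j, W))
  rwa [e] at h'

/-- Restriction along `j` is bijective on morphisms into a module with the extension property. -/
theorem restrict_map_bijective (hM : SecBij j M) :
    Function.Bijective fun φ : L ⟶ M => (Scheme.Modules.restrictFunctor j).map φ := by
  constructor
  · intro φ ψ h
    ext V x
    refine (hM V).1 ?_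
    rw [← app_res, ← app_res]
    exact congr(($h).app (j ⁻¹ᵁ V) (res L (j.image_preimage_le V) x))
  · intro χ
    let g (V : X.Opens) (x : Γ(L, V)) : Γ(M, V) :=
      Function.surjInv (hM V).2 (restrictApp χ (j ⁻¹ᵁ V) (res L (j.image_preimage_le V) x))
    have hg : ∀ V x, res M (j.image_preimage_le V) (g V x) =
        restrictApp χ (j ⁻¹ᵁ V) (res L (j.image_preimage_le V) x) := fun V x =>
      Function.surjInv_eq (hM V).2 _
    let gh (V : X.Opens) : Γ(L, V) →+ Γ(M, V) := AddMonoidHom.mk' (g V) fun x y => (hM V).1 (by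
      rw [res_add, hg, hg, hg, res_add]
      exact map_add _ _ _)
    let ψ : L.presheaf ⟶ M.presheaf :=
      { app := fun V => AddCommGrpCat.ofHom (gh V.unop)
        naturality := fun V V' i => by
          ext x
          have key : ∀ {A B : X.Opens} (h : B ≤ A) (x : Γ(L, A)),
              g B (res L h x) = res M h (g A x) := by
            intro A B h x
            refine (hM B).1 ?_
            have e := congrArg (res M (j.image_mono (j.preimage_mono h))) (hg A x)
            rw [← res_restrictApp χ (j.preimage_mono h)] at e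
            simp only [res_res] at e ⊢
            rw [e, hg B, res_res]
          exact key i.unop.le x }
    refine ⟨⟨PresheafOfModules.homMk ψ fun V r x => ?_⟩, ?_⟩
    · have key : ∀ (r : Γ(X, V.unop)) (x : Γ(L, V.unop)), g V.unop (r • x) = r • g V.unop x := by
        intro r x
        refine (hM V.unop).1 ?_
        rw [res_smul, hg, hg, res_smul, restrictApp_smul]
      exact key r x
    · ext W x
      change g (j ''ᵁ W) x = restrictApp χ W x
      refine (hM _).1 ?_
      rw [hg]
      exact res_restrictApp χ (j.preimage_image_eq W).le x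

/-- The unit `M ⟶ j_*(M|_U)` is an isomorphism for a module with the extension property. -/
theorem isIso_unit_of_secBij (hM : SecBij j M) :
    IsIso ((Scheme.Modules.restrictAdjunction j).unit.app M) := by
  rw [Scheme.Modules.Hom.isIso_iff_isIso_app]
  intro V
  rw [ConcreteCategory.isIso_iff_bijective]
  exact hM V

theorem isInvertible_of_iso' {M : X.Modules} (hL : PicF.IsInvertible L) (e : L ≅ M) :
    PicF.IsInvertible M := fun x => by
  obtain ⟨W, hx, ⟨i⟩⟩ := hL x
  exact ⟨W, hx, ⟨(Scheme.Modules.restrictFunctor W.ι).mapIso e.symm ≪≫ i⟩⟩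

end Groth.PicAux

namespace Groth.PicAux

variable {X : Scheme.{u}}

theorem resX_bijective_congr {W A B : X.Opens} (hA : A ≤ W) (hB : B ≤ W) (e : A = B) :
    Function.Bijective (resX X hA) ↔ Function.Bijective (resX X hB) := by
  subst e
  exact Iff.rfl

theorem resX_bijective_congr' {W W' A B : X.Opens} (hA : A ≤ W) (hB : B ≤ W') (e : A = B)
    (e' : W = W') : Function.Bijective (resX X hA) ↔ Function.Bijective (resX X hB) := by
  subst e'
  exact resX_bijective_congr hA hB e

theorem funBij_ι {U : X.Opens}
    (h : ∀ V : X.Opens, Function.Bijective (resX X (inf_le_left : V ⊓ U ≤ V))) : FunBij U.ι := fun V =>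
  (resX_bijective_congr (U.ι.image_preimage_le V) inf_le_left
    (by rw [Scheme.Hom.image_preimage_eq_opensRange_inf, Scheme.Opens.opensRange_ι, inf_comm])).2 (h V)

theorem ι_image_homOfLE_image (V C : X.Opens) (W : (V : Scheme.{u}).Opens) :
    V.ι ''ᵁ ((X.homOfLE (inf_le_left : V ⊓ C ≤ V)) ''ᵁ
      ((X.homOfLE (inf_le_left : V ⊓ C ≤ V)) ⁻¹ᵁ W)) = V.ι ''ᵁ W ⊓ C := by
  rw [Scheme.Hom.image_preimage_eq_opensRange_inf, Scheme.opensRange_homOfLE]
  ext x
  constructor
  · rintro ⟨v, ⟨⟨-, hC⟩, hW⟩, rfl⟩
    exact ⟨⟨v, hW, rfl⟩, hC⟩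
  · rintro ⟨⟨v, hW, rfl⟩, hC⟩
    exact ⟨v, ⟨⟨v.2, hC⟩, hW⟩, rfl⟩

theorem funBij_homOfLE {C : X.Opens}
    (h : ∀ V : X.Opens, Function.Bijective (resX X (inf_le_left : V ⊓ C ≤ V))) (V : X.Opens) :
    FunBij (X.homOfLE (inf_le_left : V ⊓ C ≤ V)) := fun W =>
  (resX_bijective_congr (V.ι.image_mono ((X.homOfLE _).image_preimage_le W)) inf_le_left
    (ι_image_homOfLE_image V C W)).2 (h (V.ι ''ᵁ W))

variable {U : Scheme.{u}} (j : U ⟶ X) [IsOpenImmersion j]

theorem gen_restrict_oneSec :
    Gen ((Coh.structureModule X).restrict j) ⊤ (oneSec X (j ''ᵁ ⊤)) := by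
  intro W hW
  have h : Function.Bijective (j.appIso W).inv := ConcreteCategory.bijective_of_isIso _
  refine (congrArg Function.Bijective (funext fun r => ?_)).mp h
  change (j.appIso W).inv r = (j.appIso W).inv r * resX X (j.image_mono hW) 1
  rw [map_one, mul_one]

/-- If restriction along `j` is bijective on endomorphisms of `O_X`, global functions extend
uniquely from the image of `j`. -/
theorem resX_bijective_of_restrict_map_bijective
    (h : Function.Bijective fun φ : Coh.structureModule X ⟶ Coh.structureModule X =>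
      (Scheme.Modules.restrictFunctor j).map φ) :
    Function.Bijective (resX X (le_top : j ''ᵁ ⊤ ≤ ⊤)) := by
  constructor
  · intro a b hab
    have : homOfSection (M := Coh.structureModule X) a =
        homOfSection (M := Coh.structureModule X) b := by
      refine h.1 (Scheme.Modules.hom_ext _ _ fun W => ?_)
      ext x
      change (homOfSection (M := Coh.structureModule X) a).app (j ''ᵁ W) x =
        (homOfSection (M := Coh.structureModule X) b).app (j ''ᵁ W) x
      rw [hom_structure_apply, hom_structure_apply (homOfSection (M := Coh.structureModule X) b),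
        homOfSection_one, homOfSection_one]
      have e : resX X (le_top : j ''ᵁ W ≤ ⊤) a = resX X (le_top : j ''ᵁ W ≤ ⊤) b := by
        simpa using congrArg (resX X (j.image_mono (le_top : W ≤ ⊤))) hab
      exact congrArg (toFun x * ·) e
    have h2 := congr(($this).app ⊤ (oneSec X ⊤))
    rw [homOfSection_one, homOfSection_one] at h2
    exact h2
  · intro t
    obtain ⟨χ, hχ⟩ := exists_hom_of_gen (U := fun _ : Unit => (⊤ : U.Opens))
      (L := (Coh.structureModule X).restrict j) (M := (Coh.structureModule X).restrict j) (by simp)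
      (fun _ => oneSec X (j ''ᵁ ⊤)) (fun _ => gen_restrict_oneSec j) (fun _ => t)
      (fun _ _ r hr => by
        have : r = 1 := (gen_restrict_oneSec j).smul_inj le_top (by rw [one_smul]; exact hr.symm)
        rw [this, one_smul])
    obtain ⟨φ, hφ⟩ := h.2 χ
    refine ⟨φ.app ⊤ (oneSec X ⊤), ?_⟩
    have h1 : φ.app (j ''ᵁ ⊤) (oneSec X (j ''ᵁ ⊤)) = t := by
      rw [← hφ] at hχ
      exact hχ ()
    rw [← h1, ← res_oneSec (le_top : j ''ᵁ ⊤ ≤ ⊤), app_res]
    rfl

theorem resX_bijective_of_pair {C : X.Opens} (V : X.Opens)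
    (h : Function.Bijective fun φ : Coh.structureModule (V : Scheme.{u}) ⟶ Coh.structureModule _ =>
      (Scheme.Modules.restrictFunctor (X.homOfLE (inf_le_left : V ⊓ C ≤ V))).map φ) :
    Function.Bijective (resX X (inf_le_left : V ⊓ C ≤ V)) := by
  have hb : Function.Bijective (resX X (V.ι.image_mono
      (le_top : (X.homOfLE (inf_le_left : V ⊓ C ≤ V)) ''ᵁ ⊤ ≤ ⊤))) :=
    resX_bijective_of_restrict_map_bijective _ h
  have e := ι_image_homOfLE_image V C ⊤
  rw [Scheme.Opens.ι_image_top] at e
  exact (resX_bijective_congr' _ inf_le_left e (Scheme.Opens.ι_image_top V)).1 hb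

end Groth.PicAux
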