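import Groth.Agent.PicAux.AbLES
import Groth.Agent.PicAux.ThickInj
import Groth.Prelude.Def_UnitsSh

/-!
# The units sequence of a first order thickening
-/

universe u

open CategoryTheory Limits AlgebraicGeometry Opposite TopologicalSpace

noncomputable section

namespace Groth.PicAux.UnitsSeq

open Groth.PicAux

variable {X : Scheme.{u}} {I : X.IdealSheafData} (hI : I * I = ⊥)

/-- The unit `1 + f`. -/
def oneAdd {U : X.Opens} (f : Γ(ClSub.idealMod I, U)) : Γ(X, U)ˣ :=
  (ThickInj.isUnit_of_app hI (W := U) (e := 1 + OmegaSh.idealSect I U f) (by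
    rw [map_add, map_one, Groth.OmegaSheaf.subschemeι_app_idealSect, add_zero]
    exact isUnit_one)).unit

@[simp] theorem oneAdd_val {U : X.Opens} (f : Γ(ClSub.idealMod I, U)) :
    (oneAdd hI f : Γ(X, U)) = 1 + OmegaSh.idealSect I U f := IsUnit.unit_spec _

theorem oneAdd_add {U : X.Opens} (f g : Γ(ClSub.idealMod I, U)) :
    oneAdd hI (f + g) = oneAdd hI f * oneAdd hI g := by
  refine Units.ext ?_
  rw [Units.val_mul, oneAdd_val, oneAdd_val, oneAdd_val, map_add, mul_add, add_mul, add_mul,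
    one_mul, mul_one, one_mul, ThickInj.mul_eq_zero_of_app hI
      (Groth.OmegaSheaf.subschemeι_app_idealSect I U f)
      (Groth.OmegaSheaf.subschemeι_app_idealSect I U g)]
  abel

/-- `I ⟶ O^×`, `f ↦ 1 + f`. -/
def φ : Coh.toAb (ClSub.idealMod I) ⟶ UnitsSh.unitsAb X :=
  ⟨{ app := fun U => AddCommGrpCat.ofHom (X := (Coh.toAb (ClSub.idealMod I)).obj.obj U)
      (Y := (UnitsSh.unitsAb X).obj.obj U)
      (AddMonoidHom.mk' (fun f => UnitsSh.sectOfUnit (O := X.presheaf) (oneAdd hI (U := U.unop) f))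
        fun f g => congrArg (UnitsSh.sectOfUnit (O := X.presheaf)) (oneAdd_add hI f g))
     naturality := fun U V i => by
      ext f
      refine congrArg (UnitsSh.sectOfUnit (O := X.presheaf)) (Units.ext ?_)
      refine (oneAdd_val hI _).trans (Eq.trans ?_
        (congrArg (X.presheaf.map i) (oneAdd_val hI (U := U.unop) f)).symm)
      rw [map_add, map_one]
      exact congrArg (1 + ·) (Groth.OmegaSheaf.idealSect_res I (leOfHom i.unop) f) }⟩

theorem φ_val (U : X.Opens) (f : Γ(ClSub.idealMod I, U)) :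
    ((UnitsSh.unitOfSect (O := X.presheaf) ((φ hI).hom.app (op U) f)).val : Γ(X, U)) =
      1 + OmegaSh.idealSect I U f :=
  oneAdd_val hI f

theorem φ_comp : φ hI ≫ UnitsSh.comap I.subschemeι = 0 := by
  apply Sheaf.hom_ext
  ext U f
  refine congrArg (Additive.ofMul) (Units.ext ?_)
  change I.subschemeι.app U.unop (oneAdd hI f : Γ(X, U.unop)) = 1
  rw [oneAdd_val, map_add, map_one, Groth.OmegaSheaf.subschemeι_app_idealSect, add_zero]

/-- The units sequence. -/
abbrev S : ShortComplex (CohBase.AbSheaf X.toTopCat) :=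
  ShortComplex.mk (φ hI) (UnitsSh.comap I.subschemeι) (φ_comp hI)

include hI in
/-- Units lift locally. -/
theorem exists_lift_unit {W : X.Opens} (hW : IsAffineOpen W)
    (v : Γ(I.subscheme, I.subschemeι ⁻¹ᵁ W)ˣ) :
    ∃ u : Γ(X, W)ˣ, I.subschemeι.app W u = v := by
  obtain ⟨c, hc⟩ := I.subschemeι.app_surjective W hW (v : Γ(I.subscheme, I.subschemeι ⁻¹ᵁ W))
  exact ⟨(ThickInj.isUnit_of_app hI (hc ▸ v.isUnit)).unit, by rw [IsUnit.unit_spec, hc]⟩

theorem shortExact : (S hI).ShortExact := by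
  refine AbLES.shortExact_of_sections _ (fun V f g h => ?_) (fun V s hs => ?_) (fun W q x hx => ?_)
  · refine Groth.OmegaSheaf.idealSect_injective I V (add_left_cancel (a := (1 : Γ(X, V))) ?_)
    rw [← φ_val (hI := hI), ← φ_val (hI := hI), show (φ hI).hom.app (op V) f = _ from h]
  · have h1 : I.subschemeι.app V ((UnitsSh.unitOfSect (O := X.presheaf) s).val : Γ(X, V)) = 1 :=
      congrArg (fun t => (UnitsSh.unitOfSect (O := I.subscheme.presheaf) (U := op (I.subschemeι ⁻¹ᵁ V)) t).val) hs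
    obtain ⟨f, hf⟩ := Groth.OmegaSheaf.exists_idealSect_eq I V
      (((UnitsSh.unitOfSect (O := X.presheaf) s).val : Γ(X, V)) - 1) (by rw [map_sub, h1, map_one, sub_self])
    exact ⟨f, congrArg (UnitsSh.sectOfUnit (O := X.presheaf))
      (Units.ext ((oneAdd_val hI f).trans (by rw [hf, add_sub_cancel]; rfl)))⟩
  · obtain ⟨_, ⟨V, hV, rfl⟩, hxV, hle⟩ := X.isBasis_affineOpens.exists_subset_of_mem_open hx W.2
    obtain ⟨u, hu⟩ := exists_lift_unit hI hV (UnitsSh.unitOfSect (CohBase.res (X := X.toTopCat)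
      ((CohTop.push I.subschemeι.base).obj (UnitsSh.unitsAb I.subscheme)).obj hle q))
    exact ⟨V, hle, hxV, UnitsSh.sectOfUnit (O := X.presheaf) u,
      congrArg (UnitsSh.sectOfUnit (O := I.subscheme.presheaf)) (Units.ext hu)⟩

end Groth.PicAux.UnitsSeq
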