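import Groth.Agent.PicAux.PicThick
import Groth.Agent.PicAux.UnitsSeq

/-!
# The exact sequence of units and Picard groups of a first order thickening
-/

universe u

open CategoryTheory Limits AlgebraicGeometry Opposite TopologicalSpace

noncomputable section

namespace Groth.PicAux.PicExpSeq

open Groth.PicAux

variable {X : Scheme.{u}}

/-- Global units as cohomology in degree zero. -/
def uX (X : Scheme.{u}) :
    Additive (Γ(X, ⊤))ˣ ≃+ (Sheaf.H (UnitsSh.unitsAb X) 0 : Type u) :=
  (Sheaf.H.equiv₀ (UnitsSh.unitsAb X) (isTerminalTop (α := X.Opens))).symm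

/-- Global units of `Y` as cohomology on `X`. -/
def uY {Y : Scheme.{u}} (i : Y ⟶ X) :
    Additive (Γ(Y, ⊤))ˣ ≃+ (Sheaf.H (PicPush.F i) 0 : Type u) :=
  (Sheaf.H.equiv₀ (PicPush.F i) (isTerminalTop (α := X.Opens))).symm

theorem uY_map {Y : Scheme.{u}} (i : Y ⟶ X) (v : (Γ(X, ⊤))ˣ) :
    uY i (Additive.ofMul (Units.map i.appTop.hom.toMonoidHom v)) =
      Sheaf.H.map (UnitsSh.comap i) 0 (uX X (Additive.ofMul v)) :=
  (Sheaf.H.equiv₀_symm_naturality (isTerminalTop (α := X.Opens)) (UnitsSh.comap i)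
    (Additive.ofMul v)).symm

variable {I : X.IdealSheafData} (hI : I * I = ⊥)

include hI in
theorem surjective_subschemeι : Surjective I.subschemeι :=
  ⟨fun x => ThickInj.mem_range hI x⟩

/-- `0 → H⁰(I) → O(X)ˣ → O(X₀)ˣ → H¹(I) → Pic X → Pic X₀ → H²(I)`. -/
theorem exists_sequence [PicGrp.Law X] [PicGrp.Law I.subscheme] (hi : PicGrp.PullMul I.subschemeι)
    (hI : I * I = ⊥) :
    ∃ (ε : Multiplicative (Coh.HH X (ClSub.idealMod I) 0) →* (Γ(X, ⊤))ˣ)
      (δ₀ : (Γ(I.subscheme, ⊤))ˣ →* Multiplicative (Coh.HH X (ClSub.idealMod I) 1))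
      (α : Multiplicative (Coh.HH X (ClSub.idealMod I) 1) →* PicLoc.PicSet X)
      (δ₁ : PicLoc.PicSet I.subscheme →* Multiplicative (Coh.HH X (ClSub.idealMod I) 2)),
      Function.Injective ε ∧
      (Units.map I.subschemeι.appTop.hom.toMonoidHom).ker = ε.range ∧
      δ₀.ker = (Units.map I.subschemeι.appTop.hom.toMonoidHom).range ∧
      α.ker = δ₀.range ∧
      (PicGrp.pullHom I.subschemeι hi).ker = α.range ∧
      δ₁.ker = (PicGrp.pullHom I.subschemeι hi).range := by
  have := surjective_subschemeι hI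
  have hS := UnitsSeq.shortExact hI
  obtain ⟨eX, eY, he⟩ := PicThick.exists_pic_H1 I.subschemeι
    I.subschemeι.isClosedEmbedding.isInducing hi
  let ι := I.subschemeι
  let ε : Multiplicative (Coh.HH X (ClSub.idealMod I) 0) →* (Γ(X, ⊤))ˣ :=
    MonoidHom.mk' (fun m => Additive.toMul ((uX X).symm
      (Sheaf.H.map (UnitsSeq.φ hI) 0 (Multiplicative.toAdd m)))) fun a b => by
        rw [toAdd_mul, map_add, map_add, toMul_add]
  let δ₀ : (Γ(I.subscheme, ⊤))ˣ →* Multiplicative (Coh.HH X (ClSub.idealMod I) 1) :=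
    MonoidHom.mk' (fun v => Multiplicative.ofAdd (AbLES.δ hS 0 (uY ι (Additive.ofMul v))))
      fun a b => by rw [ofMul_mul, map_add, map_add, ofAdd_add]
  let α : Multiplicative (Coh.HH X (ClSub.idealMod I) 1) →* PicLoc.PicSet X :=
    MonoidHom.mk' (fun m => Additive.toMul (eX.symm
      (Sheaf.H.map (UnitsSeq.φ hI) 1 (Multiplicative.toAdd m)))) fun a b => by
        rw [toAdd_mul, map_add, map_add, toMul_add]
  let δ₁ : PicLoc.PicSet I.subscheme →* Multiplicative (Coh.HH X (ClSub.idealMod I) 2) :=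
    MonoidHom.mk' (fun c => Multiplicative.ofAdd (AbLES.δ hS 1 (eY (Additive.ofMul c))))
      fun a b => by rw [ofMul_mul, map_add, map_add, ofAdd_add]
  refine ⟨ε, δ₀, α, δ₁, fun a b h => ?_, ?_, ?_, ?_, ?_, ?_⟩
  · exact Multiplicative.toAdd.injective (AbLES.hmap_f_zero_injective hS
      ((uX X).symm.injective (Additive.toMul.injective h)))
  · ext v
    constructor
    · intro hv
      have h0 : Sheaf.H.map (UnitsSh.comap ι) 0 (uX X (Additive.ofMul v)) = 0 := by
        rw [← uY_map, MonoidHom.mem_ker.1 hv, ofMul_one, map_zero]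
      obtain ⟨y, hy⟩ := AbLES.exists_of_hmap_g_eq_zero hS 0 h0
      refine ⟨Multiplicative.ofAdd y, ?_⟩
      show Additive.toMul ((uX X).symm (Sheaf.H.map (UnitsSeq.φ hI) 0 y)) = v
      rw [show Sheaf.H.map (UnitsSeq.φ hI) 0 y = uX X (Additive.ofMul v) from hy,
        AddEquiv.symm_apply_apply, toMul_ofMul]
    · rintro ⟨m, rfl⟩
      refine Additive.ofMul.injective ((uY ι).injective ?_)
      rw [uY_map, ofMul_one, map_zero]
      show Sheaf.H.map (UnitsSh.comap ι) 0 (uX X ((uX X).symm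
        (Sheaf.H.map (UnitsSeq.φ hI) 0 (Multiplicative.toAdd m)))) = 0
      rw [AddEquiv.apply_symm_apply]
      exact AbLES.hmap_g_f (S := UnitsSeq.S hI) 0 _
  · ext v
    constructor
    · intro hv
      obtain ⟨y, hy⟩ := AbLES.exists_of_δ_eq_zero hS 0 (x := uY ι (Additive.ofMul v))
        (Multiplicative.ofAdd.injective (show Multiplicative.ofAdd _ = Multiplicative.ofAdd 0 from hv))
      refine ⟨Additive.toMul ((uX X).symm y), ?_⟩
      refine Additive.ofMul.injective ((uY ι).injective ?_)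
      rw [uY_map, ofMul_toMul, AddEquiv.apply_symm_apply]
      exact hy
    · rintro ⟨w, rfl⟩
      show Multiplicative.ofAdd (AbLES.δ hS 0 (uY ι (Additive.ofMul _))) = 1
      rw [uY_map, show AbLES.δ hS 0 (Sheaf.H.map (UnitsSh.comap ι) 0 _) = 0 from
        AbLES.δ_hmap_g hS 0 _]
      rfl
  · ext m
    constructor
    · intro hm
      have h0 : Sheaf.H.map (UnitsSeq.φ hI) 1 (Multiplicative.toAdd m) = 0 :=
        eX.symm.injective (((Additive.toMul.injective
          (show Additive.toMul _ = Additive.toMul (0 : Additive (PicLoc.PicSet X)) from hm))).trans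
            (map_zero _).symm)
      obtain ⟨y, hy⟩ := AbLES.exists_of_hmap_f_eq_zero hS 0 h0
      refine ⟨Additive.toMul ((uY ι).symm y), ?_⟩
      show Multiplicative.ofAdd (AbLES.δ hS 0 (uY ι (Additive.ofMul _))) = m
      rw [ofMul_toMul, AddEquiv.apply_symm_apply, hy, ofAdd_toAdd]
    · rintro ⟨v, rfl⟩
      show Additive.toMul (eX.symm (Sheaf.H.map (UnitsSeq.φ hI) 1
        (AbLES.δ hS 0 (uY ι (Additive.ofMul v))))) = 1
      rw [show Sheaf.H.map (UnitsSeq.φ hI) 1 (AbLES.δ hS 0 (uY ι (Additive.ofMul v))) = 0 from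
        AbLES.hmap_f_δ hS 0 _, map_zero, toMul_zero]
  · ext c
    constructor
    · intro hc
      have h0 : Sheaf.H.map (UnitsSh.comap ι) 1 (eX (Additive.ofMul c)) = 0 := by
        rw [← he c, MonoidHom.mem_ker.1 hc, ofMul_one, map_zero]
      obtain ⟨y, hy⟩ := AbLES.exists_of_hmap_g_eq_zero hS 1 h0
      refine ⟨Multiplicative.ofAdd y, ?_⟩
      show Additive.toMul (eX.symm (Sheaf.H.map (UnitsSeq.φ hI) 1 y)) = c
      rw [show Sheaf.H.map (UnitsSeq.φ hI) 1 y = eX (Additive.ofMul c) from hy,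
        AddEquiv.symm_apply_apply, toMul_ofMul]
    · rintro ⟨m, rfl⟩
      refine Additive.ofMul.injective (eY.injective ?_)
      rw [he, ofMul_one, map_zero]
      show Sheaf.H.map (UnitsSh.comap ι) 1 (eX (eX.symm
        (Sheaf.H.map (UnitsSeq.φ hI) 1 (Multiplicative.toAdd m)))) = 0
      rw [AddEquiv.apply_symm_apply]
      exact AbLES.hmap_g_f (S := UnitsSeq.S hI) 1 _
  · ext c
    constructor
    · intro hc
      obtain ⟨y, hy⟩ := AbLES.exists_of_δ_eq_zero hS 1 (x := eY (Additive.ofMul c))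
        (Multiplicative.ofAdd.injective (show Multiplicative.ofAdd _ = Multiplicative.ofAdd 0 from hc))
      refine ⟨Additive.toMul (eX.symm y), ?_⟩
      refine Additive.ofMul.injective (eY.injective ?_)
      rw [he, ofMul_toMul, AddEquiv.apply_symm_apply]
      exact hy
    · rintro ⟨w, rfl⟩
      show Multiplicative.ofAdd (AbLES.δ hS 1 (eY (Additive.ofMul _))) = 1
      rw [he, show AbLES.δ hS 1 (Sheaf.H.map (UnitsSh.comap ι) 1 _) = 0 from
        AbLES.δ_hmap_g hS 1 _]
      rfl

include hI in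
/-- Units lift when global functions do. -/
theorem units_map_surjective (h : Function.Surjective I.subschemeι.appTop.hom) :
    Function.Surjective (Units.map I.subschemeι.appTop.hom.toMonoidHom) := fun v => by
  obtain ⟨c, hc⟩ := h v
  have hu : IsUnit c := ThickInj.isUnit_of_app hI (W := ⊤) (hc ▸ v.isUnit)
  exact ⟨hu.unit, Units.ext hc⟩

end Groth.PicAux.PicExpSeq
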