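import Groth.Agent.CohBase.Acyclic
import Groth.Agent.CohBase.GlobalSections

/-!
# Čech 1-cocycles split when `H¹` vanishes
-/

universe u

open CategoryTheory Limits Opposite TopologicalSpace

noncomputable section

namespace Groth.PicAux.CechOne

open Groth.CohBase

variable {X : TopCat.{u}} (F : AbSheaf X)

/-- A 1-cocycle of a sheaf without first cohomology is a coboundary, for any covering. -/
theorem exists_split (hF : Subsingleton (Sheaf.H F 1 : Type u)) {ι : Type u} (U : ι → Opens X)
    (hU : (⊤ : Opens X) ≤ ⨆ i, U i) (g : ∀ i j, F.obj.obj (op (U i ⊓ U j)))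
    (hg : ∀ i j k, res F.obj (inf_le_left : U i ⊓ U j ⊓ U k ≤ U i ⊓ U j) (g i j) +
      res F.obj (inf_le_inf_right (U k) inf_le_right : U i ⊓ U j ⊓ U k ≤ U j ⊓ U k) (g j k) =
      res F.obj (inf_le_inf_right (U k) inf_le_left : U i ⊓ U j ⊓ U k ≤ U i ⊓ U k) (g i k)) :
    ∃ a : ∀ i, F.obj.obj (op (U i)), ∀ i j, g i j =
      res F.obj (inf_le_right : U i ⊓ U j ≤ U j) (a j) -
        res F.obj (inf_le_left : U i ⊓ U j ≤ U i) (a i) := by
  have hS := injPres_shortExact F
  let S := injPres F
  have : Injective S.X₂ := inferInstanceAs (Injective (Injective.under F))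
  let α : F.obj ⟶ S.X₂.obj := S.f.hom
  let β := S.g.hom
  have hle : ∀ x : Fin 2 → ι, inter U x ≤ U (x 0) ⊓ U (x 1) := fun x =>
    le_inf (inter_le U x 0) (inter_le U x 1)
  let z : Coch U S.X₂.obj 1 := fun x => res _ (hle x) (α.app _ (g (x 0) (x 1)))
  have hz : dCoch U S.X₂.obj 1 z = 0 := by
    ext x
    rw [dCoch_apply, Fin.sum_univ_three]
    have h3 : inter U x ≤ U (x 0) ⊓ U (x 1) ⊓ U (x 2) :=
      le_inf (le_inf (inter_le U x 0) (inter_le U x 1)) (inter_le U x 2)
    have h := congrArg (fun t => res S.X₂.obj h3 (α.app _ t)) (hg (x 0) (x 1) (x 2))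
    simp only [map_add, res_naturality, res_res] at h
    simp only [z, res_res, Fin.val_zero, pow_zero, one_smul, Fin.val_one, pow_one, neg_smul,
      Fin.val_two, neg_one_sq, Pi.zero_apply]
    change res S.X₂.obj _ (α.app _ (g (x 1) (x 2))) + -res S.X₂.obj _ (α.app _ (g (x 0) (x 2))) +
      res S.X₂.obj _ (α.app _ (g (x 0) (x 1))) = 0
    rw [← h]
    abel
  obtain ⟨s, hs⟩ := cechExact_of_injective S.X₂ U 0 z hz
  have hi : ∀ i, U i ≤ inter U (fun _ : Fin 1 => i) := fun i => (inter_one U (fun _ : Fin 1 => i)).ge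
  let t : ∀ i, S.X₂.obj.obj (op (U i)) := fun i => res _ (hi i) (s fun _ => i)
  have ht : ∀ i j, α.app _ (g i j) = res S.X₂.obj (inf_le_right : U i ⊓ U j ≤ U j) (t j) -
      res S.X₂.obj (inf_le_left : U i ⊓ U j ≤ U i) (t i) := by
    intro i j
    have hij : U i ⊓ U j ≤ inter U (Fin.cons i fun _ : Fin 1 => j) := by
      rw [inter_cons]
      exact inf_le_inf_left _ (hi j)
    have h := congrArg (res S.X₂.obj hij) (congrFun hs (Fin.cons i fun _ => j))
    rw [dCoch_apply, Fin.sum_univ_two] at h
    simp only [Fin.val_zero, pow_zero, one_smul, Fin.val_one, pow_one, neg_smul, map_add, map_neg,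
      res_res, z] at h
    refine (res_self S.X₂.obj _).symm.trans (h.symm.trans ?_)
    rw [← sub_eq_add_neg]
    simp only [t, res_res]
    congr 1
    refine Coch.congr_res U S.X₂.obj s ?_ _ _
    funext a
    obtain rfl := Fin.fin_one_eq_zero a
    rfl
  obtain ⟨q, hq, -⟩ := TopCat.Sheaf.existsUnique_gluing' (X := X) S.X₃ U ⊤
    (fun i => homOfLE le_top) hU (fun i => β.app _ (t i)) (fun i j => by
      change res S.X₃.obj _ _ = res S.X₃.obj _ _
      rw [← res_naturality, ← res_naturality]
      refine (sub_eq_zero.1 ?_).symm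
      rw [← map_sub, ← ht]
      exact ((sections_exact hS _).apply_apply_eq_zero _))
  obtain ⟨w, hw⟩ := sections_surjective hS ((subsingleton_H_iff F 1).1 hF) q
  have hmem : ∀ i, ∃ a, α.app (op (U i)) a = t i - res S.X₂.obj le_top w := fun i => by
    refine ((sections_exact hS _) _).1 ?_
    rw [map_sub]
    refine sub_eq_zero.2 ((hq i).symm.trans ?_)
    rw [res_naturality]
    exact congrArg _ hw.symm
  choose a ha using hmem
  refine ⟨a, fun i j => sections_injective hS _ ?_⟩
  change α.app _ (g i j) = α.app _ _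
  rw [map_sub, res_naturality, res_naturality, ha, ha, map_sub, map_sub]
  refine (ht i j).trans ?_
  simp only [t, res_res]
  exact (sub_sub_sub_cancel_right _ _ _).symm

end Groth.PicAux.CechOne
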