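import Groth.Agent.Abvar.Seesaw.Sections
import Groth.Agent.CohBase.FibreConsequencesFP
import Groth.Agent.LocFree.FP
import Groth.Agent.SiteCohomology.SchemeModules

/-!
# Triviality on fibres is a closed condition, over any base
-/

universe u

open CategoryTheory Limits AlgebraicGeometry TopologicalSpace Opposite

noncomputable section

namespace Groth.PicAux.FibTrivClosed

open Groth.Abvar.Seesaw

variable {P B : Scheme.{u}}

theorem isFP_of_isInvertible {L : P.Modules} (hL : PicF.IsInvertible L) : CohB1.IsFP L := by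
  have := PicAux.isQCoh_of_isInvertible hL
  refine LocFree.isFP_of_affine_cover _ fun x => ?_
  obtain ⟨U, e, hU, hxU, he⟩ := PicAux.exists_affine_gen_mem hL x
  refine ⟨U, hU, hxU, Module.FinitePresentation.of_equiv (LinearEquiv.ofBijective
    (LinearMap.toSpanSingleton Γ(P, U) Γ(L, U) e)
    ⟨fun a b hab => he.smul_inj le_rfl (by rw [PicAux.res_self]; exact hab), fun t => ?_⟩)⟩
  obtain ⟨c, hc⟩ := he.exists_coeff le_rfl t
  rw [PicAux.res_self] at hc
  exact ⟨c, hc.symm⟩

theorem nontrivial_iff_exists_ne_zero (π : P ⟶ B) (L : P.Modules) (y : B) :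
    ¬ Subsingleton (CohIII.fiberH π L y 0) ↔
      ∃ s : Γ((Scheme.Modules.pullback (π.fiberι y)).obj L, ⊤), s ≠ 0 := by
  let e := Sheaf.H.equiv₀ (Coh.toAb ((Scheme.Modules.pullback (π.fiberι y)).obj L))
    (isTerminalTop (α := Opens (π.fiber y)))
  constructor
  · intro h
    by_contra hs
    push Not at hs
    exact h ⟨fun a b => e.injective ((hs (e a)).trans (hs (e b)).symm)⟩
  · rintro ⟨s, hs⟩ h
    refine hs ?_
    have : s = e (e.symm s) := (e.apply_symm_apply s).symm
    rw [this, Subsingleton.elim (e.symm s) 0]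
    exact map_zero e

variable (π : P ⟶ B) [IsProper π] [Flat π] [LocallyOfFinitePresentation π]
  [GeometricallyIntegral π]

theorem h0Const (y : B) : H0Const π y := by
  have : GeometricallyConnected π := ⟨fun K _ b Q fst snd H => by
    have : IsIntegral Q := GeometricallyIntegral.geometrically_isIntegral (f := π) b fst snd H
    exact (inferInstance : ConnectedSpace Q)⟩
  exact h0Const_of_geometrically π y

theorem isIntegral_fibre (y : B) : IsIntegral (π.fiber y) :=
  GeometricallyIntegral.geometrically_isIntegral (f := π) (B.fromSpecResidueField y) _ _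
    (IsPullback.of_hasPullback _ _)

/-- The fibres on which an invertible module is trivial form a closed set. -/
theorem isClosed_fibTriv {L : P.Modules} (hL : PicF.IsInvertible L) :
    IsClosed {y | FibTriv π L y} := by
  obtain ⟨N, hN, ⟨ι⟩⟩ := PicAux.exists_inverse hL
  have hopen : ∀ M : P.Modules, PicF.IsInvertible M →
      IsClosed {y : B | ¬ Subsingleton (CohIII.fiberH π M y 0)} := fun M hM => by
    have := PicAux.isQCoh_of_isInvertible hM
    exact (CohBase.isOpen_subsingleton_fiberH π (isFP_of_isInvertible hM)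
      (isFlatOver_of_isInvertible π hM) 0).isClosed_compl
  have h : {y | FibTriv π L y} = {y : B | ¬ Subsingleton (CohIII.fiberH π L y 0)} ∩
      {y : B | ¬ Subsingleton (CohIII.fiberH π N y 0)} := by
    ext y
    have := isIntegral_fibre π y
    simp only [Set.mem_setOf_eq, Set.mem_inter_iff, nontrivial_iff_exists_ne_zero]
    obtain ⟨eT, -⟩ := PicAux.exists_pullback_tensorMod (π.fiberι y) N L
    let ιy : CohB1.tensorMod ((Scheme.Modules.pullback (π.fiberι y)).obj N)
        ((Scheme.Modules.pullback (π.fiberι y)).obj L) ≅ Coh.structureModule (π.fiber y) :=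
      eT.symm ≪≫ (Scheme.Modules.pullback (π.fiberι y)).mapIso ι ≪≫
        (PicAux.pullback_structure_iso (π.fiberι y)).some
    have hex : ∀ M : (π.fiber y).Modules, Nonempty (M ≅ Coh.structureModule (π.fiber y)) →
        ∃ s : Γ(M, ⊤), s ≠ 0 := fun M hM => by
      obtain ⟨σ, hσ⟩ := PicAux.nonempty_iso_structure_iff.1 hM
      exact ⟨σ, gen_top_ne_zero hσ⟩
    constructor
    · rintro ⟨i⟩
      refine ⟨hex _ ⟨i⟩, hex _ ⟨?_⟩⟩
      exact (SecTwist.unitorR _).symm ≪≫ PicGrp.tensorModIso (Iso.refl _) i.symm ≪≫ ιy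
    · rintro ⟨⟨s, hs⟩, s', hs'⟩
      exact trivial_of_sections (K := B.residueField y) (h0Const π y)
        (PicAux.isInvertible_pullback _ hL) (PicAux.isInvertible_pullback _ hN) ιy hs hs'
  rw [h]
  exact (hopen L hL).inter (hopen N hN)

end Groth.PicAux.FibTrivClosed
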