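import Groth.Agent.PicAux.LimitInv
import Groth.Agent.Limits.LocalLimit
import Groth.Agent.Limits.GlueLocal

/-!
# Spreading out invertible modules from the spectrum of a local ring of the base
-/

set_option backward.isDefEq.respectTransparency false
set_option backward.defeqAttrib.useBackward true

universe u

open CategoryTheory Limits AlgebraicGeometry TopologicalSpace Opposite

noncomputable section

namespace Groth.PicAux.SpreadLocal

open Groth.Limits

variable {X S : Scheme.{u}} (f : X ⟶ S) {W : S.Opens} (hW : IsAffineOpen W) {s : S} (hs : s ∈ W)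

/-- The preimages of the basic neighbourhoods. -/
def preDiagram (W : S.Opens) (s : S) : BasicNhd W s ⥤ Scheme.{u} where
  obj V := ((f ⁻¹ᵁ V.1 : X.Opens) : Scheme.{u})
  map h := X.homOfLE (f.preimage_mono (leOfHom h))
  map_id _ := by rw [← cancel_mono (Scheme.Opens.ι _)]; simp
  map_comp _ _ := by rw [← cancel_mono (Scheme.Opens.ι _)]; simp

theorem fst_mem {U : S.Opens} (hU : s ∈ U) (z : ↥(pullback f (S.fromSpecStalk s))) :
    pullback.fst f (S.fromSpecStalk s) z ∈ Set.range (f ⁻¹ᵁ U).ι := by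
  refine ⟨⟨pullback.fst f (S.fromSpecStalk s) z, ?_⟩, rfl⟩
  show f (pullback.fst f (S.fromSpecStalk s) z) ∈ (U : Set S)
  rw [show f (pullback.fst f (S.fromSpecStalk s) z) =
      S.fromSpecStalk s (pullback.snd f (S.fromSpecStalk s) z) from
    congr($(pullback.condition (f := f) (g := S.fromSpecStalk s)).base z)]
  rw [← congr($(U.fromSpecStalkOfMem_ι s hU).base (pullback.snd f (S.fromSpecStalk s) z))]
  exact (U.fromSpecStalkOfMem s hU _).2

/-- `X_s` as a cone over the preimages. -/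
def preCone (W : S.Opens) (s : S) : Cone (preDiagram f W s) where
  pt := pullback f (S.fromSpecStalk s)
  π :=
    { app := fun V => IsOpenImmersion.lift (f ⁻¹ᵁ V.1).ι (pullback.fst f (S.fromSpecStalk s)) (by
        rintro _ ⟨z, rfl⟩
        exact fst_mem f V.2.1 z)
      naturality := fun V V' h => by
        rw [← cancel_mono (f ⁻¹ᵁ V'.1).ι]
        simp [preDiagram] }

theorem preCone_π_ι (V : BasicNhd W s) :
    (preCone f W s).π.app V ≫ (f ⁻¹ᵁ V.1).ι = pullback.fst f (S.fromSpecStalk s) :=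
  IsOpenImmersion.lift_fac _ _ _

include hW hs in
theorem nonempty_isLimit : Nonempty (IsLimit (preCone f W s)) := by
  obtain ⟨hl⟩ := nonempty_isLimit_nhdCone hW hs
  let V₀ := BasicNhd.top (W := W) hs
  have hle : ∀ V : BasicNhd W s, V ≤ V₀ := fun V => by
    show V.1 ≤ S.basicOpen (1 : Γ(S, W))
    rw [S.basicOpen_of_isUnit isUnit_one]
    obtain ⟨g, hg⟩ := V.2.2
    exact hg ▸ S.basicOpen_le g
  let T : ∀ c : Cone (preDiagram f W s), Cone (nhdDiagram W s) := fun c =>
    { pt := c.pt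
      π :=
        { app := fun V => c.π.app V ≫ (f ∣_ V.1)
          naturality := fun V V' h => by
            rw [← cancel_mono V'.1.ι]
            have := c.w h
            simp [nhdDiagram, ← this, preDiagram] } }
  have hbase : ∀ (c : Cone (preDiagram f W s)) (V : BasicNhd W s),
      c.π.app V ≫ (f ⁻¹ᵁ V.1).ι = c.π.app V₀ ≫ (f ⁻¹ᵁ V₀.1).ι := fun c V => by
    rw [← c.w (homOfLE (hle V))]
    simp [preDiagram]
  have hlift : ∀ c, hl.lift (T c) ≫ S.fromSpecStalk s =
      c.π.app V₀ ≫ (f ⁻¹ᵁ V₀.1).ι ≫ f := fun c => by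
    rw [← V₀.1.fromSpecStalkOfMem_ι s V₀.2.1]
    refine (Category.assoc _ _ _).symm.trans ?_
    refine (congrArg (· ≫ V₀.1.ι) (hl.fac (T c) V₀)).trans ?_
    simp [T, morphismRestrict_ι]
  refine ⟨{ lift := fun c => pullback.lift (c.π.app V₀ ≫ (f ⁻¹ᵁ V₀.1).ι) (hl.lift (T c))
              (by rw [Category.assoc]; exact (hlift c).symm),
            fac := fun c V => ?_, uniq := fun c l hl' => ?_ }⟩
  · rw [← cancel_mono (f ⁻¹ᵁ V.1).ι, Category.assoc, preCone_π_ι, pullback.lift_fst]
    exact (hbase c V).symm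
  · refine pullback.hom_ext ?_ ?_
    · rw [pullback.lift_fst, ← preCone_π_ι f V₀, ← hl' V₀]
      exact (Category.assoc _ _ _).symm
    · rw [pullback.lift_snd]
      refine hl.uniq (T c) _ fun V => ?_
      rw [← cancel_mono V.1.ι]
      show ((l ≫ pullback.snd f (S.fromSpecStalk s)) ≫ V.1.fromSpecStalkOfMem s V.2.1) ≫ V.1.ι =
        (c.π.app V ≫ (f ∣_ V.1)) ≫ V.1.ι
      simp only [Category.assoc, Scheme.Opens.fromSpecStalkOfMem_ι, morphismRestrict_ι,
        ← pullback.condition]
      rw [← hl' V, ← reassoc_of% (preCone_π_ι f V)]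
      exact (Category.assoc _ _ _).symm

theorem exists_spread [QuasiCompact f] [QuasiSeparated f] (s : S)
    {L : (pullback f (S.fromSpecStalk s)).Modules} (hL : PicF.IsInvertible L) :
    ∃ (V : S.Opens) (_ : s ∈ V) (L' : (↑(f ⁻¹ᵁ V) : Scheme.{u}).Modules), PicF.IsInvertible L' ∧
      ∀ (ι : pullback f (S.fromSpecStalk s) ⟶ ↑(f ⁻¹ᵁ V)),
        ι ≫ (f ⁻¹ᵁ V).ι = pullback.fst f (S.fromSpecStalk s) →
        Nonempty ((Scheme.Modules.pullback ι).obj L' ≅ L) := by
  obtain ⟨_, ⟨W, hW, rfl⟩, hsW, -⟩ :=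
    S.isBasis_affineOpens.exists_subset_of_mem_open (Set.mem_univ s) isOpen_univ
  have := nonempty_basicNhd (W := W) hsW
  have hcpt : ∀ V : BasicNhd W s, CompactSpace ((preDiagram f W s).obj V) := fun V =>
    isCompact_iff_compactSpace.mp (f.isCompact_preimage (isAffineOpen_nhd hW V).isCompact)
  have hqs : ∀ V : BasicNhd W s, QuasiSeparatedSpace ((preDiagram f W s).obj V) := fun V =>
    have := isAffine_nhdDiagram hW V
    have : IsAffine (V.1 : Scheme.{u}) := this
    quasiSeparatedSpace_of_quasiSeparated (f ∣_ V.1)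
  have haff : ∀ {V V' : BasicNhd W s} (m : V ⟶ V'),
      IsAffineHom ((preDiagram f W s).map m) := fun {V V'} m => by
    have h1 : IsAffineHom (S.homOfLE (leOfHom m)) := isAffineHom_nhdDiagram hW m
    exact MorphismProperty.of_isPullback (P := @IsAffineHom) (IsPullback.of_right
      (h₁₁ := X.homOfLE (f.preimage_mono (leOfHom m))) (v₁₁ := f ∣_ V.1)
      (h₂₁ := S.homOfLE (leOfHom m))
      (by simpa only [Scheme.homOfLE_ι] using (isPullback_morphismRestrict f V.1).flip)
      (by rw [← cancel_mono V'.1.ι]; simp [morphismRestrict_ι])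
      (isPullback_morphismRestrict f V'.1).flip).flip h1
  obtain ⟨hl⟩ := nonempty_isLimit f hW hsW
  obtain ⟨V, -, L', hL', ⟨E⟩⟩ := LimitInv.exists_stage_invertible (preDiagram f W s)
    (preCone f W s) hl (BasicNhd.top hsW) hL
  refine ⟨V.1, V.2.1, L', hL', fun ι hι => ?_⟩
  have hιeq : ι = (preCone f W s).π.app V :=
    (cancel_mono (f ⁻¹ᵁ V.1).ι).1 (hι.trans (preCone_π_ι f V).symm)
  rw [hιeq]
  exact ⟨E⟩

end Groth.PicAux.SpreadLocal
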