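import Groth.Agent.PicAux.GenLocusOps
import Groth.Agent.PicAux.GenLocusAffine
import Groth.Agent.QCohMod.QCQS

/-!
# Sections over `X_s` extend after multiplication by a power of `s`
-/

universe u

open CategoryTheory AlgebraicGeometry Opposite TopologicalSpace

namespace Groth.PicAux

variable {X : Scheme.{u}} {L : X.Modules}

theorem secVal_eq_res (s : Coh.structureModule X ⟶ L) (U : X.Opens) :
    SecTwist.val s U = res L (le_top : U ≤ ⊤) (gsec s) :=
  (SecTwist.map_val s (homOfLE (le_top : U ≤ ⊤))).symm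

theorem pow_eq_powSec (s : Coh.structureModule X ⟶ L) (U : X.Opens) :
    ∀ n : ℕ, SecTwist.pow s n U = powSec (res L (le_top : U ≤ ⊤) (gsec s)) n
  | 0 => rfl
  | n + 1 => by
    change tmulSec (SecTwist.pow s n U : Γ(CohB1.tensorPow L n, U)) (SecTwist.val s U : Γ(L, U)) = _
    rw [pow_eq_powSec s U n, secVal_eq_res]
    rfl

/-- The twist `t ⊗ sⁿ` in terms of `tmulSec`. -/
theorem twist_eq (s : Coh.structureModule X ⟶ L) (n : ℕ) (F : X.Modules) (U : X.Opens)
    (t : Γ(F, U)) :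
    SecTwist.twist s n F U t = tmulSec t (powSec (res L (le_top : U ≤ ⊤) (gsec s)) n) := by
  rw [← pow_eq_powSec]
  rfl

/-- A finite cover by affine opens on which `L` has bases, with coefficients of `s`. -/
theorem exists_finite_gen_cover [CompactSpace X] (hL : PicF.IsInvertible L)
    (s : Coh.structureModule X ⟶ L) :
    ∃ (ι : Type u) (_ : Fintype ι) (W : ι → X.affineOpens) (e : ∀ i, Γ(L, (W i).1))
      (c : ∀ i, Γ(X, (W i).1)), (⨆ i, (W i).1) = ⊤ ∧ (∀ i, Gen L (W i).1 (e i)) ∧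
      ∀ i, res L le_top (gsec s) = c i • e i := by
  choose W e hW hxW he using fun x : X => exists_affine_gen_mem hL x
  obtain ⟨S, hS⟩ := isCompact_univ.elim_finite_subcover (fun x => (W x : Set X)) (fun x => (W x).2)
    (fun x _ => Set.mem_iUnion.2 ⟨x, hxW x⟩)
  choose c hc using fun x : X => (he x).exists_coeff le_rfl (res L (le_top : W x ≤ ⊤) (gsec s))
  refine ⟨S, inferInstance, fun x => ⟨W x.1, hW x.1⟩, fun x => e x.1, fun x => c x.1, ?_,
    fun x => he x.1, fun x => by simpa using hc x.1⟩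
  refine eq_top_iff.2 fun x _ => ?_
  obtain ⟨i, hi, hxi⟩ := Set.mem_iUnion₂.1 (hS (Set.mem_univ x))
  exact Opens.mem_iSup.2 ⟨⟨i, hi⟩, hxi⟩

/-- A section vanishing on `X_s` is killed by a power of `s`. -/
theorem exists_twist_eq_zero [CompactSpace X] (hL : PicF.IsInvertible L)
    (s : Coh.structureModule X ⟶ L) (F : X.Modules) [F.IsQuasicoherent] (t : Γ(F, ⊤))
    (ht : res F (le_top : CohB1.genLocus L s ≤ ⊤) t = 0) :
    ∃ n : ℕ, 0 < n ∧ SecTwist.twist s n F ⊤ t = 0 := by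
  obtain ⟨ι, _, W, e, c, hcov, he, hc⟩ := exists_finite_gen_cover hL s
  have hb : ∀ i, X.basicOpen (c i) ≤ CohB1.genLocus L s := fun i =>
    (genLocus_inf_eq_basicOpen (he i) (hc i)).ge.trans inf_le_left
  have hex : ∀ i, ∃ n : ℕ, c i ^ n • res F (le_top : (W i).1 ≤ ⊤) t = 0 := fun i => by
    refine QCohMod.exists_pow_smul_eq_zero_of_isCompact F (W i).2.isCompact (c i) _ ?_
    change res F (X.basicOpen_le (c i)) (res F le_top t) = 0
    rw [res_res, ← res_res (le_top : CohB1.genLocus L s ≤ ⊤) (hb i), ht, res_zero]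
  choose n hn using hex
  refine ⟨Finset.univ.sup n + 1, Nat.succ_pos _, ?_⟩
  rw [twist_eq]
  change _ = (0 : Γ(CohB1.tensorMod F (CohB1.tensorPow L (Finset.univ.sup n + 1)), ⊤))
  refine res_ext (fun i => (W i).1) (fun _ => le_top) hcov.ge fun i => ?_
  rw [res_zero, res_tmulSec, res_powSec, res_res, hc i, powSec_smul, tmulSec_smul_right,
    ← tmulSec_smul_left, ← Nat.sub_add_cancel
      ((Finset.le_sup (f := n) (Finset.mem_univ i)).trans (Nat.le_add_right _ 1) :
        n i ≤ Finset.univ.sup n + 1),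
    pow_add, mul_smul, hn i, smul_zero, tmulSec_zero_left]

/-- Sections over `X_s` extend after multiplying by a power of `s`. -/
theorem exists_twist_eq_res [CompactSpace X] [QuasiSeparatedSpace X] (hL : PicF.IsInvertible L)
    (s : Coh.structureModule X ⟶ L) (F : X.Modules) [F.IsQuasicoherent]
    (t : Γ(F, CohB1.genLocus L s)) :
    ∃ n : ℕ, 0 < n ∧ ∃ t' : Γ(CohB1.tensorMod F (CohB1.tensorPow L n), ⊤),
      res _ (le_top : CohB1.genLocus L s ≤ ⊤) t' =
        SecTwist.twist s n F (CohB1.genLocus L s) t := by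
  classical
  obtain ⟨ι, _, W, e, c, hcov, he, hc⟩ := exists_finite_gen_cover hL s
  have hcG : ∀ i, CohB1.genLocus L s ⊓ (W i).1 = X.basicOpen (c i) := fun i =>
    genLocus_inf_eq_basicOpen (he i) (hc i)
  have hb : ∀ i, X.basicOpen (c i) ≤ CohB1.genLocus L s := fun i => (hcG i).ge.trans inf_le_left
  choose m₀ t₀ ht₀ using fun i => QCohMod.exists_pow_smul_eq_res F (W i).2 (c i) (res F (hb i) t)
  have ht₀' : ∀ i, res F (X.basicOpen_le (c i)) (t₀ i) =
      resX X (X.basicOpen_le (c i)) (c i) ^ m₀ i • res F (hb i) t := ht₀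
  let m := Finset.univ.sup m₀
  obtain ⟨t₁, ht₁⟩ : ∃ t₁ : ∀ i, Γ(F, (W i).1), ∀ i, res F (X.basicOpen_le (c i)) (t₁ i) =
      resX X (X.basicOpen_le (c i)) (c i) ^ m • res F (hb i) t := by
    refine ⟨fun i => c i ^ (m - m₀ i) • t₀ i, fun i => ?_⟩
    rw [res_smul, ht₀' i, map_pow, ← mul_smul, ← pow_add,
      Nat.sub_add_cancel (Finset.le_sup (f := m₀) (Finset.mem_univ i))]
  have hul : ∀ p : ι × ι, ∃ u : Γ(X, (W p.1).1 ⊓ (W p.2).1),
      res L inf_le_right (e p.2) = u • res L inf_le_left (e p.1) := fun p =>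
    (he p.1).exists_coeff inf_le_left _
  choose u hu using hul
  have hcu : ∀ p : ι × ι, resX X inf_le_left (c p.1) = resX X inf_le_right (c p.2) * u p :=
    fun p => by
    refine (he p.1).smul_inj inf_le_left ?_
    rw [mul_smul, ← hu p, ← res_smul, ← res_smul, ← hc p.1, ← hc p.2, res_res, res_res]
  have hkill : ∀ p : ι × ι, ∃ k : ℕ, resX X inf_le_left (c p.1) ^ k •
      (res F inf_le_left (t₁ p.1) - u p ^ m • res F inf_le_right (t₁ p.2) :
        Γ(F, (W p.1).1 ⊓ (W p.2).1)) = 0 := fun p => by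
    have hWW : IsCompact (((W p.1).1 ⊓ (W p.2).1 : X.Opens) : Set X) :=
      QuasiSeparatedSpace.inter_isCompact _ _ (W p.1).1.2 (W p.1).2.isCompact (W p.2).1.2
        (W p.2).2.isCompact
    refine QCohMod.exists_pow_smul_eq_zero_of_isCompact F hWW _ _ ?_
    set B := X.basicOpen (resX X (inf_le_left : (W p.1).1 ⊓ (W p.2).1 ≤ _) (c p.1))
    have hB1 : B ≤ X.basicOpen (c p.1) :=
      (X.basicOpen_res (c p.1) (homOfLE inf_le_left).op).le.trans inf_le_right
    have hB2 : B ≤ X.basicOpen (c p.2) :=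
      (le_inf (hB1.trans (hb p.1)) ((X.basicOpen_le _).trans inf_le_right)).trans (hcG p.2).le
    have e1 := congrArg (res F hB1) (ht₁ p.1)
    have e2 := congrArg (res F hB2) (ht₁ p.2)
    simp only [res_res, res_smul, map_pow, resX_resX] at e1 e2
    change res F (X.basicOpen_le _) _ = 0
    have e3 := congrArg (resX X (X.basicOpen_le (resX X inf_le_left (c p.1)))) (hcu p)
    simp only [map_mul, resX_resX] at e3
    rw [sub_eq_add_neg, res_add, ← neg_one_smul Γ(X, (W p.1).1 ⊓ (W p.2).1)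
      (u p ^ m • res F inf_le_right (t₁ p.2)), res_smul, res_smul, res_res, res_res, e1, e2,
      map_neg, map_one, neg_one_smul, ← sub_eq_add_neg, sub_eq_zero, ← mul_smul, map_pow,
      ← mul_pow, e3, mul_comm]
  choose k₀ hk₀ using hkill
  let k := Finset.univ.sup k₀ + 1
  have hk : ∀ p : ι × ι,
      resX X (inf_le_left : (W p.1).1 ⊓ (W p.2).1 ≤ (W p.1).1) (c p.1) ^ k •
        res F (inf_le_left : (W p.1).1 ⊓ (W p.2).1 ≤ (W p.1).1) (t₁ p.1) =
      resX X (inf_le_left : (W p.1).1 ⊓ (W p.2).1 ≤ (W p.1).1) (c p.1) ^ k • (u p ^ m •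
        res F (inf_le_right : (W p.1).1 ⊓ (W p.2).1 ≤ (W p.2).1) (t₁ p.2)) := fun p => by
    have hle : k₀ p ≤ k := (Finset.le_sup (f := k₀) (Finset.mem_univ p)).trans (Nat.le_add_right _ 1)
    have h := congrArg
      (fun z => resX X (inf_le_left : (W p.1).1 ⊓ (W p.2).1 ≤ (W p.1).1) (c p.1) ^ (k - k₀ p) • z)
      (hk₀ p)
    rwa [smul_zero, smul_smul, ← pow_add, Nat.sub_add_cancel hle, smul_sub, sub_eq_zero] at h
  refine ⟨m + k, Nat.add_pos_right _ (Nat.succ_pos _), ?_⟩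
  let σ (i : ι) : Γ(CohB1.tensorMod F (CohB1.tensorPow L (m + k)), (W i).1) :=
    tmulSec (c i ^ k • t₁ i) (powSec (e i) (m + k))
  obtain ⟨t', ht', -⟩ := res_glue (fun i => (W i).1) (fun _ => le_top) hcov.ge σ fun i j => by
    simp only [σ, res_tmulSec, res_powSec, res_smul, map_pow]
    rw [hu (i, j), powSec_smul, tmulSec_smul_right, ← tmulSec_smul_left]
    congr 1
    rw [hk (i, j), ← mul_smul, ← mul_smul, hcu (i, j)]
    congr 1
    ring
  refine ⟨t', res_ext (fun i => X.basicOpen (c i)) hb ?_ fun i => ?_⟩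
  · intro x hx
    obtain ⟨i, hi⟩ := Opens.mem_iSup.1 (hcov.ge (Opens.mem_top x))
    exact Opens.mem_iSup.2 ⟨i, (hcG i).le ⟨hx, hi⟩⟩
  · rw [res_res, ← res_res (le_top : (W i).1 ≤ ⊤) (X.basicOpen_le (c i)), ht' i, twist_eq]
    simp only [σ, res_tmulSec, res_powSec, res_smul, map_pow, res_res, ht₁ i]
    have e1 : res L (le_top : X.basicOpen (c i) ≤ ⊤) (gsec s) =
        resX X (X.basicOpen_le (c i)) (c i) • res L (X.basicOpen_le (c i)) (e i) := by
      rw [← res_smul, ← hc i, res_res]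
    rw [e1, powSec_smul, tmulSec_smul_right, ← tmulSec_smul_left, ← mul_smul, ← pow_add,
      add_comm m k]

end Groth.PicAux
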