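import Groth.Agent.PicAux.RigNormal
import Groth.Agent.DescentBase.EffIso
import Mathlib.CategoryTheory.Sites.Descent.DescentDataPrime

/-!
# Effectivity of a gluing isomorphism along one fpqc morphism
-/

set_option autoImplicit false
set_option backward.isDefEq.respectTransparency false
set_option backward.isDefEq.respectTransparency.types false

universe u

open CategoryTheory CategoryTheory.Limits AlgebraicGeometry TopologicalSpace Opposite

namespace Groth.PicAux.RigDescent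

open RigNormal Groth.DescentBase

/-- Composition in the value of the pseudofunctor of modules is composition of modules. -/
theorem comp_eq_of_modules {T : Scheme.{u}} {A B C : T.Modules} {a : A ⟶ B} {b : B ⟶ C} {c : A ⟶ C}
    (h : a ≫ b = c) :
    @CategoryStruct.comp (Desc.modPF.{u}.obj (LocallyDiscrete.mk (op T))) _ A B C a b = c := h

section Family

variable {ι : Type u} {Q : Scheme.{u}} {X : ι → Scheme.{u}} {f : ∀ i, X i ⟶ Q}
  (sq : ∀ i j, ChosenPullback (f i) (f j))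
  (sq₃ : ∀ i j k, ChosenPullback₃ (sq i j) (sq j k) (sq i k))

/-- The descent datum of gluing morphisms. -/
noncomputable def gluingDatum (obj : ∀ i, (X i).Modules)
    (hom : ∀ i j, (Scheme.Modules.pullback (sq i j).p₁).obj (obj i) ⟶
      (Scheme.Modules.pullback (sq i j).p₂).obj (obj j))
    (hself : ∀ i, ∃ (δ : X i ⟶ (sq i i).pullback) (e₁ : δ ≫ (sq i i).p₁ = 𝟙 _)
      (e₂ : δ ≫ (sq i i).p₂ = 𝟙 _), cj (hom i i) δ (𝟙 _) (𝟙 _) e₁ e₂ = 𝟙 _)
    (hcomp : ∀ i j k, cj (hom i j) (sq₃ i j k).p₁₂ (sq₃ i j k).p₁ (sq₃ i j k).p₂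
        (sq₃ i j k).p₁₂_p₁ (sq₃ i j k).p₁₂_p₂ ≫
      cj (hom j k) (sq₃ i j k).p₂₃ (sq₃ i j k).p₂ (sq₃ i j k).p₃
        (sq₃ i j k).p₂₃_p₂ (sq₃ i j k).p₂₃_p₃ =
      cj (hom i k) (sq₃ i j k).p₁₃ (sq₃ i j k).p₁ (sq₃ i j k).p₃
        (sq₃ i j k).p₁₃_p₁ (sq₃ i j k).p₁₃_p₃) :
    Desc.modPF.{u}.DescentData' sq sq₃ :=
    { obj := obj
      hom := hom
      pullHom'_hom_self := fun i => by
        obtain ⟨δ, e₁, e₂, h⟩ := hself i
        rw [Pseudofunctor.DescentData'.pullHom'_eq_pullHom _ _ _ _ δ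
          (Category.id_comp _) (Category.id_comp _) e₁ e₂]
        exact (pullHom_eq_cj (hom i i) _ _ _ e₁ e₂).trans h
      pullHom'_hom_comp := fun i j k => by
        have ka := (Pseudofunctor.DescentData'.pullHom'₁₂_eq_pullHom_of_chosenPullback₃ sq₃ (F := Desc.modPF.{u}) hom i j k).trans
          (pullHom_eq_cj (hom i j) (sq₃ i j k).p₁₂ (sq₃ i j k).p₁ (sq₃ i j k).p₂ (sq₃ i j k).p₁₂_p₁ (sq₃ i j k).p₁₂_p₂)
        have kb := (Pseudofunctor.DescentData'.pullHom'₂₃_eq_pullHom_of_chosenPullback₃ sq₃ (F := Desc.modPF.{u}) hom i j k).trans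
          (pullHom_eq_cj (hom j k) (sq₃ i j k).p₂₃ (sq₃ i j k).p₂ (sq₃ i j k).p₃ (sq₃ i j k).p₂₃_p₂ (sq₃ i j k).p₂₃_p₃)
        have kc := (Pseudofunctor.DescentData'.pullHom'₁₃_eq_pullHom_of_chosenPullback₃ sq₃ (F := Desc.modPF.{u}) hom i j k).trans
          (pullHom_eq_cj (hom i k) (sq₃ i j k).p₁₃ (sq₃ i j k).p₁ (sq₃ i j k).p₃ (sq₃ i j k).p₁₃_p₁ (sq₃ i j k).p₁₃_p₃)
        rw [ka, kb, kc]
        exact comp_eq_of_modules (hcomp i j k) }

/-- The descent isomorphisms on elements of the datum on chosen products. -/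
theorem dEl_descentData' (D : Desc.modPF.{u}.DescentData' sq sq₃) (i j : ι)
    (h : (sq i j).p₁ ≫ f i = (sq i j).p₂ ≫ f j) (w : El (D.obj i : (X i).Modules) (sq i j).p₁) :
    dEl D.descentData (sq i j).p₁ (sq i j).p₂ h w =
      Scheme.Modules.Hom.app (D.hom i j : (Scheme.Modules.pullback (sq i j).p₁).obj (D.obj i) ⟶
        (Scheme.Modules.pullback (sq i j).p₂).obj (D.obj j)) ⊤ w := by
  rw [← dEl_eq (sq i j).p (sq i j).p₁ (sq i j).p₂ (sq i j).hp₁ (sq i j).hp₂]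
  exact congrArg (fun φ : (Scheme.Modules.pullback (sq i j).p₁).obj (D.obj i) ⟶
      (Scheme.Modules.pullback (sq i j).p₂).obj (D.obj j) => φ.app ⊤ w)
    (Pseudofunctor.DescentData'.pullHom'_eq_hom D i j)

/-- Gluing morphisms on chosen products of an fpqc family are effective. -/
theorem exists_iso_of_gluing_family (hf : Presieve.ofArrows X f ∈ Scheme.fpqcPrecoverage Q)
    (obj : ∀ i, (X i).Modules) (hL : ∀ i, (obj i).IsQuasicoherent)
    (hom : ∀ i j, (Scheme.Modules.pullback (sq i j).p₁).obj (obj i) ⟶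
      (Scheme.Modules.pullback (sq i j).p₂).obj (obj j))
    (hself : ∀ i, ∃ (δ : X i ⟶ (sq i i).pullback) (e₁ : δ ≫ (sq i i).p₁ = 𝟙 _)
      (e₂ : δ ≫ (sq i i).p₂ = 𝟙 _), cj (hom i i) δ (𝟙 _) (𝟙 _) e₁ e₂ = 𝟙 _)
    (hcomp : ∀ i j k, cj (hom i j) (sq₃ i j k).p₁₂ (sq₃ i j k).p₁ (sq₃ i j k).p₂
        (sq₃ i j k).p₁₂_p₁ (sq₃ i j k).p₁₂_p₂ ≫
      cj (hom j k) (sq₃ i j k).p₂₃ (sq₃ i j k).p₂ (sq₃ i j k).p₃
        (sq₃ i j k).p₂₃_p₂ (sq₃ i j k).p₂₃_p₃ =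
      cj (hom i k) (sq₃ i j k).p₁₃ (sq₃ i j k).p₁ (sq₃ i j k).p₃
        (sq₃ i j k).p₁₃_p₁ (sq₃ i j k).p₁₃_p₃) :
    ∃ (M : Q.Modules) (e : ∀ i, (Scheme.Modules.pullback (f i)).obj M ≅ obj i), M.IsQuasicoherent ∧
      ∀ i j (x : El M (f i)) (y : El M (f j)) (r : Γ((sq i j).pullback, ⊤)),
        (hom i j).app ⊤ (el (sq i j).p₁ (U := ⊤) le_top ((e i).hom.app ⊤ x)) =
            r • el (sq i j).p₂ (U := ⊤) le_top ((e j).hom.app ⊤ y) →
          bc (sq i j).p₁ (f i) (sq i j).p (sq i j).hp₁ x =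
            r • bc (sq i j).p₂ (f j) (sq i j).p (sq i j).hp₂ y := by
  let D := gluingDatum sq sq₃ obj hom hself hcomp
  obtain ⟨M, hM, ⟨ε⟩⟩ := exists_toDescentData_iso hf D.descentData hL
  let e : ∀ i, (Scheme.Modules.pullback (f i)).obj M ≅ obj i := fun i =>
    { hom := ε.hom.hom i
      inv := ε.inv.hom i
      hom_inv_id := congrArg (fun F : (Desc.modPF.{u}.toDescentData _).obj M ⟶
        (Desc.modPF.{u}.toDescentData _).obj M => F.hom i) ε.hom_inv_id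
      inv_hom_id := congrArg (fun F : D.descentData ⟶ D.descentData => F.hom i) ε.inv_hom_id }
  refine ⟨M, e, hM, fun i j x y r hr => ?_⟩
  have hcond : (sq i j).p₁ ≫ f i = (sq i j).p₂ ≫ f j := (sq i j).condition
  let z : El (dObj ((Desc.modPF.{u}.toDescentData f).obj M) i) (sq i j).p₁ :=
    el (sq i j).p₁ (U := ⊤) le_top x
  have h1 := dEl_elMap ε.hom (sq i j).p₁ (sq i j).p₂ hcond z
  have hd : ∀ w, dEl D.descentData (sq i j).p₁ (sq i j).p₂ hcond w = (hom i j).app ⊤ w := fun w => by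
    exact dEl_descentData' sq sq₃ D i j hcond w
  rw [hd, elMap_el] at h1
  have h2 : (r • el (sq i j).p₂ (U := ⊤) le_top y : El ((Scheme.Modules.pullback (f j)).obj M) (sq i j).p₂) =
      dEl ((Desc.modPF.{u}.toDescentData f).obj M) (sq i j).p₁ (sq i j).p₂ hcond z := by
    refine (ConcreteCategory.bijective_of_isIso
      (((Scheme.Modules.pullback (sq i j).p₂).mapIso (e j)).hom.app ⊤)).1 ?_
    refine Eq.trans ?_ (hr.symm.trans h1)
    exact (Scheme.Modules.Hom.app_smul _ r _).trans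
      (congrArg (r • ·) (elMap_el (e j).hom (sq i j).p₂ (U := ⊤) le_top y))
  have h3 := flat_dEl_ofObj M (sq i j).p₁ (sq i j).p₂ hcond (sq i j).p (sq i j).hp₁ z
  rw [← h2] at h3
  have h4 := (flat_smul (N := M) (f j) (sq i j).p₂ (sq i j).p (sq i j).hp₂ r
    (el (sq i j).p₂ (U := ⊤) le_top y)).symm.trans h3
  have hflat : ∀ (k : ι) (g : (sq i j).pullback ⟶ X k) (hg : g ≫ f k = (sq i j).p) (w : El M (f k)),
      flat (N := M) (f k) g (sq i j).p hg (el g (U := ⊤) le_top w) = bc g (f k) (sq i j).p hg w :=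
    fun k g hg w => congrArg ((pullTo g (f k) (sq i j).p hg M).hom.app ⊤) (QCohMod.res_self _ _)
  exact ((hflat i _ (sq i j).hp₁ x).symm.trans (h4.symm.trans
    (congrArg (r • ·) (hflat j _ (sq i j).hp₂ y))))

end Family

/-- A gluing isomorphism over the chosen double product of an fpqc morphism satisfying the cocycle
condition over the chosen triple product is effective. -/
theorem exists_iso_of_gluing {P Q P₂ P₃ : Scheme.{u}} {q : P ⟶ Q}
    (hq : Presieve.ofArrows (fun _ : PUnit.{u + 1} => P) (fun _ => q) ∈ Scheme.fpqcPrecoverage Q)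
    {p₁ p₂ : P₂ ⟶ P} (h₂ : IsPullback p₁ p₂ q q) {p₁₂ p₂₃ : P₃ ⟶ P₂}
    (h₃ : IsPullback p₁₂ p₂₃ p₂ p₁) (p₁₃ : P₃ ⟶ P₂) (a₁ : p₁₃ ≫ p₁ = p₁₂ ≫ p₁)
    (a₃ : p₁₃ ≫ p₂ = p₂₃ ≫ p₂) {L : P.Modules} (hL : L.IsQuasicoherent)
    (ψ : (Scheme.Modules.pullback p₁).obj L ⟶ (Scheme.Modules.pullback p₂).obj L)
    (δ : P ⟶ P₂) (e₁ : δ ≫ p₁ = 𝟙 P) (e₂ : δ ≫ p₂ = 𝟙 P)
    (hself : cj ψ δ (𝟙 P) (𝟙 P) e₁ e₂ = 𝟙 _)
    (hcomp : cj ψ p₁₂ (p₁₂ ≫ p₁) (p₁₂ ≫ p₂) rfl rfl ≫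
      cj ψ p₂₃ (p₁₂ ≫ p₂) (p₂₃ ≫ p₂) h₃.w.symm rfl =
      cj ψ p₁₃ (p₁₂ ≫ p₁) (p₂₃ ≫ p₂) a₁ a₃) :
    ∃ (M : Q.Modules) (e : (Scheme.Modules.pullback q).obj M ≅ L), M.IsQuasicoherent ∧
      ∀ (x y : El M q) (r : Γ(P₂, ⊤)),
        ψ.app ⊤ (el p₁ (U := ⊤) le_top (e.hom.app ⊤ x)) = r • el p₂ (U := ⊤) le_top (e.hom.app ⊤ y) →
          bc p₁ q (p₁ ≫ q) rfl x = r • bc p₂ q (p₁ ≫ q) h₂.w.symm y := by
  let s₂ : ChosenPullback q q :=
    { pullback := P₂, p₁ := p₁, p₂ := p₂, condition := h₂.w, isLimit := h₂.isLimit }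
  let s₃ : ChosenPullback₃ s₂ s₂ s₂ :=
    { chosenPullback := { pullback := P₃, p₁ := p₁₂, p₂ := p₂₃, condition := h₃.w,
                          isLimit := h₃.isLimit }
      l := { f := p₁₃
             f_p₁ := a₁
             f_p₂ := a₃
             f_p := by
              change p₁₃ ≫ p₁ ≫ q = p₁₂ ≫ p₁ ≫ q
              rw [← Category.assoc, a₁, Category.assoc] }
      hp₁ := rfl
      hp₃ := rfl }
  obtain ⟨M, e, hM, he⟩ := exists_iso_of_gluing_family (fun _ _ : PUnit.{u + 1} => s₂)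
    (fun _ _ _ => s₃) hq (fun _ => L) (fun _ => hL) (fun _ _ => ψ) (fun _ => ⟨δ, e₁, e₂, hself⟩)
    (fun _ _ _ => hcomp)
  exact ⟨M, e PUnit.unit, hM, he PUnit.unit PUnit.unit⟩

end Groth.PicAux.RigDescent
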