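import Groth.Agent.PicAux.RigDescentBase
import Groth.Agent.PicAux.GluingEffective

/-!
# Flat descent of rigidified invertible modules
-/

set_option autoImplicit false
set_option backward.isDefEq.respectTransparency false
set_option backward.isDefEq.respectTransparency.types false


universe u

open CategoryTheory CategoryTheory.Limits AlgebraicGeometry TopologicalSpace Opposite

noncomputable section

namespace Groth.PicAux.RigDescent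

open RigNormal Groth.DescentBase
open Groth.PicCurve (XTmap_sq XTmap_comp' XTmap_id' secT_map secT_proj)

variable {X S : Scheme.{u}} {f : X ⟶ S} {σ : S ⟶ X} {hσ : σ ≫ f = 𝟙 S}

local notation "secσ" => PicF.secT f σ hσ

variable {T U : Over S} (v : U ⟶ T)
  {L : (PicF.XT f U).Modules} (hL : PicF.IsInvertible L) {τ : El L (PicF.secT f σ hσ U)}
  (hτ : Gen ((Scheme.Modules.pullback (PicF.secT f σ hσ U)).obj L) ⊤ τ)
  {ψ : (Scheme.Modules.pullback (PicF.XTmap f (pr₁ v))).obj L ⟶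
    (Scheme.Modules.pullback (PicF.XTmap f (pr₂ v))).obj L}

include hL hτ in
theorem cj_diag (hU : Function.Bijective (PicF.XTproj f U).appTop) [IsIso ψ]
    (hψ : Normal τ (secσ (W₂ v)) ψ (pr₁ v).left (pr₂ v).left)
    (e₁ : PicF.XTmap f (diag v) ≫ PicF.XTmap f (pr₁ v) = 𝟙 _)
    (e₂ : PicF.XTmap f (diag v) ≫ PicF.XTmap f (pr₂ v) = 𝟙 _) :
    cj ψ (PicF.XTmap f (diag v)) (𝟙 _) (𝟙 _) e₁ e₂ = 𝟙 _ := by
  have hn := hψ.pull (PicF.XTmap f (diag v)) (diag v).left (secσ U)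
    (secT_map f σ hσ (diag v)) (𝟙 _) (𝟙 _) e₁ e₂ (𝟙 _) (𝟙 _)
    (congrArg (fun h => h.left) (diag_pr₁ v)) (congrArg (fun h => h.left) (diag_pr₂ v))
  exact hn.unique (ψ := 𝟙 ((Scheme.Modules.pullback (𝟙 (PicF.XT f U))).obj L)) hτ hL
    (secT_proj f σ hσ U) hU (normal_id (by rw [Category.id_comp, Category.comp_id]))

include hL hτ in
theorem cj_triple (h₃ : Function.Bijective (PicF.XTproj f (W₃ v)).appTop) [IsIso ψ]
    (hψ : Normal τ (secσ (W₂ v)) ψ (pr₁ v).left (pr₂ v).left)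
    (w : PicF.XTmap f (pr₂₃ v) ≫ PicF.XTmap f (pr₁ v) = PicF.XTmap f (pr₁₂ v) ≫ PicF.XTmap f (pr₂ v))
    (a₁ : PicF.XTmap f (pr₁₃ v) ≫ PicF.XTmap f (pr₁ v) = PicF.XTmap f (pr₁₂ v) ≫ PicF.XTmap f (pr₁ v))
    (a₃ : PicF.XTmap f (pr₁₃ v) ≫ PicF.XTmap f (pr₂ v) = PicF.XTmap f (pr₂₃ v) ≫ PicF.XTmap f (pr₂ v)) :
    cj ψ (PicF.XTmap f (pr₁₂ v)) (PicF.XTmap f (pr₁₂ v) ≫ PicF.XTmap f (pr₁ v))
        (PicF.XTmap f (pr₁₂ v) ≫ PicF.XTmap f (pr₂ v)) rfl rfl ≫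
      cj ψ (PicF.XTmap f (pr₂₃ v)) (PicF.XTmap f (pr₁₂ v) ≫ PicF.XTmap f (pr₂ v))
        (PicF.XTmap f (pr₂₃ v) ≫ PicF.XTmap f (pr₂ v)) w rfl =
      cj ψ (PicF.XTmap f (pr₁₃ v)) (PicF.XTmap f (pr₁₂ v) ≫ PicF.XTmap f (pr₁ v))
        (PicF.XTmap f (pr₂₃ v) ≫ PicF.XTmap f (pr₂ v)) a₁ a₃ := by
  have n₁₂ := hψ.pull (PicF.XTmap f (pr₁₂ v)) (pr₁₂ v).left (secσ (W₃ v))
    (secT_map f σ hσ (pr₁₂ v)) _ _ rfl rfl
    ((pr₁₂ v).left ≫ (pr₁ v).left) ((pr₁₂ v).left ≫ (pr₂ v).left) rfl rfl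
  have n₂₃ := hψ.pull (PicF.XTmap f (pr₂₃ v)) (pr₂₃ v).left (secσ (W₃ v))
    (secT_map f σ hσ (pr₂₃ v)) (PicF.XTmap f (pr₁₂ v) ≫ PicF.XTmap f (pr₂ v)) _ w rfl
    ((pr₁₂ v).left ≫ (pr₂ v).left) ((pr₂₃ v).left ≫ (pr₂ v).left)
    (congrArg (fun h => h.left) (pr₁₂_pr₂ v)).symm rfl
  have n₁₃ := hψ.pull (PicF.XTmap f (pr₁₃ v)) (pr₁₃ v).left (secσ (W₃ v))
    (secT_map f σ hσ (pr₁₃ v)) _ _ a₁ a₃
    ((pr₁₂ v).left ≫ (pr₁ v).left) ((pr₂₃ v).left ≫ (pr₂ v).left)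
    (congrArg (fun h => h.left) (pr₁₃_pr₁ v)) (congrArg (fun h => h.left) (pr₁₃_pr₂ v))
  exact (n₁₂.comp n₂₃).unique hτ hL (secT_proj f σ hσ (W₃ v)) h₃ n₁₃

variable (hq : Presieve.ofArrows (fun _ : PUnit.{u + 1} => PicF.XT f U)
  (fun _ => PicF.XTmap f v) ∈ Scheme.fpqcPrecoverage (PicF.XT f T))

include hL hτ hq in
/-- A rigidified invertible module with an isomorphism between its two inverse images descends. -/
theorem exists_descent (hU : Function.Bijective (PicF.XTproj f U).appTop)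
    (h₃ : Function.Bijective (PicF.XTproj f (W₃ v)).appTop)
    (Φ : (Scheme.Modules.pullback (PicF.XTmap f (pr₁ v))).obj L ≅
      (Scheme.Modules.pullback (PicF.XTmap f (pr₂ v))).obj L) :
    ∃ M : (PicF.XT f T).Modules, PicF.IsInvertible M ∧
      Nonempty ((Scheme.Modules.pullback (PicF.XTmap f v)).obj M ≅ L) := by
  obtain ⟨ψ, hψi, hψ⟩ := RigNormal.exists_normal (s := secσ U) (e := secσ (W₂ v)) hτ
    (secT_proj f σ hσ (W₂ v)) Φ (secT_left (pr₁ v)) (secT_left (pr₂ v))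
  have e₁ : PicF.XTmap f (diag v) ≫ PicF.XTmap f (pr₁ v) = 𝟙 _ := by
    rw [← XTmap_comp', diag_pr₁, XTmap_id']
  have e₂ : PicF.XTmap f (diag v) ≫ PicF.XTmap f (pr₂ v) = 𝟙 _ := by
    rw [← XTmap_comp', diag_pr₂, XTmap_id']
  have a₁ : PicF.XTmap f (pr₁₃ v) ≫ PicF.XTmap f (pr₁ v) =
      PicF.XTmap f (pr₁₂ v) ≫ PicF.XTmap f (pr₁ v) := by
    rw [← XTmap_comp', ← XTmap_comp', pr₁₃_pr₁]
  have a₃ : PicF.XTmap f (pr₁₃ v) ≫ PicF.XTmap f (pr₂ v) =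
      PicF.XTmap f (pr₂₃ v) ≫ PicF.XTmap f (pr₂ v) := by
    rw [← XTmap_comp', ← XTmap_comp', pr₁₃_pr₂]
  have h3 := isPullback_XTmap₂ f (IsPullback.of_hasPullback (pr₂ v).left (pr₁ v).left)
    (W := W₃ v) (a := pr₁₂ v) (b := pr₂₃ v) (v := pr₂ v) (w := pr₁ v)
  obtain ⟨M, e, hM, -⟩ := exists_iso_of_gluing hq (isPullback_pr f v) h3
    (PicF.XTmap f (pr₁₃ v)) a₁ a₃ (PicAux.isQCoh_of_isInvertible hL) ψ
    (PicF.XTmap f (diag v)) e₁ e₂ (cj_diag v hL hτ hU hψ e₁ e₂)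
    (cj_triple v hL hτ h₃ hψ h3.w.symm a₁ a₃)
  exact ⟨M, @isInvertible_of_pullback _ _ _ hq M hM (PicAux.isInvertible_of_iso hL e.symm), ⟨e⟩⟩

end Groth.PicAux.RigDescent
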