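import Groth.Agent.PicAux.Cocycle
import Groth.Prelude.Def_RelSpec
import Mathlib.AlgebraicGeometry.FunctionField
import Mathlib.RingTheory.AdjoinRoot

/-!
# The algebra of a cyclic cover of an integral scheme

From units `u a` on a cover with `u a = g a ^ d * h` in the function field, the quasi-coherent
algebra whose sections are locally `Γ(W)[g a * T] ⊆ K(X)[T]/(T^d - h)`.
-/

universe u

open CategoryTheory AlgebraicGeometry Opposite TopologicalSpace
open scoped Polynomial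

noncomputable section

namespace Groth.PicAux

variable {X : Scheme.{u}} [IsIntegral X]

theorem kummer_genericPoint_mem {W : X.Opens} (hW : (W : Set X).Nonempty) : genericPoint X ∈ W :=
  ((genericPoint_spec X).mem_open_set_iff W.isOpen).2 (by simpa using hW)

/-- The value at the generic point. -/
def gK (W : X.Opens) (hW : (W : Set X).Nonempty) : Γ(X, W) →+* X.functionField :=
  (X.presheaf.germ W (genericPoint X) (kummer_genericPoint_mem hW)).hom

theorem gK_res {V W : X.Opens} (h : W ≤ V) (hV : (V : Set X).Nonempty) (hW : (W : Set X).Nonempty)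
    (r : Γ(X, V)) : gK W hW (resX X h r) = gK V hV r := by
  unfold gK resX
  exact TopCat.Presheaf.germ_res_apply X.presheaf (homOfLE h) _ _ r

theorem gK_injective (W : X.Opens) (hW : (W : Set X).Nonempty) : Function.Injective (gK W hW) :=
  germ_injective_of_isIntegral X (genericPoint X) (kummer_genericPoint_mem hW)

theorem inter_nonempty {V W : X.Opens} (hV : (V : Set X).Nonempty) (hW : (W : Set X).Nonempty) :
    ((V ⊓ W : X.Opens) : Set X).Nonempty :=
  ⟨genericPoint X, kummer_genericPoint_mem hV, kummer_genericPoint_mem hW⟩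

/-- Rational functions regular on `W`. -/
def regOn (W : X.Opens) : Set X.functionField :=
  {c | ∃ hW : (W : Set X).Nonempty, c ∈ (gK W hW).range}

theorem mem_regOn {W : X.Opens} (hW : (W : Set X).Nonempty) {c : X.functionField} :
    c ∈ regOn W ↔ c ∈ (gK W hW).range :=
  ⟨fun ⟨_, h⟩ => h, fun h => ⟨hW, h⟩⟩

theorem regOn_mono {V W : X.Opens} (h : W ≤ V) (hW : (W : Set X).Nonempty) :
    regOn V ⊆ regOn W := by
  rintro _ ⟨hV, r, rfl⟩
  exact ⟨hW, resX X h r, gK_res h hV hW r⟩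

/-- A rational function regular near every point of `U` is regular on `U`. -/
theorem mem_regOn_of_local {U : X.Opens} (hU : (U : Set X).Nonempty) {c : X.functionField}
    (h : ∀ x ∈ U, ∃ W : X.Opens, x ∈ W ∧ c ∈ regOn W) : c ∈ regOn U := by
  choose W hxW hW using fun x : U => h x.1 x.2
  have hV : ∀ x : U, ∃ r : Γ(X, W x ⊓ U), gK _ (inter_nonempty ⟨x, hxW x⟩ hU) r = c := fun x => by
    obtain ⟨hne, r, hr⟩ := hW x
    exact ⟨resX X inf_le_left r, (gK_res _ hne _ r).trans hr⟩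
  choose r hr using hV
  obtain ⟨s, hs, -⟩ := resX_glue (fun x => W x ⊓ U) (fun _ => inf_le_right)
    (fun x hx => Opens.mem_iSup.2 ⟨⟨x, hx⟩, hxW ⟨x, hx⟩, hx⟩) r fun x y =>
      gK_injective _ (inter_nonempty (inter_nonempty ⟨x, hxW x⟩ hU) (inter_nonempty ⟨y, hxW y⟩ hU))
        (by rw [gK_res _ (inter_nonempty ⟨x, hxW x⟩ hU), gK_res _ (inter_nonempty ⟨y, hxW y⟩ hU),
          hr, hr])
  obtain ⟨x, hx⟩ := hU
  refine ⟨⟨x, hx⟩, s, ?_⟩
  rw [← gK_res inf_le_right ⟨x, hx⟩ (inter_nonempty ⟨x, hxW ⟨x, hx⟩⟩ ⟨x, hx⟩) s, hs ⟨x, hx⟩, hr]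

/-- A rational function regular on `W ⊓ D(r)` becomes regular on `W` after multiplying by `r^n`. -/
theorem exists_pow_mul_mem_regOn {W : X.Opens} (hW : IsAffineOpen W) (hne : (W : Set X).Nonempty)
    (r : Γ(X, W)) (hne' : (X.basicOpen r : Set X).Nonempty) {c : X.functionField}
    (hc : c ∈ regOn (X.basicOpen r)) : ∃ n : ℕ, ∀ m, n ≤ m → gK W hne r ^ m * c ∈ regOn W := by
  obtain ⟨-, s, rfl⟩ := hc
  have := hW.isLocalization_basicOpen r
  obtain ⟨n, a, ha⟩ := IsLocalization.Away.surj r s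
  refine ⟨n, fun m hm => ⟨hne, r ^ (m - n) * a, ?_⟩⟩
  have h1 : s * resX X (X.basicOpen_le r) r ^ n = resX X (X.basicOpen_le r) a := ha
  have h2 := congrArg (gK _ hne') h1
  rw [map_mul, map_pow, gK_res _ hne, gK_res _ hne] at h2
  rw [map_mul, map_pow, ← h2, mul_comm _ (gK W hne r ^ n), ← mul_assoc, ← pow_add,
    Nat.sub_add_cancel hm]

/-- Local data of a `d`-th root of a trivialisation of `L^{⊗ d}`. -/
structure KummerDatum (X : Scheme.{u}) [IsIntegral X] (d : ℕ) where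
  ι : Type u
  U : ι → X.Opens
  isAffine : ∀ a, IsAffineOpen (U a)
  cover : ∀ x : X, ∃ a, x ∈ U a
  ne : ∀ a, (U a : Set X).Nonempty
  u : ∀ a, Γ(X, U a)
  isUnit_u : ∀ a, IsUnit (u a)
  g : ι → X.functionField
  g_ne : ∀ a, g a ≠ 0
  h : X.functionField
  eq : ∀ a, gK (U a) (ne a) (u a) = g a ^ d * h
  ratio : ∀ a b, ∃ r ∈ regOn (U a ⊓ U b), r * g b = g a

namespace KummerDatum

variable {d : ℕ} (D : KummerDatum X d)

/-- The generic algebra `K[T]/(T^d - h)`. -/
abbrev E : Type u := AdjoinRoot (Polynomial.X ^ d - Polynomial.C D.h)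

/-- The root `T`. -/
def T : D.E := AdjoinRoot.root _

theorem T_pow : D.T ^ d = algebraMap X.functionField D.E D.h := by
  have := AdjoinRoot.eval₂_root (Polynomial.X ^ d - Polynomial.C D.h)
  rwa [Polynomial.eval₂_sub, Polynomial.eval₂_pow, Polynomial.eval₂_X, Polynomial.eval₂_C,
    sub_eq_zero] at this

/-- The generator over the `a`-th open. -/
def S (a : D.ι) : D.E := algebraMap X.functionField D.E (D.g a) * D.T

/-- The subring generated by the functions regular on `W` and by `S a`. -/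
def R (a : D.ι) (W : X.Opens) : Subring D.E :=
  Subring.closure (algebraMap X.functionField D.E '' regOn W ∪ {D.S a})

theorem S_mem (a : D.ι) (W : X.Opens) : D.S a ∈ D.R a W :=
  Subring.subset_closure (Set.mem_union_right _ (Set.mem_singleton _))

theorem reg_mem (a : D.ι) {W : X.Opens} {c : X.functionField} (hc : c ∈ regOn W) :
    algebraMap X.functionField D.E c ∈ D.R a W :=
  Subring.subset_closure (Set.mem_union_left _ (Set.mem_image_of_mem _ hc))

theorem R_mono (a : D.ι) {V W : X.Opens} (h : W ≤ V) (hW : (W : Set X).Nonempty) :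
    D.R a V ≤ D.R a W :=
  Subring.closure_mono (Set.union_subset_union_left _ (Set.image_mono (regOn_mono h hW)))

theorem R_change (a b : D.ι) {W : X.Opens} (hW : (W : Set X).Nonempty) (hle : W ≤ D.U a ⊓ D.U b) :
    D.R b W ≤ D.R a W := by
  refine Subring.closure_le.2 (Set.union_subset ?_ ?_)
  · exact Set.subset_union_left.trans Subring.subset_closure
  · obtain ⟨r, hr, e⟩ := D.ratio b a
    rintro _ rfl
    have e1 : D.S b = algebraMap X.functionField D.E r * D.S a := by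
      rw [S, S, ← e, map_mul, mul_assoc]
    rw [e1]
    exact mul_mem (Subring.subset_closure (Or.inl ⟨r, regOn_mono (inf_comm (D.U a) _ ▸ hle) hW hr, rfl⟩))
      (Subring.subset_closure (Or.inr rfl))

/-- Sections near a point. -/
def Loc (x : X) (P : D.E) : Prop := ∃ a W, x ∈ W ∧ W ≤ D.U a ∧ P ∈ D.R a W

theorem Loc.op {D : KummerDatum X d} {x : X} {P Q : D.E} (f : D.E → D.E → D.E)
    (hf : ∀ (s : Subring D.E), P ∈ s → Q ∈ s → f P Q ∈ s) (hP : D.Loc x P) (hQ : D.Loc x Q) :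
    D.Loc x (f P Q) := by
  obtain ⟨a, W, hx, hW, h⟩ := hP
  obtain ⟨b, W', hx', hW', h'⟩ := hQ
  have hne : ((W ⊓ W' : X.Opens) : Set X).Nonempty := ⟨x, hx, hx'⟩
  refine ⟨a, W ⊓ W', ⟨hx, hx'⟩, inf_le_left.trans hW, hf _ (D.R_mono a inf_le_left hne h) ?_⟩
  exact D.R_change a b hne (inf_le_inf hW hW') (D.R_mono b inf_le_right hne h')

/-- The structure map at the level of values. -/
theorem loc_algebraMap {V : X.Opens} {x : X} (hx : x ∈ V) (hV : (V : Set X).Nonempty) (r : Γ(X, V)) :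
    D.Loc x (algebraMap X.functionField D.E (gK V hV r)) := by
  obtain ⟨a, ha⟩ := D.cover x
  exact ⟨a, V ⊓ D.U a, ⟨hx, ha⟩, inf_le_right, Subring.subset_closure
    (Or.inl ⟨_, regOn_mono inf_le_left ⟨x, hx, ha⟩ ⟨hV, r, rfl⟩, rfl⟩)⟩

/-- Sections over an open. -/
def sec (V : X.Opens) : Subring (V → D.E) where
  carrier := {f | (∀ x y, f x = f y) ∧ ∀ x, D.Loc x.1 (f x)}
  zero_mem' := ⟨fun _ _ => rfl, fun x => by
    obtain ⟨a, ha⟩ := D.cover x.1
    exact ⟨a, D.U a, ha, le_rfl, zero_mem _⟩⟩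
  one_mem' := ⟨fun _ _ => rfl, fun x => by
    obtain ⟨a, ha⟩ := D.cover x.1
    exact ⟨a, D.U a, ha, le_rfl, one_mem _⟩⟩
  add_mem' hf hg := ⟨fun x y => congrArg₂ (· + ·) (hf.1 x y) (hg.1 x y),
    fun x => Loc.op (· + ·) (fun _ => add_mem) (hf.2 x) (hg.2 x)⟩
  mul_mem' hf hg := ⟨fun x y => congrArg₂ (· * ·) (hf.1 x y) (hg.1 x y),
    fun x => Loc.op (· * ·) (fun _ => mul_mem) (hf.2 x) (hg.2 x)⟩
  neg_mem' hf := ⟨fun x y => congrArg Neg.neg (hf.1 x y), fun x => by
    obtain ⟨a, W, hx, hW, h⟩ := hf.2 x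
    exact ⟨a, W, hx, hW, neg_mem h⟩⟩

/-- Restriction of sections. -/
def secRes {V W : X.Opens} (h : W ≤ V) : D.sec V →+* D.sec W where
  toFun f := ⟨fun x => f.1 ⟨x.1, h x.2⟩, fun _ _ => f.2.1 _ _, fun x => f.2.2 ⟨x.1, h x.2⟩⟩
  map_one' := rfl
  map_mul' _ _ := rfl
  map_zero' := rfl
  map_add' _ _ := rfl

/-- The presheaf of rings. -/
def presheaf : TopCat.Presheaf CommRingCat.{u} X where
  obj V := CommRingCat.of (D.sec V.unop)
  map i := CommRingCat.ofHom (D.secRes i.unop.le)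

theorem isSheaf : TopCat.Presheaf.IsSheaf D.presheaf := by
  rw [TopCat.Presheaf.isSheaf_iff_isSheafUniqueGluing]
  intro κ W sf hsf
  let f : ∀ a, D.sec (W a) := sf
  have hc : ∀ a b, D.secRes (inf_le_left : W a ⊓ W b ≤ W a) (f a) =
      D.secRes (inf_le_right : W a ⊓ W b ≤ W b) (f b) := hsf
  have hval : ∀ a b (x : W a) (y : W b), (f a).1 x = (f b).1 y := fun a b x y => by
    have hη : genericPoint X ∈ W a ⊓ W b :=
      ⟨kummer_genericPoint_mem ⟨x.1, x.2⟩, kummer_genericPoint_mem ⟨y.1, y.2⟩⟩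
    exact ((f a).2.1 x ⟨_, hη.1⟩).trans
      ((congrFun (congrArg Subtype.val (hc a b)) ⟨_, hη⟩).trans ((f b).2.1 ⟨_, hη.2⟩ y))
  choose a ha using fun x : (iSup W : X.Opens) => Opens.mem_iSup.1 x.2
  refine ⟨(⟨fun x => (f (a x)).1 ⟨x.1, ha x⟩, fun x y => hval _ _ _ _,
    fun x => (f (a x)).2.2 ⟨x.1, ha x⟩⟩ : D.sec (iSup W)), fun b => ?_, fun g hg => ?_⟩
  · exact Subtype.ext (funext fun x => hval _ _ _ _)
  · refine Subtype.ext (funext fun x => ?_)
    exact congrFun (congrArg Subtype.val (hg (a x))) ⟨x.1, ha x⟩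

/-- The structure map on sections. -/
def strHom (V : X.Opens) : Γ(X, V) →+* D.sec V where
  toFun r := ⟨fun x => algebraMap X.functionField D.E (gK V ⟨x.1, x.2⟩ r), fun _ _ => rfl,
    fun x => D.loc_algebraMap x.2 _ r⟩
  map_one' := Subtype.ext (funext fun x => by simp)
  map_mul' _ _ := Subtype.ext (funext fun x => by simp)
  map_zero' := Subtype.ext (funext fun x => by simp)
  map_add' _ _ := Subtype.ext (funext fun x => by simp)

/-- The structure map. -/
def str : X.presheaf ⟶ D.presheaf where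
  app V := CommRingCat.ofHom (D.strHom V.unop)
  naturality V W i := by
    refine CommRingCat.hom_ext (RingHom.ext fun r => Subtype.ext (funext fun x => ?_))
    exact congrArg (algebraMap X.functionField D.E) (gK_res i.unop.le _ ⟨x.1, x.2⟩ r)

variable [NeZero d]

/-- The power basis of the generic algebra. -/
def bas : Module.Basis (Fin d) X.functionField D.E :=
  (AdjoinRoot.powerBasis' (Polynomial.monic_X_pow_sub_C D.h (NeZero.ne d))).basis.reindex
    (finCongr (by simp))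

theorem bas_apply (i : Fin d) : D.bas i = D.T ^ (i : ℕ) := by
  simp [bas, T]

/-- Coordinates with respect to the powers of `S a`. -/
def co (a : D.ι) (P : D.E) (i : Fin d) : X.functionField := D.bas.repr P i / D.g a ^ (i : ℕ)

theorem sum_co (a : D.ι) (P : D.E) :
    P = ∑ i, algebraMap X.functionField D.E (D.co a P i) * D.S a ^ (i : ℕ) := by
  conv_lhs => rw [← D.bas.sum_repr P]
  refine Finset.sum_congr rfl fun i _ => ?_
  rw [bas_apply, Algebra.smul_def, S, mul_pow, ← mul_assoc, ← map_pow, ← map_mul, co,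
    div_mul_cancel₀ _ (pow_ne_zero _ (D.g_ne a))]

theorem co_sum (a : D.ι) (c : Fin d → X.functionField) :
    D.co a (∑ i, algebraMap X.functionField D.E (c i) * D.S a ^ (i : ℕ)) = c := by
  have h : (∑ i, algebraMap X.functionField D.E (c i) * D.S a ^ (i : ℕ)) =
      ∑ i, (c i * D.g a ^ (i : ℕ)) • D.bas i := Finset.sum_congr rfl fun i _ => by
    rw [bas_apply, Algebra.smul_def, S, mul_pow, map_mul, map_pow]; ring
  funext i
  rw [co, h, D.bas.repr_sum_self, mul_div_cancel_right₀ _ (pow_ne_zero _ (D.g_ne a))]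

/-- The model ring over an open contained in the `a`-th one. -/
abbrev Mdl (a : D.ι) (W : X.Opens) (hW : W ≤ D.U a) : Type u :=
  AdjoinRoot (Polynomial.X ^ d - Polynomial.C (resX X hW (D.u a)))

omit [NeZero d] in
theorem mdl_eval (a : D.ι) {W : X.Opens} (hW : W ≤ D.U a) (hne : (W : Set X).Nonempty) :
    Polynomial.eval₂ ((algebraMap X.functionField D.E).comp (gK W hne)) (D.S a)
      (Polynomial.X ^ d - Polynomial.C (resX X hW (D.u a))) = 0 := by
  simp only [Polynomial.eval₂_sub, Polynomial.eval₂_pow, Polynomial.eval₂_X, Polynomial.eval₂_C,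
    RingHom.comp_apply]
  rw [gK_res hW (D.ne a), D.eq, map_mul, map_pow, ← T_pow, S, mul_pow, sub_self]

/-- The model ring maps to the generic algebra. -/
def Φ (a : D.ι) {W : X.Opens} (hW : W ≤ D.U a) (hne : (W : Set X).Nonempty) :
    D.Mdl a W hW →+* D.E :=
  AdjoinRoot.lift _ _ (D.mdl_eval a hW hne)

omit [NeZero d] in
theorem Φ_range (a : D.ι) {W : X.Opens} (hW : W ≤ D.U a) (hne : (W : Set X).Nonempty) :
    (D.Φ a hW hne).range = D.R a W := by
  refine le_antisymm ?_ (Subring.closure_le.2 (Set.union_subset ?_ ?_))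
  · rintro _ ⟨z, rfl⟩
    induction z using AdjoinRoot.induction_on with
    | ih p =>
      rw [Φ, AdjoinRoot.lift_mk, Polynomial.eval₂_eq_sum_range]
      exact sum_mem fun i _ => mul_mem (D.reg_mem a (c := gK W hne (p.coeff i)) ⟨hne, _, rfl⟩)
        (pow_mem (D.S_mem a W) i)
  · rintro _ ⟨_, ⟨_, r, rfl⟩, rfl⟩
    exact ⟨AdjoinRoot.of _ r, AdjoinRoot.lift_of _⟩
  · rintro _ rfl
    exact ⟨AdjoinRoot.root _, AdjoinRoot.lift_root _⟩

/-- The basis of the model ring. -/
def mdlBas (a : D.ι) {W : X.Opens} (hW : W ≤ D.U a) (hne : (W : Set X).Nonempty) :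
    Module.Basis (Fin d) Γ(X, W) (D.Mdl a W hW) :=
  haveI : Nonempty W := ⟨⟨_, hne.some_mem⟩⟩
  (AdjoinRoot.powerBasis' (Polynomial.monic_X_pow_sub_C (resX X hW (D.u a)) (NeZero.ne d))).basis.reindex
    (finCongr (by simp))

theorem co_Φ (a : D.ι) {W : X.Opens} (hW : W ≤ D.U a) (hne : (W : Set X).Nonempty)
    (z : D.Mdl a W hW) (i : Fin d) :
    D.co a (D.Φ a hW hne z) i = gK W hne ((D.mdlBas a hW hne).repr z i) := by
  conv_lhs => rw [← (D.mdlBas a hW hne).sum_repr z, map_sum]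
  refine Eq.trans (congrArg (D.co a · i) (Finset.sum_congr rfl fun j _ => ?_))
    (congrFun (D.co_sum a fun j => gK W hne ((D.mdlBas a hW hne).repr z j)) i)
  rw [Algebra.smul_def, map_mul, mdlBas, Module.Basis.reindex_apply, PowerBasis.basis_eq_pow,
    map_pow, Φ, AdjoinRoot.powerBasis'_gen, AdjoinRoot.lift_root]
  refine congrArg (· * _) ?_
  exact AdjoinRoot.lift_of _

theorem Φ_injective (a : D.ι) {W : X.Opens} (hW : W ≤ D.U a) (hne : (W : Set X).Nonempty) :
    Function.Injective (D.Φ a hW hne) := fun z z' e =>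
  (D.mdlBas a hW hne).ext_elem fun i => gK_injective W hne (by rw [← co_Φ, ← co_Φ, e])

theorem mem_R_iff (a : D.ι) {W : X.Opens} (hW : W ≤ D.U a) (hne : (W : Set X).Nonempty) (P : D.E) :
    P ∈ D.R a W ↔ ∀ i, D.co a P i ∈ regOn W := by
  refine ⟨fun h i => ?_, fun h => ?_⟩
  · rw [← D.Φ_range a hW hne] at h
    obtain ⟨z, rfl⟩ := h
    rw [co_Φ]
    exact ⟨hne, _, rfl⟩
  · rw [D.sum_co a P]
    exact sum_mem fun i _ => mul_mem (D.reg_mem a (h i)) (pow_mem (D.S_mem a W) _)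

theorem co_mem_of_loc (a : D.ι) {x : X} (hx : x ∈ D.U a) {P : D.E} (h : D.Loc x P) :
    ∃ W, x ∈ W ∧ ∀ i, D.co a P i ∈ regOn W := by
  obtain ⟨b, W, hxW, hW, h⟩ := h
  have hne : ((W ⊓ D.U a : X.Opens) : Set X).Nonempty := ⟨x, hxW, hx⟩
  refine ⟨W ⊓ D.U a, ⟨hxW, hx⟩, (D.mem_R_iff a inf_le_right hne P).1 ?_⟩
  exact D.R_change a b hne (le_inf inf_le_right (inf_le_left.trans hW))
    (D.R_mono b inf_le_left hne h)

theorem forall_loc_iff (a : D.ι) {W : X.Opens} (hW : W ≤ D.U a) (hne : (W : Set X).Nonempty)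
    (P : D.E) : (∀ x ∈ W, D.Loc x P) ↔ P ∈ D.R a W := by
  refine ⟨fun h => (D.mem_R_iff a hW hne P).2 fun i => mem_regOn_of_local hne fun x hx => ?_,
    fun h x hx => ⟨a, W, hx, hW, h⟩⟩
  obtain ⟨W', h1, h2⟩ := D.co_mem_of_loc a (hW hx) (h x hx)
  exact ⟨W', h1, h2 i⟩

theorem isQC : RelSpec.IsQC D.presheaf D.str := by
  intro U hU r
  let j : D.sec U →+* D.sec (X.basicOpen r) := D.secRes (X.basicOpen_le r)
  let : Algebra (D.sec U) (D.sec (X.basicOpen r)) := j.toAlgebra
  change IsLocalization.Away (D.strHom U r) (D.sec (X.basicOpen r))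
  have hj : ∀ s : Γ(X, U), j (D.strHom U s) = D.strHom _ (resX X (X.basicOpen_le r) s) := fun s =>
    Subtype.ext (funext fun x =>
      (congrArg (algebraMap X.functionField D.E) (gK_res _ _ ⟨x.1, x.2⟩ s)).symm)
  refine ⟨?_, ?_, ?_⟩
  · rintro ⟨_, n, rfl⟩
    change IsUnit (j (D.strHom U r ^ n))
    rw [map_pow, hj]
    exact ((X.toRingedSpace.isUnit_res_basicOpen r).map _).pow n
  · intro P
    rcases (X.basicOpen r : Set X).eq_empty_or_nonempty with hr | hr
    · exact ⟨(0, 1), Subtype.ext (funext fun x => (Set.eq_empty_iff_forall_notMem.1 hr x.1 x.2).elim)⟩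
    have hUne : (U : Set X).Nonempty := hr.mono (X.basicOpen_le r)
    set c := P.1 ⟨hr.some, hr.some_mem⟩
    have key : ∀ x : U, ∃ (a : D.ι) (W : X.Opens), x.1 ∈ W ∧ W ≤ D.U a ∧ W ≤ U ∧ ∃ n, ∀ m, n ≤ m →
        algebraMap X.functionField D.E (gK U hUne r) ^ m * c ∈ D.R a W := by
      intro x
      obtain ⟨a, ha⟩ := D.cover x.1
      obtain ⟨_, ⟨W, hW, rfl⟩, hxW, hle⟩ := X.isBasis_affineOpens.exists_subset_of_mem_open
        (show x.1 ∈ U ⊓ D.U a from ⟨x.2, ha⟩) (U ⊓ D.U a).2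
      have hWU : W ≤ U := fun y hy => (hle hy).1
      have hWa : W ≤ D.U a := fun y hy => (hle hy).2
      have hne : (W : Set X).Nonempty := ⟨x.1, hxW⟩
      have hb : X.basicOpen (resX X hWU r) = W ⊓ X.basicOpen r := X.basicOpen_res r (homOfLE hWU).op
      have hne' : (X.basicOpen (resX X hWU r) : Set X).Nonempty := by
        rw [hb]; exact inter_nonempty hne hr
      have h1 := (D.forall_loc_iff a ((X.basicOpen_le _).trans hWa) hne' c).1 fun y hy => by
        have hy' : y ∈ X.basicOpen r := (hb.le hy).2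
        rw [show c = P.1 ⟨y, hy'⟩ from P.2.1 _ _]
        exact P.2.2 ⟨y, hy'⟩
      rw [D.mem_R_iff a ((X.basicOpen_le _).trans hWa) hne'] at h1
      choose n hn using fun i => exists_pow_mul_mem_regOn hW hne _ hne' (h1 i)
      refine ⟨a, W, hxW, hWa, hWU, Finset.univ.sup n, fun m hm => (D.mem_R_iff a hWa hne _).2 fun i => ?_⟩
      have h2 := hn i m ((Finset.le_sup (Finset.mem_univ i)).trans hm)
      rw [gK_res hWU hUne] at h2
      rw [co, ← map_pow, ← Algebra.smul_def, map_smul, Finsupp.smul_apply, smul_eq_mul, mul_div_assoc]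
      exact h2
    choose a W hxW hWa hWU n hn using key
    obtain ⟨t, ht⟩ := hU.isCompact.elim_finite_subcover (fun x => (W x : Set X)) (fun x => (W x).2)
      (fun y hy => Set.mem_iUnion.2 ⟨⟨y, hy⟩, hxW ⟨y, hy⟩⟩)
    refine ⟨(⟨fun _ => algebraMap X.functionField D.E (gK U hUne r) ^ (t.sup n) * c, fun _ _ => rfl,
      fun y => ?_⟩, ⟨D.strHom U r ^ t.sup n, _, rfl⟩), Subtype.ext (funext fun y => ?_)⟩
    · obtain ⟨x, hx, hyW⟩ := Set.mem_iUnion₂.1 (ht y.2)
      exact ⟨a x, W x, hyW, hWa x, hn x _ (Finset.le_sup hx)⟩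
    · change P.1 y * (j (D.strHom U r ^ t.sup n)).1 y = _ * c
      rw [map_pow, hj, mul_comm, show c = P.1 y from P.2.1 _ _]
      rw [SubmonoidClass.coe_pow, Pi.pow_apply]
      exact congrArg (fun z => z ^ t.sup n * P.1 y)
        (congrArg (algebraMap X.functionField D.E) (gK_res _ hUne _ r))
  · intro P Q h
    rcases (X.basicOpen r : Set X).eq_empty_or_nonempty with hr | hr
    · refine ⟨⟨D.strHom U r, 1, pow_one _⟩, ?_⟩
      have : r = 0 := (basicOpen_eq_bot_iff r).1 (Opens.ext hr)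
      change D.strHom U r * P = D.strHom U r * Q
      rw [this, map_zero, zero_mul, zero_mul]
    · refine ⟨1, congrArg _ (Subtype.ext (funext fun x => ?_))⟩
      exact (P.2.1 x ⟨hr.some, X.basicOpen_le r hr.some_mem⟩).trans
        ((congrFun (congrArg Subtype.val h) ⟨hr.some, hr.some_mem⟩).trans (Q.2.1 _ _))

/-- The quasi-coherent algebra of the cyclic cover. -/
def alg : RelSpec.QCAlg X where
  presheaf := D.presheaf
  isSheaf := D.isSheaf
  str := D.str
  isQC := D.isQC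

omit [NeZero d] in
theorem Φ_mem_loc (a : D.ι) (z : D.Mdl a (D.U a) le_rfl) {x : X} (hx : x ∈ D.U a) :
    D.Loc x (D.Φ a le_rfl (D.ne a) z) :=
  ⟨a, D.U a, hx, le_rfl, D.Φ_range a le_rfl (D.ne a) ▸ ⟨z, rfl⟩⟩

/-- Sections of the model ring are sections of the algebra. -/
def toSec (a : D.ι) : D.Mdl a (D.U a) le_rfl →+* D.sec (D.U a) where
  toFun z := ⟨fun _ => D.Φ a le_rfl (D.ne a) z, fun _ _ => rfl, fun x => D.Φ_mem_loc a z x.2⟩
  map_one' := Subtype.ext (funext fun _ => map_one _)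
  map_mul' _ _ := Subtype.ext (funext fun _ => map_mul _ _ _)
  map_zero' := Subtype.ext (funext fun _ => map_zero _)
  map_add' _ _ := Subtype.ext (funext fun _ => map_add _ _ _)

theorem toSec_bijective (a : D.ι) : Function.Bijective (D.toSec a) := by
  refine ⟨fun z z' e => D.Φ_injective a le_rfl (D.ne a)
    (congrFun (congrArg Subtype.val e) ⟨_, (D.ne a).some_mem⟩), fun f => ?_⟩
  have h := (D.forall_loc_iff a le_rfl (D.ne a) (f.1 ⟨_, (D.ne a).some_mem⟩)).1 fun x hx =>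
    f.2.1 ⟨x, hx⟩ ⟨_, (D.ne a).some_mem⟩ ▸ f.2.2 ⟨x, hx⟩
  rw [← D.Φ_range a le_rfl (D.ne a)] at h
  obtain ⟨z, hz⟩ := h
  exact ⟨z, Subtype.ext (funext fun x => hz.trans (f.2.1 _ _))⟩

omit [NeZero d] in
theorem toSec_of (a : D.ι) (r : Γ(X, D.U a)) :
    D.toSec a (AdjoinRoot.of _ r) = D.strHom (D.U a) r :=
  Subtype.ext (funext fun _ => AdjoinRoot.lift_of _)

end KummerDatum

end Groth.PicAux
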