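import Groth.Agent.PicAux.RelPicSep
import Groth.Agent.Inter.EulerFamily
import Groth.Agent.LimitMod.FibreFunctions
import Groth.Agent.FibreDim.BaseChange
import Groth.Prelude.Def_FGA

/-!
# The degree function on the relative Picard scheme of a family of curves
-/

universe u

open CategoryTheory Limits AlgebraicGeometry TopologicalSpace Opposite

noncomputable section

namespace Groth.PicAux.RelPicDegree

open Groth.PicAux.RelPicSep

variable {X S : Scheme.{u}} (f : X ⟶ S)

/-- The degree of a module on the fibre over a point. -/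
def fdeg (T : Over S) (L : (PicF.XT f T).Modules) (t : T.left) : ℤ :=
  Inter.fibreEuler (PicF.XTproj f T) L t -
    Inter.fibreEuler (PicF.XTproj f T) (Coh.structureModule _) t

variable [IsProper f]

theorem fibreEuler_congr (T : Over S) {L M : (PicF.XT f T).Modules} (e : L ≅ M) (t : T.left) :
    Inter.fibreEuler (PicF.XTproj f T) L t = Inter.fibreEuler (PicF.XTproj f T) M t := by
  let π := PicF.XTproj f T
  let : (π.fiber t).Over (Spec (CommRingCat.of (T.left.residueField t))) :=
    ⟨π.fiberToSpecResidueField t⟩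
  exact EulerDeg.euler_congr (T.left.residueField t)
    ((Scheme.Modules.pullback (π.fiberι t)).mapIso e)

theorem fdeg_congr (T : Over S) {L M : (PicF.XT f T).Modules} (e : L ≅ M) (t : T.left) :
    fdeg f T L t = fdeg f T M t := by
  rw [fdeg, fdeg, fibreEuler_congr f T e t]

theorem fibreEuler_pullback {T T' : Over S} (g : T' ⟶ T) (L : (PicF.XT f T).Modules)
    [L.IsQuasicoherent] (t : T'.left) :
    Inter.fibreEuler (PicF.XTproj f T') ((Scheme.Modules.pullback (PicF.XTmap f g)).obj L) t =
      Inter.fibreEuler (PicF.XTproj f T) L (g.left t) := by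
  let π' := PicF.XTproj f T'
  let K := T'.left.residueField t
  let : (π'.fiber t).Over (Spec (CommRingCat.of K)) := ⟨π'.fiberToSpecResidueField t⟩
  have hsq : IsPullback (π'.fiberι t ≫ PicF.XTmap f g)
      (π'.fiber t ↘ Spec (CommRingCat.of K)) (PicF.XTproj f T)
      (T'.left.fromSpecResidueField t ≫ g.left) :=
    (IsPullback.of_hasPullback π' (T'.left.fromSpecResidueField t)).paste_horiz
      (isPullback_XTmap f g)
  have h := Inter.euler_point_eq (PicF.XTproj f T) L K _ _ hsq
  rw [Scheme.Hom.comp_apply, Scheme.fromSpecResidueField_apply] at h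
  refine Eq.trans (EulerDeg.euler_congr K ?_) h
  exact (Scheme.Modules.pullbackComp _ _).app L

theorem fdeg_pullback {T T' : Over S} (g : T' ⟶ T) {L : (PicF.XT f T).Modules}
    (hL : PicF.IsInvertible L) (t : T'.left) :
    fdeg f T' ((Scheme.Modules.pullback (PicF.XTmap f g)).obj L) t = fdeg f T L (g.left t) := by
  have := PicAux.isQCoh_of_isInvertible hL
  have : (Coh.structureModule (PicF.XT f T)).IsQuasicoherent := PicAux.isQCoh_structureModule _
  rw [fdeg, fdeg, fibreEuler_pullback f g L t,
    ← fibreEuler_pullback f g (Coh.structureModule _) t,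
    fibreEuler_congr f T' (PicAux.pullback_structure_iso (PicF.XTmap f g)).some t]

variable [Flat f] [LocallyOfFinitePresentation f]

theorem isLocallyConstant_fdeg (T : Over S) {L : (PicF.XT f T).Modules}
    (hL : PicF.IsInvertible L) : IsLocallyConstant (fdeg f T L) := by
  have h : ∀ M : (PicF.XT f T).Modules, PicF.IsInvertible M →
      IsLocallyConstant (fun t : T.left => Inter.fibreEuler (PicF.XTproj f T) M t) := fun M hM =>
    LimitMod.isLocallyConstant_eulerChar (PicF.XTproj f T) M
      (FibTrivClosed.isFP_of_isInvertible hM) (Abvar.Seesaw.isFlatOver_of_isInvertible _ hM)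
  exact (h L hL).comp₂ (h _ (PicLoc.isInvertible_structureModule _)) (· - ·)

variable {P : Over S} {φ : ∀ T : Over S, PicF.Cl (PicF.XT f T) → (T ⟶ P)}
  (hP : AbDual.IsRelPicK Scheme.fppfPrecoverage f P φ)

include hP in
/-- The degree only depends on the point of the Picard scheme. -/
theorem fdeg_eq_of_eq {T U : Over S} {L : (PicF.XT f T).Modules} (hL : PicF.IsInvertible L)
    {M : (PicF.XT f U).Modules} (hM : PicF.IsInvertible M) (t : T.left) (z : U.left)
    (h : (φ T (PicF.cl L)).left t = (φ U (PicF.cl M)).left z) :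
    fdeg f T L t = fdeg f U M z := by
  obtain ⟨w, hw₁, hw₂⟩ := Scheme.Pullback.exists_preimage_pullback
    (f := (φ T (PicF.cl L)).left) (g := (φ U (PicF.cl M)).left) t z h
  let q₁ : pullback (φ T (PicF.cl L)).left (φ U (PicF.cl M)).left ⟶ T.left := pullback.fst _ _
  let W := AbDual.ovr T q₁
  let g₁ : W ⟶ T := AbDual.ovrHom T q₁
  let g₂ : W ⟶ U := Over.homMk (pullback.snd _ _) (by
    change pullback.snd _ _ ≫ U.hom = pullback.fst _ _ ≫ T.hom
    rw [← Over.w (φ T (PicF.cl L)), ← Over.w (φ U (PicF.cl M)), ← Category.assoc, ← Category.assoc,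
      pullback.condition])
  have hφ : φ W (PicF.pullCl (PicF.XTmap f g₁) (PicF.cl L)) =
      φ W (PicF.pullCl (PicF.XTmap f g₂) (PicF.cl M)) := by
    rw [hP.natural _ _ g₁ _ ⟨L, rfl, hL⟩, hP.natural _ _ g₂ _ ⟨M, rfl, hM⟩]
    exact Over.OverMorphism.ext pullback.condition
  obtain ⟨R, hR, hRu⟩ := hP.locallyInjective W _ _
    (PicLoc.isInvertibleCl_pullCl _ ⟨L, rfl, hL⟩) (PicLoc.isInvertibleCl_pullCl _ ⟨M, rfl, hM⟩) hφ
  obtain ⟨V, v, y, hv, -, -, hy⟩ := exists_of_mem_fppf hR w
  have e : PicF.cl ((Scheme.Modules.pullback (PicF.XTmap f (AbDual.ovrHom W v))).obj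
        ((Scheme.Modules.pullback (PicF.XTmap f g₁)).obj L)) =
      PicF.cl ((Scheme.Modules.pullback (PicF.XTmap f (AbDual.ovrHom W v))).obj
        ((Scheme.Modules.pullback (PicF.XTmap f g₂)).obj M)) := hRu v hv
  obtain ⟨i⟩ := (PicGrp.cl_eq_cl_iff _ _).mp e
  have hLM := fdeg_congr f (AbDual.ovr W v) i y
  rw [fdeg_pullback f _ (PicLoc.isInvertible_pullback _ hL),
    fdeg_pullback f _ (PicLoc.isInvertible_pullback _ hM)] at hLM
  change fdeg f W _ (v y) = fdeg f W _ (v y) at hLM
  rw [hy, fdeg_pullback f g₁ hL, fdeg_pullback f g₂ hM] at hLM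
  change fdeg f T L (q₁ w) = fdeg f U M ((pullback.snd _ _ :
    pullback (φ T (PicF.cl L)).left (φ U (PicF.cl M)).left ⟶ U.left) w) at hLM
  rw [← hw₁, ← hw₂]
  exact hLM

include hP in
/-- There is a degree function on the Picard scheme. -/
theorem exists_degree : ∃ d : P.left → ℤ, IsLocallyConstant d ∧
    ∀ (T : Over S) (L : (PicF.XT f T).Modules), PicF.IsInvertible L → ∀ t : T.left,
      d ((φ T (PicF.cl L)).left t) = fdeg f T L t := by
  obtain ⟨R, hR, hRu⟩ := hP.locallySurjective P (𝟙 P)
  choose U u z hu hfl hlfp hz using fun p : P.left => exists_of_mem_fppf hR p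
  choose c hc hφ using fun p : P.left => hRu (u p) (hu p)
  choose L hcl hL using hc
  have hpt : ∀ p (x : U p), (φ (AbDual.ovr P (u p)) (PicF.cl (L p))).left x = u p x := fun p x => by
    rw [hcl, hφ]
    simp
  let d : P.left → ℤ := fun p => fdeg f _ (L p) (z p)
  have hd : ∀ (T : Over S) (M : (PicF.XT f T).Modules), PicF.IsInvertible M → ∀ t : T.left,
      d ((φ T (PicF.cl M)).left t) = fdeg f T M t := fun T M hM t =>
    fdeg_eq_of_eq f hP (hL _) hM _ t ((hpt _ _).trans (hz _))
  refine ⟨d, fun s => isOpen_iff_forall_mem_open.mpr fun p hp => ?_, hd⟩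
  refine ⟨u p '' (fdeg f _ (L p) ⁻¹' s), ?_, ?_, z p, hp, hz p⟩
  · rintro _ ⟨x, hx, rfl⟩
    change d (u p x) ∈ s
    rw [← hpt p x, hd _ _ (hL p) x]
    exact hx
  · have := hfl p
    have := hlfp p
    exact (u p).isOpenMap _ (isLocallyConstant_fdeg f _ (hL p) s)

omit [Flat f] [LocallyOfFinitePresentation f] in
/-- On fibres of dimension at most one the degree is computed in degrees `≤ 1`. -/
theorem fdeg_eq_eulerCharLE (hdim : ∀ s : S, topologicalKrullDim ↥(f.fiber s) ≤ (1 : ℕ))
    (T : Over S) (L : (PicF.XT f T).Modules) (t : T.left) :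
    fdeg f T L t =
      FGA.eulerCharLE (T.left.residueField t) (FGA.fibreAt f T t).left (FGA.restrFibre f T t L) 1 -
        FGA.eulerCharLE (T.left.residueField t) (FGA.fibreAt f T t).left
          (Coh.structureModule (FGA.fibreAt f T t).left) 1 := by
  let π := PicF.XTproj f T
  let κ := T.left.residueField t
  let : (π.fiber t).Over (Spec (CommRingCat.of κ)) := ⟨π.fiberToSpecResidueField t⟩
  have : IsProper (π.fiber t ↘ Spec (CommRingCat.of κ)) :=
    MorphismProperty.of_isPullback (IsPullback.of_hasPullback π (T.left.fromSpecResidueField t))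
      inferInstance
  have hdim1 : topologicalKrullDim (π.fiber t) ≤ (1 : ℕ) := by
    rw [FibreDim.dim_fiber_baseChange f T.hom π (pullback.fst f T.hom)
      (IsPullback.of_hasPullback f T.hom) t]
    exact hdim _
  change _ = FGA.eulerCharLE κ (π.fiber t) ((Scheme.Modules.pullback (π.fiberι t)).obj L) 1 -
    FGA.eulerCharLE κ (π.fiber t) (Coh.structureModule (π.fiber t)) 1
  rw [Inter.eulerCharLE_eq κ hdim1, Inter.eulerCharLE_eq κ hdim1,
    ← EulerDeg.euler_congr κ (PicAux.pullback_structure_iso (π.fiberι t)).some]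
  rfl

end Groth.PicAux.RelPicDegree
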