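import Groth.Agent.PicAux.RigNormal
import Groth.Agent.ThetaAlg.Desc

/-!
# Fpqc descent of isomorphisms of quasi-coherent modules
-/

set_option autoImplicit false
set_option backward.isDefEq.respectTransparency.types false

universe u

open CategoryTheory CategoryTheory.Limits AlgebraicGeometry TopologicalSpace Opposite Groth.DescentBase

noncomputable section

namespace Groth.PicAux.RigDescent

open RigNormal

section Family

variable {ι : Type u} {Q : Scheme.{u}} {X : ι → Scheme.{u}} {f : ∀ i, X i ⟶ Q}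

/-- A morphism with equal base changes to the double product descends. -/
theorem exists_hom_family (hf : Presieve.ofArrows X f ∈ Scheme.fpqcPrecoverage Q)
    {M N : Q.Modules} (hN : N.IsQuasicoherent)
    (φ : ∀ i, (Scheme.Modules.pullback (f i)).obj M ⟶ (Scheme.Modules.pullback (f i)).obj N)
    (hφ : ∀ (i j : ι) (Y : Scheme.{u}) (g₁ : Y ⟶ X i) (g₂ : Y ⟶ X j) (e : g₁ ≫ f i = g₂ ≫ f j),
      cj (φ i) g₁ (g₁ ≫ f i) (g₁ ≫ f i) rfl rfl = cj (φ j) g₂ (g₁ ≫ f i) (g₁ ≫ f i) e.symm e.symm) :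
    ∃ h : M ⟶ N, ∀ i, (Scheme.Modules.pullback (f i)).map h = φ i := by
  haveI := hN
  obtain ⟨h, hh⟩ := (toDescentData_map_bijective hf M N).2
    { hom := φ
      comm := fun Y c i₁ i₂ g₁ g₂ e₁ e₂ => by
        subst e₁
        change (Scheme.Modules.pullback g₁).map (φ i₁) ≫
            ((Desc.modPF.{u}.mapComp' (f i₁).op.toLoc g₁.op.toLoc (g₁ ≫ f i₁).op.toLoc _).inv.toNatTrans.app N ≫
              (Desc.modPF.{u}.mapComp' (f i₂).op.toLoc g₂.op.toLoc (g₁ ≫ f i₁).op.toLoc _).hom.toNatTrans.app N) =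
          ((Desc.modPF.{u}.mapComp' (f i₁).op.toLoc g₁.op.toLoc (g₁ ≫ f i₁).op.toLoc _).inv.toNatTrans.app M ≫
              (Desc.modPF.{u}.mapComp' (f i₂).op.toLoc g₂.op.toLoc (g₁ ≫ f i₁).op.toLoc _).hom.toNatTrans.app M) ≫
            (Scheme.Modules.pullback g₂).map (φ i₂)
        rw [mapComp'_inv_eq_pullTo g₁ (f i₁) _ rfl, mapComp'_hom_eq_pullTo g₂ (f i₂) _ e₂,
          mapComp'_inv_eq_pullTo g₁ (f i₁) _ rfl, mapComp'_hom_eq_pullTo g₂ (f i₂) _ e₂]
        have H := hφ i₁ i₂ Y g₁ g₂ e₂.symm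
        unfold cj at H
        rw [Iso.inv_comp_eq] at H
        exact Groth.ThetaAlg.comm_aux _ _ _ _ _ _ H |> fun K =>
          (cancel_mono (pullTo g₂ (f i₂) (g₁ ≫ f i₁) e₂ N).hom).1 K }
  exact ⟨h, fun i => congrArg (fun D => D.hom i) hh⟩

/-- An isomorphism with equal base changes to the double product descends. -/
theorem exists_iso_family (hf : Presieve.ofArrows X f ∈ Scheme.fpqcPrecoverage Q)
    {M N : Q.Modules} (hM : M.IsQuasicoherent) (hN : N.IsQuasicoherent)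
    (φ : ∀ i, (Scheme.Modules.pullback (f i)).obj M ≅ (Scheme.Modules.pullback (f i)).obj N)
    (hφ : ∀ (i j : ι) (Y : Scheme.{u}) (g₁ : Y ⟶ X i) (g₂ : Y ⟶ X j) (e : g₁ ≫ f i = g₂ ≫ f j),
      cj (φ i).hom g₁ (g₁ ≫ f i) (g₁ ≫ f i) rfl rfl =
        cj (φ j).hom g₂ (g₁ ≫ f i) (g₁ ≫ f i) e.symm e.symm) :
    Nonempty (M ≅ N) := by
  obtain ⟨h, hh⟩ := exists_hom_family hf hN (fun i => (φ i).hom) hφ
  obtain ⟨h', hh'⟩ := exists_hom_family hf hM (fun i => (φ i).inv) fun i j Y g₁ g₂ e => by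
    have e1 : cj (φ i).hom g₁ (g₁ ≫ f i) (g₁ ≫ f i) rfl rfl ≫
        cj (φ i).inv g₁ (g₁ ≫ f i) (g₁ ≫ f i) rfl rfl = 𝟙 _ := by
      rw [← cj_comp, Iso.hom_inv_id, cj_id]
    have e2 : cj (φ j).hom g₂ (g₁ ≫ f i) (g₁ ≫ f i) e.symm e.symm ≫
        cj (φ j).inv g₂ (g₁ ≫ f i) (g₁ ≫ f i) e.symm e.symm = 𝟙 _ := by
      rw [← cj_comp, Iso.hom_inv_id, cj_id]
    rw [← hφ i j Y g₁ g₂ e] at e2
    exact (cancel_epi _).1 (e1.trans e2.symm)
  haveI := hM
  haveI := hN
  refine ⟨⟨h, h', ?_, ?_⟩⟩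
  · refine (toDescentData_map_bijective hf M M).1 (Pseudofunctor.DescentData.hom_ext fun i => ?_)
    show (Scheme.Modules.pullback (f i)).map (h ≫ h') = (Scheme.Modules.pullback (f i)).map (𝟙 M)
    rw [Functor.map_comp, hh i, hh' i, Iso.hom_inv_id, CategoryTheory.Functor.map_id]
  · refine (toDescentData_map_bijective hf N N).1 (Pseudofunctor.DescentData.hom_ext fun i => ?_)
    show (Scheme.Modules.pullback (f i)).map (h' ≫ h) = (Scheme.Modules.pullback (f i)).map (𝟙 N)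
    rw [Functor.map_comp, hh i, hh' i, Iso.inv_hom_id, CategoryTheory.Functor.map_id]

end Family

/-- A morphism between inverse images along one fpqc arrow with equal base changes to the double
product and iso is descended to an isomorphism. -/
theorem exists_iso_of_cj {P Q : Scheme.{u}} (q : P ⟶ Q)
    (hq : Presieve.ofArrows (fun _ : PUnit.{u + 1} => P) (fun _ => q) ∈ Scheme.fpqcPrecoverage Q)
    {M N : Q.Modules} (hM : M.IsQuasicoherent) (hN : N.IsQuasicoherent)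
    (φ : (Scheme.Modules.pullback q).obj M ≅ (Scheme.Modules.pullback q).obj N)
    (hφ : ∀ (Y : Scheme.{u}) (g₁ g₂ : Y ⟶ P) (e : g₁ ≫ q = g₂ ≫ q),
      cj φ.hom g₁ (g₁ ≫ q) (g₁ ≫ q) rfl rfl = cj φ.hom g₂ (g₁ ≫ q) (g₁ ≫ q) e.symm e.symm) :
    Nonempty (M ≅ N) :=
  exists_iso_family hq hM hN (fun _ => φ) fun _ _ => hφ

end Groth.PicAux.RigDescent
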