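import Groth.Agent.PicAux.RigDescentBase
import Groth.Agent.PicAux.GluingEffective
import Groth.Agent.PicAux.MorDescent

/-!
# Invertible modules which become trivial after a flat base change come from the base
-/

set_option autoImplicit false
set_option backward.isDefEq.respectTransparency.types false

universe u

open CategoryTheory CategoryTheory.Limits AlgebraicGeometry TopologicalSpace Opposite

noncomputable section

namespace Groth.PicAux.RigDescent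

open RigNormal Groth.DescentBase
open Groth.PicCurve (XTmap_snd XTmap_comp' XTmap_id')

/-- An isomorphism with prescribed value on a generator. -/
theorem exists_iso_app {Y : Scheme.{u}} {A B : Y.Modules} {a : Γ(A, ⊤)} {b : Γ(B, ⊤)}
    (ha : Gen A ⊤ a) (hb : Gen B ⊤ b) : ∃ φ : A ≅ B, φ.hom.app ⊤ a = b := by
  have : IsIso (homOfSection a) := (isIso_hom_structure_iff _).2 (by rwa [homOfSection_one])
  have : IsIso (homOfSection b) := (isIso_hom_structure_iff _).2 (by rwa [homOfSection_one])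
  refine ⟨(asIso (homOfSection a)).symm ≪≫ asIso (homOfSection b), ?_⟩
  have h : (inv (homOfSection a)).app ⊤ a = oneSec Y ⊤ := by
    have h1 := congr(($(IsIso.hom_inv_id (homOfSection a))).app ⊤ (oneSec Y ⊤))
    simp only [Scheme.Modules.Hom.comp_app, CategoryTheory.comp_apply, homOfSection_one] at h1
    exact h1.trans rfl
  show (homOfSection b).app ⊤ ((inv (homOfSection a)).app ⊤ a) = b
  rw [h, homOfSection_one]

/-- The unit over a test scheme. -/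
def oneEl {P Y : Scheme.{u}} (g : Y ⟶ P) : El (Coh.structureModule P) g :=
  el g (U := ⊤) le_top (oneSec P ⊤)

theorem gen_oneEl {P Y : Scheme.{u}} (g : Y ⟶ P) :
    Gen ((Scheme.Modules.pullback g).obj (Coh.structureModule P)) ⊤ (oneEl g) :=
  ((gen_oneSec (⊤ : P.Opens)).pull g).res le_top

theorem bc_oneEl {P Y Y' : Scheme.{u}} (k : Y' ⟶ Y) (g : Y ⟶ P) (g' : Y' ⟶ P) (e : k ≫ g = g') :
    bc k g g' e (oneEl g) = oneEl g' := bc_el k g g' e _ _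

/-- The invertible module glued by a cocycle of units. -/
theorem exists_twist {P Q P₂ P₃ : Scheme.{u}} {q : P ⟶ Q}
    (hq : Presieve.ofArrows (fun _ : PUnit.{u + 1} => P) (fun _ => q) ∈ Scheme.fpqcPrecoverage Q)
    {p₁ p₂ : P₂ ⟶ P} (h₂ : IsPullback p₁ p₂ q q) {p₁₂ p₂₃ : P₃ ⟶ P₂}
    (h₃ : IsPullback p₁₂ p₂₃ p₂ p₁) (p₁₃ : P₃ ⟶ P₂) (a₁ : p₁₃ ≫ p₁ = p₁₂ ≫ p₁)
    (a₃ : p₁₃ ≫ p₂ = p₂₃ ≫ p₂) (δ : P ⟶ P₂) (e₁ : δ ≫ p₁ = 𝟙 P) (e₂ : δ ≫ p₂ = 𝟙 P)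
    {d : Γ(P₂, ⊤)} (hd : IsUnit d) (hδ : δ.appTop d = 1)
    (hco : p₁₃.appTop d = p₁₂.appTop d * p₂₃.appTop d) :
    ∃ (N : Q.Modules) (ν : El N q), PicF.IsInvertible N ∧
      Gen ((Scheme.Modules.pullback q).obj N) ⊤ ν ∧
        bc p₁ q (p₁ ≫ q) rfl ν = d • bc p₂ q (p₁ ≫ q) h₂.w.symm ν := by
  obtain ⟨ψ, hψ⟩ := exists_iso_app (gen_oneEl p₁) ((gen_oneEl p₂).smul_unit hd)
  have key : ∀ {Y : Scheme.{u}} (k : Y ⟶ P₂) (g₁ g₂ : Y ⟶ P) (b₁ : k ≫ p₁ = g₁)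
      (b₂ : k ≫ p₂ = g₂),
      (cj ψ.hom k g₁ g₂ b₁ b₂).app ⊤ (oneEl g₁) = k.appTop d • oneEl g₂ := by
    intro Y k g₁ g₂ b₁ b₂
    rw [← bc_oneEl k p₁ g₁ b₁, cj_app_bc, hψ, bc_smul, bc_oneEl]
  have hself : cj ψ.hom δ (𝟙 P) (𝟙 P) e₁ e₂ = 𝟙 _ := by
    refine hom_ext_el (gen_oneEl (𝟙 P)) ?_
    rw [key δ _ _ e₁ e₂, hδ, one_smul]
    rfl
  have hcomp : cj ψ.hom p₁₂ (p₁₂ ≫ p₁) (p₁₂ ≫ p₂) rfl rfl ≫
      cj ψ.hom p₂₃ (p₁₂ ≫ p₂) (p₂₃ ≫ p₂) h₃.w.symm rfl =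
      cj ψ.hom p₁₃ (p₁₂ ≫ p₁) (p₂₃ ≫ p₂) a₁ a₃ := by
    refine hom_ext_el (gen_oneEl _) ?_
    rw [Scheme.Modules.Hom.comp_app, CategoryTheory.comp_apply, key p₁₂ _ _ rfl rfl,
      Scheme.Modules.Hom.app_smul, key p₂₃ _ _ h₃.w.symm rfl, key p₁₃ _ _ a₁ a₃, smul_smul, hco]
  obtain ⟨N, e, hN, he⟩ := exists_iso_of_gluing hq h₂ h₃ p₁₃ a₁ a₃
    (PicAux.isQCoh_of_isInvertible (PicLoc.isInvertible_structureModule P)) ψ.hom δ e₁ e₂ hself hcomp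
  have hνe : e.hom.app ⊤ (e.inv.app ⊤ (oneSec P ⊤)) = oneSec P ⊤ :=
    congr(($(e.inv_hom_id)).app ⊤ (oneSec P ⊤))
  refine ⟨N, e.inv.app ⊤ (oneSec P ⊤),
    @isInvertible_of_pullback _ _ _ hq N hN
      (PicAux.isInvertible_of_iso (PicLoc.isInvertible_structureModule P) e.symm),
    (gen_oneSec ⊤).map e.inv, he _ _ d ?_⟩
  rw [hνe]
  exact hψ

variable {X S : Scheme.{u}} {f : X ⟶ S} {T U : Over S} (v : U ⟶ T)

theorem appTop_XTmap {A B : Over S} (j : A ⟶ B) (d : Γ(B.left, ⊤)) :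
    (PicF.XTmap f j).appTop ((PicF.XTproj f B).appTop d) =
      (PicF.XTproj f A).appTop (j.left.appTop d) := by
  rw [← CategoryTheory.comp_apply, ← Scheme.Hom.comp_appTop, XTmap_snd, Scheme.Hom.comp_appTop,
    CategoryTheory.comp_apply]

/-- An invertible module trivial after an fpqc base change of the base comes from the base. -/
theorem exists_iso_pullback_base
    (hqS : Presieve.ofArrows (fun _ : PUnit.{u + 1} => U.left) (fun _ => v.left) ∈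
      Scheme.fpqcPrecoverage T.left)
    (hq : Presieve.ofArrows (fun _ : PUnit.{u + 1} => PicF.XT f U)
      (fun _ => PicF.XTmap f v) ∈ Scheme.fpqcPrecoverage (PicF.XT f T))
    (hU : Function.Bijective (PicF.XTproj f U).appTop)
    (h₂ : Function.Bijective (PicF.XTproj f (W₂ v)).appTop)
    (h₃ : Function.Bijective (PicF.XTproj f (W₃ v)).appTop)
    {M : (PicF.XT f T).Modules} (hM : PicF.IsInvertible M)
    (hp : Nonempty ((Scheme.Modules.pullback (PicF.XTmap f v)).obj M ≅ Coh.structureModule _)) :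
    ∃ N : T.left.Modules, PicF.IsInvertible N ∧
      Nonempty (M ≅ (Scheme.Modules.pullback (PicF.XTproj f T)).obj N) := by
  obtain ⟨s₀, hs⟩ := PicAux.nonempty_iso_structure_iff.1 hp
  let q := PicF.XTmap f v
  let s : El M q := s₀
  let P₁ := PicF.XTmap f (pr₁ v)
  let P₂ := PicF.XTmap f (pr₂ v)
  let π₂ := PicF.XTproj f (W₂ v)
  have w : P₂ ≫ q = P₁ ≫ q := by rw [← XTmap_comp', ← XTmap_comp', pr_condition]
  obtain ⟨r, hr⟩ := (gen_bc P₂ q (P₁ ≫ q) w hs).exists_unit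
    (gen_bc P₁ q (P₁ ≫ q) rfl hs : Gen _ ⊤ (bc P₁ q (P₁ ≫ q) rfl s))
  obtain ⟨d, hd⟩ := h₂.2 (r : Γ(PicF.XT f (W₂ v), ⊤))
  have hdu : IsUnit d := by
    obtain ⟨d', hd'⟩ := h₂.2 ((r⁻¹ : (Γ(PicF.XT f (W₂ v), ⊤))ˣ) : Γ(PicF.XT f (W₂ v), ⊤))
    exact IsUnit.of_mul_eq_one d' (h₂.1 (by rw [map_mul, hd, hd', Units.mul_inv, map_one]))
  -- base change of the transition relation
  have hk : ∀ {Y : Scheme.{u}} (k : Y ⟶ PicF.XT f (W₂ v)) (g₁ g₂ : Y ⟶ PicF.XT f U)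
      (b₁ : k ≫ P₁ = g₁) (b₂ : k ≫ P₂ = g₂) (c : Y ⟶ PicF.XT f T) (c₁ : g₁ ≫ q = c)
      (c₂ : g₂ ≫ q = c), bc g₁ q c c₁ s = k.appTop (π₂.appTop d) • bc g₂ q c c₂ s := by
    intro Y k g₁ g₂ b₁ b₂ c c₁ c₂
    have hc : k ≫ P₁ ≫ q = c := by rw [← Category.assoc, b₁, c₁]
    rw [← bc_bc k P₁ g₁ b₁ q _ rfl c hc c₁ s, ← bc_bc k P₂ g₂ b₂ q _ w c hc c₂ s,
      show bc P₁ q (P₁ ≫ q) rfl s = _ from hr, bc_smul, hd]
  have hδ : (diag v).left.appTop d = 1 := by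
    have b₁ : PicF.XTmap f (diag v) ≫ P₁ = 𝟙 _ := by rw [← XTmap_comp', diag_pr₁, XTmap_id']
    have b₂ : PicF.XTmap f (diag v) ≫ P₂ = 𝟙 _ := by rw [← XTmap_comp', diag_pr₂, XTmap_id']
    have h := hk (PicF.XTmap f (diag v)) _ _ b₁ b₂ q (Category.id_comp q) (Category.id_comp q)
    rw [appTop_XTmap] at h
    refine hU.1 ((map_one (PicF.XTproj f U).appTop.hom).symm ▸ ?_)
    refine ((gen_bc (𝟙 _) q q (Category.id_comp q) hs : Gen _ ⊤ (bc (𝟙 _) q q (Category.id_comp q) s)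
      ).smul_inj le_rfl ?_).symm
    rw [PicAux.res_self, one_smul]
    exact h
  have hco : (pr₁₃ v).left.appTop d = (pr₁₂ v).left.appTop d * (pr₂₃ v).left.appTop d := by
    let k₁₂ := PicF.XTmap f (pr₁₂ v)
    let k₂₃ := PicF.XTmap f (pr₂₃ v)
    let k₁₃ := PicF.XTmap f (pr₁₃ v)
    have m : k₂₃ ≫ P₁ = k₁₂ ≫ P₂ := by rw [← XTmap_comp', ← XTmap_comp', pr₁₂_pr₂]
    have m₁ : k₁₃ ≫ P₁ = k₁₂ ≫ P₁ := by rw [← XTmap_comp', ← XTmap_comp', pr₁₃_pr₁]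
    have m₃ : k₁₃ ≫ P₂ = k₂₃ ≫ P₂ := by rw [← XTmap_comp', ← XTmap_comp', pr₁₃_pr₂]
    have c₂ : (k₁₂ ≫ P₂) ≫ q = (k₁₂ ≫ P₁) ≫ q := by rw [Category.assoc, w, Category.assoc]
    have c₃ : (k₂₃ ≫ P₂) ≫ q = (k₁₂ ≫ P₁) ≫ q := by
      rw [Category.assoc, w, ← Category.assoc, m, c₂]
    have h12 := hk k₁₂ _ _ rfl rfl ((k₁₂ ≫ P₁) ≫ q) rfl c₂
    have h23 := hk k₂₃ _ _ m rfl ((k₁₂ ≫ P₁) ≫ q) c₂ c₃
    have h13 := hk k₁₃ _ _ m₁ m₃ ((k₁₂ ≫ P₁) ≫ q) rfl c₃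
    rw [h23, smul_smul, h13] at h12
    have := (gen_bc (k₂₃ ≫ P₂) q _ c₃ hs : Gen _ ⊤ (bc (k₂₃ ≫ P₂) q _ c₃ s)).smul_inj le_rfl
      (r := k₁₃.appTop (π₂.appTop d)) (r' := k₁₂.appTop (π₂.appTop d) * k₂₃.appTop (π₂.appTop d))
      (by rw [PicAux.res_self]; exact h12)
    rw [appTop_XTmap, appTop_XTmap, appTop_XTmap, ← map_mul] at this
    exact h₃.1 this
  obtain ⟨N, ν, hN, hν, hνd⟩ := exists_twist hqS (IsPullback.of_hasPullback v.left v.left)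
    (IsPullback.of_hasPullback (pr₂ v).left (pr₁ v).left) (pr₁₃ v).left
    (congrArg (fun h => h.left) (pr₁₃_pr₁ v)) (congrArg (fun h => h.left) (pr₁₃_pr₂ v))
    (diag v).left (congrArg (fun h => h.left) (diag_pr₁ v)) (congrArg (fun h => h.left) (diag_pr₂ v))
    hdu hδ hco
  refine ⟨N, hN, ?_⟩
  let π := PicF.XTproj f T
  let B := (Scheme.Modules.pullback π).obj N
  have hqπ : PicF.XTproj f U ≫ v.left = q ≫ π := (XTmap_snd f v).symm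
  let a : El B q := (pullTo q π (q ≫ π) rfl N).inv.app ⊤ (bc (PicF.XTproj f U) v.left (q ≫ π) hqπ ν)
  have ha : Gen ((Scheme.Modules.pullback q).obj B) ⊤ a :=
    (gen_bc _ v.left (q ≫ π) hqπ hν).map (pullTo q π (q ≫ π) rfl N).inv
  have hflat : flat π q (q ≫ π) rfl a = bc (PicF.XTproj f U) v.left (q ≫ π) hqπ ν :=
    congr(($((pullTo q π (q ≫ π) rfl N).inv_hom_id)).app ⊤
      (bc (PicF.XTproj f U) v.left (q ≫ π) hqπ ν))
  have hay : bc P₁ q (P₁ ≫ q) rfl a = π₂.appTop d • bc P₂ q (P₁ ≫ q) w a := by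
    refine (flat_bijective (N := N) π (P₁ ≫ q) ((P₁ ≫ q) ≫ π) rfl).1 ?_
    rw [flat_smul, flat_bc π P₁ q (P₁ ≫ q) rfl (q ≫ π) rfl _ rfl,
      flat_bc π P₂ q (P₁ ≫ q) w (q ≫ π) rfl _ rfl, hflat]
    have u₁ : P₁ ≫ PicF.XTproj f U = π₂ ≫ (pr₁ v).left := XTmap_snd f _
    have u₂ : P₂ ≫ PicF.XTproj f U = π₂ ≫ (pr₂ v).left := XTmap_snd f _
    have z₁ : π₂ ≫ (pr₁ v).left ≫ v.left = (P₁ ≫ q) ≫ π := by
      rw [← Category.assoc, ← u₁, Category.assoc, hqπ, Category.assoc]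
    have z₂ : (π₂ ≫ (pr₂ v).left) ≫ v.left = (P₁ ≫ q) ≫ π := by
      rw [← u₂, Category.assoc, hqπ, ← Category.assoc, w]
    have o₁ : (π₂ ≫ (pr₁ v).left) ≫ v.left = (P₁ ≫ q) ≫ π := (Category.assoc _ _ _).trans z₁
    rw [bc_bc P₁ (PicF.XTproj f U) (π₂ ≫ (pr₁ v).left) u₁ v.left (q ≫ π) hqπ _
        (Category.assoc _ _ _).symm o₁ ν,
      bc_bc P₂ (PicF.XTproj f U) (π₂ ≫ (pr₂ v).left) u₂ v.left (q ≫ π) hqπ _
        (by rw [← Category.assoc, w]) z₂ ν,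
      ← bc_bc π₂ (pr₁ v).left _ rfl v.left ((pr₁ v).left ≫ v.left) rfl _ z₁ o₁ ν,
      ← bc_bc π₂ (pr₂ v).left _ rfl v.left ((pr₁ v).left ≫ v.left)
        (congrArg (fun h => h.left) (pr_condition v).symm) _ z₁ z₂ ν,
      show bc (pr₁ v).left v.left ((pr₁ v).left ≫ v.left) rfl ν = _ from hνd]
    exact bc_smul π₂ _ _ z₁ d _
  obtain ⟨φ, hφ⟩ := exists_iso_app hs ha
  refine exists_iso_of_cj q hq (PicAux.isQCoh_of_isInvertible hM)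
    (PicAux.isQCoh_of_isInvertible (PicLoc.isInvertible_pullback π hN)) φ fun Y g₁ g₂ e => ?_
  obtain ⟨k, hk₁, hk₂⟩ := (isPullback_pr f v).exists_lift g₁ g₂ e
  refine hom_ext_el (gen_bc g₁ q (g₁ ≫ q) rfl hs : Gen _ ⊤ (bc g₁ q (g₁ ≫ q) rfl s)) ?_
  rw [cj_app_bc, hk k g₁ g₂ hk₁ hk₂ (g₁ ≫ q) rfl e.symm, Scheme.Modules.Hom.app_smul, cj_app_bc]
  rw [show φ.hom.app ⊤ s = a from hφ]
  have hc : k ≫ P₁ ≫ q = g₁ ≫ q := by rw [← Category.assoc, hk₁]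
  rw [← bc_bc k P₁ g₁ hk₁ q _ rfl (g₁ ≫ q) hc rfl a,
    ← bc_bc k P₂ g₂ hk₂ q _ w (g₁ ≫ q) hc e.symm a, hay, bc_smul]

end Groth.PicAux.RigDescent
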