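import Groth.Agent.PicAux.SeesawReduced
import Mathlib.AlgebraicGeometry.AlgClosed.Basic
import Mathlib.AlgebraicGeometry.Morphisms.Proper

/-!
# `H⁰(X_y, O) = k(y)` at all points from the closed points

For a proper flat family with integral fibres over a scheme of finite type over an algebraically
closed field.
-/

universe u

open CategoryTheory Limits AlgebraicGeometry TopologicalSpace Opposite
open scoped TensorProduct

noncomputable section

namespace Groth.PicAux.Seesaw

variable {X Y : Scheme.{u}} (f : X ⟶ Y) [IsProper f]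

theorem surjective_algebraMap_of_isClosed {k : Type u} [Field k] [IsAlgClosed k]
    (g : Y ⟶ Spec (CommRingCat.of k)) [LocallyOfFiniteType g] {z : Y} (hz : IsClosed {z})
    [IsIntegral (f.fiber z)] :
    Function.Surjective (algebraMap (Y.residueField z) Γ(f.fiber z, ⊤)) := by
  have : IsAlgClosed (Y.residueField z) :=
    IsAlgClosed.of_ringEquiv k _ (residueFieldIsoBase g z hz).symm.commRingCatIsoToRingEquiv
  have : IsProper (f.fiberToSpecResidueField z) := MorphismProperty.pullback_snd _ _ ‹_›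
  let := (isField_of_universallyClosed (Y.residueField z) (f.fiberToSpecResidueField z)).toField
  have h1 : ((Scheme.ΓSpecIso (Y.residueField z)).inv ≫
      (f.fiberToSpecResidueField z).appTop).hom.Finite := by
    rw [CommRingCat.hom_comp]
    exact (finite_appTop_of_universallyClosed (Y.residueField z) (f.fiberToSpecResidueField z)).comp
      (RingHom.Finite.of_surjective _
        (ConcreteCategory.bijective_of_isIso (Scheme.ΓSpecIso (Y.residueField z)).inv).2)
  exact (IsAlgClosed.ringHom_bijective_of_isIntegral _ h1.to_isIntegral).2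

variable [Flat f] [IsLocallyNoetherian Y]

/-- It is enough to know `H⁰ = k(z)` at a point `z` specialising `y`. -/
theorem surjective_algebraMap_of_specializes {y z : Y} (hyz : y ⤳ z)
    [Nontrivial Γ(f.fiber y, ⊤)]
    (hz : Function.Surjective (algebraMap (Y.residueField z) Γ(f.fiber z, ⊤))) :
    Function.Surjective (algebraMap (Y.residueField y) Γ(f.fiber y, ⊤)) := by
  obtain ⟨_, ⟨U, hU, rfl⟩, hzU, -⟩ :=
    Y.isBasis_affineOpens.exists_subset_of_mem_open (Set.mem_univ z) isOpen_univ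
  have hyU : y ∈ U := hyz.mem_open U.2 hzU
  obtain ⟨Q, hQ, θ, -, -, hfib⟩ := exists_fibre_rep f (L := Coh.structureModule X)
    (isInvertible_of_gen_cover (fun _ : Unit => (⊤ : X.Opens)) (by simp) _ fun _ => gen_oneSec ⊤) hU
  let iO : ∀ w : Y, CohIII.fiberMod f (Coh.structureModule X) w ≅ Coh.structureModule (f.fiber w) :=
    fun w => @asIso _ _ _ _ (pullUnit (f.fiberι w)) (isIso_pullUnit _)
  obtain ⟨c, e, hc, hspan⟩ : ∃ (c : Γ(Y, U)) (e : Q), Y.evaluation U z hzU c ≠ 0 ∧
      ∀ q : Q, ∃ a : Γ(Y, U), c • q = a • e := by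
    let := evAlg hzU
    obtain ⟨θz, h1, h2, -⟩ := hfib z hzU
    let t := (iO z).inv.app ⊤ (oneSec (f.fiber z) ⊤)
    have ht : Gen _ ⊤ t := (gen_oneSec ⊤).map (iO z).inv
    obtain ⟨φ₀, hφ₀⟩ := h1.2 t
    have hb : ∀ ψ : Q →ₗ[Γ(Y, U)] Y.residueField z, ∃ b, ψ = LinearMap.mulLeft _ b ∘ₗ φ₀ := by
      intro ψ
      obtain ⟨r, hr⟩ := ht.exists_coeff le_rfl (θz ψ)
      obtain ⟨b, hb⟩ := hz r
      exact ⟨b, h1.1 (by rw [h2, hφ₀, hb, hr, res_self])⟩
    obtain ⟨e, he⟩ : ∃ e : Q, φ₀ e ≠ 0 ∨ ∀ q, φ₀ q = 0 := by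
      by_cases h : ∀ q, φ₀ q = 0
      · exact ⟨0, Or.inr h⟩
      · push Not at h
        exact h.imp fun _ => Or.inl
    obtain ⟨c, hc, hM⟩ := exists_smul_eq_zero (M := Q ⧸ Submodule.span Γ(Y, U) {e}) hU hzU (by
      intro ψ
      obtain ⟨b, hb'⟩ := hb (ψ ∘ₗ Submodule.mkQ _)
      refine Submodule.linearMap_qext _ ?_
      rw [LinearMap.zero_comp, hb']
      have h2 := LinearMap.congr_fun hb' e
      have hmk : Submodule.mkQ (Submodule.span Γ(Y, U) {e}) e = 0 :=
        (Submodule.Quotient.mk_eq_zero _).2 (Submodule.mem_span_singleton_self e)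
      rw [LinearMap.comp_apply, hmk, map_zero, LinearMap.comp_apply, LinearMap.mulLeft_apply] at h2
      rcases he with he | he
      · rcases mul_eq_zero.1 h2.symm with hb0 | h0'
        · rw [hb0, LinearMap.mulLeft_zero_eq_zero, LinearMap.zero_comp]
        · exact absurd h0' he
      · rw [show φ₀ = 0 from LinearMap.ext he, LinearMap.comp_zero])
    refine ⟨c, e, hc, fun q => ?_⟩
    have h1 := hM (Submodule.Quotient.mk q)
    rw [← Submodule.Quotient.mk_smul, Submodule.Quotient.mk_eq_zero,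
      Submodule.mem_span_singleton] at h1
    obtain ⟨a, ha⟩ := h1
    exact ⟨a, ha.symm⟩
  have hcy : Y.evaluation U y hyU c ≠ 0 := by
    rw [Scheme.evaluation_ne_zero_iff_mem_basicOpen]
    exact hyz.mem_open (Y.basicOpen c).2
      ((Scheme.evaluation_ne_zero_iff_mem_basicOpen _ _ hzU c).1 hc)
  let := evAlg hyU
  obtain ⟨θy, h1, h2, -⟩ := hfib y hyU
  have h00 : θy 0 = 0 := by
    have h := h2 0 0
    rwa [LinearMap.comp_zero, map_zero, zero_smul] at h
  have hline : ∀ φ ψ : Q →ₗ[Γ(Y, U)] Y.residueField y, φ ≠ 0 →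
      ∃ b, ψ = LinearMap.mulLeft _ b ∘ₗ φ := by
    intro φ ψ hφ
    have key : ∀ (χ : Q →ₗ[Γ(Y, U)] Y.residueField y) (q : Q) (a : Γ(Y, U)), c • q = a • e →
        Y.evaluation U y hyU c * χ q = Y.evaluation U y hyU a * χ e := fun χ q a h => by
      have := congrArg χ h
      rwa [map_smul, map_smul, Algebra.smul_def, Algebra.smul_def] at this
    have he : φ e ≠ 0 := fun he => hφ (LinearMap.ext fun q => by
      obtain ⟨a, ha⟩ := hspan q
      have := key φ q a ha
      rw [he, mul_zero] at this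
      exact (mul_eq_zero.1 this).resolve_left hcy)
    refine ⟨ψ e * (φ e)⁻¹, LinearMap.ext fun q => ?_⟩
    obtain ⟨a, ha⟩ := hspan q
    refine mul_left_cancel₀ hcy ?_
    rw [key ψ q a ha, LinearMap.comp_apply, LinearMap.mulLeft_apply,
      mul_left_comm (Y.evaluation U y hyU c), key φ q a ha]
    field_simp
  intro v
  let s := (iO y).inv.app ⊤ (oneSec (f.fiber y) ⊤)
  have hs : Gen _ ⊤ s := (gen_oneSec ⊤).map (iO y).inv
  have hinj : ∀ r r' : Γ(f.fiber y, ⊤), r • s = r' • s → r = r' := fun r r' h =>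
    hs.smul_inj le_rfl (by rw [res_self]; exact h)
  obtain ⟨φ, hφ⟩ := h1.2 s
  obtain ⟨ψ, hψ⟩ := h1.2 (v • s)
  have hφ0 : φ ≠ 0 := fun e => by
    refine one_ne_zero (α := Γ(f.fiber y, ⊤)) (hinj 1 0 ?_)
    rw [one_smul, zero_smul, ← hφ, e, h00]
  obtain ⟨b, rfl⟩ := hline φ ψ hφ0
  exact ⟨b, hinj _ _ (by rw [← hψ, h2, hφ])⟩

/-- `H⁰(X_y, O) = k(y)` for a proper flat family with integral fibres over a scheme of finite type
over an algebraically closed field. -/
theorem h0One_of_isIntegral {k : Type u} [Field k] [IsAlgClosed k]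
    (g : Y ⟶ Spec (CommRingCat.of k)) [LocallyOfFiniteType g]
    (hint : ∀ y : Y, IsIntegral (f.fiber y)) : H0One f := fun y => by
  have := hint y
  have : JacobsonSpace Y := LocallyOfFiniteType.jacobsonSpace g
  have : IsProper (f.fiberToSpecResidueField y) := MorphismProperty.pullback_snd _ _ ‹_›
  have hn : Nontrivial Γ(f.fiber y, ⊤) :=
    (isField_of_universallyClosed (Y.residueField y) (f.fiberToSpecResidueField y)).nontrivial
  obtain ⟨z, hz, hzc⟩ := nonempty_inter_closedPoints (Z := closure ({y} : Set Y))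
    ⟨y, subset_closure rfl⟩ isClosed_closure.isLocallyClosed
  refine ⟨hn, surjective_algebraMap_of_specializes f (specializes_iff_mem_closure.2 hz) ?_⟩
  have := hint z
  exact surjective_algebraMap_of_isClosed f g hzc

end Groth.PicAux.Seesaw
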