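import Groth.Agent.PicAux.PullTensor
import Groth.Agent.PicAux.Powers
import Groth.Agent.Ega2Proj.AffineBC
import Groth.Agent.Cycles.NormalFieldBC
import Mathlib.FieldTheory.PurelyInseparable.Basic

/-!
# Torsion invertible modules and purely inseparable extensions of the ground field

Sections and invertible modules on the base change by a purely inseparable extension have `p`-power
powers coming from below.
-/

set_option autoImplicit false

universe u

open CategoryTheory CategoryTheory.Limits AlgebraicGeometry Opposite TopologicalSpace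
open scoped TensorProduct

noncomputable section

namespace Groth.PicAux.InsepDescent

variable (k k' : Type u) [Field k] [Field k'] [Algebra k k'] [IsPurelyInseparable k k']
  (p : ℕ) [ExpChar k p] {X : Scheme.{u}} (f : X ⟶ Spec (CommRingCat.of k))

/-- The projection from the base change. -/
abbrev proj : pullback f (Spec.map (CommRingCat.ofHom (algebraMap k k'))) ⟶ X :=
  pullback.fst f (Spec.map (CommRingCat.ofHom (algebraMap k k')))

instance : IsIntegralHom (proj k k' f) :=
  MorphismProperty.pullback_fst (P := @IsIntegralHom) _ _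
    (IsIntegralHom.SpecMap_iff.2 (algebraMap_isIntegral_iff.2 inferInstance))

instance : UniversallyInjective (proj k k' f) :=
  MorphismProperty.pullback_fst (P := @UniversallyInjective) _ _
    (Groth.Cycles.NormalBC.universallyInjective_specMap k k')

instance : Surjective (proj k k' f) :=
  MorphismProperty.pullback_fst (P := @Surjective) _ _
    ⟨fun _ => ⟨Classical.arbitrary _, Subsingleton.elim _ _⟩⟩

theorem exists_open_preimage_le (x : X) (V : (pullback f (Spec.map (CommRingCat.ofHom (algebraMap k k')))).Opens)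
    (y : (pullback f (Spec.map (CommRingCat.ofHom (algebraMap k k'))) : Scheme.{u}))
    (hy : proj k k' f y = x) (hyV : y ∈ V) :
    ∃ U : X.Opens, IsAffineOpen U ∧ x ∈ U ∧ proj k k' f ⁻¹ᵁ U ≤ V := by
  have hclosed : IsClosed ((proj k k' f) '' (V : Set _)ᶜ) :=
    (proj k k' f).isClosedMap _ V.isOpen.isClosed_compl
  have hx : x ∈ ((proj k k' f) '' (V : Set _)ᶜ)ᶜ := by
    rintro ⟨z, hz, hzx⟩
    exact hz ((proj k k' f).injective (hzx.trans hy.symm) ▸ hyV)
  obtain ⟨_, ⟨U, hU, rfl⟩, hxU, hUW⟩ :=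
    X.isBasis_affineOpens.exists_subset_of_mem_open hx hclosed.isOpen_compl
  exact ⟨U, hU, hxU, fun z hz => by
    by_contra hzV
    exact hUW hz ⟨z, hzV, rfl⟩⟩

theorem affine_core {U : X.Opens} (hU : IsAffineOpen U) :
    Function.Injective ((proj k k' f).app U) ∧
      ∀ x, ∃ e : ℕ, x ^ p ^ e ∈ ((proj k k' f).app U).hom.range := by
  let g := Spec.map (CommRingCat.ofHom (algebraMap k k'))
  have h := Groth.Ega2Proj.AffBC.isPushout_appLE g f (pullback.snd f g) (pullback.fst f g)
    (IsPullback.of_hasPullback f g).flip (U := ⊤) (isAffineOpen_top _) hU le_top le_top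
  let φ := (Scheme.ΓSpecIso (CommRingCat.of k)).inv ≫ f.appLE ⊤ U le_top
  let _ : Algebra k Γ(X, U) := φ.hom.toAlgebra
  have h2 : IsPushout (CommRingCat.ofHom (algebraMap k Γ(X, U)))
      (CommRingCat.ofHom (algebraMap k k')) ((proj k k' f).app U)
      ((Scheme.ΓSpecIso (CommRingCat.of k')).inv ≫
        (pullback.snd f g).appLE (g ⁻¹ᵁ ⊤) (proj k k' f ⁻¹ᵁ U) le_top) := by
    refine h.of_iso (Scheme.ΓSpecIso (CommRingCat.of k)) (Iso.refl _)
      (Scheme.ΓSpecIso (CommRingCat.of k')) (Iso.refl _) ?_ ?_ ?_ ?_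
    · rw [Iso.refl_hom, Category.comp_id]
      exact (Iso.hom_inv_id_assoc _ _).symm
    · exact Scheme.ΓSpecIso_naturality _
    · exact (Category.comp_id _).trans (Category.id_comp _).symm
    · rw [Iso.refl_hom, Category.comp_id]
      exact (Iso.hom_inv_id_assoc _ _).symm
  let e := h2.isoIsPushout _ _ (CommRingCat.isPushout_tensorProduct k Γ(X, U) k')
  have he : ∀ a, e.hom.hom ((proj k k' f).app U a) = a ⊗ₜ[k] (1 : k') := fun a =>
    RingHom.congr_fun (congrArg CommRingCat.Hom.hom
      (h2.inl_isoIsPushout_hom _ _ (CommRingCat.isPushout_tensorProduct k Γ(X, U) k'))) a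
  have hinj : Function.Injective e.hom.hom := e.commRingCatIsoToRingEquiv.injective
  refine ⟨fun a b hab => Algebra.TensorProduct.includeLeft_injective (S := Γ(X, U))
    (algebraMap k k').injective ?_, fun x => ?_⟩
  · exact (he a).symm.trans ((congrArg e.hom.hom hab).trans (he b))
  · obtain ⟨n, a, ha⟩ :=
      IsPurelyInseparable.exists_pow_pow_mem_range_tensorProduct_of_expChar p (e.hom.hom x)
    exact ⟨n, a, hinj ((he a).trans (ha.trans (map_pow e.hom.hom x _).symm))⟩

theorem app_resX {Y Z : Scheme.{u}} (π : Y ⟶ Z) {W V : Z.Opens} (h : V ≤ W) (a : Γ(Z, W)) :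
    π.app V (resX Z h a) = resX Y (π.preimage_mono h) (π.app W a) :=
  congr($(π.naturality (homOfLE h).op).hom a)

theorem app_injective (W : X.Opens) : Function.Injective ((proj k k' f).app W) := by
  intro a b hab
  obtain ⟨p, _⟩ := ExpChar.exists k
  choose U hU hxU hUW using fun x : ↥W => X.isBasis_affineOpens.exists_subset_of_mem_open
    x.2 W.isOpen
  let V : ↥W → X.Opens := fun x => ⟨U x, by obtain ⟨O, -, h⟩ := hU x; exact h ▸ O.isOpen⟩
  refine resX_ext V (fun x => hUW x) (fun x hx => Opens.mem_iSup.2 ⟨⟨x, hx⟩, hxU _⟩) fun x => ?_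
  obtain ⟨O, hO, h⟩ := hU x
  have hV : IsAffineOpen (V x) := (Opens.ext h : O = V x) ▸ hO
  refine (affine_core k k' p f hV).1 ?_
  rw [app_resX, app_resX, hab]

theorem pow_mem_mono {A B : CommRingCat.{u}} (φ : A ⟶ B) {x : B} {e : ℕ}
    (h : x ^ p ^ e ∈ φ.hom.range) (d : ℕ) : x ^ p ^ (e + d) ∈ φ.hom.range := by
  rw [pow_add, pow_mul]
  exact pow_mem h _

theorem exists_pow {W : X.Opens} (hW : IsCompact (W : Set X))
    (x : Γ(pullback f (Spec.map (CommRingCat.ofHom (algebraMap k k'))), proj k k' f ⁻¹ᵁ W)) :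
    ∃ e : ℕ, x ^ p ^ e ∈ ((proj k k' f).app W).hom.range := by
  choose U hU hxU hUW using fun z : ↥W => X.isBasis_affineOpens.exists_subset_of_mem_open
    z.2 W.isOpen
  let V : ↥W → X.Opens := fun z => ⟨U z, by obtain ⟨O, -, h⟩ := hU z; exact h ▸ O.isOpen⟩
  have hV : ∀ z, IsAffineOpen (V z) := fun z => by
    obtain ⟨O, hO, h⟩ := hU z
    exact (Opens.ext h : O = V z) ▸ hO
  obtain ⟨t, ht⟩ := hW.elim_finite_subcover (fun z => (V z : Set X)) (fun z => (V z).isOpen)
    fun z hz => Set.mem_iUnion.2 ⟨⟨z, hz⟩, hxU _⟩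
  choose e he using fun z : t => (affine_core k k' p f (hV z)).2
    (resX _ ((proj k k' f).preimage_mono (hUW z)) x)
  let E := Finset.univ.sup e
  have hE : ∀ z : t, ∃ a, (proj k k' f).app (V z) a =
      resX _ ((proj k k' f).preimage_mono (hUW z)) (x ^ p ^ E) := fun z => by
    obtain ⟨d, hd⟩ := Nat.le.dest (Finset.le_sup (f := e) (Finset.mem_univ z))
    have := pow_mem_mono p ((proj k k' f).app (V z)) (he z) d
    rw [hd, ← map_pow] at this
    exact this
  choose a ha using hE
  have hc : W ≤ ⨆ z : t, V z := fun z hz => by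
    obtain ⟨i, hi⟩ := Set.mem_iUnion.1 (ht hz)
    obtain ⟨hit, hzi⟩ := Set.mem_iUnion.1 hi
    exact Opens.mem_iSup.2 ⟨⟨i, hit⟩, hzi⟩
  obtain ⟨b, hb, -⟩ := resX_glue (fun z : t => V z) (fun z => hUW z) hc a fun i j => by
    refine app_injective k k' f _ ?_
    rw [app_resX, app_resX, ha, ha, resX_resX, resX_resX]
  refine ⟨E, b, resX_ext (fun z : t => proj k k' f ⁻¹ᵁ V z)
    (fun z => (proj k k' f).preimage_mono (hUW z)) ?_ fun z => ?_⟩
  · intro y hy
    obtain ⟨i, hi⟩ := Opens.mem_iSup.1 (hc hy)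
    exact Opens.mem_iSup.2 ⟨i, hi⟩
  · exact ((app_resX _ (hUW z) b).symm.trans (congrArg _ (hb z))).trans (ha z)

theorem isUnit_of_app_pow {W : X.Opens} (hW : IsCompact (W : Set X))
    {x : Γ(pullback f (Spec.map (CommRingCat.ofHom (algebraMap k k'))), proj k k' f ⁻¹ᵁ W)}
    (hx : IsUnit x) {e : ℕ} {a : Γ(X, W)} (ha : (proj k k' f).app W a = x ^ p ^ e) : IsUnit a := by
  obtain ⟨d, b, hb⟩ := exists_pow k k' p f hW (hx.unit⁻¹ : _ˣ).val
  refine isUnit_of_dvd_one (show a ∣ 1 from ?_)
  have h1 : a ^ p ^ d * b ^ p ^ e = 1 := by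
    refine app_injective k k' f W ?_
    rw [map_mul, map_pow, map_pow, map_one, ha, hb, ← pow_mul, ← pow_mul, mul_comm (p ^ d),
      ← mul_pow, hx.mul_val_inv, one_pow]
  exact h1 ▸ (dvd_pow_self a (pow_ne_zero _ (expChar_pos k p).ne')).mul_right _

end Groth.PicAux.InsepDescent
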