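import Groth.Agent.PicAux.PicThick
import Groth.Agent.PicAux.ThickInj
import Groth.Agent.Inter.Vanishing
import Mathlib.Data.Nat.Choose.Dvd
import Mathlib.RingTheory.Nilpotent.Basic

/-!
# Roots in kernels of restriction of Picard groups along two nested thickenings

If on affine opens the power map sends the units congruent to one on the smaller closed subscheme onto the
units congruent to one on the bigger one, and the space has dimension at most one, then every class trivial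
on the bigger closed subscheme is a power of a class trivial on the smaller one.
-/

set_option autoImplicit false
set_option backward.isDefEq.respectTransparency.types false

universe u

open CategoryTheory Limits AlgebraicGeometry Opposite TopologicalSpace
open CategoryTheory.Abelian (Ext)

noncomputable section

namespace Groth.PicAux.KerPow

open Groth.PicAux Groth.PicAux.PicPush Groth.PicAux.PicThick

theorem exists_pic_H1_all {X : Scheme.{u}} [PicGrp.Law X] :
    ∃ eX : Additive (PicLoc.PicSet X) ≃+ (Sheaf.H (UnitsSh.unitsAb X) 1 : Type u),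
      ∀ {Y : Scheme.{u}} (i : Y ⟶ X) [Surjective i] (_ : Topology.IsInducing i) [PicGrp.Law Y]
        (hi : PicGrp.PullMul i),
      ∃ eY : Additive (PicLoc.PicSet Y) ≃+ (Sheaf.H (F i) 1 : Type u),
        ∀ c, eY (Additive.ofMul (PicGrp.pullHom i hi c)) =
          Sheaf.H.map (UnitsSh.comap i) 1 (eX (Additive.ofMul c)) := by
  obtain ⟨ΘX, hX⟩ := exists_theta (𝟙 X) Topology.IsInducing.id
  let K : (Sheaf.H (UnitsSh.unitsAb X) 1 : Type u) ≃+ (Sheaf.H (F (𝟙 X)) 1 : Type u) :=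
    { Sheaf.H.map (κ X) 1 with
      invFun := Sheaf.H.map (inv (κ X)) 1
      left_inv := fun x => (Sheaf.H.map_comp_apply _ _ x).symm.trans
        (by rw [IsIso.hom_inv_id, Sheaf.H.map_id_apply])
      right_inv := fun x => (Sheaf.H.map_comp_apply _ _ x).symm.trans
        (by rw [IsIso.inv_hom_id, Sheaf.H.map_id_apply]) }
  refine ⟨ΘX.trans K.symm, fun {Y} i _ hind _ hi => ?_⟩
  obtain ⟨ΘY, hY⟩ := exists_theta i hind
  refine ⟨ΘY, fun c => ?_⟩
  obtain ⟨L, hL, rfl⟩ := PicGrp.exists_eq_cls c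
  obtain ⟨q, hq⟩ := exists_of_invertible (i := 𝟙 X) Topology.IsInducing.id hL
  rw [PicGrp.pullHom_cls, AddEquiv.trans_apply, hX q L hq hL,
    hY _ _ (Rel.pull i hq) (PicLoc.isInvertible_pullback i hL), ← hmap_δp]
  exact Sheaf.H.map_comp_apply _ _ _

variable {Z Y1 Y0 : Scheme.{u}} (i1 : Y1 ⟶ Z) (i0 : Y0 ⟶ Z)

theorem comap_app_eq_zero_iff (U : Z.Opens) (u : Γ(Z, U)ˣ) :
    (UnitsSh.comap i1).hom.app (op U) (UnitsSh.sectOfUnit (O := Z.presheaf) u) = 0 ↔
      i1.app U (u : Γ(Z, U)) = 1 :=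
  ⟨fun h => congrArg (fun t => ((UnitsSh.unitOfSect (X := Z.toTopCat)
      (O := i1.base _* Y1.presheaf) (U := op U) t).val : Γ(Y1, i1 ⁻¹ᵁ U))) h,
    fun h => congrArg (UnitsSh.sectOfUnit (X := Z.toTopCat) (O := i1.base _* Y1.presheaf) (U := op U))
      (Units.ext h)⟩

/-- Multiplication by a natural number in cohomology. -/
theorem hmap_nsmul {T : TopCat.{u}} {A B : CohBase.AbSheaf T} (φ : A ⟶ B) (p n : ℕ)
    (x : (Sheaf.H A n : Type u)) : Sheaf.H.map (p • φ) n x = p • Sheaf.H.map φ n x := by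
  induction p with
  | zero => rw [zero_smul, zero_smul, Sheaf.H.map_apply, Ext.mk₀_zero, Ext.comp_zero]
  | succ p ih =>
    rw [succ_nsmul, succ_nsmul, ← ih, Sheaf.H.map_apply, Ext.mk₀_add, Ext.comp_add]
    rfl

theorem app_nsmul {T : TopCat.{u}} {A B : CohBase.AbSheaf T} (φ : A ⟶ B) (p : ℕ) (W : Opens T)
    (g : A.obj.obj (op W)) : (p • φ).hom.app (op W) g = p • φ.hom.app (op W) g := by
  induction p with
  | zero => rw [zero_smul, zero_smul]; rfl
  | succ p ih => rw [succ_nsmul, succ_nsmul, ← ih]; rfl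

/-- Roots in the kernel of restriction. -/
theorem exists_root [IsClosedImmersion i1] [IsClosedImmersion i0] [Surjective i1] [Surjective i0]
    [NoetherianSpace Z] (hd : topologicalKrullDim Z ≤ 1) (p : ℕ)
    (hlift : ∀ U : Z.affineOpens, ∀ c : Γ(Z, U.1), IsUnit (i1.app U.1 c) → IsUnit c)
    (hpow : ∀ U : Z.affineOpens, ∀ v : Γ(Z, U.1), i0.app U.1 v = 1 → i1.app U.1 (v ^ p) = 1)
    (hroot : ∀ U : Z.affineOpens, ∀ u : Γ(Z, U.1)ˣ, i1.app U.1 (u : Γ(Z, U.1)) = 1 →
      ∃ v : Γ(Z, U.1)ˣ, i0.app U.1 (v : Γ(Z, U.1)) = 1 ∧ v ^ p = u)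
    [PicGrp.Law Z] [PicGrp.Law Y1] [PicGrp.Law Y0] (h1 : PicGrp.PullMul i1) (h0 : PicGrp.PullMul i0)
    {z : PicLoc.PicSet Z} (hz : PicGrp.pullHom i1 h1 z = 1) :
    ∃ w : PicLoc.PicSet Z, PicGrp.pullHom i0 h0 w = 1 ∧ w ^ p = z := by
  let A : CohBase.AbSheaf Z.toTopCat := UnitsSh.unitsAb Z
  let c1 : A ⟶ F i1 := UnitsSh.comap i1
  let c0 : A ⟶ F i0 := UnitsSh.comap i0
  have hepi : Epi c1 := by
    refine (CategoryTheory.Sheaf.isLocallySurjective_iff_epi' AddCommGrpCat.{u} c1).mp ?_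
    refine (TopCat.Presheaf.isLocallySurjective_iff c1.hom).mpr fun W q x hx => ?_
    obtain ⟨_, ⟨V, hV, rfl⟩, hxV, hle⟩ := Z.isBasis_affineOpens.exists_subset_of_mem_open hx W.2
    let q' : Γ(Y1, i1 ⁻¹ᵁ V)ˣ := UnitsSh.unitOfSect (X := Z.toTopCat) (O := i1.base _* Y1.presheaf)
      (CohBase.res (X := Z.toTopCat) (F i1).obj hle q)
    obtain ⟨c, hc⟩ := i1.app_surjective V hV (q' : Γ(Y1, i1 ⁻¹ᵁ V))
    have hu : IsUnit c := hlift ⟨V, hV⟩ c (hc ▸ q'.isUnit)
    exact ⟨V, hle, ⟨UnitsSh.sectOfUnit (O := Z.presheaf) hu.unit,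
      congrArg (UnitsSh.sectOfUnit (X := Z.toTopCat) (O := i1.base _* Y1.presheaf) (U := op V))
        (Units.ext hc)⟩, hxV⟩
  let S1 : ShortComplex (CohBase.AbSheaf Z.toTopCat) := ShortComplex.mk (kernel.ι c1) c1 (kernel.condition _)
  have hS1 : S1.ShortExact :=
    { exact := ShortComplex.exact_of_f_is_kernel _ (kernelIsKernel c1)
      mono_f := by dsimp [S1]; infer_instance
      epi_g := hepi }
  -- sections of the kernels
  have hker0 : ∀ (V : Z.Opens) (v : A.obj.obj (op V)), c0.hom.app (op V) v = 0 →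
      ∃ t, (kernel.ι c0).hom.app (op V) t = v := fun V v hv =>
    TopCat.Sheaf.sections_exact_of_left_exact
      (S := (ShortComplex.mk (kernel.ι c0) c0 (kernel.condition _) : ShortComplex (CohBase.AbSheaf Z.toTopCat)))
      (ShortComplex.exact_of_f_is_kernel _ (kernelIsKernel c0)) (equalizer.ι_mono (f := c0) (g := 0)) v hv
  have hG : (p • kernel.ι c0) ≫ c1 = 0 := by
    apply Sheaf.hom_ext
    ext W g
    induction W with
    | op W =>
    have hc : ∀ x : W, ∃ V : Z.Opens, IsAffineOpen V ∧ V ≤ W ∧ x.1 ∈ V := fun x => by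
      obtain ⟨_, ⟨V, hV, rfl⟩, hxV, hle⟩ := Z.isBasis_affineOpens.exists_subset_of_mem_open x.2 W.2
      exact ⟨V, hV, hle, hxV⟩
    choose V hV hle hxV using hc
    refine TopCat.Sheaf.eq_of_locally_eq' (F i1) V W (fun x => homOfLE (hle x))
      (fun y hy => Opens.mem_iSup.2 ⟨⟨y, hy⟩, hxV _⟩) _ _ (fun x => ?_)
    refine (CohBase.res_naturality (X := Z.toTopCat) _ ((p • kernel.ι c0) ≫ c1).hom (hle x) g).symm.trans
      (Eq.trans ?_ (map_zero _).symm)
    change c1.hom.app (op (V x)) ((p • kernel.ι c0).hom.app (op (V x)) _) = 0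
    rw [app_nsmul]
    let g' := CohBase.res (X := Z.toTopCat) (kernel c0).obj (hle x) g
    let v : Γ(Z, V x)ˣ := UnitsSh.unitOfSect (O := Z.presheaf) ((kernel.ι c0).hom.app (op (V x)) g')
    have hv : i0.app (V x) (v : Γ(Z, V x)) = 1 := by
      rw [← comap_app_eq_zero_iff i0 (V x) v]
      exact congr($(congrArg (fun γ : kernel c0 ⟶ F i0 => γ.hom.app (op (V x))) (kernel.condition c0)) g')
    exact (comap_app_eq_zero_iff i1 (V x) (v ^ p)).2 (by
      rw [Units.val_pow_eq_pow_val]; exact hpow ⟨V x, hV x⟩ v hv)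
  have : NoetherianSpace ↑Z.toTopCat := ‹_›
  let φ : kernel c0 ⟶ kernel c1 := kernel.lift c1 (p • kernel.ι c0) hG
  have hφ : Epi φ := by
    refine (CategoryTheory.Sheaf.isLocallySurjective_iff_epi' AddCommGrpCat.{u} φ).mp ?_
    refine (TopCat.Presheaf.isLocallySurjective_iff φ.hom).mpr fun W q x hx => ?_
    obtain ⟨_, ⟨V, hV, rfl⟩, hxV, hle⟩ := Z.isBasis_affineOpens.exists_subset_of_mem_open hx W.2
    let q' := CohBase.res (X := Z.toTopCat) (kernel c1).obj hle q
    let u : Γ(Z, V)ˣ := UnitsSh.unitOfSect (O := Z.presheaf) ((kernel.ι c1).hom.app (op V) q')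
    have hu : i1.app V (u : Γ(Z, V)) = 1 := by
      rw [← comap_app_eq_zero_iff i1 V u]
      exact congr($(congrArg (fun γ : kernel c1 ⟶ F i1 => γ.hom.app (op V)) (kernel.condition c1)) q')
    obtain ⟨v, hv0, hvp⟩ := hroot ⟨V, hV⟩ u hu
    obtain ⟨t, ht⟩ := hker0 V (UnitsSh.sectOfUnit (O := Z.presheaf) v) ((comap_app_eq_zero_iff i0 V v).2 hv0)
    refine ⟨V, hle, ⟨t, CohBase.sections_injective hS1 V ?_⟩, hxV⟩
    change (φ ≫ kernel.ι c1).hom.app (op V) t = (kernel.ι c1).hom.app (op V) q'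
    rw [kernel.lift_ι, app_nsmul, ht]
    exact congrArg (UnitsSh.sectOfUnit (O := Z.presheaf)) hvp
  let S2 : ShortComplex (CohBase.AbSheaf Z.toTopCat) := ShortComplex.mk (kernel.ι φ) φ (kernel.condition _)
  have hS2 : S2.ShortExact :=
    { exact := ShortComplex.exact_of_f_is_kernel _ (kernelIsKernel φ)
      mono_f := by dsimp [S2]; infer_instance
      epi_g := hφ }
  obtain ⟨eX, hX⟩ := exists_pic_H1_all (X := Z)
  obtain ⟨e1, he1⟩ := hX i1 i1.isClosedEmbedding.isInducing h1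
  obtain ⟨e0, he0⟩ := hX i0 i0.isClosedEmbedding.isInducing h0
  have h1z : Sheaf.H.map c1 1 (eX (Additive.ofMul z)) = 0 := by
    rw [← he1, hz]
    exact map_zero e1
  obtain ⟨z', hz'⟩ := AbLES.exists_of_hmap_g_eq_zero hS1 1 h1z
  have : Subsingleton (Sheaf.H S2.X₁ (1 + 1) : Type u) :=
    Groth.Inter.Vanishing.subsingleton_H_of_dim_le (d := 1) (by exact_mod_cast hd) _ 2 one_lt_two
  obtain ⟨w', hw'⟩ := AbLES.exists_of_δ_eq_zero hS2 1 (x := z') (Subsingleton.elim _ _)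
  let w0 := Sheaf.H.map (kernel.ι c0) 1 w'
  refine ⟨Additive.toMul (eX.symm w0), e0.toEquiv.injective.eq_iff.1 ?_, eX.toEquiv.injective.eq_iff.1 ?_⟩
  · change e0 (Additive.ofMul (PicGrp.pullHom i0 h0 (Additive.toMul (eX.symm w0)))) = e0 0
    rw [he0, map_zero, ofMul_toMul, AddEquiv.apply_symm_apply, ← Sheaf.H.map_comp_apply,
      kernel.condition, Sheaf.H.map_apply, Ext.mk₀_zero, Ext.comp_zero]
  · change eX (Additive.ofMul (Additive.toMul (eX.symm w0) ^ p)) = eX (Additive.ofMul z)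
    rw [ofMul_pow, ofMul_toMul, map_nsmul, AddEquiv.apply_symm_apply, ← hmap_nsmul, ← hz', ← hw']
    exact (congrArg (fun γ => Sheaf.H.map γ 1 w') (kernel.lift_ι c1 (p • kernel.ι c0) hG).symm).trans
      (Sheaf.H.map_comp_apply _ _ _)

end Groth.PicAux.KerPow
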