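import Groth.Agent.PicAux.LiftSmallDim
import Groth.Agent.HensPair.ProperClopenCor

/-!
# Separation of closed traces on the closed fibre over a henselian local ring
-/

set_option autoImplicit false
set_option backward.isDefEq.respectTransparency.types false
universe u

open CategoryTheory CategoryTheory.Limits AlgebraicGeometry TopologicalSpace IsLocalRing
open Groth.HensPair

namespace Groth.PicLift

variable {A : Type u} [CommRing A] [IsLocalRing A] {X X₀ : Scheme.{u}} (f : X ⟶ Spec (CommRingCat.of A))
  (i : X₀ ⟶ X)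

/-- A scheme on the closed fibre has the dimension of the closed fibre. -/
theorem dim_closedFibre_le [IsClosedImmersion i] (hi : Set.range i.base = f.base ⁻¹' {closedPoint A}) {n : WithBot ℕ∞}
    (h : topologicalKrullDim
      ↥(pullback f ((Spec (CommRingCat.of A)).fromSpecResidueField (closedPoint A))) ≤ n) :
    topologicalKrullDim X₀ ≤ n := by
  let p := pullback.fst f ((Spec (CommRingCat.of A)).fromSpecResidueField (closedPoint A))
  have hr : Set.range i.base = Set.range p.base := hi.trans (f.range_fiberι (closedPoint A)).symm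
  let e := i.isClosedEmbedding.isEmbedding.toHomeomorph.trans ((Homeomorph.setCongr hr).trans
    (f.fiberι (closedPoint A)).isEmbedding.toHomeomorph.symm)
  exact (IsHomeomorph.topologicalKrullDim_eq _ e.isHomeomorph).trans_le h

omit [IsLocalRing A] in
lemma overV_maximalIdeal [IsLocalRing A] :
    overV f (maximalIdeal A) = f.base ⁻¹' {closedPoint A} := by
  rw [overV]
  congr 1
  ext p
  exact ⟨fun h => PrimeSpectrum.ext ((IsLocalRing.le_maximalIdeal p.isPrime.ne_top).antisymm h),
    fun h => le_of_eq (congrArg PrimeSpectrum.asIdeal h).symm⟩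

/-- Closed traces separate on the closed fibre of a proper scheme over a henselian local ring. -/
theorem separates_closedFibre {A : Type u} [CommRing A] [HenselianLocalRing A] {X X₀ : Scheme.{u}}
    (hPF : CohFin.ProjFinite.{u}) (f : X ⟶ Spec (CommRingCat.of A)) [IsProper f] [NoetherianSpace X]
    (i : X₀ ⟶ X) [IsClosedImmersion i] (hi : Set.range i.base = f.base ⁻¹' {closedPoint A}) :
    Separates i := by
  refine separates_of_connected i fun Y hY hne hc => ?_
  rw [hi, ← overV_maximalIdeal]
  let T : Closeds X := ⟨Y, hY⟩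
  let 𝓘 := Scheme.IdealSheafData.vanishingIdeal T
  have hT : Set.range 𝓘.subschemeι = Y := by
    rw [Scheme.IdealSheafData.range_subschemeι]; simp [𝓘, T]
  have : PreconnectedSpace 𝓘.subscheme := ⟨by
    rw [← 𝓘.subschemeι.isClosedEmbedding.isEmbedding.isInducing.isPreconnected_image, Set.image_univ, hT]
    exact hc.isPreconnected⟩
  have : Nonempty 𝓘.subscheme := by
    obtain ⟨y, hy⟩ := hne
    exact ⟨(hT.ge hy).choose⟩
  have hb := clopenBij_overV hPF (maximalIdeal A) (𝓘.subschemeι ≫ f)
  have hpre : _root_.IsPreconnected (overV (𝓘.subschemeι ≫ f) (maximalIdeal A)) := by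
    rw [isPreconnected_iff_preconnectedSpace, preconnectedSpace_iff_clopen]
    intro V hV
    obtain ⟨U, ⟨hU, rfl⟩, -⟩ := hb V hV
    rcases isClopen_iff.1 hU with rfl | rfl
    · exact Or.inl Set.preimage_empty
    · exact Or.inr Set.preimage_univ
  have himg : 𝓘.subschemeι '' overV (𝓘.subschemeι ≫ f) (maximalIdeal A) = Y ∩ overV f (maximalIdeal A) := by
    ext z
    constructor
    · rintro ⟨y, hy, rfl⟩
      exact ⟨hT.le ⟨y, rfl⟩, hy⟩
    · rintro ⟨hz, hzI⟩
      obtain ⟨y, rfl⟩ := hT.ge hz
      exact ⟨y, hzI, rfl⟩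
  have hne' : (Y ∩ overV f (maximalIdeal A)).Nonempty := by
    rw [Set.nonempty_iff_ne_empty]
    intro he
    exact hne.ne_empty (eq_empty_of_inter_overV f (HenselianRing.jac (I := maximalIdeal A)) hY he)
  exact ⟨hne', hne', himg ▸ hpre.image _ 𝓘.subschemeι.continuous.continuousOn⟩

end Groth.PicLift
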