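import Groth.Agent.PicAux.Sections
import Groth.Agent.PicAux.Cocycle
import Groth.Prelude.Def_MeroDiv

/-!
# Meromorphic functions and divisors: elementary toolkit
-/

universe u

open CategoryTheory AlgebraicGeometry Opposite TopologicalSpace

namespace Groth.PicAux

variable {X : Scheme.{u}}

/-- The map `O_{X,x} → K_{X,x}`. -/
noncomputable abbrev toKStalk (x : X) : X.presheaf.stalk x →+* Mero.KStalk X x :=
  algebraMap (X.presheaf.stalk x) (Mero.KStalk X x)

theorem toKStalk_eq_mk (x : X) (a : X.presheaf.stalk x) :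
    toKStalk x a = LocalizedModule.mk a 1 := rfl

theorem toKStalk_injective (x : X) : Function.Injective (toKStalk (X := X) x) :=
  Mero.algebraMap_KStalk_injective x

theorem smul_kStalk (x : X) (r : X.presheaf.stalk x) (t : Mero.KStalk X x) :
    r • t = toKStalk x r * t := Algebra.smul_def r t

theorem kmk_mul_toKStalk {x : X} (a : X.presheaf.stalk x) (b : Mero.regStalk X x) :
    (LocalizedModule.mk a b : Mero.KStalk X x) * toKStalk x b = toKStalk x a := by
  rw [toKStalk_eq_mk, toKStalk_eq_mk]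
  refine LocalizedModule.mk_mul_mk.trans (LocalizedModule.mk_eq.2 ⟨1, ?_⟩)
  simp [Submonoid.smul_def, mul_comm]

theorem isUnit_toKStalk {x : X} (b : Mero.regStalk X x) : IsUnit (toKStalk (X := X) x b) :=
  IsLocalization.map_units (Mero.KStalk X x) b

theorem kext {U : X.Opens} {f g : Γ(Mero.kmod X, U)} (h : ∀ y : U, f.1 y = g.1 y) : f = g :=
  Subtype.ext (funext h)

theorem kres_apply {U V : X.Opens} (h : V ≤ U) (f : Γ(Mero.kmod X, U)) (y : V) :
    (res (Mero.kmod X) h f).1 y = f.1 ⟨y.1, h y.2⟩ := rfl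

theorem ksmul_apply {U : X.Opens} (r : Γ(X, U)) (f : Γ(Mero.kmod X, U)) (y : U) :
    (r • f).1 y = toKStalk y.1 (X.presheaf.germ U y.1 y.2 r) * f.1 y :=
  smul_kStalk y.1 _ _

theorem toK_apply' {U : X.Opens} (r : Γ(X, U)) (y : U) :
    (Mero.toK X U r).1 y = toKStalk y.1 (X.presheaf.germ U y.1 y.2 r) := rfl

theorem ksmul_eq {U : X.Opens} (r : Γ(X, U)) (f : Γ(Mero.kmod X, U)) :
    r • f = Mero.toK X U r * f :=
  kext fun y => by rw [Mero.kmod_mul_apply, toK_apply', ksmul_apply]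

theorem germ_resX {U V : X.Opens} (h : V ≤ U) (x : X) (hx : x ∈ V) (r : Γ(X, U)) :
    X.presheaf.germ V x hx (resX X h r) = X.presheaf.germ U x (h hx) r :=
  TopCat.Presheaf.germ_res_apply X.presheaf (homOfLE h) x hx r

theorem toK_injective (U : X.Opens) : Function.Injective (Mero.toK X U) := fun a b h =>
  TopCat.Presheaf.section_ext X.sheaf U a b fun y hy =>
    toKStalk_injective y (congr(($h).1 ⟨y, hy⟩))

theorem res_toK {U V : X.Opens} (h : V ≤ U) (r : Γ(X, U)) :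
    res (Mero.kmod X) h (Mero.toK X U r) = Mero.toK X V (resX X h r) :=
  kext fun y => by rw [kres_apply, toK_apply', toK_apply', germ_resX]

/-- The fraction `a / b`. -/
noncomputable def kfr {U : X.Opens} (a : Γ(X, U)) (b : Mero.regSub X U) : Γ(Mero.kmod X, U) :=
  ⟨fun y => LocalizedModule.mk (X.presheaf.germ U y.1 y.2 a) (Mero.regGerm y b),
    fun x => ⟨U, x.2, 𝟙 _, a, b, fun _ => rfl⟩⟩

theorem kfr_mul_toK {U : X.Opens} (a : Γ(X, U)) (b : Mero.regSub X U) :
    kfr a b * Mero.toK X U b.1 = Mero.toK X U a :=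
  kext fun y => kmk_mul_toKStalk _ (Mero.regGerm y b)

theorem kfr_mul_toKStalk {U : X.Opens} (a : Γ(X, U)) (b : Mero.regSub X U) (y : U) :
    (kfr a b).1 y * toKStalk y.1 (X.presheaf.germ U y.1 y.2 b.1) =
      toKStalk y.1 (X.presheaf.germ U y.1 y.2 a) :=
  kmk_mul_toKStalk _ (Mero.regGerm y b)

theorem exists_kfr {U : X.Opens} (f : Γ(Mero.kmod X, U)) (x : X) (hx : x ∈ U) :
    ∃ (V : X.Opens) (h : V ≤ U) (a : Γ(X, V)) (b : Mero.regSub X V),
      x ∈ V ∧ res (Mero.kmod X) h f = kfr a b := by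
  obtain ⟨V, hxV, i, a, b, hab⟩ := f.2 ⟨x, hx⟩
  exact ⟨V, i.le, a, b, hxV, kext hab⟩

/-- A regular function as a unit of meromorphic functions. -/
noncomputable def regUnit {U : X.Opens} (b : Mero.regSub X U) : (Γ(Mero.kmod X, U))ˣ where
  val := Mero.toK X U b.1
  inv := kfr 1 b
  val_inv := by rw [mul_comm, kfr_mul_toK, map_one]
  inv_val := by rw [kfr_mul_toK, map_one]

theorem germOf_regUnit {U : X.Opens} (b : Mero.regSub X U) (y : U) :
    Mero.germOf (regUnit b) y = QuotientGroup.mk (isUnit_toKStalk (Mero.regGerm y b)).unit := by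
  refine congrArg QuotientGroup.mk (Units.ext ?_)
  exact (toK_apply' b.1 y).trans (IsUnit.unit_spec _).symm

/-- Restriction of units of meromorphic functions. -/
noncomputable def resU {U V : X.Opens} (h : V ≤ U) (f : (Γ(Mero.kmod X, U))ˣ) :
    (Γ(Mero.kmod X, V))ˣ :=
  Units.map ((Mero.kring X).obj.map (homOfLE h).op).hom.toMonoidHom f

theorem resU_coe {U V : X.Opens} (h : V ≤ U) (f : (Γ(Mero.kmod X, U))ˣ) :
    (resU h f : Γ(Mero.kmod X, V)) = res (Mero.kmod X) h (f : Γ(Mero.kmod X, U)) := rfl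

theorem germOf_resU {U V : X.Opens} (h : V ≤ U) (f : (Γ(Mero.kmod X, U))ˣ) (y : V) :
    Mero.germOf (resU h f) y = Mero.germOf f ⟨y.1, h y.2⟩ :=
  congrArg QuotientGroup.mk (Units.ext rfl)

theorem germOf_mul {U : X.Opens} (f g : (Γ(Mero.kmod X, U))ˣ) (y : U) :
    Mero.germOf (f * g) y = Mero.germOf f y * Mero.germOf g y := by
  rw [Mero.germOf, Mero.germOf, Mero.germOf, map_mul, QuotientGroup.mk_mul]

/-- The value of a unit at a point. -/
noncomputable def uval {U : X.Opens} (f : (Γ(Mero.kmod X, U))ˣ) (y : U) : (Mero.KStalk X y.1)ˣ :=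
  Units.map (Mero.evalK X U y).toMonoidHom f

theorem uval_coe {U : X.Opens} (f : (Γ(Mero.kmod X, U))ˣ) (y : U) :
    (uval f y : Mero.KStalk X y.1) = (f : Γ(Mero.kmod X, U)).1 y := rfl

theorem uval_inv_coe {U : X.Opens} (f : (Γ(Mero.kmod X, U))ˣ) (y : U) :
    (((uval f y)⁻¹ : (Mero.KStalk X y.1)ˣ) : Mero.KStalk X y.1) =
      ((f⁻¹ : (Γ(Mero.kmod X, U))ˣ) : Γ(Mero.kmod X, U)).1 y := rfl

/-- The condition cutting out `O_X(D)`, tested on one representative. -/
theorem divCond_iff {D : Mero.Divisor X} {x : X} {g : (Mero.KStalk X x)ˣ}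
    (hg : D.1 x = QuotientGroup.mk g) (t : Mero.KStalk X x) :
    Mero.DivCond D x t ↔ t * g ∈ (toKStalk x).range := by
  refine ⟨fun h => h g hg, fun ⟨c, hc⟩ g' hg' => ?_⟩
  obtain ⟨v, hv⟩ := QuotientGroup.eq.1 (hg.symm.trans hg')
  have e : (g' : Mero.KStalk X x) = g * toKStalk x v := by
    have hv' : Units.map (toKStalk x).toMonoidHom v = g⁻¹ * g' := hv
    have : g' = g * Units.map (toKStalk x).toMonoidHom v := by rw [hv', mul_inv_cancel_left]
    rw [this]
    rfl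
  exact ⟨c * v, by rw [map_mul, hc, e, mul_assoc]⟩

/-- A meromorphic function with values in the local rings is a function. -/
theorem exists_toK_eq {U : X.Opens} (f : Γ(Mero.kmod X, U))
    (h : ∀ y : U, f.1 y ∈ (toKStalk y.1).range) : ∃ r : Γ(X, U), Mero.toK X U r = f := by
  have key : ∀ x : U, ∃ (V : X.Opens) (hV : V ≤ U) (r : Γ(X, V)),
      x.1 ∈ V ∧ Mero.toK X V r = res (Mero.kmod X) hV f := by
    intro x
    obtain ⟨V, hV, a, b, hxV, hab⟩ := exists_kfr f x.1 x.2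
    obtain ⟨c, hc⟩ := h x
    obtain ⟨W, hxW, c', rfl⟩ := TopCat.Presheaf.exists_germ_eq X.presheaf c
    have e : X.presheaf.germ V x.1 hxV a =
        X.presheaf.germ W x.1 hxW c' * X.presheaf.germ V x.1 hxV b.1 := by
      refine toKStalk_injective x.1 ?_
      rw [map_mul, ← kfr_mul_toKStalk a b ⟨x.1, hxV⟩, ← hab, kres_apply, hc]
    let c₀ : Γ(X, W ⊓ V) := resX X inf_le_left c'
    let b₀ : Γ(X, W ⊓ V) := resX X inf_le_right b.1
    let a₀ : Γ(X, W ⊓ V) := resX X inf_le_right a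
    obtain ⟨W', hxW', i, j, heq⟩ := TopCat.Presheaf.germ_eq X.presheaf x.1
      (⟨hxW, hxV⟩ : x.1 ∈ W ⊓ V) (⟨hxW, hxV⟩ : x.1 ∈ W ⊓ V) a₀ (c₀ * b₀) (by
        rw [map_mul, germ_resX, germ_resX, germ_resX, e])
    have heq' : resX X i.le a₀ = resX X i.le (c₀ * b₀) := heq
    refine ⟨W', i.le.trans (inf_le_right.trans hV), resX X i.le c₀, hxW', kext fun y => ?_⟩
    have hyV : y.1 ∈ V := (i.le y.2).2
    have hy : X.presheaf.germ V y.1 hyV a =
        X.presheaf.germ W' y.1 y.2 (resX X i.le c₀) * X.presheaf.germ V y.1 hyV b.1 := by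
      have := congrArg (X.presheaf.germ W' y.1 y.2) heq'
      simpa [a₀, b₀, c₀, germ_resX] using this
    rw [toK_apply', kres_apply]
    refine (isUnit_toKStalk (Mero.regGerm ⟨y.1, hyV⟩ b)).mul_left_injective ?_
    change toKStalk y.1 _ * toKStalk y.1 (X.presheaf.germ V y.1 hyV b.1) =
      f.1 ⟨y.1, _⟩ * toKStalk y.1 (X.presheaf.germ V y.1 hyV b.1)
    rw [← map_mul, ← hy, ← kfr_mul_toKStalk a b ⟨y.1, hyV⟩, ← hab, kres_apply]
  choose V hV r hxV hr using key
  have hc : U ≤ ⨆ x, V x := fun x hx => Opens.mem_iSup.2 ⟨⟨x, hx⟩, hxV ⟨x, hx⟩⟩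
  obtain ⟨y, hy, -⟩ := resX_glue V hV hc r fun i j => toK_injective _ (by
    rw [← res_toK, ← res_toK, hr, hr, res_res, res_res])
  refine ⟨y, res_ext V hV hc fun i => ?_⟩
  rw [res_toK, hy, hr]

/-! ### `O_X(D)` -/

/-- A section of `O_X(D)` as a meromorphic function. -/
noncomputable def divVal {D : Mero.Divisor X} {U : X.Opens} (t : Γ(Mero.divMod D, U)) :
    Γ(Mero.kmod X, U) :=
  (Mero.divModι D).app U t

theorem divVal_injective (D : Mero.Divisor X) (U : X.Opens) :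
    Function.Injective (divVal (D := D) (U := U)) :=
  fun _ _ h => Subtype.ext (congrArg (fun z : Γ(Mero.kmod X, U) => z.1) h)

theorem divVal_res {D : Mero.Divisor X} {U V : X.Opens} (h : V ≤ U) (t : Γ(Mero.divMod D, U)) :
    divVal (res _ h t) = res (Mero.kmod X) h (divVal t) :=
  app_res (Mero.divModι D) h t

theorem divVal_smul {D : Mero.Divisor X} {U : X.Opens} (r : Γ(X, U)) (t : Γ(Mero.divMod D, U)) :
    divVal (r • t) = r • divVal t :=
  Scheme.Modules.Hom.app_smul _ r t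

theorem divVal_add {D : Mero.Divisor X} {U : X.Opens} (s t : Γ(Mero.divMod D, U)) :
    divVal (s + t) = divVal s + divVal t :=
  map_add _ s t

theorem divVal_cond {D : Mero.Divisor X} {U : X.Opens} (t : Γ(Mero.divMod D, U)) (y : U) :
    Mero.DivCond D y.1 ((divVal t).1 y) :=
  t.2.2 y

theorem exists_divVal_eq {D : Mero.Divisor X} {U : X.Opens} {f : Γ(Mero.kmod X, U)}
    (h : ∀ y : U, Mero.DivCond D y.1 (f.1 y)) : ∃ t : Γ(Mero.divMod D, U), divVal t = f :=
  ⟨⟨f.1, f.2, h⟩, rfl⟩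

/-- A representative of `D` near a point. -/
theorem exists_rep (D : Mero.Divisor X) (x : X) :
    ∃ (U : X.Opens) (_ : x ∈ U) (f : (Γ(Mero.kmod X, U))ˣ), ∀ y : U, D.1 y.1 = Mero.germOf f y :=
  D.2 x

/-- Where `D` is the divisor of `f`, the section `f⁻¹` is a basis of `O_X(D)`. -/
theorem gen_divMod {D : Mero.Divisor X} {U : X.Opens} {f : (Γ(Mero.kmod X, U))ˣ}
    (hf : ∀ y : U, D.1 y.1 = Mero.germOf f y) :
    ∃ e : Γ(Mero.divMod D, U),
      divVal e = ((f⁻¹ : (Γ(Mero.kmod X, U))ˣ) : Γ(Mero.kmod X, U)) ∧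
        Gen (Mero.divMod D) U e := by
  obtain ⟨e, he⟩ := exists_divVal_eq (D := D)
    (f := ((f⁻¹ : (Γ(Mero.kmod X, U))ˣ) : Γ(Mero.kmod X, U))) fun y =>
      (divCond_iff (g := uval f y) (hf y) _).2 ⟨1, by rw [map_one, ← uval_inv_coe, Units.inv_mul]⟩
  refine ⟨e, he, fun V hV => ⟨fun r r' hr => ?_, fun t => ?_⟩⟩
  · have h1 := congrArg divVal hr
    simp only [divVal_smul, divVal_res, he, ksmul_eq, ← resU_coe] at h1
    exact toK_injective V ((Units.mul_left_inj _).1 h1)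
  · obtain ⟨r, hr⟩ := exists_toK_eq (divVal t * (resU hV f : Γ(Mero.kmod X, V))) fun y =>
      (divCond_iff (g := uval (resU hV f) y) ((hf ⟨y.1, hV y.2⟩).trans (germOf_resU hV f y).symm)
        _).1 (divVal_cond t y)
    refine ⟨r, divVal_injective D V ?_⟩
    change divVal (r • res _ hV e) = divVal t
    rw [divVal_smul, ksmul_eq, hr, divVal_res, he, ← resU_coe]
    have : resU hV f⁻¹ = (resU hV f)⁻¹ := map_inv _ f
    rw [this, Units.mul_inv_cancel_right]

theorem isInvertible_divMod (D : Mero.Divisor X) : PicF.IsInvertible (Mero.divMod D) := by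
  refine (isInvertible_iff_exists_gen _).2 fun x => ?_
  obtain ⟨U, hx, f, hf⟩ := exists_rep D x
  obtain ⟨e, -, he⟩ := gen_divMod hf
  exact ⟨U, e, hx, he⟩

/-- Divisors with the same `O_X(D)` are equal. -/
theorem divisor_ext {D D' : Mero.Divisor X}
    (h : ∀ (U : X.Opens) (t : Γ(Mero.kmod X, U)),
      (∀ x : U, Mero.DivCond D x.1 (t.1 x)) ↔ ∀ x : U, Mero.DivCond D' x.1 (t.1 x)) : D = D' := by
  refine Subtype.ext (funext fun x => ?_)
  obtain ⟨U, hxU, f, hf⟩ := exists_rep D x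
  obtain ⟨V, hxV, g, hg⟩ := exists_rep D' x
  let f' := resU (inf_le_left : U ⊓ V ≤ U) f
  let g' := resU (inf_le_right : U ⊓ V ≤ V) g
  have hf' : ∀ y : (U ⊓ V : X.Opens), D.1 y.1 = Mero.germOf f' y := fun y =>
    (hf ⟨y.1, y.2.1⟩).trans (germOf_resU inf_le_left f y).symm
  have hg' : ∀ y : (U ⊓ V : X.Opens), D'.1 y.1 = Mero.germOf g' y := fun y =>
    (hg ⟨y.1, y.2.2⟩).trans (germOf_resU inf_le_right g y).symm
  let y : (U ⊓ V : X.Opens) := ⟨x, hxU, hxV⟩
  obtain ⟨c, hc⟩ := (divCond_iff (g := uval g' y) (hg' y) _).1 ((h _ _).1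
    (fun z => (divCond_iff (g := uval f' z) (hf' z)
      (((f'⁻¹ : (Γ(Mero.kmod X, (U ⊓ V : X.Opens)))ˣ) : Γ(Mero.kmod X, U ⊓ V)).1 z)).2
        ⟨1, by rw [map_one, ← uval_inv_coe, Units.inv_mul]⟩) y)
  obtain ⟨d, hd⟩ := (divCond_iff (g := uval f' y) (hf' y) _).1 ((h _ _).2
    (fun z => (divCond_iff (g := uval g' z) (hg' z)
      (((g'⁻¹ : (Γ(Mero.kmod X, (U ⊓ V : X.Opens)))ˣ) : Γ(Mero.kmod X, U ⊓ V)).1 z)).2
        ⟨1, by rw [map_one, ← uval_inv_coe, Units.inv_mul]⟩) y)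
  rw [← uval_inv_coe] at hc hd
  have hcd : c * d = 1 := by
    refine toKStalk_injective _ ?_
    have key : ∀ a a' b b' : Mero.KStalk X y.1, a' * b * (b' * a) = a' * a * (b * b') :=
      fun a a' b b' => by ring
    rw [map_mul, hc, hd, map_one, key, Units.inv_mul, Units.mul_inv, mul_one]
  rw [hf' y, hg' y]
  refine QuotientGroup.eq.2 ⟨⟨c, d, hcd, mul_comm c d ▸ hcd⟩, Units.ext ?_⟩
  exact hc

end Groth.PicAux
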