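import Groth.Agent.PicAux.MeroBasic
import Groth.Agent.PicAux.TensorLift
import Groth.Agent.PicAux.GenLocal
import Groth.Agent.PicAux.GenLocus
import Groth.Prelude.Def_PicGrp
import Groth.Agent.QCohMod.Category
import Mathlib.AlgebraicGeometry.Morphisms.QuasiSeparated

/-!
# Divisors and their modules: sums, linear equivalence, fractional ideals, domains of definition
-/

universe u

open CategoryTheory AlgebraicGeometry Opposite TopologicalSpace

namespace Groth.PicAux

variable {X : Scheme.{u}}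

/-- A morphism carrying local bases to local bases is an isomorphism. -/
theorem isIso_of_gen {L M : X.Modules} {ι : Type*} {U : ι → X.Opens} (hU : iSup U = ⊤)
    (s : ∀ i, Γ(L, U i)) (hs : ∀ i, Gen L (U i) (s i)) (φ : L ⟶ M)
    (h : ∀ i, Gen M (U i) (φ.app (U i) (s i))) : IsIso φ :=
  isIso_of_cover hU φ fun i V hV => by
    have e : (φ.app V : Γ(L, V) → Γ(M, V)) ∘ (fun r : Γ(X, V) => r • res L hV (s i)) =
        fun r => r • res M hV (φ.app (U i) (s i)) := by
      funext r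
      simp [app_res]
    have := h i V hV
    rw [← e] at this
    exact (Function.Bijective.of_comp_iff _ (hs i V hV)).1 this

theorem eq_divVal_inv_iff {D : Mero.Divisor X} {U : X.Opens} {f : (Γ(Mero.kmod X, U))ˣ}
    (hf : ∀ y : U, D.1 y.1 = Mero.germOf f y) {e : Γ(Mero.divMod D, U)}
    (he : divVal e = ((f⁻¹ : (Γ(Mero.kmod X, U))ˣ) : Γ(Mero.kmod X, U))) :
    Gen (Mero.divMod D) U e := by
  obtain ⟨e', he', hg⟩ := gen_divMod hf
  rwa [divVal_injective D U (he.trans he'.symm)]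

/-- Common local representatives of two divisors. -/
theorem exists_rep₂ (D E : Mero.Divisor X) (x : X) :
    ∃ (U : X.Opens) (_ : x ∈ U) (f g : (Γ(Mero.kmod X, U))ˣ),
      (∀ y : U, D.1 y.1 = Mero.germOf f y) ∧ ∀ y : U, E.1 y.1 = Mero.germOf g y := by
  obtain ⟨U, hxU, f, hf⟩ := exists_rep D x
  obtain ⟨V, hxV, g, hg⟩ := exists_rep E x
  exact ⟨U ⊓ V, ⟨hxU, hxV⟩, resU inf_le_left f, resU inf_le_right g,
    fun y => (hf ⟨y.1, y.2.1⟩).trans (germOf_resU inf_le_left f y).symm,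
    fun y => (hg ⟨y.1, y.2.2⟩).trans (germOf_resU inf_le_right g y).symm⟩

theorem germ_mul_rep {D E : Mero.Divisor X} {U : X.Opens} {f g : (Γ(Mero.kmod X, U))ˣ}
    (hf : ∀ y : U, D.1 y.1 = Mero.germOf f y) (hg : ∀ y : U, E.1 y.1 = Mero.germOf g y) (y : U) :
    (D * E).1 y.1 = Mero.germOf (f * g) y := by
  rw [germOf_mul, ← hf y, ← hg y]
  rfl

theorem divCond_mul {D E : Mero.Divisor X} {x : X} {t t' : Mero.KStalk X x}
    (h : Mero.DivCond D x t) (h' : Mero.DivCond E x t') : Mero.DivCond (D * E) x (t * t') := by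
  obtain ⟨g, hg⟩ := QuotientGroup.mk_surjective (D.1 x)
  obtain ⟨g', hg'⟩ := QuotientGroup.mk_surjective (E.1 x)
  obtain ⟨a, ha⟩ := (divCond_iff hg.symm _).1 h
  obtain ⟨b, hb⟩ := (divCond_iff hg'.symm _).1 h'
  refine (divCond_iff (g := g * g') ?_ _).2 ⟨a * b, ?_⟩
  · rw [QuotientGroup.mk_mul, hg, hg']
    rfl
  · rw [map_mul, ha, hb, Units.val_mul]
    ring

/-- Multiplication `O_X(D) ⊗ O_X(E) ⟶ O_X(DE)`; it is an isomorphism. -/
theorem exists_divMod_mul (D E : Mero.Divisor X) :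
    ∃ μ : CohB1.tensorMod (Mero.divMod D) (Mero.divMod E) ⟶ Mero.divMod (D * E),
      (∀ (U : X.Opens) (t : Γ(Mero.divMod D, U)) (t' : Γ(Mero.divMod E, U)),
        divVal (μ.app U (tmulSec t t')) = divVal t * divVal t') ∧ IsIso μ := by
  have hex : ∀ (U : X.Opens) (t : Γ(Mero.divMod D, U)) (t' : Γ(Mero.divMod E, U)),
      ∃ w : Γ(Mero.divMod (D * E), U), divVal w = divVal t * divVal t' := fun U t t' =>
    exists_divVal_eq fun y => divCond_mul (divVal_cond t y) (divVal_cond t' y)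
  choose w hw using hex
  let T (W : X.Opens) : Γ(Mero.divMod D, W) →ₗ[Γ(X, W)] Γ(Mero.divMod E, W) →ₗ[Γ(X, W)]
      Γ(Mero.divMod (D * E), W) :=
    LinearMap.mk₂ _ (w W)
      (fun a a' b => divVal_injective _ _ (by
        rw [divVal_add, hw, hw, hw, divVal_add, add_mul]))
      (fun r a b => divVal_injective _ _ (by
        rw [divVal_smul, hw, hw, divVal_smul, ksmul_eq, ksmul_eq, mul_assoc]))
      (fun a b b' => divVal_injective _ _ (by
        rw [divVal_add, hw, hw, hw, divVal_add, mul_add]))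
      (fun r a b => divVal_injective _ _ (by
        rw [divVal_smul, hw, hw, divVal_smul, ksmul_eq, ksmul_eq, mul_left_comm]))
  obtain ⟨μ, hμ⟩ := exists_tensor_lift T fun W W' h a b => divVal_injective _ _ (by
    change divVal (res _ h (w W a b)) = divVal (w W' _ _)
    rw [divVal_res, hw, hw, divVal_res, divVal_res]
    exact map_mul ((Mero.kring X).obj.map (homOfLE h).op).hom _ _)
  have hμ' : ∀ (U : X.Opens) t t', divVal (μ.app U (tmulSec t t')) = divVal t * divVal t' :=
    fun U t t' => (congrArg divVal (hμ U t t')).trans (hw U t t')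
  refine ⟨μ, hμ', ?_⟩
  choose U hxU f g hf hg using fun x : X => exists_rep₂ D E x
  choose a hva ha using fun x => gen_divMod (hf x)
  choose b hvb hb using fun x => gen_divMod (hg x)
  refine isIso_of_gen (U := U) (eq_top_iff.2 fun x _ => Opens.mem_iSup.2 ⟨x, hxU x⟩)
    (fun x => tmulSec (a x) (b x)) (fun x => (ha x).tensor (hb x)) μ fun x =>
      eq_divVal_inv_iff (germ_mul_rep (hf x) (hg x)) ?_
  rw [hμ', hva, hvb, mul_inv, Units.val_mul]

/-- Linearly equivalent divisors have isomorphic modules. -/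
theorem nonempty_iso_of_linEquiv {D D' : Mero.Divisor X} (h : Mero.LinEquiv D D') :
    Nonempty (Mero.divMod D ≅ Mero.divMod D') := by
  obtain ⟨f, hf⟩ := h
  have hd : D = Mero.div f * D' := by rw [← hf, inv_mul_cancel_right]
  obtain ⟨μ, -, hiso⟩ := exists_divMod_mul (Mero.div f) D'
  have htop : Gen (Mero.divMod (Mero.div f)) ⊤ _ := (gen_divMod (D := Mero.div f) (f := f)
    (fun _ => rfl)).choose_spec.2
  obtain ⟨i⟩ := nonempty_iso_structure_iff.2 ⟨_, htop⟩
  obtain ⟨j, -⟩ := exists_leftUnitor (Mero.divMod D')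
  subst hd
  exact ⟨(asIso μ).symm ≪≫ PicGrp.tensorModIso i (Iso.refl _) ≪≫ j⟩

/-- An invertible submodule of the sheaf of meromorphic functions is locally generated by a unit. -/
theorem isInvertible_iff_range {J : X.Modules} (ι : J ⟶ Mero.kmod X) [Mono ι] :
    PicF.IsInvertible J ↔ ∀ x : X, ∃ (U : X.Opens) (_ : x ∈ U) (f : (Γ(Mero.kmod X, U))ˣ),
      ∀ (V : X.Opens) (hV : V ≤ U), Set.range (ι.app V) =
        {t : Γ(Mero.kmod X, V) | ∃ r : Γ(X, V),
          t = Mero.toK X V r * res (Mero.kmod X) hV (f : Γ(Mero.kmod X, U))} := by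
  have hinj : ∀ V, Function.Injective (ι.app V) := fun V => QCohMod.app_injective_of_mono ι V
  constructor
  · intro hJ x
    obtain ⟨U, e, hxU, he⟩ := (isInvertible_iff_exists_gen _).1 hJ x
    obtain ⟨W, hW, a, b, hxW, hab⟩ := exists_kfr (ι.app U e) x hxU
    have key : ∀ (V : X.Opens) (h : V ≤ W) (r : Γ(X, V)),
        r * resX X h a = 0 → r = 0 := by
      intro V h r hr
      refine (he.smul_inj (h.trans hW) (r' := 0) (hinj V ?_))
      rw [zero_smul, map_zero, Scheme.Modules.Hom.app_smul, app_res, ← res_res hW h, hab, ksmul_eq]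
      refine kext fun y => ?_
      rw [Mero.kmod_mul_apply, toK_apply', kres_apply]
      refine (isUnit_toKStalk (Mero.regGerm (⟨y.1, h y.2⟩ : W) b)).mul_left_injective ?_
      change _ * (kfr a b).1 _ * _ = 0 * _
      rw [zero_mul, mul_assoc]
      erw [kfr_mul_toKStalk a b ⟨y.1, h y.2⟩]
      rw [← map_mul, ← germ_resX h y.1 y.2 a, ← map_mul, hr, map_zero, map_zero]
    have ha : a ∈ Mero.regSub X W := fun y => mem_nonZeroDivisors_iff_right.2 fun c hc => by
      obtain ⟨V', hyV', c', rfl⟩ := TopCat.Presheaf.exists_germ_eq X.presheaf c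
      let c₀ : Γ(X, V' ⊓ W) := resX X inf_le_left c'
      obtain ⟨V, hyV, i, j, heq⟩ := TopCat.Presheaf.germ_eq X.presheaf (U := V' ⊓ W) (V := V' ⊓ W) y.1
        ⟨hyV', y.2⟩ ⟨hyV', y.2⟩
        (c₀ * resX X inf_le_right a) 0 (by rw [map_mul, map_zero, germ_resX, germ_resX]; exact hc)
      have heq' : resX X i.le (c₀ * resX X inf_le_right a) = 0 := heq.trans (map_zero _)
      simp only [c₀, map_mul, resX_resX] at heq'
      have := congrArg (X.presheaf.germ V y.1 hyV) (key V _ _ heq')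
      simpa [c₀, germ_resX] using this
    refine ⟨W, hxW, regUnit ⟨a, ha⟩ * (regUnit b)⁻¹, fun V hV => ?_⟩
    have hf : ι.app W (res J hW e) =
        ((regUnit ⟨a, ha⟩ * (regUnit b)⁻¹ : (Γ(Mero.kmod X, W))ˣ) : Γ(Mero.kmod X, W)) := by
      rw [app_res, hab, Units.val_mul, Units.eq_mul_inv_iff_mul_eq]
      exact kfr_mul_toK a b
    have hval : ∀ r : Γ(X, V), ι.app V (r • res J (hV.trans hW) e) =
        Mero.toK X V r * res (Mero.kmod X) hV
          ((regUnit ⟨a, ha⟩ * (regUnit b)⁻¹ : (Γ(Mero.kmod X, W))ˣ) : Γ(Mero.kmod X, W)) := fun r => by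
      rw [Scheme.Modules.Hom.app_smul, ksmul_eq, ← hf, ← app_res, res_res]
    ext t
    constructor
    · rintro ⟨z, rfl⟩
      obtain ⟨r, rfl⟩ := he.exists_coeff (hV.trans hW) z
      exact ⟨r, hval r⟩
    · rintro ⟨r, rfl⟩
      exact ⟨_, hval r⟩
  · intro h
    refine (isInvertible_iff_exists_gen _).2 fun x => ?_
    obtain ⟨U, hxU, f, hf⟩ := h x
    obtain ⟨e, he⟩ : (f : Γ(Mero.kmod X, U)) ∈ Set.range (ι.app U) := by
      rw [hf U le_rfl]
      exact ⟨1, by rw [map_one, one_mul, res_self]⟩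
    refine ⟨U, e, hxU, fun V hV => ⟨fun r r' hr => ?_, fun z => ?_⟩⟩
    · have h1 := congrArg (ι.app V) hr
      rw [Scheme.Modules.Hom.app_smul, Scheme.Modules.Hom.app_smul, app_res, he, ksmul_eq, ksmul_eq,
        ← resU_coe hV f] at h1
      exact toK_injective V ((Units.mul_left_inj _).1 h1)
    · have hmem : ι.app V z ∈ Set.range (ι.app V) := ⟨z, rfl⟩
      rw [hf V hV] at hmem
      obtain ⟨r, hr⟩ := hmem
      exact ⟨r, hinj V (by rw [Scheme.Modules.Hom.app_smul, app_res, he, ksmul_eq, hr])⟩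

/-- Restriction of meromorphic functions to a schematically dense open is injective. -/
theorem res_kmod_injective {U V : X.Opens} (hVU : V ≤ U)
    (hV : ∀ W : X.Opens, W ≤ U → Function.Injective (resX X (inf_le_left : W ⊓ V ≤ W))) :
    Function.Injective (res (Mero.kmod X) hVU) := by
  intro s t hst
  refine sub_eq_zero.1 (kext fun y => ?_)
  obtain ⟨W, hW, a, b, hyW, hab⟩ := exists_kfr (s - t) y.1 y.2
  have ha : a = 0 := by
    refine hV W hW ?_
    rw [map_zero]
    refine TopCat.Presheaf.section_ext X.sheaf _ _ _ fun z hz => ?_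
    change X.presheaf.germ _ z hz (resX X inf_le_left a) = X.presheaf.germ _ z hz 0
    rw [germ_resX, map_zero]
    refine toKStalk_injective z ?_
    rw [map_zero, ← kfr_mul_toKStalk a b ⟨z, hz.1⟩, ← hab, kres_apply]
    have h1 : (s - t).1 ⟨z, hW hz.1⟩ = 0 := by
      have h2 : res (Mero.kmod X) hVU (s - t) = 0 := by
        change (Mero.kmod X).presheaf.map (homOfLE hVU).op (s - t) = 0
        exact (map_sub _ s t).trans (sub_eq_zero.2 hst)
      exact congr(($h2).1 ⟨z, hz.2⟩)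
    rw [h1, zero_mul]
  change (s - t).1 y = 0
  have h3 : (s - t).1 y = (kfr a b).1 ⟨y.1, hyW⟩ := by rw [← hab]; rfl
  rw [h3, ha]
  change (LocalizedModule.mk _ _ : Mero.KStalk X y.1) = 0
  rw [map_zero, LocalizedModule.zero_mk]

/-- The domain of definition of a meromorphic function is open and schematically dense. -/
theorem exists_domain (f : Γ(Mero.kmod X, ⊤)) :
    ∃ D : X.Opens, (D : Set X) = {x | f.1 ⟨x, Opens.mem_top x⟩ ∈ (toKStalk x).range} ∧
      ∀ V : X.Opens, Function.Injective (resX X (inf_le_left : V ⊓ D ≤ V)) := by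
  let S := {x : X | f.1 ⟨x, Opens.mem_top x⟩ ∈ (toKStalk x).range}
  have hopen : IsOpen S := by
    refine isOpen_iff_forall_mem_open.2 fun x hx => ?_
    obtain ⟨V, hV, a, b, hxV, hab⟩ := exists_kfr f x trivial
    obtain ⟨c, hc⟩ := hx
    obtain ⟨W, hxW, c', rfl⟩ := TopCat.Presheaf.exists_germ_eq X.presheaf c
    have e : X.presheaf.germ V x hxV a =
        X.presheaf.germ W x hxW c' * X.presheaf.germ V x hxV b.1 := by
      refine toKStalk_injective x ?_
      rw [map_mul, ← kfr_mul_toKStalk a b ⟨x, hxV⟩, ← hab, kres_apply, hc]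
    obtain ⟨W', hxW', i, j, heq⟩ := TopCat.Presheaf.germ_eq X.presheaf x
      (⟨hxW, hxV⟩ : x ∈ W ⊓ V) (⟨hxW, hxV⟩ : x ∈ W ⊓ V) (resX X inf_le_right a)
      (resX X inf_le_left c' * resX X inf_le_right b.1) (by
        rw [map_mul, germ_resX, germ_resX, germ_resX, e])
    have heq' : resX X i.le (resX X inf_le_right a) =
        resX X i.le (resX X inf_le_left c' * resX X inf_le_right b.1) := heq
    refine ⟨W', fun y hy => ?_, W'.2, hxW'⟩
    have hyV : y ∈ V := (i.le hy).2
    have hy' := congrArg (X.presheaf.germ W' y hy) heq'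
    simp only [map_mul, germ_resX] at hy'
    refine ⟨X.presheaf.germ W y (i.le hy).1 c',
      (isUnit_toKStalk (Mero.regGerm ⟨y, hyV⟩ b)).mul_left_injective ?_⟩
    change toKStalk y _ * toKStalk y (X.presheaf.germ V y hyV b.1) =
      f.1 ⟨y, _⟩ * toKStalk y (X.presheaf.germ V y hyV b.1)
    rw [← map_mul, ← hy', ← kfr_mul_toKStalk a b ⟨y, hyV⟩, ← hab, kres_apply]
  refine ⟨⟨S, hopen⟩, rfl, fun V r r' hr => TopCat.Presheaf.section_ext X.sheaf _ _ _ fun x hx => ?_⟩
  obtain ⟨W₀, hW₀, a, b, hxW₀, hab⟩ := exists_kfr f x trivial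
  obtain ⟨_, ⟨W, hW, rfl⟩, hxW, hWle⟩ :=
    X.isBasis_affineOpens.exists_subset_of_mem_open (show x ∈ V ⊓ W₀ from ⟨hx, hxW₀⟩) (V ⊓ W₀).2
  have hWV : W ≤ V := fun z hz => (hWle hz).1
  have hWW₀ : W ≤ W₀ := fun z hz => (hWle hz).2
  set g := resX X hWW₀ b.1 with hgdef
  have hle : X.basicOpen g ≤ V ⊓ (⟨S, hopen⟩ : X.Opens) := fun z hz => by
    have hzW := X.basicOpen_le g hz
    refine ⟨hWV hzW, ?_⟩
    have hu := (X.mem_basicOpen g z hzW).1 hz
    rw [hgdef, germ_resX] at hu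
    refine ⟨X.presheaf.germ W₀ z (hWW₀ hzW) a * (hu.unit⁻¹ : (X.presheaf.stalk z)ˣ),
      (isUnit_toKStalk (Mero.regGerm ⟨z, hWW₀ hzW⟩ b)).mul_left_injective ?_⟩
    change toKStalk z _ * toKStalk z (X.presheaf.germ W₀ z (hWW₀ hzW) b.1) = _
    rw [← map_mul, mul_assoc, IsUnit.val_inv_mul, mul_one]
    change _ = f.1 ⟨z, _⟩ * toKStalk z (X.presheaf.germ W₀ z (hWW₀ hzW) b.1)
    rw [← kfr_mul_toKStalk a b ⟨z, hWW₀ hzW⟩, ← hab, kres_apply]
  have h0 : resX X (X.basicOpen_le g) (resX X hWV (r - r')) = 0 := by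
    have := congrArg (resX X hle) hr
    rw [resX_resX, resX_resX] at this
    rw [resX_resX, map_sub, sub_eq_zero]
    exact this
  obtain ⟨n, hn⟩ := exists_pow_mul_eq_zero_of_res_basicOpen_eq_zero_of_isCompact X hW.isCompact
    (resX X hWV (r - r')) g h0
  have h2 := congrArg (X.presheaf.germ W x hxW) hn
  rw [map_mul, map_pow, map_zero, hgdef, germ_resX, germ_resX, map_sub, mul_comm] at h2
  exact sub_eq_zero.1 (mem_nonZeroDivisors_iff_right.1 (pow_mem (b.2 ⟨x, hWW₀ hxW⟩) n) _ h2)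

end Groth.PicAux
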