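import Groth.Agent.PicAux.MeroLine
import Groth.Agent.PicAux.GenLocal
import Groth.Agent.PicAux.QCoh
import Groth.Agent.Divisors.AssocNzd
import Groth.Agent.PropsBasic2.SchTop

/-!
# Functions on schematically dense opens are meromorphic; divisors and invertible modules
-/

universe u

open CategoryTheory AlgebraicGeometry Opposite TopologicalSpace

namespace Groth.PicAux

variable {X : Scheme.{u}}

/-- A function vanishing where a regular function is invertible vanishes. -/
theorem eq_zero_of_res_basicOpen {U : X.Opens} (b : Mero.regSub X U) (r : Γ(X, U))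
    (h : resX X (X.basicOpen_le b.1) r = 0) : r = 0 := by
  refine TopCat.Presheaf.section_ext X.sheaf _ _ _ fun x hx => ?_
  obtain ⟨_, ⟨W, hW, rfl⟩, hxW, hWle⟩ := X.isBasis_affineOpens.exists_subset_of_mem_open hx U.2
  have hWU : W ≤ U := hWle
  have hle : X.basicOpen (resX X hWU b.1) ≤ X.basicOpen b.1 :=
    (X.basicOpen_res b.1 (homOfLE hWU).op).le.trans inf_le_right
  have h0 : resX X (X.basicOpen_le (resX X hWU b.1)) (resX X hWU r) = 0 := by
    have := congrArg (resX X hle) h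
    rw [resX_resX, map_zero] at this
    rw [resX_resX]
    exact this
  obtain ⟨n, hn⟩ := exists_pow_mul_eq_zero_of_res_basicOpen_eq_zero_of_isCompact X hW.isCompact
    (resX X hWU r) (resX X hWU b.1) h0
  have h2 := congrArg (X.presheaf.germ W x hxW) hn
  rw [map_mul, map_pow, map_zero, germ_resX, germ_resX, mul_comm] at h2
  exact (mem_nonZeroDivisors_iff_right.1 (pow_mem (b.2 ⟨x, hx⟩) n) _ h2).trans (map_zero _).symm

/-- Every open of `U` restricts injectively to `V`. -/
abbrev SchemDense (U V : X.Opens) : Prop :=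
  ∀ W : X.Opens, W ≤ U → Function.Injective (resX X (inf_le_left : W ⊓ V ≤ W))

/-- Near every point there is a regular function invertible only inside `V`. -/
def HasDenominators (U V : X.Opens) : Prop :=
  ∀ x ∈ U, ∃ (W : X.affineOpens) (b : Mero.regSub X W.1), x ∈ W.1 ∧ W.1 ≤ U ∧ X.basicOpen b.1 ≤ V

/-- Functions on a schematically dense open extend to meromorphic functions. -/
theorem exists_mero_extend {U V : X.Opens} (hVU : V ≤ U) (hd : SchemDense U V)
    (hb : HasDenominators U V) (g : Γ(X, V)) :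
    ∃ s : Γ(Mero.kmod X, U), res (Mero.kmod X) hVU s = Mero.toK X V g := by
  choose W b hxW hWU hbV using fun x : U => hb x.1 x.2
  have key : ∀ x, ∃ s : Γ(Mero.kmod X, (W x).1),
      res (Mero.kmod X) (inf_le_left : (W x).1 ⊓ V ≤ (W x).1) s =
        res (Mero.kmod X) (inf_le_right : (W x).1 ⊓ V ≤ V) (Mero.toK X V g) := by
    intro x
    have := (W x).2.isLocalization_basicOpen (b x).1
    obtain ⟨⟨a, c⟩, hac⟩ := IsLocalization.surj (Submonoid.powers (b x).1)
      (resX X (hbV x) g)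
    obtain ⟨c, n, rfl⟩ := c
    have hac' : resX X (hbV x) g * resX X (X.basicOpen_le (b x).1) ((b x).1 ^ n) =
        resX X (X.basicOpen_le (b x).1) a := hac
    let bn : Mero.regSub X (W x).1 := (b x) ^ n
    refine ⟨kfr a bn, ?_⟩
    have e : resX X (inf_le_left : (W x).1 ⊓ V ≤ (W x).1) a =
        resX X (inf_le_right : (W x).1 ⊓ V ≤ V) g * resX X inf_le_left bn.1 := by
      refine sub_eq_zero.1 (eq_zero_of_res_basicOpen
        ⟨resX X inf_le_left (b x).1, Mero.regSub_res (homOfLE inf_le_left) (b x).2⟩ _ ?_)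
      have hle : X.basicOpen (resX X (inf_le_left : (W x).1 ⊓ V ≤ (W x).1) (b x).1) ≤
          X.basicOpen (b x).1 :=
        (X.basicOpen_res (b x).1 (homOfLE inf_le_left).op).le.trans inf_le_right
      have := congrArg (resX X hle) hac'
      rw [map_mul, resX_resX, resX_resX, resX_resX] at this
      rw [map_sub, map_mul, resX_resX, resX_resX, resX_resX, sub_eq_zero]
      exact this.symm
    refine kext fun y => ?_
    rw [kres_apply, kres_apply, toK_apply']
    refine (isUnit_toKStalk (Mero.regGerm (⟨y.1, y.2.1⟩ : ((W x).1 : X.Opens)) bn)).mul_left_injective ?_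
    change (kfr a bn).1 _ * toKStalk y.1 (X.presheaf.germ (W x).1 y.1 y.2.1 bn.1) =
      _ * toKStalk y.1 (X.presheaf.germ (W x).1 y.1 y.2.1 bn.1)
    erw [kfr_mul_toKStalk a bn ⟨y.1, y.2.1⟩]
    rw [← map_mul]
    have h3 := congrArg (X.presheaf.germ ((W x).1 ⊓ V) y.1 y.2) e
    rw [map_mul, germ_resX, germ_resX, germ_resX] at h3
    exact congrArg _ h3
  choose s hs using key
  have hinj : ∀ {A B : X.Opens} (hA : A ≤ U) (h : B ≤ A), B = A ⊓ V →
      Function.Injective (res (Mero.kmod X) h) := by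
    intro A B hA h e
    subst e
    refine res_kmod_injective inf_le_left fun Z hZ => ?_
    have h1 : Function.Injective (resX X (inf_le_left : Z ⊓ V ≤ Z)) := hd Z (hZ.trans hA)
    intro p q hpq
    refine h1 ?_
    have hle : Z ⊓ V ≤ Z ⊓ (A ⊓ V) := le_inf inf_le_left (le_inf (inf_le_left.trans hZ) inf_le_right)
    have := congrArg (resX X hle) hpq
    rwa [resX_resX, resX_resX] at this
  have hc : U ≤ ⨆ x, (W x).1 := fun x hx => Opens.mem_iSup.2 ⟨⟨x, hx⟩, hxW ⟨x, hx⟩⟩
  obtain ⟨σ, hσ, -⟩ := res_glue (M := Mero.kmod X) (fun x => (W x).1) hWU hc s fun i j => by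
    refine hinj (inf_le_left.trans (hWU i))
      (inf_le_left : ((W i).1 ⊓ (W j).1) ⊓ V ≤ (W i).1 ⊓ (W j).1) rfl ?_
    have e1 := congrArg (res (Mero.kmod X)
      (inf_le_inf_right V inf_le_left : ((W i).1 ⊓ (W j).1) ⊓ V ≤ (W i).1 ⊓ V)) (hs i)
    have e2 := congrArg (res (Mero.kmod X)
      (inf_le_inf_right V inf_le_right : ((W i).1 ⊓ (W j).1) ⊓ V ≤ (W j).1 ⊓ V)) (hs j)
    simp only [res_res] at e1 e2 ⊢
    rw [e1, e2]
  refine ⟨σ, res_ext (fun x => (W x).1 ⊓ V) (fun _ => inf_le_right) ?_ fun x => ?_⟩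
  · intro v hv
    exact Opens.mem_iSup.2 ⟨⟨v, hVU hv⟩, hxW _, hv⟩
  · rw [res_res, ← hs x, ← res_res (hWU x) inf_le_left, hσ]

/-- Prime avoidance: denominators exist when the associated primes are finitely many. -/
theorem exists_regular_of_primes {U V : X.Opens} {W : X.Opens} (hW : IsAffineOpen W) (hWU : W ≤ U)
    (hd : SchemDense U V) (S : Set (Ideal Γ(X, W))) (hS : S.Finite)
    (hprime : ∀ p ∈ S, p.IsPrime)
    (hann : ∀ p ∈ S, ∃ z : Γ(X, W), z ≠ 0 ∧ ∀ r ∈ p, r * z = 0)
    (hnzd : ∀ r : Γ(X, W), (∀ p ∈ S, r ∉ p) → r ∈ nonZeroDivisors Γ(X, W)) :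
    ∃ b : Mero.regSub X W, X.basicOpen b.1 ≤ V := by
  let J : Ideal Γ(X, W) :=
    { carrier := {r | X.basicOpen r ≤ V}
      add_mem' := fun {r s} hr hs z hz => by
        have hzW := X.basicOpen_le _ hz
        have hu := (X.mem_basicOpen (r + s) z hzW).1 hz
        rw [map_add] at hu
        rcases IsLocalRing.isUnit_or_isUnit_of_isUnit_add hu with h | h
        · exact hr ((X.mem_basicOpen r z hzW).2 h)
        · exact hs ((X.mem_basicOpen s z hzW).2 h)
      zero_mem' := fun z hz => by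
        have hu := (X.mem_basicOpen (0 : Γ(X, W)) z (X.basicOpen_le _ hz)).1 hz
        rw [map_zero] at hu
        exact absurd hu not_isUnit_zero
      smul_mem' := fun c r hr z hz => by
        rw [smul_eq_mul, X.basicOpen_mul] at hz
        exact hr hz.2 }
  have hJ : ¬ (J : Set Γ(X, W)) ⊆ ⋃ p ∈ (hS.toFinset : Set (Ideal Γ(X, W))), (p : Set Γ(X, W)) := by
    intro hsub
    obtain ⟨p, hp, hJp⟩ := (J.subset_union_prime (f := id) ⊥ ⊥ fun p hp _ _ =>
      hprime p (hS.mem_toFinset.1 hp)).1 hsub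
    obtain ⟨z, hz0, hz⟩ := hann p (hS.mem_toFinset.1 hp)
    refine hz0 (hd W hWU ?_)
    rw [map_zero]
    refine TopCat.Presheaf.section_ext X.sheaf _ _ _ fun y hy => ?_
    change X.presheaf.germ _ y hy (resX X inf_le_left z) = X.presheaf.germ _ y hy 0
    rw [germ_resX, map_zero]
    obtain ⟨r, hr, hyr⟩ := hW.exists_basicOpen_le (V := V) ⟨y, hy.2⟩ hy.1
    have h1 := congrArg (X.presheaf.germ W y hy.1) (hz r (hJp hr))
    rw [map_mul, map_zero] at h1
    exact ((X.mem_basicOpen r y hy.1).1 hyr).mul_right_eq_zero.1 h1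
  obtain ⟨r, hr, hr'⟩ := Set.not_subset.1 hJ
  have hnz : r ∈ nonZeroDivisors Γ(X, W) := hnzd r fun p hp hrp =>
    hr' (Set.mem_biUnion (hS.mem_toFinset.2 hp) hrp)
  refine ⟨⟨r, fun y => ?_⟩, hr⟩
  let _ : Algebra Γ(X, W) (X.presheaf.stalk y.1) :=
    TopCat.Presheaf.algebra_section_stalk X.presheaf y
  have := hW.isLocalization_stalk y
  exact IsLocalization.map_nonZeroDivisors_le (hW.primeIdealOf y).asIdeal.primeCompl
    (X.presheaf.stalk y.1) ⟨r, hnz, rfl⟩

/-- The locally finite components hypothesis. -/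
abbrev LocFiniteComponents (X : Scheme.{u}) : Prop :=
  ∀ x : X, ∃ W : X.Opens, x ∈ W ∧
    {Z : Set X | Z ∈ irreducibleComponents X ∧ (Z ∩ (W : Set X)).Nonempty}.Finite

theorem finite_minimalPrimes {W₀ W : X.Opens} (hW : IsAffineOpen W) (hle : W ≤ W₀)
    (hfin : {Z : Set X | Z ∈ irreducibleComponents X ∧ (Z ∩ (W₀ : Set X)).Nonempty}.Finite) :
    (minimalPrimes Γ(X, W)).Finite := by
  let g : minimalPrimes Γ(X, W) → Set X := fun p =>
    closure {hW.fromSpec ⟨p.1, p.2.isPrime⟩}
  have hmem : ∀ p, g p ∈ {Z : Set X | Z ∈ irreducibleComponents X ∧ (Z ∩ (W₀ : Set X)).Nonempty} := by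
    intro p
    have hy : hW.fromSpec ⟨p.1, p.2.isPrime⟩ ∈ W := hW.range_fromSpec.le ⟨_, rfl⟩
    have he : hW.primeIdealOf ⟨_, hy⟩ = ⟨p.1, p.2.isPrime⟩ :=
      hW.fromSpec.isOpenEmbedding.injective (hW.fromSpec_primeIdealOf _)
    refine ⟨(PropsBasic2.closure_mem_irreducibleComponents_iff _).2
      ((Divisors.primeIdealOf_minimal_iff hW hy).1 (by rw [he]; exact p.2)), _, subset_closure rfl, hle hy⟩
  have : Finite (minimalPrimes Γ(X, W)) := by
    have := hfin.to_subtype
    refine Finite.of_injective (fun p => (⟨g p, hmem p⟩ :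
      {Z : Set X | Z ∈ irreducibleComponents X ∧ (Z ∩ (W₀ : Set X)).Nonempty})) fun p q h => ?_
    have h1 : g p = g q := congrArg Subtype.val h
    have h2 : hW.fromSpec ⟨p.1, p.2.isPrime⟩ = hW.fromSpec ⟨q.1, q.2.isPrime⟩ :=
      inseparable_iff_closure_eq.2 h1 |>.eq
    exact Subtype.ext (congrArg PrimeSpectrum.asIdeal (hW.fromSpec.isOpenEmbedding.injective h2))
  exact Set.toFinite _

theorem hasDenominators_of_isLocallyNoetherian [IsLocallyNoetherian X] {U V : X.Opens}
    (hd : SchemDense U V) : HasDenominators U V := by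
  intro x hx
  obtain ⟨_, ⟨W, hW, rfl⟩, hxW, hWle⟩ := X.isBasis_affineOpens.exists_subset_of_mem_open hx U.2
  have : IsNoetherianRing Γ(X, W) := IsLocallyNoetherian.component_noetherian ⟨W, hW⟩
  obtain ⟨b, hb⟩ := exists_regular_of_primes hW (show W ≤ U from hWle) hd
    (associatedPrimes Γ(X, W) Γ(X, W)) (associatedPrimes.finite _ _) (fun p hp => hp.isPrime)
    (fun p hp => by
      obtain ⟨hpp, z, hz⟩ := isAssociatedPrime_iff.1 hp
      refine ⟨z, fun h0 => hpp.ne_top ?_, fun r hr => ?_⟩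
      · rw [hz, h0]; simp
      · rw [hz, Submodule.mem_colon_singleton, Submodule.mem_bot] at hr
        exact hr)
    (fun r hr => by
      refine mem_nonZeroDivisors_iff_right.2 fun s hs => ?_
      by_contra hs0
      have hmem : r ∈ ⋃ p ∈ associatedPrimes Γ(X, W) Γ(X, W), (p : Set Γ(X, W)) := by
        rw [biUnion_associatedPrimes_eq_compl_regular]
        exact fun hreg => hs0 (hreg.right_eq_zero_of_smul ((mul_comm r s).trans hs))
      obtain ⟨p, hp, hrp⟩ := Set.mem_iUnion₂.1 hmem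
      exact hr p hp hrp)
  exact ⟨⟨W, hW⟩, b, hxW, hWle, hb⟩

theorem hasDenominators_of_isReduced [IsReduced X] (hX : LocFiniteComponents X) {U V : X.Opens}
    (hd : SchemDense U V) : HasDenominators U V := by
  intro x hx
  obtain ⟨W₀, hxW₀, hfin⟩ := hX x
  obtain ⟨_, ⟨W, hW, rfl⟩, hxW, hWle⟩ :=
    X.isBasis_affineOpens.exists_subset_of_mem_open (show x ∈ U ⊓ W₀ from ⟨hx, hxW₀⟩) (U ⊓ W₀).2
  have hWU : W ≤ U := fun z hz => (hWle hz).1
  have hWW₀ : W ≤ W₀ := fun z hz => (hWle hz).2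
  have hfinS := finite_minimalPrimes hW hWW₀ hfin
  have hrad : sInf (minimalPrimes Γ(X, W)) = ⊥ := by
    have : sInf ((⊥ : Ideal Γ(X, W)).minimalPrimes) = Ideal.radical ⊥ := Ideal.sInf_minimalPrimes
    rw [minimalPrimes, this]
    exact Ideal.isRadical_bot.radical
  classical
  obtain ⟨b, hb⟩ := exists_regular_of_primes hW hWU hd (minimalPrimes Γ(X, W)) hfinS
    (fun p hp => hp.isPrime)
    (fun p hp => by
      have hnle : ¬ ((hfinS.toFinset.erase p).inf id) ≤ p := fun hle => by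
        obtain ⟨q, hq, hqp⟩ := (Ideal.IsPrime.inf_le' (f := id) hp.isPrime).1 hle
        rw [Finset.mem_erase, Set.Finite.mem_toFinset] at hq
        exact hq.1 (le_antisymm hqp (hp.2 ⟨hq.2.isPrime, bot_le⟩ hqp))
      obtain ⟨z, hz, hzp⟩ := SetLike.not_le_iff_exists.1 hnle
      refine ⟨z, fun h0 => hzp (h0 ▸ p.zero_mem), fun r hr => ?_⟩
      refine (Submodule.mem_bot Γ(X, W)).1 (hrad ▸ Submodule.mem_sInf.2 fun q hq => ?_)
      by_cases hqp : q = p
      · subst hqp; exact Ideal.mul_mem_right z q hr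
      · exact Ideal.mul_mem_left q r ((Finset.inf_le (f := id)
          (Finset.mem_erase.2 ⟨hqp, hfinS.mem_toFinset.2 hq⟩)) hz))
    (fun r hr => mem_nonZeroDivisors_iff_right.2 fun s hs => by
      refine (Submodule.mem_bot Γ(X, W)).1 (hrad ▸ Submodule.mem_sInf.2 fun q hq => ?_)
      exact ((hq.isPrime.mul_mem_iff_mem_or_mem).1 (hs ▸ q.zero_mem)).resolve_right (hr q hq))
  exact ⟨⟨W, hW⟩, b, hxW, hWU, hb⟩

/-- An invertible module with a basis on a schematically dense open is some `O_X(D)`. -/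
theorem exists_divisor_of_gen_dense {L : X.Modules} (hL : PicF.IsInvertible L)
    (hb : ∀ U V : X.Opens, SchemDense U V → HasDenominators U V) {U : X.Opens} {e : Γ(L, U)}
    (he : Gen L U e) (hd : SchemDense ⊤ U) :
    ∃ D : Mero.Divisor X, Nonempty (L ≅ Mero.divMod D) := by
  choose W e' hxW he' using fun x : X => (isInvertible_iff_exists_gen _).1 hL x
  have hd' : ∀ x, SchemDense (W x) (W x ⊓ U) := fun x Z hZ p q hpq => by
    refine hd Z le_top ?_
    have := congrArg (resX X (le_inf inf_le_left (le_inf (inf_le_left.trans hZ) inf_le_right) :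
      Z ⊓ U ≤ Z ⊓ (W x ⊓ U))) hpq
    rwa [resX_resX, resX_resX] at this
  choose g hg using fun x => ((he' x).res (inf_le_left : W x ⊓ U ≤ W x)).exists_unit
    (he.res (inf_le_right : W x ⊓ U ≤ U))
  choose σ hσ using fun x => exists_mero_extend inf_le_left (hd' x) (hb _ _ (hd' x))
    ((g x : (Γ(X, W x ⊓ U))ˣ) : Γ(X, W x ⊓ U))
  choose τ hτ using fun x => exists_mero_extend inf_le_left (hd' x) (hb _ _ (hd' x))
    (((g x)⁻¹ : (Γ(X, W x ⊓ U))ˣ) : Γ(X, W x ⊓ U))
  have hinj : ∀ (A : X.Opens), Function.Injective (res (Mero.kmod X) (inf_le_left : A ⊓ U ≤ A)) :=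
    fun A => res_kmod_injective inf_le_left fun Z hZ p q hpq => by
      refine hd Z le_top ?_
      have := congrArg (resX X (le_inf inf_le_left (le_inf (inf_le_left.trans hZ) inf_le_right) :
        Z ⊓ U ≤ Z ⊓ (A ⊓ U))) hpq
      rwa [resX_resX, resX_resX] at this
  have hu : ∀ x, σ x * τ x = 1 := fun x => hinj (W x) (by
    rw [show res (Mero.kmod X) (inf_le_left : W x ⊓ U ≤ W x) (σ x * τ x) = _ from
      map_mul ((Mero.kring X).obj.map (homOfLE inf_le_left).op).hom _ _]
    change res (Mero.kmod X) inf_le_left (σ x) * res (Mero.kmod X) inf_le_left (τ x) = _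
    rw [hσ, hτ]
    refine (map_mul (Mero.toK X _) _ _).symm.trans ?_
    rw [Units.mul_inv, map_one]
    exact (map_one ((Mero.kring X).obj.map (homOfLE inf_le_left).op).hom).symm)
  obtain ⟨D, -, φ, -⟩ := exists_divisor_of_units (U := W)
    (eq_top_iff.2 fun x _ => Opens.mem_iSup.2 ⟨x, hxW x⟩) e' he'
    (fun x => Units.mkOfMulEqOne (σ x) (τ x) (hu x)) fun i j r hr => by
      refine hinj _ ?_
      rw [resU_coe, resU_coe]
      have hij_i : (W i ⊓ W j) ⊓ U ≤ W i ⊓ U := inf_le_inf_right U inf_le_left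
      have hij_j : (W i ⊓ W j) ⊓ U ≤ W j ⊓ U := inf_le_inf_right U inf_le_right
      have e1 := congrArg (res L hij_i) (hg i)
      have e2 := congrArg (res L hij_j) (hg j)
      have e3 := congrArg (res L (inf_le_left : (W i ⊓ W j) ⊓ U ≤ W i ⊓ W j)) hr
      simp only [res_res, res_smul] at e1 e2 e3
      rw [e1, e3, smul_smul] at e2
      have e4 := (he' j).smul_inj (inf_le_left.trans inf_le_right) e2
      change res _ _ (res _ _ (σ j)) = res _ _ (_ * res _ _ (σ i))
      rw [show res (Mero.kmod X) (inf_le_left : (W i ⊓ W j) ⊓ U ≤ W i ⊓ W j)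
          (Mero.toK X _ r * res (Mero.kmod X) inf_le_left (σ i)) = _ from
        map_mul ((Mero.kring X).obj.map (homOfLE inf_le_left).op).hom _ _]
      change _ = res (Mero.kmod X) inf_le_left (Mero.toK X _ r) *
        res (Mero.kmod X) inf_le_left (res (Mero.kmod X) inf_le_left (σ i))
      rw [res_res, res_res, ← res_res inf_le_left hij_j, hσ j, ← res_res inf_le_left hij_i, hσ i,
        res_toK, res_toK, res_toK]
      refine Eq.trans ?_ (map_mul (Mero.toK X _) _ _)
      rw [← e4, mul_comm]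
  exact ⟨D, ⟨φ⟩⟩

/-- A set of points containing the weakly associated points is schematically dense. -/
theorem schemDense_top_of_weakAss {U : X.Opens}
    (h : ∀ x : X, Curv2.IsWeakAssPoint (Coh.structureModule X) x → x ∈ U) : SchemDense ⊤ U := by
  intro W _ p q hpq
  refine sub_eq_zero.1 (Divisors.eq_zero_of_germ_weakAss_structure _ fun x hx hwa => ?_)
  have := congrArg (X.presheaf.germ (W ⊓ U) x ⟨hx, h x hwa⟩) hpq
  rw [germ_resX, germ_resX] at this
  rw [map_sub, this, sub_self]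

/-- Case of associated points contained in an affine open. -/
theorem exists_divisor_of_ass_affine [IsLocallyNoetherian X] {L : X.Modules}
    (hL : PicF.IsInvertible L) {W : X.Opens} (hW : IsAffineOpen W)
    (hX : ∀ x : X, Curv2.IsWeakAssPoint (Coh.structureModule X) x → x ∈ W) :
    ∃ D : Mero.Divisor X, Nonempty (L ≅ Mero.divMod D) := by
  classical
  have : IsNoetherianRing Γ(X, W) := IsLocallyNoetherian.component_noetherian ⟨W, hW⟩
  let A := {x : X | Curv2.IsWeakAssPoint (Coh.structureModule X) x}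
  have hAfin : A.Finite := by
    have : Module.Finite Γ(X, W) Γ(Coh.structureModule X, W) := Module.Finite.self Γ(X, W)
    have hfin := associatedPrimes.finite Γ(X, W) Γ(Coh.structureModule X, W)
    have : IsNoetherianRing Γ(X, W) := inferInstance
    have := hfin.to_subtype
    have hmem : ∀ x : A, (hW.primeIdealOf ⟨x.1, hX x.1 x.2⟩).asIdeal ∈
        associatedPrimes Γ(X, W) Γ(Coh.structureModule X, W) := fun x => by
      have := (Divisors.isWeakAssPoint_iff_weakAss (Divisors.isQCoh_structureModule X) hW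
        (hX x.1 x.2)).1 x.2
      rwa [Calg5.weakAss_eq_associatedPrimes] at this
    have : Finite A := Finite.of_injective
      (fun x => (⟨_, hmem x⟩ : associatedPrimes Γ(X, W) Γ(Coh.structureModule X, W))) fun x y h => by
        have h1 := congrArg hW.fromSpec (PrimeSpectrum.ext (congrArg Subtype.val h))
        rw [hW.fromSpec_primeIdealOf, hW.fromSpec_primeIdealOf] at h1
        exact Subtype.ext h1
    exact Set.toFinite _
  let T := hAfin.toFinset.filter fun y => ∀ z ∈ A, y ⤳ z → z = y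
  obtain ⟨U, -, hTU, e, he⟩ := exists_affine_trivial_finset_of_antichain hL T
    (fun x hx y hy hxy => by
      simp only [T, Finset.mem_filter, Set.Finite.mem_toFinset] at hx hy
      exact (hy.2 x hx.1 (specializes_iff_mem_closure.2 hxy)))
    hW (fun x hx => hX x (hAfin.mem_toFinset.1 (Finset.mem_filter.1 hx).1))
  refine exists_divisor_of_gen_dense hL (fun _ _ => hasDenominators_of_isLocallyNoetherian) he
    (schemDense_top_of_weakAss fun x hx => ?_)
  let B := hAfin.toFinset.filter fun z => x ⤳ z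
  obtain ⟨y, hy, hymax⟩ := B.exists_min_image (fun y => (B.filter fun z => y ⤳ z).card)
    ⟨x, Finset.mem_filter.2 ⟨hAfin.mem_toFinset.2 hx, specializes_rfl⟩⟩
  rw [Finset.mem_filter, Set.Finite.mem_toFinset] at hy
  have hyB : y ∈ B := Finset.mem_filter.2 ⟨hAfin.mem_toFinset.2 hy.1, hy.2⟩
  have hyT : y ∈ T := Finset.mem_filter.2 ⟨hAfin.mem_toFinset.2 hy.1, fun z hz hyz => by
    by_contra hne
    have hzB : z ∈ B := Finset.mem_filter.2 ⟨hAfin.mem_toFinset.2 hz, hy.2.trans hyz⟩
    refine not_le.2 (Finset.card_lt_card (Finset.ssubset_iff_subset_ne.2 ⟨fun w hw => ?_, fun h => ?_⟩))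
      (hymax z hzB)
    · rw [Finset.mem_filter] at hw ⊢
      exact ⟨hw.1, hyz.trans hw.2⟩
    · have : y ∈ B.filter fun w => z ⤳ w := by
        rw [h]; exact Finset.mem_filter.2 ⟨hyB, specializes_rfl⟩
      exact hne ((Finset.mem_filter.1 this).2.antisymm hyz).eq⟩
  exact hy.2.mem_open U.2 (hTU y hyT)

/-- Case of a reduced scheme with locally finitely many components. -/
theorem exists_divisor_of_isReduced [IsReduced X] (hX : LocFiniteComponents X) {L : X.Modules}
    (hL : PicF.IsInvertible L) : ∃ D : Mero.Divisor X, Nonempty (L ≅ Mero.divMod D) := by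
  let P := {ξ : X // ∀ y : X, y ⤳ ξ → y = ξ}
  have key : ∀ ξ : P, ∃ (V : X.Opens) (e : Γ(L, V)), ξ.1 ∈ V ∧ Gen L V e ∧
      ∀ η : P, η ≠ ξ → η.1 ∉ V := by
    intro ξ
    obtain ⟨W₀, hW₀, hfin⟩ := hX ξ.1
    obtain ⟨U, e, hU, he⟩ := (isInvertible_iff_exists_gen _).1 hL ξ.1
    let S := {Z : Set X | Z ∈ irreducibleComponents X ∧ (Z ∩ (W₀ : Set X)).Nonempty} \
      {closure {ξ.1}}
    have hcl : IsClosed (⋃ Z ∈ S, Z) := Set.Finite.isClosed_biUnion (hfin.subset Set.sdiff_subset)
      fun Z hZ => isClosed_of_mem_irreducibleComponents Z hZ.1.1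
    let V : X.Opens := U ⊓ W₀ ⊓ ⟨(⋃ Z ∈ S, Z)ᶜ, hcl.isOpen_compl⟩
    refine ⟨V, res L (inf_le_left.trans inf_le_left) e, ⟨⟨hU, hW₀⟩, ?_⟩, he.res _, fun η hη hηV => ?_⟩
    · intro hmem
      obtain ⟨Z, hZ, hξZ⟩ := Set.mem_iUnion₂.1 hmem
      obtain ⟨ζ, hζ⟩ := QuasiSober.sober hZ.1.1.1
        (isClosed_of_mem_irreducibleComponents Z hZ.1.1)
      have h1 := ξ.2 ζ (hζ.specializes hξZ)
      exact hZ.2 (by rw [Set.mem_singleton_iff, ← h1]; exact hζ.def.symm)
    · refine hηV.2 (Set.mem_iUnion₂.2 ⟨closure {η.1}, ⟨⟨?_, η.1, subset_closure rfl, hηV.1.2⟩, ?_⟩,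
        subset_closure rfl⟩)
      · exact (PropsBasic2.closure_mem_irreducibleComponents_iff _).2 η.2
      · exact fun h => hη (Subtype.ext (inseparable_iff_closure_eq.2 h).eq)
  choose V e hV he hdis using key
  have hdisj : ∀ i j, i ≠ j → V i ⊓ V j = ⊥ := by
    intro i j hij
    refine eq_bot_iff.2 fun z hz => ?_
    obtain ⟨ζ, hζ, hζmax⟩ := exists_maximal_generization z
    by_cases h : (⟨ζ, hζmax⟩ : P) = i
    · exact (hdis j ⟨ζ, hζmax⟩ (h ▸ hij) (hζ.mem_open (V j).2 hz.2)).elim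
    · exact (hdis i ⟨ζ, hζmax⟩ h (hζ.mem_open (V i).2 hz.1)).elim
  obtain ⟨e₀, he₀, -⟩ := res_glue V (fun i => le_iSup V i) le_rfl e fun i j => by
    by_cases h : i = j
    · subst h; rfl
    · refine res_ext (fun k : PEmpty.{u + 1} => k.elim) (fun k => k.elim) ?_ fun k => k.elim
      rw [hdisj i j h]; exact bot_le
  exact exists_divisor_of_gen_dense hL (fun _ _ => hasDenominators_of_isReduced hX)
    (Gen.of_cover V (fun i => le_iSup V i) le_rfl fun i => by rw [he₀]; exact he i)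
    (schemDense_top_of_weakAss fun x hx =>
      Opens.mem_iSup.2 ⟨⟨x, Divisors.weakAss_structure_iff_of_reduced.1 hx⟩, hV _⟩)
where
  exists_maximal_generization (z : X) : ∃ ζ : X, ζ ⤳ z ∧ ∀ y : X, y ⤳ ζ → y = ζ := by
    obtain ⟨Z, hZ, hzZ⟩ : ∃ Z ∈ irreducibleComponents X, z ∈ Z :=
      ⟨irreducibleComponent z, irreducibleComponent_mem_irreducibleComponents z,
        mem_irreducibleComponent⟩
    obtain ⟨ζ, hζ⟩ := QuasiSober.sober hZ.1
      (isClosed_of_mem_irreducibleComponents Z hZ)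
    refine ⟨ζ, hζ.specializes hzZ, (PropsBasic2.closure_mem_irreducibleComponents_iff ζ).1 ?_⟩
    rwa [hζ.def]

end Groth.PicAux
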