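import Groth.Agent.PicAux.MeroDivOps
import Groth.Agent.PicAux.EffCartierSection
import Groth.Agent.PicAux.GenLocusOps

/-!
# Line bundles with a section and Cartier divisors
-/

universe u

open CategoryTheory AlgebraicGeometry Opposite TopologicalSpace

namespace Groth.PicAux

variable {X : Scheme.{u}} {L : X.Modules}

/-- A module with local bases `eᵢ` and units `fᵢ` with inverse transition functions is `O_X(D)`. -/
theorem exists_divisor_of_units {ι : Type u} {U : ι → X.Opens} (hU : iSup U = ⊤)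
    (e : ∀ i, Γ(L, U i)) (he : ∀ i, Gen L (U i) (e i)) (f : ∀ i, (Γ(Mero.kmod X, U i))ˣ)
    (hcompat : ∀ i j, ∀ r : Γ(X, U i ⊓ U j),
      res L inf_le_left (e i) = r • res L inf_le_right (e j) →
        ((resU (inf_le_right : U i ⊓ U j ≤ U j) (f j) : (Γ(Mero.kmod X, U i ⊓ U j))ˣ) :
            Γ(Mero.kmod X, U i ⊓ U j)) =
          Mero.toK X _ r * ((resU (inf_le_left : U i ⊓ U j ≤ U i) (f i) :
            (Γ(Mero.kmod X, U i ⊓ U j))ˣ) : Γ(Mero.kmod X, U i ⊓ U j))) :
    ∃ D : Mero.Divisor X, (∀ i (y : U i), D.1 y.1 = Mero.germOf (f i) y) ∧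
      ∃ φ : L ≅ Mero.divMod D, ∀ i, divVal (φ.hom.app (U i) (e i)) =
        (((f i)⁻¹ : (Γ(Mero.kmod X, U i))ˣ) : Γ(Mero.kmod X, U i)) := by
  have hagree : ∀ i j (y : X) (hi : y ∈ U i) (hj : y ∈ U j),
      Mero.germOf (f i) ⟨y, hi⟩ = Mero.germOf (f j) ⟨y, hj⟩ := by
    intro i j y hi hj
    obtain ⟨r, hr⟩ := ((he j).res inf_le_right).exists_unit ((he i).res
      (inf_le_left : U i ⊓ U j ≤ U i))
    refine QuotientGroup.eq.2 ⟨Units.map (X.presheaf.germ (U i ⊓ U j) y ⟨hi, hj⟩).hom.toMonoidHom r,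
      ?_⟩
    rw [eq_inv_mul_iff_mul_eq]
    refine Units.ext ?_
    have := congr(($(hcompat i j r hr)).1 ⟨y, hi, hj⟩)
    rw [Mero.kmod_mul_apply, toK_apply'] at this
    rw [Units.val_mul]
    exact (mul_comm _ _).trans this.symm
  choose k hk using fun x : X => Opens.mem_iSup.1 (hU.ge (Opens.mem_top x))
  let D : Mero.Divisor X := ⟨fun x => Mero.germOf (f (k x)) ⟨x, hk x⟩,
    fun x => ⟨U (k x), hk x, f (k x), fun y => hagree _ _ y.1 _ y.2⟩⟩
  have hD : ∀ i (y : U i), D.1 y.1 = Mero.germOf (f i) y := fun i y => hagree _ _ y.1 _ y.2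
  choose t htv htg using fun i => gen_divMod (hD i)
  obtain ⟨φ, hφ⟩ := exists_iso_of_gen hU e he t htg fun i j r hr => divVal_injective D _ (by
    rw [divVal_res, divVal_smul, divVal_res, htv, htv, ← resU_coe, ← resU_coe, ksmul_eq]
    have h := hcompat i j r hr
    have e1 : resU (inf_le_left : U i ⊓ U j ≤ U i) (f i)⁻¹ = (resU inf_le_left (f i))⁻¹ :=
      map_inv _ _
    have e2 : resU (inf_le_right : U i ⊓ U j ≤ U j) (f j)⁻¹ = (resU inf_le_right (f j))⁻¹ :=
      map_inv _ _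
    rw [e1, e2, Units.eq_mul_inv_iff_mul_eq, h, mul_left_comm, Units.inv_mul, mul_one])
  exact ⟨D, hD, φ, fun i => by rw [hφ, htv]⟩

/-- An affine trivialising chart with the coefficient of a regular section. -/
theorem exists_regular_coeff (hL : PicF.IsInvertible L) {s : Coh.structureModule X ⟶ L}
    (hs : RegularSection L s) (x : X) :
    ∃ (W : X.affineOpens) (e : Γ(L, W.1)) (c : Mero.regSub X W.1),
      x ∈ W.1 ∧ Gen L W.1 e ∧ s.app W.1 (oneSec X W.1) = c.1 • e := by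
  obtain ⟨U, e, hU, hx, he⟩ := exists_affine_gen_mem hL x
  obtain ⟨c, hc⟩ := he.exists_coeff le_rfl (s.app U (oneSec X U))
  rw [res_self] at hc
  exact ⟨⟨U, hU⟩, e, ⟨c, fun y => hs U e he c hc y.1 y.2⟩, hx, he, hc⟩

/-- Constructor for `IsDivOfIdeal` of a zero scheme. -/
theorem isDivOfIdeal_zeroScheme (hL : PicF.IsInvertible L) {s : Coh.structureModule X ⟶ L}
    {D : Mero.Divisor X}
    (h : ∀ x : X, ∃ (W : X.affineOpens) (e : Γ(L, W.1)) (c : Mero.regSub X W.1),
      x ∈ W.1 ∧ Gen L W.1 e ∧ s.app W.1 (oneSec X W.1) = c.1 • e ∧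
        ∀ y : (W.1 : X.Opens), D.1 y.1 = Mero.germOf (regUnit c) y) :
    Mero.IsDivOfIdeal D (PicF2.zeroScheme L s) := fun x => by
  obtain ⟨W, e, c, hx, he, hc, hD⟩ := h x
  exact ⟨W, hx, c.1, c.2, Variety2.Zero.zeroScheme_ideal_eq_span hL s W he hc,
    fun y => (hD y).trans (germOf_regUnit c y)⟩

/-- The divisor of a regular section of an invertible module. -/
theorem exists_divisor_of_regularSection (hL : PicF.IsInvertible L)
    {s : Coh.structureModule X ⟶ L} (hs : RegularSection L s) :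
    ∃ D : Mero.Divisor X, Mero.IsDivOfIdeal D (PicF2.zeroScheme L s) ∧
      ∃ φ : L ≅ Mero.divMod D, divVal (φ.hom.app ⊤ (s.app ⊤ (oneSec X ⊤))) = 1 := by
  choose W e c hxW he hc using exists_regular_coeff hL hs
  obtain ⟨D, hD, φ, hφ⟩ := exists_divisor_of_units (U := fun x => (W x).1)
    (eq_top_iff.2 fun x _ => Opens.mem_iSup.2 ⟨x, hxW x⟩) e he (fun x => regUnit (c x))
    (fun i j r hr => by
      have h1 := congrArg (res L (inf_le_left : (W i).1 ⊓ (W j).1 ≤ _)) (hc i)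
      have h2 := congrArg (res L (inf_le_right : (W i).1 ⊓ (W j).1 ≤ _)) (hc j)
      rw [res_smul, res_app_oneSec, hr] at h1
      rw [res_smul, res_app_oneSec, h1, smul_smul] at h2
      have h3 := (he j).smul_inj inf_le_right h2
      change res (Mero.kmod X) inf_le_right (Mero.toK X _ (c j).1) =
        Mero.toK X _ r * res (Mero.kmod X) inf_le_left (Mero.toK X _ (c i).1)
      rw [res_toK, res_toK, ← map_mul, ← h3, mul_comm])
  refine ⟨D, isDivOfIdeal_zeroScheme hL fun x => ⟨W x, e x, c x, hxW x, he x, hc x, hD x⟩, φ, ?_⟩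
  refine res_ext (fun x => (W x).1) (fun _ => le_top)
    (fun x _ => Opens.mem_iSup.2 ⟨x, hxW x⟩) fun x => ?_
  rw [← divVal_res, ← app_res, res_app_oneSec, hc x, Scheme.Modules.Hom.app_smul, divVal_smul,
    hφ, ksmul_eq]
  change (regUnit (c x) : Γ(Mero.kmod X, (W x).1)) * _ = _
  rw [Units.mul_inv]
  exact (map_one ((Mero.kring X).obj.map (homOfLE (le_top : (W x).1 ≤ ⊤)).op).hom).symm

/-- The divisor of an ideal is unique. -/
theorem isDivOfIdeal_unique {D D' : Mero.Divisor X} {I : X.IdealSheafData}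
    (h : Mero.IsDivOfIdeal D I) (h' : Mero.IsDivOfIdeal D' I) : D = D' := by
  refine Subtype.ext (funext fun x => ?_)
  obtain ⟨U, hxU, f, hf, hI, hD⟩ := h x
  obtain ⟨V, hxV, g, hg, hJ, hD'⟩ := h' x
  obtain ⟨_, ⟨W, hW, rfl⟩, hxW, hWle⟩ := X.isBasis_affineOpens.exists_subset_of_mem_open
    (show x ∈ U.1 ⊓ V.1 from ⟨hxU, hxV⟩) (U.1 ⊓ V.1).2
  have hWU : W ≤ U.1 := fun z hz => (hWle hz).1
  have hWV : W ≤ V.1 := fun z hz => (hWle hz).2
  have eU := I.map_ideal (U := ⟨W, hW⟩) (V := U) hWU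
  have eV := I.map_ideal (U := ⟨W, hW⟩) (V := V) hWV
  rw [hI, Ideal.map_span, Set.image_singleton] at eU
  rw [hJ, Ideal.map_span, Set.image_singleton] at eV
  obtain ⟨a, ha⟩ := Ideal.mem_span_singleton'.1 ((eU.trans eV.symm) ▸
    Ideal.mem_span_singleton_self _ : (X.presheaf.map (homOfLE hWU).op).hom f ∈
      Ideal.span {(X.presheaf.map (homOfLE hWV).op).hom g})
  obtain ⟨b, hb⟩ := Ideal.mem_span_singleton'.1 ((eV.trans eU.symm) ▸
    Ideal.mem_span_singleton_self _ : (X.presheaf.map (homOfLE hWV).op).hom g ∈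
      Ideal.span {(X.presheaf.map (homOfLE hWU).op).hom f})
  have ha' : X.presheaf.germ W x hxW a * X.presheaf.germ V.1 x hxV g =
      X.presheaf.germ U.1 x hxU f := by
    rw [← germ_resX hWU x hxW, ← germ_resX hWV x hxW, ← map_mul]
    exact congrArg _ ha
  have hb' : X.presheaf.germ W x hxW b * X.presheaf.germ U.1 x hxU f =
      X.presheaf.germ V.1 x hxV g := by
    rw [← germ_resX hWU x hxW, ← germ_resX hWV x hxW, ← map_mul]
    exact congrArg _ hb
  have hab : X.presheaf.germ W x hxW b * X.presheaf.germ W x hxW a = 1 := by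
    refine sub_eq_zero.1 (mem_nonZeroDivisors_iff_right.1 (hg ⟨x, hxV⟩) _ ?_)
    rw [sub_mul, one_mul, mul_assoc, ha', hb', sub_self]
  rw [hD ⟨x, hxU⟩, hD' ⟨x, hxV⟩]
  refine QuotientGroup.eq.2 ⟨⟨_, _, hab, (mul_comm _ _).trans hab⟩, ?_⟩
  rw [eq_inv_mul_iff_mul_eq]
  refine Units.ext ?_
  rw [Units.val_mul, IsUnit.unit_spec, IsUnit.unit_spec]
  change toKStalk x (X.presheaf.germ U.1 x hxU f) * toKStalk x (X.presheaf.germ W x hxW b) = _
  rw [← map_mul, mul_comm, hb']

/-- The section of `L` corresponding to `1` under `L ≅ O_X(D)`, for effective `D`. -/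
theorem exists_section_of_effective (hL : PicF.IsInvertible L) {D : Mero.Divisor X}
    (hD : Mero.IsEffective D) (φ : L ≅ Mero.divMod D) :
    ∃ s : Coh.structureModule X ⟶ L, RegularSection L s ∧
      Mero.IsDivOfIdeal D (PicF2.zeroScheme L s) := by
  obtain ⟨t, ht⟩ : ∃ t : Γ(Mero.divMod D, ⊤), divVal t = (1 : Γ(Mero.kmod X, ⊤)) := by
    refine exists_divVal_eq fun y => ?_
    obtain ⟨a, ha⟩ := hD y.1
    exact (divCond_iff ha _).2 ⟨a.1, by rw [Mero.kmod_one_apply, one_mul, IsUnit.unit_spec]⟩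
  let s := homOfSection (φ.inv.app ⊤ t)
  have key : ∀ x : X, ∃ (W : X.affineOpens) (e : Γ(L, W.1)) (c : Mero.regSub X W.1),
      x ∈ W.1 ∧ Gen L W.1 e ∧ s.app W.1 (oneSec X W.1) = c.1 • e ∧
        ∀ y : (W.1 : X.Opens), D.1 y.1 = Mero.germOf (regUnit c) y := by
    intro x
    obtain ⟨U, hxU, f₀, hf₀⟩ := exists_rep D x
    obtain ⟨_, ⟨W, hW, rfl⟩, hxW, hWU⟩ :=
      X.isBasis_affineOpens.exists_subset_of_mem_open hxU U.2
    let f := resU hWU f₀
    have hf : ∀ y : W, D.1 y.1 = Mero.germOf f y := fun y =>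
      (hf₀ ⟨y.1, hWU y.2⟩).trans (germOf_resU hWU f₀ y).symm
    have hreg : ∀ y : W, ∃ a : Mero.regStalk X y.1, ∃ v : (X.presheaf.stalk y.1)ˣ,
        (f : Γ(Mero.kmod X, W)).1 y = toKStalk y.1 ((a : X.presheaf.stalk y.1) * v) := fun y => by
      obtain ⟨a, ha⟩ := hD y.1
      obtain ⟨v, hv⟩ := QuotientGroup.eq.1 (ha.symm.trans (hf y))
      refine ⟨a, v, ?_⟩
      have h1 := congrArg Units.val (eq_inv_mul_iff_mul_eq.1 hv)
      rw [Units.val_mul, IsUnit.unit_spec] at h1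
      rw [map_mul]
      exact h1.symm
    obtain ⟨r, hr⟩ := exists_toK_eq (f : Γ(Mero.kmod X, W)) fun y => by
      obtain ⟨a, v, hv⟩ := hreg y
      exact ⟨_, hv.symm⟩
    have hr' : r ∈ Mero.regSub X W := fun y => by
      obtain ⟨a, v, hv⟩ := hreg y
      rw [← hr, toK_apply'] at hv
      rw [toKStalk_injective y.1 hv]
      exact Submonoid.mul_mem _ (Mero.regStalk_le_nonZeroDivisors _ a.2)
        (IsUnit.mem_nonZeroDivisors v.isUnit)
    have hru : regUnit ⟨r, hr'⟩ = f := Units.ext hr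
    obtain ⟨b, hb, hbg⟩ := gen_divMod hf
    refine ⟨⟨W, hW⟩, φ.inv.app W b, ⟨r, hr'⟩, hxW, hbg.map φ.inv, ?_, fun y => by rw [hru]; exact hf y⟩
    have h1 : res (Mero.divMod D) (le_top : W ≤ ⊤) t = r • b := divVal_injective D W (by
      rw [divVal_res, ht, divVal_smul, hb, ksmul_eq, hr, Units.mul_inv]
      exact map_one ((Mero.kring X).obj.map (homOfLE (le_top : W ≤ ⊤)).op).hom)
    rw [← res_app_oneSec s (le_top : W ≤ ⊤), homOfSection_one, ← app_res, h1,
      Scheme.Modules.Hom.app_smul]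
  refine ⟨s, fun W e he c hc x hx => ?_, isDivOfIdeal_zeroScheme hL key⟩
  obtain ⟨V, e', c', hxV, he', hc', -⟩ := key x
  obtain ⟨v, hv⟩ := (he'.res (inf_le_right : W ⊓ V.1 ≤ V.1)).exists_unit
    (he.res (inf_le_left : W ⊓ V.1 ≤ W))
  have h1 := congrArg (res L (inf_le_left : W ⊓ V.1 ≤ W)) hc
  have h2 := congrArg (res L (inf_le_right : W ⊓ V.1 ≤ V.1)) hc'
  rw [res_smul, res_app_oneSec, hv, smul_smul] at h1
  rw [res_smul, res_app_oneSec, h1] at h2
  have h3 := congrArg (X.presheaf.germ (W ⊓ V.1) x ⟨hx, hxV⟩) (he'.smul_inj inf_le_right h2)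
  rw [map_mul, germ_resX, germ_resX] at h3
  have h4 := c'.2 ⟨x, hxV⟩
  rw [← h3] at h4
  exact (mul_mem_nonZeroDivisors.1 h4).1

/-- The zero scheme of a product of regular sections has the product divisor. -/
theorem isDivOfIdeal_tmulHom {L' : X.Modules} (hL : PicF.IsInvertible L) (hL' : PicF.IsInvertible L')
    {s : Coh.structureModule X ⟶ L} {s' : Coh.structureModule X ⟶ L'}
    (hs : RegularSection L s) (hs' : RegularSection L' s') {D D' : Mero.Divisor X}
    (hD : Mero.IsDivOfIdeal D (PicF2.zeroScheme L s))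
    (hD' : Mero.IsDivOfIdeal D' (PicF2.zeroScheme L' s')) :
    Mero.IsDivOfIdeal (D * D') (PicF2.zeroScheme (CohB1.tensorMod L L') (SecTwist.tmulHom s s')) := by
  have key : ∀ {M : X.Modules}, PicF.IsInvertible M → ∀ {σ : Coh.structureModule X ⟶ M},
      RegularSection M σ → ∀ {E : Mero.Divisor X}, Mero.IsDivOfIdeal E (PicF2.zeroScheme M σ) →
      ∀ (W : X.affineOpens) (e : Γ(M, W.1)) (c : Mero.regSub X W.1), Gen M W.1 e →
        σ.app W.1 (oneSec X W.1) = c.1 • e →
          ∀ y : (W.1 : X.Opens), E.1 y.1 = Mero.germOf (regUnit c) y := by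
    intro M hM σ hσ E hE W e c he hc
    choose W' e' c' hx he' hc' using exists_regular_coeff hM hσ
    obtain ⟨E', hE', -⟩ := exists_divisor_of_units (U := fun o : Option X => o.elim W.1 fun x => (W' x).1)
      (eq_top_iff.2 fun x _ => Opens.mem_iSup.2 ⟨some x, hx x⟩)
      (fun o => o.rec e fun x => e' x) (fun o => o.rec he fun x => he' x)
      (fun o => o.rec (regUnit c) fun x => regUnit (c' x)) (by
        have hall : ∀ o : Option X, ∃ (c₀ : Mero.regSub X (o.elim W.1 fun x => (W' x).1)),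
            σ.app _ (oneSec X _) = c₀.1 • (o.rec e (fun x => e' x) : Γ(M, o.elim W.1 fun x => (W' x).1)) ∧
              (o.rec (regUnit c) (fun x => regUnit (c' x)) :
                (Γ(Mero.kmod X, o.elim W.1 fun x => (W' x).1))ˣ) = regUnit c₀ := fun o => by
          cases o with
          | none => exact ⟨c, hc, rfl⟩
          | some x => exact ⟨c' x, hc' x, rfl⟩
        intro i j r hr
        obtain ⟨ci, hci, hi⟩ := hall i
        obtain ⟨cj, hcj, hj⟩ := hall j
        rw [hi, hj]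
        have h1 := congrArg (res M (inf_le_left : _ ⊓ (j.elim W.1 fun x => (W' x).1) ≤
          (i.elim W.1 fun x => (W' x).1))) hci
        have h2 := congrArg (res M (inf_le_right : (i.elim W.1 fun x => (W' x).1) ⊓ _ ≤
          (j.elim W.1 fun x => (W' x).1))) hcj
        rw [res_smul, res_app_oneSec, hr, smul_smul] at h1
        rw [res_smul, res_app_oneSec, h1] at h2
        have hgj : Gen M (j.elim W.1 fun x => (W' x).1) (j.rec e fun x => e' x) := by
          cases j with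
          | none => exact he
          | some x => exact he' x
        have h3 := hgj.smul_inj inf_le_right h2
        change res (Mero.kmod X) inf_le_right (Mero.toK X _ cj.1) =
          Mero.toK X _ r * res (Mero.kmod X) inf_le_left (Mero.toK X _ ci.1)
        rw [res_toK, res_toK, ← map_mul, ← h3, mul_comm])
    have hEE : E = E' := isDivOfIdeal_unique hE (isDivOfIdeal_zeroScheme hM fun x =>
      ⟨W' x, e' x, c' x, hx x, he' x, hc' x, fun y => hE' (some x) y⟩)
    intro y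
    rw [hEE]
    exact hE' none y
  refine isDivOfIdeal_zeroScheme (isInvertible_tensorMod hL hL') fun x => ?_
  obtain ⟨W₁, e₁, c₁, hx₁, he₁, hc₁⟩ := exists_regular_coeff hL hs x
  obtain ⟨U, e₂, hxU, he₂⟩ := (isInvertible_iff_exists_gen _).1 hL' x
  obtain ⟨_, ⟨W, hW, rfl⟩, hxW, hWle⟩ := X.isBasis_affineOpens.exists_subset_of_mem_open
    (show x ∈ W₁.1 ⊓ U from ⟨hx₁, hxU⟩) (W₁.1 ⊓ U).2
  have h₁ : W ≤ W₁.1 := fun z hz => (hWle hz).1
  have h₂ : W ≤ U := fun z hz => (hWle hz).2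
  obtain ⟨d, hd⟩ := (he₂.res h₂).exists_coeff le_rfl (s'.app W (oneSec X W))
  rw [res_self] at hd
  let c : Mero.regSub X W := ⟨resX X h₁ c₁.1, Mero.regSub_res _ c₁.2⟩
  let d' : Mero.regSub X W := ⟨d, fun y => hs' W _ (he₂.res h₂) d hd y.1 y.2⟩
  have hc : s.app W (oneSec X W) = c.1 • res L h₁ e₁ := by
    rw [← res_app_oneSec s h₁, hc₁, res_smul]
  refine ⟨⟨W, hW⟩, tmulSec (res L h₁ e₁) (res L' h₂ e₂), c * d', hxW,
    (he₁.res h₁).tensor (he₂.res h₂), ?_, fun y => ?_⟩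
  · have h := congrArg (res _ (le_top : W ≤ ⊤)) (gsec_tmulHom s s')
    rw [res_tmulSec, gsec, gsec, gsec, res_app_oneSec, res_app_oneSec, res_app_oneSec, hc, hd,
      tmulSec_smul_left, tmulSec_smul_right, smul_smul] at h
    exact h
  · have e3 : regUnit (c * d') = regUnit c * regUnit d' := Units.ext (map_mul _ _ _)
    rw [e3]
    exact germ_mul_rep (key hL hs hD ⟨W, hW⟩ _ c (he₁.res h₁) hc)
      (key hL' hs' hD' ⟨W, hW⟩ _ d' (he₂.res h₂) hd) y

end Groth.PicAux
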