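import Groth.Agent.PicAux.KerPow
import Groth.Agent.ModelsGraphs.PicKernel

/-!
# `p`-th roots in the Picard group of a proper relative curve over a complete ring with uniformizer `p`
-/

set_option autoImplicit false
set_option backward.isDefEq.respectTransparency.types false
set_option linter.style.haveILetI false

universe u

open CategoryTheory Limits AlgebraicGeometry Opposite TopologicalSpace IsLocalRing
open scoped Groth.Abvar.PicCalc

noncomputable section

namespace Groth.PicAux.PPowTower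

open Groth.Abvar.PicCalc (pull)
open Groth.ModelsGraphs.InvAlg Groth.ModelsGraphs.PicKernel

/-- A family through a prescribed member of a tower with surjective transitions. -/
theorem exists_family : ∀ (n : ℕ) {α : ℕ → Type (u + 1)} (t : ∀ j, α (j + 1) → α j)
    (_ : ∀ j, Function.Surjective (t j)) (c : α n),
    ∃ s : ∀ j, α j, (∀ j, t j (s (j + 1)) = s j) ∧ s n = c := by
  intro n
  induction n with
  | zero =>
    intro α t ht c
    choose σ hσ using ht
    exact ⟨fun j => Nat.rec (motive := α) c (fun j x => σ j x) j, fun j => hσ j _, rfl⟩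
  | succ n ih =>
    intro α t ht c
    obtain ⟨s, hs, hsn⟩ := ih (α := fun j => α (j + 1)) (fun j => t (j + 1)) (fun j => ht _) c
    exact ⟨fun j => Nat.casesOn (motive := α) j (t 0 (s 0)) s, fun j => by cases j <;> [rfl; exact hs _], hsn⟩

theorem one_add_pow {S : Type*} [CommRing S] (a : S) (ha : a ^ 3 = 0) (n : ℕ) :
    (1 + a) ^ n = 1 + n * a + (n.choose 2 : ℕ) * a ^ 2 := by
  induction n with
  | zero => simp
  | succ n ih =>
    rw [pow_succ, ih, Nat.choose_succ_succ n 1, Nat.choose_one_right]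
    push_cast
    linear_combination (n.choose 2 : S) * ha

/-- The `p`-th power of `1 + p^(j+1) x` when `p^(j+3) = 0`. -/
theorem one_add_pow_prime {S : Type*} [CommRing S] {p j : ℕ} (hp : p.Prime) (hp2 : 2 < p)
    (h0 : (p : S) ^ (j + 1 + 1 + 1) = 0) (x : S) :
    (1 + (p : S) ^ (j + 1) * x) ^ p = 1 + (p : S) ^ (j + 1 + 1) * x := by
  obtain ⟨c, hc⟩ := hp.dvd_choose_self two_ne_zero hp2
  rw [one_add_pow _ (by linear_combination ((p : S) ^ (2 * j) * x ^ 3) * h0), hc]
  push_cast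
  linear_combination ((p : S) ^ j * (c : S) * x ^ 2) * h0

theorem app_comp_apply {A B C : Scheme.{u}} (t : A ⟶ B) (i : B ⟶ C) (U : C.Opens) (c : Γ(C, U)) :
    (t ≫ i).app U c = t.app (i ⁻¹ᵁ U) (i.app U c) := rfl

theorem exists_of_comp_app_eq_zero {A B C : Scheme.{u}} (t : A ⟶ B) (i : B ⟶ C) [IsClosedImmersion i] (p j : ℕ)
    (h1 : ∀ {V : B.Opens}, IsAffineOpen V → ∀ {c : Γ(B, V)}, t.app V c = 0 →
      ∃ x, c = (p : Γ(B, V)) ^ j * x)
    (h2 : ∀ {V : C.Opens}, IsAffineOpen V → ∀ {c : Γ(C, V)}, i.app V c = 0 →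
      ∃ x, c = (p : Γ(C, V)) ^ (j + 1) * x)
    {U : C.Opens} (hU : IsAffineOpen U) {c : Γ(C, U)} (hc : (t ≫ i).app U c = 0) :
    ∃ x, c = (p : Γ(C, U)) ^ j * x := by
  obtain ⟨y, hy⟩ := h1 (hU.preimage i) (c := i.app U c) ((app_comp_apply t i U c).symm.trans hc)
  obtain ⟨x, rfl⟩ := i.app_surjective U hU y
  obtain ⟨z, hz⟩ := h2 hU (c := c - (p : Γ(C, U)) ^ j * x)
    (by rw [map_sub, map_mul, map_pow, map_natCast, hy, sub_self])
  exact ⟨x + p * z, by linear_combination hz⟩

theorem comp_app_one_add {A B C : Scheme.{u}} (t : A ⟶ B) (i : B ⟶ C) (U : C.Opens) (p j : ℕ)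
    (h : ∀ V : A.Opens, (p : Γ(A, V)) ^ j = 0) (x : Γ(C, U)) :
    (t ≫ i).app U (1 + (p : Γ(C, U)) ^ j * x) = 1 := by
  rw [map_add, map_one, map_mul, map_pow, map_natCast, h, zero_mul, add_zero]

variable (R : Type u) [CommRing R] [IsLocalRing R]
  (X : Scheme.{u}) [X.Over (Spec (CommRingCat.of R))]
  {p : ℕ} (hm : maximalIdeal R = Ideal.span {(p : R)})

include hm

/-- The power of `p` vanishes on a level. -/
theorem cast_pow_eq_zero (n : ℕ) (U : (lvl (maximalIdeal R) X n).Opens) :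
    (p : Γ(lvl (maximalIdeal R) X n, U)) ^ (n + 1) = 0 := by
  have hp : (p : R) ^ (n + 1) ∈ maximalIdeal R ^ (n + 1) :=
    Ideal.pow_mem_pow (hm ▸ Ideal.mem_span_singleton_self _) _
  have h := congrArg (Coh.resTop _ (op U)) (Groth.CohTwo.toGlobal_eq_zero_of_factor
    (W := lvl (maximalIdeal R) X n) (f := CohB1.thickToBase _ _ n) rfl hp)
  rw [map_zero] at h
  refine Eq.trans ?_ h
  rw [map_pow (Coh.toGlobal _), map_pow, map_natCast (Coh.toGlobal _), map_natCast]
  rfl

/-- The kernel of a transition on an affine open. -/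
theorem exists_of_tr_app_eq_zero (n : ℕ) {U : (lvl (maximalIdeal R) X (n + 1)).Opens} (hU : IsAffineOpen U)
    {c : Γ(lvl (maximalIdeal R) X (n + 1), U)} (hc : (tr (maximalIdeal R) X n).app U c = 0) :
    ∃ x, c = (p : Γ(lvl (maximalIdeal R) X (n + 1), U)) ^ (n + 1) * x := by
  haveI := isClosedImmersion_tr R X n
  have h := Groth.CohTwo.ker_le_of_isPullback (Ideal.pow_le_pow_right (Nat.le_succ (n + 1)))
    (cart (maximalIdeal R) X n) rfl ⟨U, hU⟩
    (show c ∈ (tr (maximalIdeal R) X n).ker.ideal ⟨U, hU⟩ by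
      rw [Scheme.Hom.ker_apply, RingHom.mem_ker]; exact hc)
  have hI : maximalIdeal R ^ (n + 1) = Ideal.span {(p : R) ^ (n + 1)} := by
    rw [hm, Ideal.span_singleton_pow]
  rw [hI, Ideal.map_span, Set.image_singleton, map_pow, map_natCast,
    Ideal.mem_span_singleton'] at h
  obtain ⟨x, hx⟩ := h
  exact ⟨x, by rw [← hx, mul_comm]⟩

/-- The composite of two transitions. -/
abbrev tr2 (j : ℕ) : lvl (maximalIdeal R) X j ⟶ lvl (maximalIdeal R) X (j + 1 + 1) :=
  tr (maximalIdeal R) X j ≫ tr (maximalIdeal R) X (j + 1)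

theorem exists_of_tr2_app_eq_zero (j : ℕ) {U : (lvl (maximalIdeal R) X (j + 1 + 1)).Opens} (hU : IsAffineOpen U)
    {c : Γ(lvl (maximalIdeal R) X (j + 1 + 1), U)} (hc : (tr2 R X j).app U c = 0) :
    ∃ x, c = (p : Γ(lvl (maximalIdeal R) X (j + 1 + 1), U)) ^ (j + 1) * x :=
  haveI := isClosedImmersion_tr R X (j + 1)
  exists_of_comp_app_eq_zero (A := lvl (maximalIdeal R) X j) (tr (maximalIdeal R) X j)
    (tr (maximalIdeal R) X (j + 1)) p (j + 1)
    (fun hV _ h => exists_of_tr_app_eq_zero R X hm j hV h)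
    (fun hV _ h => exists_of_tr_app_eq_zero R X hm (j + 1) hV h) hU hc

variable [IsNoetherianRing R] [IsAdicComplete (maximalIdeal R) R] [IsProper (X ↘ Spec (CommRingCat.of R))]
  (hdim : topologicalKrullDim (fib R X) ≤ 1) (hp : p.Prime) (hp2 : 2 < p)

include hdim hp hp2

omit [IsAdicComplete (maximalIdeal R) R] in
/-- Roots in the kernels between the levels. -/
theorem exists_root_step (j : ℕ) {z : PicLoc.PicSet (lvl (maximalIdeal R) X (j + 1 + 1))}
    (hz : pull (tr (maximalIdeal R) X (j + 1)) z = 1) :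
    ∃ w, pull (tr (maximalIdeal R) X j) (pull (tr (maximalIdeal R) X (j + 1)) w) = 1 ∧ w ^ p = z := by
  let Z := lvl (maximalIdeal R) X (j + 1 + 1)
  let i1 := tr (maximalIdeal R) X (j + 1)
  haveI hc0 := isClosedImmersion_tr R X j
  haveI hc1 : IsClosedImmersion i1 := isClosedImmersion_tr R X (j + 1)
  have hsur : ∀ n, Surjective (tr (maximalIdeal R) X n) := fun n => ⟨fun y => by
    obtain ⟨a, ha⟩ := ((range_inc R X n).trans (range_inc R X (n + 1)).symm).ge ⟨y, rfl⟩
    haveI : IsClosedImmersion (CohB1.specQuot (maximalIdeal R) (n + 1)) :=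
      IsClosedImmersion.spec_of_surjective _ Ideal.Quotient.mk_surjective
    refine ⟨a, (inc (maximalIdeal R) X (n + 1)).isClosedEmbedding.injective ?_⟩
    exact (congrArg (fun s => s a) (Groth.FormalAlg.thickTrans_ι _ (maximalIdeal R) n)).trans ha⟩
  haveI : Surjective i1 := hsur _
  haveI : Surjective (tr (maximalIdeal R) X j) := hsur _
  haveI : IsNoetherian Z := Groth.CohC3.isNoetherian_of_proper R _
  have hp0 : ∀ U : Z.Opens, IsNilpotent (p : Γ(Z, U)) := fun U => ⟨_, cast_pow_eq_zero R X hm (j + 1 + 1) U⟩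
  refine (KerPow.exists_root i1 (tr2 R X j)
    (by exact_mod_cast dim_lvl_le R X (d := 1) (by exact_mod_cast hdim) (j + 1 + 1)) p ?_ ?_ ?_
    (Groth.Abvar.PicCalc.pullMulCl _) (Groth.Abvar.PicCalc.pullMulCl _) hz).imp
      fun w h => ⟨(Groth.Abvar.PicCalc.pull_comp _ _ w).symm.trans h.1, h.2⟩
  · intro U c hc
    obtain ⟨d, hd⟩ := i1.app_surjective U.1 U.2 (↑hc.unit⁻¹)
    obtain ⟨x, hx⟩ := exists_of_tr_app_eq_zero R X hm (j + 1) U.2 (c := c * d - 1)
      (by rw [map_sub, map_mul, map_one, hd, IsUnit.mul_val_inv, sub_self])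
    have hcd : IsUnit (c * d) := by
      rw [show c * d = 1 + (c * d - 1) by ring, hx]
      exact IsNilpotent.isUnit_one_add
        ((Commute.all _ x).isNilpotent_mul_right ((hp0 U.1).pow_of_pos (by omega)))
    exact isUnit_of_mul_isUnit_left hcd
  · intro U v hv
    obtain ⟨x, hx⟩ := exists_of_tr2_app_eq_zero R X hm j U.2 (c := v - 1)
      (by rw [map_sub, hv, map_one, sub_self])
    rw [show v = 1 + (p : Γ(Z, U.1)) ^ (j + 1) * x by rw [← hx]; ring,
      one_add_pow_prime hp hp2 (cast_pow_eq_zero R X hm (j + 1 + 1) U.1), map_add, map_one, map_mul,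
      map_pow, map_natCast, cast_pow_eq_zero R X hm (j + 1), zero_mul, add_zero]
  · intro U u hu
    obtain ⟨x, hx⟩ := exists_of_tr_app_eq_zero R X hm (j + 1) U.2 (c := (u : Γ(Z, U.1)) - 1)
      (by rw [map_sub, hu, map_one, sub_self])
    have hvp : (1 + (p : Γ(Z, U.1)) ^ (j + 1) * x) ^ p = (u : Γ(Z, U.1)) := by
      rw [one_add_pow_prime hp hp2 (cast_pow_eq_zero R X hm (j + 1 + 1) U.1), ← hx]; ring
    have hv : IsUnit (1 + (p : Γ(Z, U.1)) ^ (j + 1) * x) := (isUnit_pow_iff hp.ne_zero).1 (hvp ▸ u.isUnit)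
    refine ⟨hv.unit, ?_, Units.ext hvp⟩
    rw [IsUnit.unit_spec]
    exact comp_app_one_add (tr (maximalIdeal R) X j) (tr (maximalIdeal R) X (j + 1)) U.1 p (j + 1)
      (cast_pow_eq_zero R X hm j) x

/-- Classes trivial on a positive level are `p`-th powers of classes trivial on the level before. -/
theorem exists_root_inc (j : ℕ) {a : PicLoc.PicSet X} (ha : pull (inc (maximalIdeal R) X (j + 1)) a = 1) :
    ∃ b : PicLoc.PicSet X, pull (inc (maximalIdeal R) X j) b = 1 ∧ b ^ p = a := by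
  let I := maximalIdeal R
  have hle : ∀ n, n ≤ j + 1 → pull (inc I X n) a = 1 := fun n hn => by
    induction hn using Nat.decreasingInduction with
    | self => exact ha
    | of_succ n _ ih => rw [← pull_tr_inc, ih, map_one]
  have hstep : ∀ (m : ℕ) (x : PicLoc.PicSet (lvl I X (m + 1))),
      x ^ p = pull (inc I X (m + 1)) a → (m ≤ j → x = 1) →
      ∃ x' : PicLoc.PicSet (lvl I X (m + 1 + 1)), x' ^ p = pull (inc I X (m + 1 + 1)) a ∧ (m + 1 ≤ j → x' = 1) ∧
        pull (tr I X m) (pull (tr I X (m + 1)) x') = pull (tr I X m) x := by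
    intro m x hx hx1
    by_cases h : m + 1 ≤ j
    · exact ⟨1, by rw [one_pow, hle _ (by omega)], fun _ => rfl,
        by rw [hx1 (by omega), map_one, map_one]⟩
    obtain ⟨y, rfl⟩ := steps_surjective R X hdim (m + 1) x
    obtain ⟨w, hw, hwp⟩ := exists_root_step R X hm hdim hp hp2 m
      (z := pull (inc I X (m + 1 + 1)) a / y ^ p) (by rw [map_div, map_pow, hx, pull_tr_inc, div_self'])
    exact ⟨y * w, by rw [mul_pow, hwp, mul_div_cancel], fun h' => absurd h' h,
      by rw [map_mul, map_mul, hw, mul_one]⟩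
  choose σ hσ₁ hσ₂ hσ₃ using hstep
  let s : ∀ m, {x : PicLoc.PicSet (lvl I X (m + 1)) // x ^ p = pull (inc I X (m + 1)) a ∧ (m ≤ j → x = 1)} :=
    fun m => Nat.rec (motive := fun m =>
        {x : PicLoc.PicSet (lvl I X (m + 1)) // x ^ p = pull (inc I X (m + 1)) a ∧ (m ≤ j → x = 1)})
      ⟨1, by rw [one_pow, hle 1 (by omega)], fun _ => rfl⟩
      (fun m x => ⟨σ m x.1 x.2.1 x.2.2, hσ₁ m _ _ _, hσ₂ m _ _ _⟩) m
  obtain ⟨b, hb⟩ := exists_of_compatible I X (fun m => pull (tr I X m) (s m).1) (fun m => hσ₃ m _ _ _)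
  refine ⟨b, (hb j).trans (by rw [(s j).2.2 le_rfl, map_one]),
    div_eq_one.1 (eq_one_of_forall I X _ fun n => ?_)⟩
  rw [map_div, map_pow, hb n, ← map_pow, (s n).2.1, pull_tr_inc, div_self']

/-- Classes trivial on level `i` are `p ^ i`-th powers. -/
theorem exists_pow_root : ∀ (i : ℕ) {a : PicLoc.PicSet X}, pull (inc (maximalIdeal R) X i) a = 1 →
    ∃ c : PicLoc.PicSet X, c ^ p ^ i = a := by
  intro i
  induction i with
  | zero => exact fun {a} _ => ⟨a, by rw [pow_zero, pow_one]⟩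
  | succ i ih =>
    intro a ha
    obtain ⟨b, hb, rfl⟩ := exists_root_inc R X hm hdim hp hp2 i ha
    obtain ⟨c, rfl⟩ := ih hb
    exact ⟨c, by rw [← pow_mul, pow_succ]⟩

omit hm hp hp2 in
/-- Restriction to every level is surjective. -/
theorem surjective_inc (n : ℕ) : Function.Surjective (pull (inc (maximalIdeal R) X n)) := fun c => by
  obtain ⟨s, hs, hsn⟩ := exists_family n (α := fun j => PicLoc.PicSet (lvl (maximalIdeal R) X j))
    (fun j => pull (tr (maximalIdeal R) X j)) (steps_surjective R X hdim) c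
  obtain ⟨d, hd⟩ := exists_of_compatible (maximalIdeal R) X s hs
  exact ⟨d, (hd n).trans hsn⟩

end Groth.PicAux.PPowTower
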