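import Groth.Agent.PicAux.PrincipalUnits
import Groth.Agent.AdicLinTop.Thickenings
import Mathlib.RingTheory.Nakayama
import Mathlib.CategoryTheory.Abelian.Refinements
import Mathlib.CategoryTheory.Limits.Preserves.Shapes.Kernels

/-!
# Principal units over an Artinian local ring
-/

universe u

open CategoryTheory Limits AlgebraicGeometry Opposite TopologicalSpace

noncomputable section

namespace Groth.PicAux.PrincipalUnits

open Groth.PicAux Groth.CohBase

variable {X' : Scheme.{u}} {A : Type u} [CommRing A] {s : X' ⟶ Spec (CommRingCat.of A)}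

theorem isClosedImmersion_of_isPullback {X : Scheme.{u}} {R : Type u} [CommRing R] {π : A →+* R}
    (hπ : Function.Surjective π) {i : X ⟶ X'} {q : X ⟶ Spec (CommRingCat.of R)}
    (h : IsPullback i q s (Spec.map (CommRingCat.ofHom π))) : IsClosedImmersion i :=
  MorphismProperty.of_isPullback h.flip (IsClosedImmersion.spec_of_surjective _ hπ)

theorem ker_of_isPullback {X : Scheme.{u}} {R : Type u} [CommRing R] {π : A →+* R}
    (hπ : Function.Surjective π) {i : X ⟶ X'} {q : X ⟶ Spec (CommRingCat.of R)}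
    (h : IsPullback i q s (Spec.map (CommRingCat.ofHom π))) (W : X'.affineOpens) :
    RingHom.ker (i.app W.1).hom = (RingHom.ker π).map (algAt s W.1) := by
  haveI : IsClosedImmersion (Spec.map (CommRingCat.ofHom π)) :=
    IsClosedImmersion.spec_of_surjective _ hπ
  haveI := isClosedImmersion_of_isPullback hπ h
  rw [← ker_fst s π hπ W, ← Scheme.Hom.ker_apply, ← Scheme.Hom.ker_apply,
    AdicLinTop.Thickenings.ker_eq_comap_of_isPullback h,
    Scheme.IdealSheafData.ker_fst_of_isClosedImmersion]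

/-- The small extension of cartesian squares. -/
def Datum.ofPullback [Flat s] {X X₀ : Scheme.{u}} {R₁ R₀ : Type u} [CommRing R₁] [CommRing R₀]
    {π₁ : A →+* R₁} {π₀ : A →+* R₀} (h₁ : Function.Surjective π₁) (h₀ : Function.Surjective π₀)
    {i : X ⟶ X'} {q₁ : X ⟶ Spec (CommRingCat.of R₁)}
    (p₁ : IsPullback i q₁ s (Spec.map (CommRingCat.ofHom π₁)))
    {i₀ : X₀ ⟶ X'} {q₀ : X₀ ⟶ Spec (CommRingCat.of R₀)}
    (p₀ : IsPullback i₀ q₀ s (Spec.map (CommRingCat.ofHom π₀))) (t : A)
    (ht : t * t = 0) (k₁ : RingHom.ker π₁ = Ideal.span {t})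
    (k₀ : ∀ a, a ∈ RingHom.ker π₀ ↔ t * a = 0) : Datum i i₀ :=
  let D := Datum.ofFlat s π₁ π₀ h₁ h₀ t ht k₁ k₀
  { T := D.T
    sq := D.sq
    ker_i := fun W => by rw [ker_of_isPullback h₁ p₁ W, ← ker_fst s π₁ h₁ W]; exact D.ker_i W
    ker_i₀ := fun W f => by
      rw [← RingHom.mem_ker, ker_of_isPullback h₀ p₀ W, ← ker_fst s π₀ h₀ W, RingHom.mem_ker]
      exact D.ker_i₀ W f }

theorem comap_comp {X Y Z : Scheme.{u}} (j : X ⟶ Y) (i : Y ⟶ Z) :
    UnitsSh.comap (j ≫ i) =
      UnitsSh.comap i ≫ (CohTop.push i.base).map (UnitsSh.comap j) := by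
  apply Sheaf.hom_ext
  ext V v
  refine congrArg Additive.ofMul (Units.ext ?_)
  rfl

/-- The units map of a closed immersion with nilpotent kernel is an epimorphism. -/
theorem epi_comap {X : Scheme.{u}} (i : X ⟶ X') [IsClosedImmersion i]
    (hnil : ∀ W : X'.affineOpens, RingHom.ker (i.app W.1).hom ≤ nilradical Γ(X', W.1)) :
    Epi (UnitsSh.comap i) := by
  refine (CategoryTheory.Sheaf.isLocallySurjective_iff_epi' AddCommGrpCat.{u} (UnitsSh.comap i)).mp ?_
  refine (TopCat.Presheaf.isLocallySurjective_iff (UnitsSh.comap i).hom).mpr fun V q x hx => ?_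
  obtain ⟨W, hxW, hWV⟩ := Groth.Divisors.exists_affine_le (x : X') V hx
  let v : Γ(X, i ⁻¹ᵁ W.1)ˣ := UnitsSh.unitOfSect (CohBase.res (X := X'.toTopCat)
    ((CohTop.push i.base).obj (UnitsSh.unitsAb X)).obj hWV q)
  obtain ⟨a, ha⟩ := i.app_surjective W.1 W.2 (v : Γ(X, i ⁻¹ᵁ W.1))
  obtain ⟨b, hb⟩ := i.app_surjective W.1 W.2 ((v⁻¹ : Γ(X, i ⁻¹ᵁ W.1)ˣ) : Γ(X, i ⁻¹ᵁ W.1))
  have h1 : a * b - 1 ∈ RingHom.ker (i.app W.1).hom :=
    RingHom.mem_ker.mpr ((map_sub _ _ _).trans
      ((congrArg₂ (· - ·) ((map_mul _ _ _).trans ((congrArg₂ (· * ·) ha hb).trans v.mul_inv))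
        (map_one _)).trans (sub_self _)))
  have hu : IsUnit a := isUnit_of_mul_isUnit_left (y := b) (by
    have := (mem_nilradical.mp (hnil W h1)).isUnit_one_add
    rwa [add_sub_cancel] at this)
  exact ⟨W.1, hWV, ⟨UnitsSh.sectOfUnit (O := X'.presheaf) hu.unit,
    congrArg (UnitsSh.sectOfUnit (O := X.presheaf)) (Units.ext ha)⟩, hxW⟩

theorem mono_comap_of_isIso {X : Scheme.{u}} (i : X ⟶ X') [IsIso i] : Mono (UnitsSh.comap i) := by
  have : Mono (UnitsSh.comap i).hom := (NatTrans.mono_iff_mono_app _).mpr fun V =>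
    (AddCommGrpCat.mono_iff_injective _).mpr fun a b hab => by
      refine congrArg Additive.ofMul (Units.ext ?_)
      refine (ConcreteCategory.bijective_of_isIso (i.app V.unop)).injective ?_
      exact congrArg (fun z => (UnitsSh.unitOfSect (O := X.presheaf) (U := op (i ⁻¹ᵁ V.unop)) z).val) hab
  exact (sheafToPresheaf _ _).mono_of_mono_map (f := UnitsSh.comap i) this

section Comp

variable {Z : TopCat.{u}} {F G K : AbSheaf Z} (g₁ : F ⟶ G) (g₂ : G ⟶ K)

/-- The kernels of a composite. -/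
abbrev kerComp : ShortComplex (AbSheaf Z) :=
  ShortComplex.mk (kernel.map g₁ (g₁ ≫ g₂) (𝟙 _) g₂ (by rw [Category.id_comp]))
    (kernel.map (g₁ ≫ g₂) g₂ g₁ (𝟙 _) (by rw [Category.comp_id]))
    (by rw [← cancel_mono (kernel.ι g₂)]; simp)

theorem kerComp_shortExact [Epi g₁] : (kerComp g₁ g₂).ShortExact where
  exact := by
    refine ShortComplex.exact_of_f_is_kernel _ (KernelFork.IsLimit.ofι' _ _ fun {T} k hk => ?_)
    refine ⟨kernel.lift g₁ (k ≫ kernel.ι (g₁ ≫ g₂)) ?_, ?_⟩
    · have := congrArg (· ≫ kernel.ι g₂) hk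
      simpa using this
    · rw [← cancel_mono (kernel.ι (g₁ ≫ g₂))]; simp
  mono_f := by
    exact mono_of_mono_fac
      (show kernel.map g₁ (g₁ ≫ g₂) (𝟙 _) g₂ (by simp) ≫ kernel.ι (g₁ ≫ g₂) = kernel.ι g₁ by simp)
  epi_g := by
    rw [epi_iff_surjective_up_to_refinements]
    intro T a
    obtain ⟨T', π, hπ, b, hb⟩ := surjective_up_to_refinements_of_epi g₁ (a ≫ kernel.ι g₂)
    refine ⟨T', π, hπ, kernel.lift (g₁ ≫ g₂) b ?_, ?_⟩
    · rw [← reassoc_of% hb, kernel.condition, comp_zero, comp_zero]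
    · rw [← cancel_mono (kernel.ι g₂)]
      simpa using hb

end Comp

theorem subsingleton_H_of_iso {Z : TopCat.{u}} {F G : AbSheaf Z} (e : F ≅ G) (n : ℕ)
    (h : Subsingleton (Sheaf.H G n)) : Subsingleton (Sheaf.H F n) :=
  ⟨fun a b => by
    rw [← Sheaf.H.map_id_apply a, ← Sheaf.H.map_id_apply b, ← e.hom_inv_id,
      Sheaf.H.map_comp_apply, Sheaf.H.map_comp_apply,
      Subsingleton.elim (Sheaf.H.map e.hom n a) (Sheaf.H.map e.hom n b)]⟩

variable [IsLocalRing A]

open IsLocalRing in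
theorem exists_predecessor [IsArtinianRing A] {J : Ideal A} (hJ : J ≤ maximalIdeal A)
    (h0 : J ≠ ⊥) :
    ∃ (J' : Ideal A) (t : A), J' < J ∧ t ∉ J' ∧ J = J' ⊔ Ideal.span {t} ∧
      ∀ a ∈ maximalIdeal A, t * a ∈ J' := by
  obtain ⟨J', hlt, hmax⟩ := set_has_maximal_iff_noetherian.mpr inferInstance
    {K : Ideal A | K < J} ⟨⊥, bot_lt_iff_ne_bot.mpr h0⟩
  have hlt' : J' < J := hlt
  obtain ⟨t, htJ, htJ'⟩ := SetLike.exists_of_lt hlt'
  have hsup : J = J' ⊔ Ideal.span {t} := by
    have hle : J' ⊔ Ideal.span {t} ≤ J :=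
      sup_le hlt'.le (Ideal.span_le.mpr (Set.singleton_subset_iff.mpr htJ))
    by_contra hne
    exact hmax _ (lt_of_le_of_ne hle (Ne.symm hne))
      (lt_of_le_of_ne le_sup_left fun h => htJ' (h ▸ Ideal.mem_sup_right (Ideal.mem_span_singleton_self t)))
  refine ⟨J', t, hlt', htJ', hsup, fun a ha => ?_⟩
  by_contra hta
  have hmJ : maximalIdeal A * J ≤ J := Ideal.mul_le_right
  have htop : J ≤ J' ⊔ maximalIdeal A • J := by
    have hle : J' ⊔ maximalIdeal A • J ≤ J := sup_le hlt'.le hmJ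
    by_contra hne
    refine hmax (J' ⊔ maximalIdeal A • J) (lt_of_le_of_ne hle fun h => hne h.ge) ?_
    refine lt_of_le_of_ne le_sup_left fun h => hta ?_
    rw [h, mul_comm]
    exact Submodule.mem_sup_right (Submodule.smul_mem_smul ha htJ)
  exact hlt'.not_ge (Submodule.le_of_le_smul_of_le_jacobson_bot (IsNoetherian.noetherian J)
    (IsLocalRing.maximalIdeal_le_jacobson ⊥) htop)

variable [IsArtinianRing A] [Flat s]

theorem epi_comap_quotient {J : Ideal A} (hJ : J ≤ IsLocalRing.maximalIdeal A) {X : Scheme.{u}}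
    {i : X ⟶ X'} {q : X ⟶ Spec (CommRingCat.of (A ⧸ J))}
    (h : IsPullback i q s (Spec.map (CommRingCat.ofHom (Ideal.Quotient.mk J)))) :
    Epi (UnitsSh.comap i) := by
  haveI := isClosedImmersion_of_isPullback Ideal.Quotient.mk_surjective h
  refine epi_comap i fun W => ?_
  rw [ker_of_isPullback Ideal.Quotient.mk_surjective h, Ideal.mk_ker, Ideal.map_le_iff_le_comap]
  intro a ha
  have hnil : IsNilpotent a := by
    rw [← mem_nilradical, nilradical_eq_sInf, Ideal.mem_sInf]
    intro p hp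
    have : p.IsPrime := hp
    have : p.IsMaximal := IsArtinianRing.isMaximal_of_isPrime p
    rw [IsLocalRing.eq_maximalIdeal this]
    exact hJ ha
  exact mem_nilradical.mpr (hnil.map _)

open IsLocalRing in
/-- Principal units have no `H^n` when the closed fibre has no `H^n(O)`. -/
theorem subsingleton_kernel_comap {X₀ : Scheme.{u}} {i₀ : X₀ ⟶ X'}
    {q₀ : X₀ ⟶ Spec (CommRingCat.of (ResidueField A))}
    (p₀ : IsPullback i₀ q₀ s (Spec.map (CommRingCat.ofHom (residue A)))) (n : ℕ)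
    (hvan : Subsingleton (Coh.HH X₀ (Coh.structureModule X₀) n)) (J : Ideal A)
    (hJ : J ≤ maximalIdeal A) :
    ∀ {X : Scheme.{u}} {i : X ⟶ X'} {q : X ⟶ Spec (CommRingCat.of (A ⧸ J))},
      IsPullback i q s (Spec.map (CommRingCat.ofHom (Ideal.Quotient.mk J))) →
      Subsingleton (Sheaf.H (kernel (UnitsSh.comap i)) n) := by
  induction J using WellFoundedLT.induction with
  | ind J ih =>
  intro X i q h
  rcases eq_or_ne J ⊥ with rfl | h0
  · haveI : IsIso (Spec.map (CommRingCat.ofHom (Ideal.Quotient.mk (⊥ : Ideal A)))) := by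
      have : IsIso (CommRingCat.ofHom (Ideal.Quotient.mk (⊥ : Ideal A))) :=
        (ConcreteCategory.isIso_iff_bijective _).mpr
          ⟨(RingHom.injective_iff_ker_eq_bot _).mpr Ideal.mk_ker, Ideal.Quotient.mk_surjective⟩
      infer_instance
    haveI : IsIso i := h.isIso_fst_of_isIso
    haveI := mono_comap_of_isIso i
    refine subsingleton_H_of_iso ((isZero_kernel_of_mono (UnitsSh.comap i)).iso (isZero_zero _)) n ?_
    exact ⟨fun a b => by
      rw [← Sheaf.H.map_id_apply a, ← Sheaf.H.map_id_apply b, (isZero_zero _).eq_of_src (𝟙 _) 0,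
        Sheaf.H.map_apply, Sheaf.H.map_apply, Abelian.Ext.mk₀_zero, Abelian.Ext.comp_zero,
        Abelian.Ext.comp_zero]⟩
  obtain ⟨J', t, hlt, htJ', hsup, hm⟩ := exists_predecessor hJ h0
  have htm : t ∈ maximalIdeal A :=
    hJ (hsup ▸ Ideal.mem_sup_right (Ideal.mem_span_singleton_self t))
  let π : CommRingCat.of A ⟶ CommRingCat.of (A ⧸ J') := CommRingCat.ofHom (Ideal.Quotient.mk J')
  let π₁ := Ideal.Quotient.factor hlt.le
  let π₀ : A ⧸ J' →+* ResidueField A := Ideal.Quotient.lift J' (residue A) fun a ha =>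
    (residue_eq_zero_iff a).mpr (hJ (hlt.le ha))
  have e₁ : Spec.map (CommRingCat.ofHom (Ideal.Quotient.mk J)) =
      Spec.map (CommRingCat.ofHom π₁) ≫ Spec.map π := by
    rw [← Spec.map_comp]
    exact congrArg Spec.map (CommRingCat.hom_ext (Ideal.Quotient.factor_comp_mk hlt.le).symm)
  have e₀ : Spec.map (CommRingCat.ofHom (residue A)) =
      Spec.map (CommRingCat.ofHom π₀) ≫ Spec.map π := by
    rw [← Spec.map_comp]
    exact congrArg Spec.map (CommRingCat.hom_ext (Ideal.Quotient.lift_comp_mk J' _ _).symm)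
  let i' := pullback.fst s (Spec.map π)
  let j : X ⟶ pullback s (Spec.map π) := pullback.lift i (q ≫ Spec.map (CommRingCat.ofHom π₁))
    (by rw [h.w, e₁, Category.assoc])
  let j₀ : X₀ ⟶ pullback s (Spec.map π) := pullback.lift i₀ (q₀ ≫ Spec.map (CommRingCat.ofHom π₀))
    (by rw [p₀.w, e₀, Category.assoc])
  have hj : j ≫ i' = i := pullback.lift_fst _ _ _
  have hj₀ : j₀ ≫ i' = i₀ := pullback.lift_fst _ _ _
  have ht' : IsPullback i' (pullback.snd s (Spec.map π)) s (Spec.map π) :=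
    IsPullback.of_hasPullback _ _
  have P₁ : IsPullback j q (pullback.snd s (Spec.map π)) (Spec.map (CommRingCat.ofHom π₁)) :=
    IsPullback.of_right (by rw [hj, ← e₁]; exact h) (pullback.lift_snd _ _ _) ht'
  have P₀ : IsPullback j₀ q₀ (pullback.snd s (Spec.map π)) (Spec.map (CommRingCat.ofHom π₀)) :=
    IsPullback.of_right (by rw [hj₀, ← e₀]; exact p₀) (pullback.lift_snd _ _ _) ht'
  have hs₁ : Function.Surjective π₁ := Ideal.Quotient.factor_surjective hlt.le
  have hs₀ : Function.Surjective π₀ :=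
    Ideal.Quotient.lift_surjective_of_surjective _ _ residue_surjective
  haveI : Flat (pullback.snd s (Spec.map π)) := inferInstance
  let D := Datum.ofPullback hs₁ hs₀ P₁ P₀ (Ideal.Quotient.mk J' t)
    (by rw [← map_mul]; exact Ideal.Quotient.eq_zero_iff_mem.mpr (hm t htm))
    (by rw [Ideal.Quotient.factor_ker hlt.le, hsup, Ideal.map_sup, Ideal.map_quotient_self,
      bot_sup_eq, Ideal.map_span, Set.image_singleton])
    (fun a => by
      obtain ⟨a, rfl⟩ := Ideal.Quotient.mk_surjective a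
      rw [RingHom.mem_ker, ← map_mul, Ideal.Quotient.eq_zero_iff_mem, Ideal.Quotient.lift_mk,
        residue_eq_zero_iff]
      refine ⟨fun ha => hm a ha, fun hta => by_contra fun ha => htJ' ?_⟩
      exact (Ideal.mul_unit_mem_iff_mem J' (not_not.mp ha)).mp hta)
  haveI := isClosedImmersion_of_isPullback hs₁ P₁
  haveI := isClosedImmersion_of_isPullback hs₀ P₀
  haveI : IsClosedImmersion (Spec.map π) :=
    IsClosedImmersion.spec_of_surjective _ Ideal.Quotient.mk_surjective
  haveI : IsClosedImmersion i' := isClosedImmersion_of_isPullback Ideal.Quotient.mk_surjective ht'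
  haveI : Epi (UnitsSh.comap i') := epi_comap_quotient (hlt.le.trans hJ) ht'
  rw [← hj]
  refine subsingleton_H_of_iso (kernelIsoOfEq (comap_comp j i')) n ?_
  refine CohBase.ext_subsingleton_of_shortExact
    (kerComp_shortExact (UnitsSh.comap i') ((CohTop.push i'.base).map (UnitsSh.comap j)))
    _ (ih J' hlt (hlt.le.trans hJ) ht') ?_
  have := (shortExact D).mono_f
  let e : Q j₀ ≅ kernel (UnitsSh.comap j) :=
    IsLimit.conePointUniqueUpToIso (shortExact D).fIsKernel (limit.isLimit _)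
  haveI : (CohTop.push i'.base).IsRightAdjoint :=
    inferInstanceAs (CohBase.pushSheaf i'.base).IsRightAdjoint
  refine subsingleton_H_of_iso
    ((PreservesKernel.iso (CohTop.push i'.base) (UnitsSh.comap j)).symm.trans
      ((CohTop.push i'.base).mapIso e.symm)) n ?_
  obtain ⟨E⟩ := nonempty_equiv (i₀ := j₀ ≫ i') n
  exact ⟨fun a b => E.injective (Subsingleton.elim (α := Coh.HH X₀ (Coh.structureModule X₀) n) _ _)⟩

end Groth.PicAux.PrincipalUnits
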