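import Groth.Agent.PicAux.RigNormal
import Groth.Agent.PicAux.GenLocal
import Groth.Agent.DescentBase.FpqcCover
import Groth.Agent.DescentBase.QCohHom
import Groth.Agent.LocFree.Rank
import Groth.Agent.ThetaAlg.DescLF
import Groth.Agent.PicCurve.RigPic
import Groth.Prelude.Def_AbDual

/-!
# Flat descent of rigidified invertible classes
-/

set_option autoImplicit false
set_option backward.isDefEq.respectTransparency false
set_option backward.isDefEq.respectTransparency.types false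

universe u

open CategoryTheory CategoryTheory.Limits AlgebraicGeometry TopologicalSpace Opposite

noncomputable section

namespace Groth.PicAux.RigDescent

open RigNormal Groth.DescentBase Groth.ThetaAlg
open Groth.Abvar.PicCalc (pull pull_cls cls)
open Groth.PicCurve (XTmap_sq XTmap_snd XTmap_comp' XTmap_id' secT_map secT_proj RS)

section General

variable {P Q : Scheme.{u}} (q : P ⟶ Q)

/-- A section of an invertible module generates if its inverse image along a surjection does. -/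
theorem gen_of_pullSec [Surjective q] {M : Q.Modules} (hM : PicF.IsInvertible M) {n : Γ(M, ⊤)}
    (h : Gen ((Scheme.Modules.pullback q).obj M) (q ⁻¹ᵁ ⊤) (pullSec q M n)) : Gen M ⊤ n := by
  have key : ∀ x : Q, ∃ V : Q.Opens, x ∈ V ∧ Gen M V (Groth.PicAux.res M (le_top : V ≤ ⊤) n) := by
    intro x
    obtain ⟨U, m, hxU, hm⟩ := (PicAux.isInvertible_iff_exists_gen M).1 hM x
    obtain ⟨r, hr⟩ := hm.exists_coeff le_rfl (Groth.PicAux.res M (le_top : U ≤ ⊤) n)
    rw [PicAux.res_self] at hr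
    have hp : Gen _ (q ⁻¹ᵁ U) (Groth.PicAux.res _ (q.preimage_mono (le_top : U ≤ ⊤)) (pullSec q M n)) :=
      h.res _
    rw [res_pullSec q M (le_top : U ≤ ⊤), hr, pullSec_smul] at hp
    obtain ⟨a, ha⟩ := (hm.pull q).exists_unit hp
    have hu : IsUnit (q.app U r) := by
      have := (hm.pull q).smul_inj le_rfl (r := q.app U r) (r' := (a : Γ(P, q ⁻¹ᵁ U)))
        (by rw [PicAux.res_self]; exact ha)
      rw [this]
      exact a.isUnit
    have hxr : x ∈ Q.basicOpen r := by
      obtain ⟨y, rfl⟩ := q.surjective x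
      show y ∈ q ⁻¹ᵁ Q.basicOpen r
      rw [Scheme.preimage_basicOpen, P.basicOpen_of_isUnit hu]
      exact hxU
    refine ⟨Q.basicOpen r, hxr, ?_⟩
    have e : Groth.PicAux.res M (le_top : Q.basicOpen r ≤ ⊤) n =
        resX Q (Q.basicOpen_le r) r • Groth.PicAux.res M (Q.basicOpen_le r) m := by
      rw [← PicAux.res_smul, ← hr, PicAux.res_res]
    rw [e]
    exact (hm.res _).smul_unit (RingedSpace.isUnit_res_basicOpen Q.toRingedSpace r)
  choose V hxV hV using key
  exact Gen.of_cover V (fun _ => le_top) (fun x _ => Opens.mem_iSup.2 ⟨x, hxV x⟩) hV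

/-- A quasi-coherent module is invertible if its inverse image along an fpqc morphism is. -/
theorem isInvertible_of_pullback
    (hq : Presieve.ofArrows (fun _ : PUnit.{u + 1} => P) (fun _ => q) ∈ Scheme.fpqcPrecoverage Q)
    (N : Q.Modules) [N.IsQuasicoherent] (hN : PicF.IsInvertible ((Scheme.Modules.pullback q).obj N)) :
    PicF.IsInvertible N := by
  rw [Groth.LocFree.isInvertible_iff_ofRank_one] at hN ⊢
  have key : ∀ x : Q, ∃ U : Q.Opens, IsAffineOpen U ∧ x ∈ U ∧ Module.Finite Γ(Q, U) Γ(N, U) ∧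
      Module.Projective Γ(Q, U) Γ(N, U) ∧
      ∀ p : PrimeSpectrum Γ(Q, U), Module.rankAtStalk (R := Γ(Q, U)) Γ(N, U) p = 1 := by
    intro x
    obtain ⟨U, hU, hxU⟩ := Groth.QCohMod.exists_affine_mem x
    obtain ⟨K, _, Z, _, a, _, hflat, ha, hsurj⟩ := exists_pieces _ hq hU
    let c : (∐ Z) ⟶ Q := Sigma.desc fun k => a k ≫ q
    have : Flat c := IsZariskiLocalAtSource.sigmaDesc (P := @Flat) hflat
    have e : ⊤ ≤ c ⁻¹ᵁ U := fun z _ => by
      obtain ⟨k, y, rfl⟩ := (sigmaOpenCover Z).exists_eq z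
      change c (Sigma.ι Z k y) ∈ U
      rw [← Scheme.Hom.comp_apply, Sigma.ι_desc]
      exact ha k (Set.mem_univ y)
    have hs : ∀ x ∈ U, ∃ z, c z = x := fun x hx => by
      obtain ⟨k, y, hy⟩ := hsurj x hx
      exact ⟨Sigma.ι Z k y, by rw [← Scheme.Hom.comp_apply, Sigma.ι_desc]; exact hy⟩
    have hc : c = Sigma.desc a ≫ q := Sigma.hom_ext _ _ fun k => by simp [c]
    have hZ : FlatMod.IsFinLocFreeOfRank 1 ((Scheme.Modules.pullback c).obj N) := by
      rw [hc]
      exact Groth.LocFree.isFinLocFreeOfRank_of_iso ((Scheme.Modules.pullbackComp (Sigma.desc a) q).app N)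
        (Groth.LocFree.isFinLocFreeOfRank_pullback _ hN)
    have hZf := Groth.LocFree.isFinLocFree_of_rank hZ
    obtain ⟨hfin, hproj⟩ := Groth.LocFree.finite_projective_sections hZf (isAffineOpen_top (∐ Z))
    letI : Algebra Γ(Q, U) Γ((∐ Z : Scheme.{u}), ⊤) := Groth.QCohMod.sectionsAlg c e
    haveI : Module.FaithfullyFlat Γ(Q, U) Γ((∐ Z : Scheme.{u}), ⊤) :=
      Groth.ThetaAlg.DescLF.faithfullyFlat_appLE c hU e hs
    let E := Groth.QCohMod.pullSecEquiv c N e hU (isAffineOpen_top (∐ Z))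
    haveI : Module.Finite Γ((∐ Z : Scheme.{u}), ⊤)
        (TensorProduct Γ(Q, U) Γ((∐ Z : Scheme.{u}), ⊤) Γ(N, U)) := Module.Finite.equiv E.symm
    haveI : Module.Projective Γ((∐ Z : Scheme.{u}), ⊤)
        (TensorProduct Γ(Q, U) Γ((∐ Z : Scheme.{u}), ⊤) Γ(N, U)) := Module.Projective.of_equiv E.symm
    haveI hf' : Module.Finite Γ(Q, U) Γ(N, U) :=
      Module.Finite.of_finite_tensorProduct_of_faithfullyFlat Γ((∐ Z : Scheme.{u}), ⊤)
    haveI hp' : Module.Projective Γ(Q, U) Γ(N, U) :=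
      Groth.PP.projective_of_faithfullyFlat Γ((∐ Z : Scheme.{u}), ⊤) _
    refine ⟨U, hU, hxU, hf', hp', fun p => ?_⟩
    obtain ⟨p', rfl⟩ := PrimeSpectrum.comap_surjective_of_faithfullyFlat (A := Γ(Q, U))
      (B := Γ((∐ Z : Scheme.{u}), ⊤)) p
    rw [← Module.rankAtStalk_baseChange, Module.rankAtStalk_eq_of_equiv E]
    exact Groth.LocFree.rankAtStalk_sections_ofRank hZ (isAffineOpen_top (∐ Z)) p'
  have hfree : FlatMod.IsFinLocFree N := Groth.LocFree.isFinLocFree_of_affine_cover fun t => by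
    obtain ⟨W, hW, ht, h₁, h₂, -⟩ := key t
    exact ⟨W, hW, ht, h₁, h₂⟩
  refine Groth.LocFree.isFinLocFreeOfRank_iff_finrank.2 ⟨hfree, fun t => ?_⟩
  obtain ⟨W, hW, ht, -, -, h₃⟩ := key t
  rw [← Groth.LocFree.rankAtStalk_sections hfree hW ht]
  exact h₃ _

theorem singleton_mem_fppf [Flat q] [LocallyOfFinitePresentation q] [Surjective q] :
    Presieve.ofArrows (fun _ : PUnit.{u + 1} => P) (fun _ => q) ∈ Scheme.fpqcPrecoverage Q := by
  rw [Presieve.ofArrows_pUnit]
  exact Scheme.fppfPrecoverage_le_fpqcPrecoverage _ q.singleton_mem_fppfPrecoverage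

theorem singleton_mem_fpqc [Flat q] [QuasiCompact q] [Surjective q] :
    Presieve.ofArrows (fun _ : PUnit.{u + 1} => P) (fun _ => q) ∈ Scheme.fpqcPrecoverage Q := by
  rw [Presieve.ofArrows_pUnit]
  exact q.singleton_mem_fpqcPrecoverage

end General

variable {X S : Scheme.{u}} (f : X ⟶ S)

theorem isPullback_XTmap₂ {W A B T : Over S} {a : W ⟶ A} {b : W ⟶ B} {v : A ⟶ T} {w : B ⟶ T}
    (h : IsPullback a.left b.left v.left w.left) :
    IsPullback (PicF.XTmap f a) (PicF.XTmap f b) (PicF.XTmap f v) (PicF.XTmap f w) := by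
  have e : a ≫ v = b ≫ w := Over.OverMorphism.ext h.w
  have h1 := (XTmap_sq f a).paste_vert h
  rw [← XTmap_snd f b, ← XTmap_snd f v] at h1
  exact IsPullback.of_bot h1 (by rw [← XTmap_comp', ← XTmap_comp', e]) (XTmap_sq f w)

variable (σ : S ⟶ X) (hσ : σ ≫ f = 𝟙 S)

/-- The sections of the base changes. -/
local notation "secσ" => PicF.secT f σ hσ

variable {f σ hσ} {T U : Over S} (v : U ⟶ T)

/-- The double product. -/
abbrev W₂ : Over S := AbDual.ovr U (pullback.fst v.left v.left)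

/-- The first projection. -/
abbrev pr₁ : W₂ v ⟶ U := AbDual.ovrHom U (pullback.fst v.left v.left)

/-- The second projection. -/
abbrev pr₂ : W₂ v ⟶ U := Over.homMk (pullback.snd v.left v.left) (by
  change pullback.snd v.left v.left ≫ U.hom = pullback.fst v.left v.left ≫ U.hom
  rw [← Over.w v, pullback.condition_assoc])

/-- The triple product. -/
abbrev W₃ : Over S := AbDual.ovr (W₂ v) (pullback.fst (pr₂ v).left (pr₁ v).left)

/-- The projection on the first two factors. -/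
abbrev pr₁₂ : W₃ v ⟶ W₂ v := AbDual.ovrHom (W₂ v) (pullback.fst (pr₂ v).left (pr₁ v).left)

/-- The projection on the last two factors. -/
abbrev pr₂₃ : W₃ v ⟶ W₂ v := Over.homMk (pullback.snd (pr₂ v).left (pr₁ v).left) (by
  have h := Over.w (pr₂ v)
  change _ ≫ (pr₁ v).left ≫ U.hom = pullback.fst (pr₂ v).left (pr₁ v).left ≫ (W₂ v).hom
  rw [← h, pullback.condition_assoc])

theorem pr_condition : pr₁ v ≫ v = pr₂ v ≫ v := Over.OverMorphism.ext pullback.condition

theorem pr₁₂_pr₂ : pr₁₂ v ≫ pr₂ v = pr₂₃ v ≫ pr₁ v := Over.OverMorphism.ext pullback.condition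

/-- The projection on the outer factors. -/
abbrev pr₁₃ : W₃ v ⟶ W₂ v := Over.homMk
  (pullback.lift ((pr₁₂ v ≫ pr₁ v).left) ((pr₂₃ v ≫ pr₂ v).left)
    (congrArg (fun h => h.left) (show (pr₁₂ v ≫ pr₁ v) ≫ v = (pr₂₃ v ≫ pr₂ v) ≫ v by
      rw [Category.assoc, Category.assoc, pr_condition v, ← Category.assoc, pr₁₂_pr₂,
        Category.assoc, pr_condition v])))
  (by
    change pullback.lift _ _ _ ≫ pullback.fst v.left v.left ≫ U.hom = _
    rw [pullback.lift_fst_assoc]
    exact Over.w (pr₁₂ v ≫ pr₁ v))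

theorem pr₁₃_pr₁ : pr₁₃ v ≫ pr₁ v = pr₁₂ v ≫ pr₁ v :=
  Over.OverMorphism.ext (pullback.lift_fst _ _ _)

theorem pr₁₃_pr₂ : pr₁₃ v ≫ pr₂ v = pr₂₃ v ≫ pr₂ v :=
  Over.OverMorphism.ext (pullback.lift_snd _ _ _)

/-- The diagonal. -/
abbrev diag : U ⟶ W₂ v := Over.homMk (pullback.lift (𝟙 _) (𝟙 _) rfl) (by
  change pullback.lift _ _ _ ≫ pullback.fst v.left v.left ≫ U.hom = _
  rw [pullback.lift_fst_assoc, Category.id_comp])

theorem diag_pr₁ : diag v ≫ pr₁ v = 𝟙 _ := Over.OverMorphism.ext (pullback.lift_fst _ _ _)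

theorem diag_pr₂ : diag v ≫ pr₂ v = 𝟙 _ := Over.OverMorphism.ext (pullback.lift_snd _ _ _)

variable (f) in
theorem isPullback_pr : IsPullback (PicF.XTmap f (pr₁ v)) (PicF.XTmap f (pr₂ v))
    (PicF.XTmap f v) (PicF.XTmap f v) :=
  isPullback_XTmap₂ f (IsPullback.of_hasPullback v.left v.left)

theorem secT_left {A B : Over S} (a : A ⟶ B) :
    a.left ≫ secσ B = secσ A ≫ PicF.XTmap f a := (secT_map f σ hσ a).symm

end Groth.PicAux.RigDescent
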