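import Groth.Agent.PicAux.RigSheaf
import Groth.Agent.AlgSpBasic.Diag
import Groth.Agent.S7817

/-!
# The diagonal of the sheaf of rigidified classes
-/

set_option autoImplicit false
set_option linter.unusedVariables false
set_option backward.isDefEq.respectTransparency false
set_option backward.isDefEq.respectTransparency.types false

universe u

open CategoryTheory CategoryTheory.Limits AlgebraicGeometry TopologicalSpace Opposite
open scoped Groth.Abvar.PicCalc

noncomputable section

namespace Groth.PicAux.RigSheaf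

open Groth.Abvar.PicCalc (pull pull_cls pull_comp pull_id cls nonempty_iso_iff)
open Groth.PicCurve (RS ConstFun map_map map_id XTmap_sq XTmap_snd secT_proj)

variable {X S : Scheme.{u}} {f : X ⟶ S} {σ : S ⟶ X} {hσ : σ ≫ f = 𝟙 S}
variable [IsProper f] [Flat f] [LocallyOfFinitePresentation f] [GeometricallyConnected f]
  [GeometricallyReduced f]

theorem isFinLocFree_of_isInvertible {Y : Scheme.{u}} {L : Y.Modules} (hL : PicF.IsInvertible L) :
    FlatMod.IsFinLocFree L :=
  Groth.LocFree.isFinLocFree_of_rank (Groth.LocFree.isInvertible_iff_ofRank_one.1 hL)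

/-- The locus where a rigidified class is trivial is a quasi-compact subscheme. -/
theorem exists_trivLocus (T : Over S) (e : RS f σ hσ T) :
    ∃ (Z : Over S) (ι : Z ⟶ T), QuasiCompact ι.left ∧ Mono ι.left ∧
      ∀ (W : Over S) (v : W ⟶ T), (∃ l : W ⟶ Z, l ≫ ι = v) ↔ e.map v = 1 := by
  let π := PicF.XTproj f T
  have : IsProper π := MorphismProperty.pullback_snd _ _ ‹_›
  have : Flat π := MorphismProperty.pullback_snd _ _ ‹_›
  have : LocallyOfFinitePresentation π := MorphismProperty.pullback_snd _ _ ‹_›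
  have : GeometricallyConnected π := MorphismProperty.pullback_snd _ _ ‹_›
  have : GeometricallyReduced π := MorphismProperty.pullback_snd _ _ ‹_›
  obtain ⟨E, hE, heE⟩ := PicGrp.exists_eq_cls e.1
  obtain ⟨Z, ι, hι, -, hqc, huniv, -⟩ :=
    Groth.Agent.S7817.result π E (isFinLocFree_of_isInvertible hE)
  refine ⟨AbDual.ovr T ι, AbDual.ovrHom T ι, hqc, inferInstanceAs (Mono ι), fun W v => ?_⟩
  have h1 : (∃ l : W ⟶ AbDual.ovr T ι, l ≫ AbDual.ovrHom T ι = v) ↔
      ∃ u' : W.left ⟶ Z, u' ≫ ι = v.left :=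
    ⟨fun ⟨l, hl⟩ => ⟨l.left, congrArg (fun m => m.left) hl⟩,
      fun ⟨l, hl⟩ => ⟨Over.homMk l (by
        show l ≫ ι ≫ T.hom = W.hom
        rw [reassoc_of% hl, Over.w v]), Over.OverMorphism.ext hl⟩⟩
  rw [h1, huniv]
  let θ := (XTmap_sq f v).isoPullback
  have hθ₁ : θ.hom ≫ pullback.fst π v.left = PicF.XTmap f v := (XTmap_sq f v).isoPullback_hom_fst
  have hθ₂ : θ.hom ≫ pullback.snd π v.left = PicF.XTproj f W := (XTmap_sq f v).isoPullback_hom_snd
  constructor
  · rintro ⟨M, hM, ⟨i⟩⟩
    let j : (Scheme.Modules.pullback (PicF.XTmap f v)).obj E ≅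
        (Scheme.Modules.pullback (PicF.XTproj f W)).obj M :=
      (Scheme.Modules.pullbackCongr hθ₁.symm).app E ≪≫
        (Scheme.Modules.pullbackComp _ _).symm.app E ≪≫
        (Scheme.Modules.pullback θ.hom).mapIso i ≪≫
        (Scheme.Modules.pullbackComp _ _).app M ≪≫ (Scheme.Modules.pullbackCongr hθ₂).app M
    let s := PicF.secT f σ hσ W
    let k : (Scheme.Modules.pullback s).obj ((Scheme.Modules.pullback (PicF.XTproj f W)).obj M) ≅ M :=
      (Scheme.Modules.pullbackComp s _).app M ≪≫
        (Scheme.Modules.pullbackCongr (secT_proj f σ hσ W)).app M ≪≫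
        (Scheme.Modules.pullbackId _).app M
    have hMi : PicF.IsInvertible M := Groth.Abvar.PicCalc.isInvertible_of_iso
      (PicLoc.isInvertible_pullback s (Groth.Abvar.PicCalc.isInvertible_of_iso (PicLoc.isInvertible_pullback _ hE) j)) k
    have hval : (e.map v).1 = pull (PicF.XTproj f W) (cls hMi) := by
      show pull (PicF.XTmap f v) e.1 = _
      rw [heE, pull_cls, pull_cls]
      exact (nonempty_iso_iff _ _).1 ⟨j⟩
    have hs := (e.map v).2
    rw [hval, ← pull_comp, secT_proj, pull_id] at hs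
    exact Subtype.ext (by rw [hval, hs, map_one]; rfl)
  · intro hv
    refine ⟨Coh.structureModule W.left,
      isFinLocFree_of_isInvertible (PicLoc.isInvertible_structureModule _), ?_⟩
    have hM := PicLoc.isInvertible_structureModule W.left
    refine (nonempty_iso_iff (PicLoc.isInvertible_pullback _ hE)
      (PicLoc.isInvertible_pullback _ hM)).2 ?_
    rw [← pull_cls (pullback.fst π v.left) hE, ← pull_cls (pullback.snd π v.left) hM,
      (Groth.Abvar.PicCalc.nonempty_iso_structure_iff hM).1 ⟨Iso.refl _⟩, map_one, ← θ.inv_hom_id_assoc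
        (pullback.fst π v.left), hθ₁, pull_comp, show cls hE = e.1 from heE.symm,
      show pull (PicF.XTmap f v) e.1 = 1 from congrArg Subtype.val hv, map_one]

variable {hc : ConstFun f}

/-- Fibre products of schemes over the sheaf are quasi-compact subschemes of the product. -/
theorem exists_pullback (U V : Over S) (a : RS f σ hσ U) (b : RS f σ hσ V) :
    ∃ (W : Over S) (p : W ⟶ U) (q : W ⟶ V),
      IsPullback ((AlgSp.yon S).map p) ((AlgSp.yon S).map q) (sec (hc := hc) a) (sec b) ∧
      QuasiCompact (prod.lift p q).left := by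
  let e : RS f σ hσ (U ⨯ V) := a.map prod.fst * (b.map prod.snd)⁻¹
  obtain ⟨Z, ι, hqc, hmono, hZ⟩ := exists_trivLocus _ e
  have key : ∀ {W : Over S} (s : W ⟶ U) (t : W ⟶ V),
      e.map (prod.lift s t) = 1 ↔ a.map s = b.map t := fun s t => by
    rw [map_mul', map_inv', map_map, map_map, prod.lift_fst, prod.lift_snd, mul_inv_eq_one]
  refine ⟨Z, ι ≫ prod.fst, ι ≫ prod.snd, isPullback_sec (ι ≫ prod.fst) (ι ≫ prod.snd) ?_
    (fun W s t h => ?_), ?_⟩
  · have := (hZ Z ι).1 ⟨𝟙 Z, Category.id_comp _⟩
    rw [← key]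
    rwa [← prod.comp_lift, prod.lift_fst_snd, Category.comp_id]
  · obtain ⟨l, hl⟩ := (hZ W (prod.lift s t)).2 ((key s t).2 h)
    refine ⟨l, ⟨by rw [← Category.assoc, hl, prod.lift_fst],
      by rw [← Category.assoc, hl, prod.lift_snd]⟩, fun m hm => ?_⟩
    refine Over.OverMorphism.ext ((cancel_mono ι.left).1 ?_)
    rw [← Over.comp_left, ← Over.comp_left, hl]
    refine congrArg (fun r : W ⟶ U ⨯ V => r.left) (prod.hom_ext ?_ ?_)
    · rw [Category.assoc, hm.1, prod.lift_fst]
    · rw [Category.assoc, hm.2, prod.lift_snd]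
  · rwa [← prod.comp_lift, prod.lift_fst_snd, Category.comp_id]

/-- The sheaf of rigidified classes is quasi-separated. -/
theorem isQuasiSeparatedSp : AlgSp.IsQuasiSeparatedSp (rigSp (σ := σ) (hσ := hσ) hc) := by
  refine Groth.AlgSpBasic.repWith_diag (fun U V a b => ?_) fun U V W a b p q sq => ?_
  · obtain ⟨a, rfl⟩ := exists_sec a
    obtain ⟨b, rfl⟩ := exists_sec b
    obtain ⟨W, p, q, sq, -⟩ := exists_pullback (hc := hc) U V a b
    exact ⟨W, p, q, sq⟩
  · obtain ⟨a, rfl⟩ := exists_sec a
    obtain ⟨b, rfl⟩ := exists_sec b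
    obtain ⟨W', p', q', sq', hqc⟩ := exists_pullback (hc := hc) U V a b
    obtain ⟨i, hi⟩ := (AlgSp.yon S).map_surjective (sq.isoIsPullback _ _ sq').hom
    have : IsIso ((AlgSp.yon S).map i) := by rw [hi]; infer_instance
    have : IsIso i := isIso_of_fully_faithful (AlgSp.yon S) i
    have : IsIso i.left := inferInstanceAs (IsIso ((Over.forget S).map i))
    have h1 : i ≫ p' = p := (AlgSp.yon S).map_injective (by
      rw [Functor.map_comp, hi]; exact sq.isoIsPullback_hom_fst _ _ sq')
    have h2 : i ≫ q' = q := (AlgSp.yon S).map_injective (by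
      rw [Functor.map_comp, hi]; exact sq.isoIsPullback_hom_snd _ _ sq')
    rw [← h1, ← h2, ← prod.comp_lift, Over.comp_left]
    infer_instance

end Groth.PicAux.RigSheaf
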