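import Groth.Agent.ThetaAlg.Cart
import Groth.Agent.DescentBase.DDElem

/-!
# Isomorphisms of invertible modules normalised along a section

For inverse images of a module `L` on `X` with a generator `τ` of its inverse image along
`s : B ⟶ X`, an isomorphism `g₁^*L ⟶ g₂^*L` over `Y` is normal along `e : Z ⟶ Y` if it matches
the generators induced by `τ`.  When `Y ⟶ Z` has `e` as a section and only constant functions,
normal isomorphisms are unique, hence stable under base change and composition.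
-/

set_option autoImplicit false
set_option backward.isDefEq.respectTransparency false
set_option backward.isDefEq.respectTransparency.types false

universe u

open CategoryTheory CategoryTheory.Limits AlgebraicGeometry TopologicalSpace Opposite

noncomputable section

namespace Groth.PicAux.RigNormal

open Groth.DescentBase Groth.ThetaAlg

variable {A A' X Y Y' Y'' Z Z' B : Scheme.{u}}

/-- Base change of a morphism between inverse images. -/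
def cj {N₁ : A.Modules} {N₂ : A'.Modules} {g₁ : Y ⟶ A} {g₂ : Y ⟶ A'}
    (φ : (Scheme.Modules.pullback g₁).obj N₁ ⟶ (Scheme.Modules.pullback g₂).obj N₂) (k : Y' ⟶ Y)
    (g₁' : Y' ⟶ A) (g₂' : Y' ⟶ A') (e₁ : k ≫ g₁ = g₁') (e₂ : k ≫ g₂ = g₂') :
    (Scheme.Modules.pullback g₁').obj N₁ ⟶ (Scheme.Modules.pullback g₂').obj N₂ :=
  (pullTo k g₁ g₁' e₁ N₁).inv ≫ (Scheme.Modules.pullback k).map φ ≫ (pullTo k g₂ g₂' e₂ N₂).hom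

variable {N₁ : A.Modules} {N₂ : A'.Modules} {g₁ : Y ⟶ A} {g₂ : Y ⟶ A'}
  (φ : (Scheme.Modules.pullback g₁).obj N₁ ⟶ (Scheme.Modules.pullback g₂).obj N₂) (k : Y' ⟶ Y)
  (g₁' : Y' ⟶ A) (g₂' : Y' ⟶ A') (e₁ : k ≫ g₁ = g₁') (e₂ : k ≫ g₂ = g₂')

instance [IsIso φ] : IsIso (cj φ k g₁' g₂' e₁ e₂) := by unfold cj; infer_instance

theorem pullHom_eq_cj :
    Pseudofunctor.LocallyDiscreteOpToCat.pullHom (F := Desc.modPF.{u})
      (M₁ := N₁) (M₂ := N₂) (f₁ := g₁) (f₂ := g₂) φ k g₁' g₂' e₁ e₂ = cj φ k g₁' g₂' e₁ e₂ := by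
  dsimp only [Pseudofunctor.LocallyDiscreteOpToCat.pullHom]
  rw [mapComp'_hom_eq_pullTo k g₁ g₁' e₁, mapComp'_inv_eq_pullTo k g₂ g₂' e₂]
  rfl

theorem cj_cj (k' : Y'' ⟶ Y') (kk : Y'' ⟶ Y) (ek : k' ≫ k = kk) (g₁'' : Y'' ⟶ A) (g₂'' : Y'' ⟶ A')
    (e₁' : k' ≫ g₁' = g₁'') (e₂' : k' ≫ g₂' = g₂'') (e₁'' : kk ≫ g₁ = g₁'')
    (e₂'' : kk ≫ g₂ = g₂'') :
    cj (cj φ k g₁' g₂' e₁ e₂) k' g₁'' g₂'' e₁' e₂' = cj φ kk g₁'' g₂'' e₁'' e₂'' := by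
  subst ek
  rw [← pullHom_eq_cj, ← pullHom_eq_cj, ← pullHom_eq_cj]
  exact Pseudofunctor.LocallyDiscreteOpToCat.pullHom_pullHom (F := Desc.modPF.{u})
    (M₁ := N₁) (M₂ := N₂) (f₁ := g₁) (f₂ := g₂) φ k g₁' g₂' k' g₁'' g₂'' e₁ e₂ e₁' e₂'

theorem cj_comp {A'' : Scheme.{u}} {N₃ : A''.Modules} {g₃ : Y ⟶ A''}
    (ψ : (Scheme.Modules.pullback g₂).obj N₂ ⟶ (Scheme.Modules.pullback g₃).obj N₃)
    (g₃' : Y' ⟶ A'') (e₃ : k ≫ g₃ = g₃') :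
    cj (φ ≫ ψ) k g₁' g₃' e₁ e₃ = cj φ k g₁' g₂' e₁ e₂ ≫ cj ψ k g₂' g₃' e₂ e₃ := by
  simp [cj, Functor.map_comp]

theorem cj_id : cj (𝟙 ((Scheme.Modules.pullback g₁).obj N₁)) k g₁' g₁' e₁ e₁ = 𝟙 _ := by
  simp [cj]

theorem cj_app_bc (x : El N₁ g₁) :
    (cj φ k g₁' g₂' e₁ e₂).app ⊤ (bc k g₁ g₁' e₁ x) = bc k g₂ g₂' e₂ (φ.app ⊤ x) :=
  (bc_conj k g₁ g₂ g₁' e₁ g₂' e₂ φ x).symm

/-- Base change keeps generators. -/
theorem gen_bc {N : A.Modules} (h : Y' ⟶ Y) (g : Y ⟶ A) (g' : Y' ⟶ A) (e : h ≫ g = g')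
    {x : El N g} (hx : Gen ((Scheme.Modules.pullback g).obj N) ⊤ x) :
    Gen ((Scheme.Modules.pullback g').obj N) ⊤ (bc h g g' e x) :=
  (hx.pull h).map (pullTo h g g' e N).hom

/-- Morphisms out of a trivial module agree if they agree on a generator. -/
theorem hom_ext_el {M P : Y.Modules} {φ ψ : M ⟶ P} {t : Γ(M, ⊤)} (ht : Gen M ⊤ t)
    (h : φ.app ⊤ t = ψ.app ⊤ t) : φ = ψ :=
  hom_ext_gen (U := fun _ : PUnit.{u + 1} => ⊤) (eq_top_iff.2 (le_iSup_of_le PUnit.unit le_rfl))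
    (fun _ => t) (fun _ => ht) fun _ => h

/-- Isomorphisms of invertible modules agreeing along a section agree. -/
theorem eq_of_map_section {π : Y ⟶ Z} {e : Z ⟶ Y} (he : e ≫ π = 𝟙 Z)
    (hπ : Function.Bijective π.appTop) {M P : Y.Modules} (hM : PicF.IsInvertible M)
    (φ ψ : M ⟶ P) [IsIso φ] [IsIso ψ]
    (h : (Scheme.Modules.pullback e).map φ = (Scheme.Modules.pullback e).map ψ) : φ = ψ := by
  obtain ⟨r, hr⟩ := (end_invertible hM).2 (φ ≫ inv ψ)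
  obtain ⟨c, rfl⟩ := hπ.2 r
  have h1 : smulEnd ((Scheme.Modules.pullback e).obj M) (e.appTop (π.appTop c)) = smulEnd _ 1 := by
    rw [← pullback_map_smulEnd, hr, Functor.map_comp, h, ← Functor.map_comp, IsIso.hom_inv_id,
      CategoryTheory.Functor.map_id, smulEnd_one]
  have h2 : e.appTop (π.appTop c) = c := by
    rw [← CategoryTheory.comp_apply, ← Scheme.Hom.comp_appTop, he]
    rfl
  have h3 := (end_invertible (PicAux.isInvertible_pullback e hM)).1 h1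
  rw [h2] at h3
  subst h3
  rw [map_one, smulEnd_one] at hr
  calc φ = (φ ≫ inv ψ) ≫ ψ := by simp
    _ = ψ := by rw [← hr, Category.id_comp]

/-! ### Normal isomorphisms -/

variable {s : B ⟶ X} {L : X.Modules} (τ : El L s)

/-- The element induced by `τ`. -/
def tau (g : Z ⟶ X) (a : Z ⟶ B) (h : a ≫ s = g) : El L g := bc a s g h τ

theorem gen_tau (hτ : Gen ((Scheme.Modules.pullback s).obj L) ⊤ τ) (g : Z ⟶ X) (a : Z ⟶ B)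
    (h : a ≫ s = g) : Gen ((Scheme.Modules.pullback g).obj L) ⊤ (tau τ g a h) :=
  gen_bc a s g h hτ

theorem bc_tau (j : Z' ⟶ Z) (g : Z ⟶ X) (a : Z ⟶ B) (h : a ≫ s = g) (g' : Z' ⟶ X) (a' : Z' ⟶ B)
    (eg : j ≫ g = g') (ea : j ≫ a = a') :
    bc j g g' eg (tau τ g a h) = tau τ g' a' (by rw [← ea, Category.assoc, h, eg]) :=
  bc_bc j a a' ea s g h g' eg _ τ

variable (e : Z ⟶ Y) {p₁ p₂ p₃ : Y ⟶ X}

/-- The isomorphism matches the elements induced by `τ` along `e`. -/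
def Normal (φ : (Scheme.Modules.pullback p₁).obj L ⟶ (Scheme.Modules.pullback p₂).obj L)
    (a₁ a₂ : Z ⟶ B) : Prop :=
  ∃ (h₁ : a₁ ≫ s = e ≫ p₁) (h₂ : a₂ ≫ s = e ≫ p₂),
    (cj φ e (e ≫ p₁) (e ≫ p₂) rfl rfl).app ⊤ (tau τ (e ≫ p₁) a₁ h₁) = tau τ (e ≫ p₂) a₂ h₂

variable {τ e}

theorem normal_id {a : Z ⟶ B} (h : a ≫ s = e ≫ p₁) :
    Normal τ e (𝟙 ((Scheme.Modules.pullback p₁).obj L)) a a := by
  refine ⟨h, h, ?_⟩
  rw [cj_id]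
  rfl

theorem Normal.comp {φ : (Scheme.Modules.pullback p₁).obj L ⟶ (Scheme.Modules.pullback p₂).obj L}
    {ψ : (Scheme.Modules.pullback p₂).obj L ⟶ (Scheme.Modules.pullback p₃).obj L}
    {a₁ a₂ a₃ : Z ⟶ B} (hφ : Normal τ e φ a₁ a₂) (hψ : Normal τ e ψ a₂ a₃) :
    Normal τ e (φ ≫ ψ) a₁ a₃ := by
  obtain ⟨h₁, h₂, hφ⟩ := hφ
  obtain ⟨_, h₃, hψ⟩ := hψ
  refine ⟨h₁, h₃, ?_⟩
  rw [cj_comp φ e (e ≫ p₁) (e ≫ p₂) rfl rfl ψ (e ≫ p₃) rfl, Scheme.Modules.Hom.comp_app,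
    CategoryTheory.comp_apply, hφ, hψ]

/-- Normality is stable under base change. -/
theorem Normal.pull {φ : (Scheme.Modules.pullback p₁).obj L ⟶ (Scheme.Modules.pullback p₂).obj L}
    {a₁ a₂ : Z ⟶ B} (hφ : Normal τ e φ a₁ a₂) (k : Y' ⟶ Y) (j : Z' ⟶ Z) (e' : Z' ⟶ Y')
    (he' : e' ≫ k = j ≫ e) (p₁' p₂' : Y' ⟶ X) (q₁ : k ≫ p₁ = p₁') (q₂ : k ≫ p₂ = p₂')
    (a₁' a₂' : Z' ⟶ B) (b₁ : j ≫ a₁ = a₁') (b₂ : j ≫ a₂ = a₂') :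
    Normal τ e' (cj φ k p₁' p₂' q₁ q₂) a₁' a₂' := by
  obtain ⟨h₁, h₂, hφ⟩ := hφ
  have r₁ : j ≫ e ≫ p₁ = e' ≫ p₁' := by rw [← q₁, ← Category.assoc, ← he', Category.assoc]
  have r₂ : j ≫ e ≫ p₂ = e' ≫ p₂' := by rw [← q₂, ← Category.assoc, ← he', Category.assoc]
  have w₁ : a₁' ≫ s = e' ≫ p₁' := by rw [← b₁, Category.assoc, h₁, r₁]
  have w₂ : a₂' ≫ s = e' ≫ p₂' := by rw [← b₂, Category.assoc, h₂, r₂]
  refine ⟨w₁, w₂, ?_⟩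
  rw [cj_cj φ k p₁' p₂' q₁ q₂ e' (j ≫ e) he' (e' ≫ p₁') (e' ≫ p₂') rfl rfl
      (by rw [Category.assoc, r₁]) (by rw [Category.assoc, r₂]),
    ← cj_cj φ e (e ≫ p₁) (e ≫ p₂) rfl rfl j (j ≫ e) rfl (e' ≫ p₁') (e' ≫ p₂') r₁ r₂ _ _,
    ← bc_tau τ j (e ≫ p₁) a₁ h₁ (e' ≫ p₁') a₁' r₁ b₁, cj_app_bc, hφ]
  exact bc_tau τ j _ _ _ _ _ r₂ b₂

variable {π : Y ⟶ Z}

/-- Normal isomorphisms are unique. -/
theorem Normal.unique (hτ : Gen ((Scheme.Modules.pullback s).obj L) ⊤ τ) (hL : PicF.IsInvertible L)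
    (he : e ≫ π = 𝟙 Z) (hπ : Function.Bijective π.appTop)
    {φ ψ : (Scheme.Modules.pullback p₁).obj L ⟶ (Scheme.Modules.pullback p₂).obj L}
    [IsIso φ] [IsIso ψ] {a₁ a₂ : Z ⟶ B} (hφ : Normal τ e φ a₁ a₂) (hψ : Normal τ e ψ a₁ a₂) :
    φ = ψ := by
  obtain ⟨h₁, h₂, hφ⟩ := hφ
  obtain ⟨_, _, hψ⟩ := hψ
  refine eq_of_map_section he hπ (PicAux.isInvertible_pullback p₁ hL) φ ψ ?_
  have h := hom_ext_el (gen_tau τ hτ (e ≫ p₁) a₁ h₁) (hφ.trans hψ.symm)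
  simpa [cj, cancel_epi, cancel_mono] using h

/-- An isomorphism can be normalised. -/
theorem exists_normal (hτ : Gen ((Scheme.Modules.pullback s).obj L) ⊤ τ)
    (he : e ≫ π = 𝟙 Z) (φ : (Scheme.Modules.pullback p₁).obj L ≅ (Scheme.Modules.pullback p₂).obj L)
    {a₁ a₂ : Z ⟶ B} (h₁ : a₁ ≫ s = e ≫ p₁) (h₂ : a₂ ≫ s = e ≫ p₂) :
    ∃ ψ : (Scheme.Modules.pullback p₁).obj L ⟶ (Scheme.Modules.pullback p₂).obj L,
      IsIso ψ ∧ Normal τ e ψ a₁ a₂ := by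
  let t₁ := tau τ (e ≫ p₁) a₁ h₁
  let t₂ := tau τ (e ≫ p₂) a₂ h₂
  let χ := cj φ.hom e (e ≫ p₁) (e ≫ p₂) rfl rfl
  have g₂ : Gen _ ⊤ t₂ := gen_tau τ hτ _ _ _
  obtain ⟨v, hv⟩ := g₂.exists_unit ((gen_tau τ hτ (e ≫ p₁) a₁ h₁).map χ)
  let w : (Γ(Y, ⊤))ˣ := Units.map π.appTop.hom.toMonoidHom v⁻¹
  refine ⟨φ.hom ≫ smulEnd _ (w : Γ(Y, ⊤)), ?_, h₁, h₂, ?_⟩
  · have : IsIso (smulEnd ((Scheme.Modules.pullback p₂).obj L) (w : Γ(Y, ⊤))) :=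
      ⟨smulEnd _ (↑w⁻¹ : Γ(Y, ⊤)), by rw [← smulEnd_mul, Units.mul_inv, smulEnd_one],
        by rw [← smulEnd_mul, Units.inv_mul, smulEnd_one]⟩
    infer_instance
  · have hw : e.appTop (w : Γ(Y, ⊤)) = (↑v⁻¹ : Γ(Z, ⊤)) := by
      show e.appTop (π.appTop (↑v⁻¹ : Γ(Z, ⊤))) = _
      rw [← CategoryTheory.comp_apply, ← Scheme.Hom.comp_appTop, he]
      rfl
    have hsm : cj (smulEnd ((Scheme.Modules.pullback p₂).obj L) (w : Γ(Y, ⊤))) e (e ≫ p₂) (e ≫ p₂)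
        rfl rfl = smulEnd _ (↑v⁻¹ : Γ(Z, ⊤)) := by
      rw [cj, pullback_map_smulEnd, hw, smulEnd_comm, Iso.inv_hom_id_assoc]
    rw [cj_comp φ.hom e (e ≫ p₁) (e ≫ p₂) rfl rfl _ (e ≫ p₂) rfl, hsm,
      Scheme.Modules.Hom.comp_app, CategoryTheory.comp_apply, smulEnd_app, PicAux.resX_self]
    show (↑v⁻¹ : Γ(Z, ⊤)) • χ.app ⊤ t₁ = t₂
    rw [hv, smul_smul, Units.inv_mul, one_smul]

end Groth.PicAux.RigNormal
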