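import Groth.Agent.PicAux.RigClasses
import Groth.Agent.Misc8.FppfSubCover
import Groth.Agent.AlgSpBasic.RepWith
import Mathlib.CategoryTheory.Monoidal.Cartesian.Grp
import Mathlib.CategoryTheory.Monoidal.Cartesian.Over
import Groth.Prelude.Def_AlgSpGpd

/-!
# Rigidified invertible classes as a sheaf of groups for the fppf topology
-/

set_option autoImplicit false
set_option linter.unusedVariables false
set_option backward.isDefEq.respectTransparency false
set_option backward.isDefEq.respectTransparency.types false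

universe u

open CategoryTheory CategoryTheory.Limits AlgebraicGeometry TopologicalSpace Opposite
open MonoidalCategory CartesianMonoidalCategory MonObj
open scoped Groth.Abvar.PicCalc

noncomputable section

namespace Groth.PicAux.RigSheaf

open Groth.Abvar.PicCalc (pull pull_cls pull_comp pull_id cls)
open Groth.PicCurve (RS ConstFun map_map map_id ext_of_cover exists_of_cover)
open Groth.PicAux.RigDescent (pr₁ pr₂ pr_condition map_injective exists_map_eq mem_fpqc_XTmap)
open Groth.Flatmor4.OverRep (piece pieceHom)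
open Groth.AlgSpBasic (yEquiv)

variable {X S : Scheme.{u}} {f : X ⟶ S} {σ : S ⟶ X} {hσ : σ ≫ f = 𝟙 S}

/-- Rigidified classes form a group. -/
instance instCommGroupRS (T : Over S) : CommGroup (RS f σ hσ T) :=
  inferInstanceAs (CommGroup ↥(pull (PicF.secT f σ hσ T)).ker)

theorem val_mul {T : Over S} (c d : RS f σ hσ T) : (c * d).1 = c.1 * d.1 := rfl

theorem val_one {T : Over S} : (1 : RS f σ hσ T).1 = 1 := rfl

theorem val_inv {T : Over S} (c : RS f σ hσ T) : (c⁻¹).1 = (c.1)⁻¹ := rfl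

theorem map_mul' {T T' : Over S} (g : T' ⟶ T) (c d : RS f σ hσ T) :
    (c * d).map g = c.map g * d.map g :=
  Subtype.ext (map_mul (pull (PicF.XTmap f g)) c.1 d.1)

theorem map_one' {T T' : Over S} (g : T' ⟶ T) : (1 : RS f σ hσ T).map g = 1 :=
  Subtype.ext (map_one (pull (PicF.XTmap f g)))

theorem map_inv' {T T' : Over S} (g : T' ⟶ T) (c : RS f σ hσ T) : c⁻¹.map g = (c.map g)⁻¹ :=
  Subtype.ext (map_inv (pull (PicF.XTmap f g)) c.1)

variable (f σ hσ) in
/-- The presheaf of rigidified classes. -/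
def rigP : AlgSp.PSp S where
  obj T := RS f σ hσ T.unop
  map g := TypeCat.ofHom fun c => c.map g.unop
  map_id T := by ext c; exact map_id c
  map_comp g h := by ext c; exact (map_map h.unop g.unop c).symm

theorem rigP_map {T T' : Over S} (g : T' ⟶ T) (c : RS f σ hσ T) :
    (rigP f σ hσ).map g.op c = c.map g := rfl

/-- A covering sieve contains fppf covers of the members of an open cover. -/
theorem exists_cover {T : Over S} {R : Sieve T} (hR : R ∈ AlgSp.J S T) :
    ∃ (𝒰 : Scheme.OpenCover.{u} T.left) (U : 𝒰.I₀ → Over S) (v : ∀ i, U i ⟶ piece T 𝒰 i),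
      ∀ i, Flat (v i).left ∧ LocallyOfFinitePresentation (v i).left ∧ Surjective (v i).left ∧
        R (v i ≫ pieceHom T 𝒰 i) := by
  choose V g hfl hfp hx hR using fun t => Groth.Misc8.FppfSubCover.exists_of_mem_J hR t
  let O : T.left → T.left.Opens := fun t =>
    ⟨Set.range (g t).left, haveI := hfl t; haveI := hfp t; (g t).left.isOpenMap.isOpen_range⟩
  have hO : IsOpenCover O := eq_top_iff.2 fun t _ => Opens.mem_iSup.2 ⟨t, hx t⟩
  let 𝒰 := T.left.openCoverOfIsOpenCover O hO
  have hr : ∀ t, Set.range (g t).left ⊆ Set.range (O t).ι := fun t =>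
    (Scheme.Opens.range_ι (O t)).ge
  let v : ∀ t, V t ⟶ piece T 𝒰 t := fun t =>
    Over.homMk (IsOpenImmersion.lift (O t).ι (g t).left (hr t)) (by
      show IsOpenImmersion.lift (O t).ι (g t).left (hr t) ≫ (O t).ι ≫ T.hom = (V t).hom
      rw [IsOpenImmersion.lift_fac_assoc, Over.w (g t)])
  refine ⟨𝒰, V, v, fun t => ?_⟩
  have hfac : (v t).left ≫ (O t).ι = (g t).left := IsOpenImmersion.lift_fac _ _ _
  have sq : IsPullback (𝟙 (V t).left) (v t).left (g t).left (O t).ι :=
    IsPullback.of_horiz_isIso_mono ⟨by rw [Category.id_comp]; exact hfac.symm⟩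
  refine ⟨MorphismProperty.of_isPullback (P := @Flat) sq (hfl t),
    MorphismProperty.of_isPullback (P := @LocallyOfFinitePresentation) sq (hfp t), ⟨fun y => ?_⟩,
    ?_⟩
  · obtain ⟨z, hz⟩ := y.2
    exact ⟨z, (O t).ι.injective ((congr(($hfac) z)).trans hz)⟩
  · rw [show v t ≫ pieceHom T 𝒰 t = g t from Over.OverMorphism.ext hfac]
    exact hR t

/-- Rigidified classes are determined fppf locally. -/
theorem ext_of_sieve (hc : ConstFun f) {T : Over S} {R : Sieve T} (hR : R ∈ AlgSp.J S T)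
    {c d : RS f σ hσ T} (h : ∀ ⦃Z : Over S⦄ (g : Z ⟶ T), R g → c.map g = d.map g) : c = d := by
  obtain ⟨𝒰, U, v, hv⟩ := exists_cover hR
  refine ext_of_cover hc 𝒰 fun i => ?_
  obtain ⟨_, _, _, hRi⟩ := hv i
  refine map_injective (v i) (mem_fpqc_XTmap (v i)) (hc _ ⊤) ?_
  show (c.map _).map _ = (d.map _).map _
  rw [map_map, map_map]
  exact h _ hRi

/-- The sheaf condition. -/
theorem isSheaf_rigP (hc : ConstFun f) : Presheaf.IsSheaf (AlgSp.J S) (rigP f σ hσ) := by
  rw [isSheaf_iff_isSheaf_of_type]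
  intro T R hR x hx
  obtain ⟨𝒰, U, v, hv⟩ := exists_cover hR
  have hcomp : ∀ {Z A B : Over S} (a : A ⟶ T) (b : B ⟶ T) (p : Z ⟶ A) (q : Z ⟶ B) (ha : R a)
      (hb : R b), p ≫ a = q ≫ b → (x a ha).map p = ((x b hb : RS f σ hσ B)).map q :=
    fun a b p q ha hb e => hx p q ha hb e
  have hloc : ∀ i, ∃ c : RS f σ hσ (piece T 𝒰 i), c.map (v i) = x _ (hv i).2.2.2 := by
    intro i
    obtain ⟨_, _, _, hRi⟩ := hv i
    refine exists_map_eq (v i) (mem_fpqc_XTmap (v i)) (hc _ ⊤) (hc _ ⊤) _ ?_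
    exact hcomp _ _ _ _ hRi hRi
      (by rw [← Category.assoc, pr_condition, Category.assoc])
  choose c hc' using hloc
  obtain ⟨d, hd⟩ := exists_of_cover hc 𝒰 c fun i j W p q e => by
    obtain ⟨_, _, _, hRi⟩ := hv i
    obtain ⟨_, _, _, hRj⟩ := hv j
    let W₁ : Over S := AbDual.ovr W (pullback.fst p.left (v i).left)
    let a₁ : W₁ ⟶ W := AbDual.ovrHom W (pullback.fst p.left (v i).left)
    let b₁ : W₁ ⟶ U i := Over.homMk (pullback.snd p.left (v i).left) (by
      show pullback.snd p.left (v i).left ≫ (U i).hom = pullback.fst p.left (v i).left ≫ W.hom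
      rw [← Over.w p, ← Over.w (v i), pullback.condition_assoc])
    let q₁ : W₁ ⟶ piece T 𝒰 j := a₁ ≫ q
    let W₂ : Over S := AbDual.ovr W₁ (pullback.fst q₁.left (v j).left)
    let a₂ : W₂ ⟶ W₁ := AbDual.ovrHom W₁ (pullback.fst q₁.left (v j).left)
    let b₂ : W₂ ⟶ U j := Over.homMk (pullback.snd q₁.left (v j).left) (by
      show pullback.snd q₁.left (v j).left ≫ (U j).hom = pullback.fst q₁.left (v j).left ≫ W₁.hom
      rw [← Over.w q₁, ← Over.w (v j), pullback.condition_assoc])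
    have e₁ : a₁ ≫ p = b₁ ≫ v i := Over.OverMorphism.ext pullback.condition
    have e₂ : a₂ ≫ a₁ ≫ q = b₂ ≫ v j := Over.OverMorphism.ext pullback.condition
    have : Flat a₁.left := inferInstanceAs (Flat (pullback.fst p.left (v i).left))
    have : LocallyOfFinitePresentation a₁.left :=
      inferInstanceAs (LocallyOfFinitePresentation (pullback.fst p.left (v i).left))
    have : Surjective a₁.left := inferInstanceAs (Surjective (pullback.fst p.left (v i).left))
    have : Flat a₂.left := inferInstanceAs (Flat (pullback.fst q₁.left (v j).left))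
    have : LocallyOfFinitePresentation a₂.left :=
      inferInstanceAs (LocallyOfFinitePresentation (pullback.fst q₁.left (v j).left))
    have : Surjective a₂.left := inferInstanceAs (Surjective (pullback.fst q₁.left (v j).left))
    refine map_injective a₁ (mem_fpqc_XTmap a₁) (hc _ ⊤)
      (map_injective a₂ (mem_fpqc_XTmap a₂) (hc _ ⊤) ?_)
    show (((c i).map p).map a₁).map a₂ = (((c j).map q).map a₁).map a₂
    rw [map_map, map_map, map_map, map_map, Category.assoc a₂ a₁, Category.assoc a₂ a₁,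
      e₂, ← map_map b₂ (v j), hc' j,
      show a₂ ≫ a₁ ≫ p = (a₂ ≫ b₁) ≫ v i by rw [e₁, Category.assoc], ← map_map (a₂ ≫ b₁) (v i),
      hc' i]
    refine hcomp _ _ _ _ hRi hRj ?_
    rw [← Category.assoc b₂, ← e₂, ← Category.assoc (a₂ ≫ b₁),
      show (a₂ ≫ b₁) ≫ v i = a₂ ≫ a₁ ≫ p by rw [e₁, Category.assoc]]
    simp only [Category.assoc, e]
  have hd' : ∀ i, d.map (v i ≫ pieceHom T 𝒰 i) = x _ (hv i).2.2.2 := fun i => by
    rw [← map_map, hd i, hc' i]
  let R₀ : Sieve T := Sieve.generate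
    (Presieve.ofArrows U fun i => v i ≫ pieceHom T 𝒰 i)
  have hR₀ : R₀ ∈ AlgSp.J S T := Groth.Misc8.FppfSubCover.mem_J_of_forall fun t => by
    obtain ⟨i, y, hy⟩ := 𝒰.exists_eq t
    obtain ⟨_, _, hs, -⟩ := hv i
    obtain ⟨z, hz⟩ := (v i).left.surjective y
    have : Flat (pieceHom T 𝒰 i).left := inferInstanceAs (Flat (𝒰.f i))
    have : LocallyOfFinitePresentation (pieceHom T 𝒰 i).left :=
      inferInstanceAs (LocallyOfFinitePresentation (𝒰.f i))
    refine ⟨U i, v i ≫ pieceHom T 𝒰 i, ?_, ?_, ⟨z, ?_⟩, Sieve.le_generate _ _ _ ⟨i⟩⟩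
    · rw [Over.comp_left]; infer_instance
    · rw [Over.comp_left]; infer_instance
    · rw [Over.comp_left, Scheme.Hom.comp_apply, hz]
      exact hy
  refine ⟨d, fun Z g hg => ?_, fun y hy => ext_of_sieve hc hR fun Z g hg => ?_⟩
  · refine ext_of_sieve hc ((AlgSp.J S).pullback_stable g hR₀) (c := d.map g) fun W h hh => ?_
    obtain ⟨_, w, _, ⟨i⟩, hw⟩ := hh
    rw [map_map, ← hw, ← map_map, hd' i]
    exact hcomp _ _ _ _ _ hg hw
  · have h1 : y.map g = x g hg := hy g hg
    rw [h1]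
    refine (ext_of_sieve hc ((AlgSp.J S).pullback_stable g hR₀) (c := d.map g) fun W h hh => ?_).symm
    obtain ⟨_, w, _, ⟨i⟩, hw⟩ := hh
    rw [map_map, ← hw, ← map_map, hd' i]
    exact hcomp _ _ _ _ _ hg hw

/-- The sheaf of rigidified classes. -/
def rigSp (hc : ConstFun f) : AlgSp.Sp S := ⟨rigP f σ hσ, isSheaf_rigP hc⟩

variable {hc : ConstFun f}

/-- The map from a scheme given by a class. -/
def sec {T : Over S} (c : RS f σ hσ T) : (AlgSp.yon S).obj T ⟶ rigSp (σ := σ) (hσ := hσ) hc :=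
  yEquiv.symm c

theorem sec_injective {T : Over S} :
    Function.Injective (sec (hc := hc) : RS f σ hσ T → _) :=
  fun _ _ h => yEquiv.symm.injective h

theorem exists_sec {T : Over S} (a : (AlgSp.yon S).obj T ⟶ rigSp (σ := σ) (hσ := hσ) hc) :
    ∃ c, sec c = a :=
  ⟨yEquiv a, yEquiv.symm_apply_apply a⟩

theorem sec_map {T T' : Over S} (g : T' ⟶ T) (c : RS f σ hσ T) :
    sec (hc := hc) (c.map g) = (AlgSp.yon S).map g ≫ sec c :=
  (AlgSp.J S).uliftYonedaEquiv_symm_map g.op (F := rigSp hc) c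

/-- A square with classes of schemes as corners is cartesian if it is so on scheme points. -/
theorem isPullback_sec {U V W : Over S} {a : RS f σ hσ U} {b : RS f σ hσ V} (p : W ⟶ U)
    (q : W ⟶ V) (w : a.map p = b.map q)
    (h : ∀ (Z : Over S) (s : Z ⟶ U) (t : Z ⟶ V), a.map s = b.map t →
      ∃! l : Z ⟶ W, l ≫ p = s ∧ l ≫ q = t) :
    IsPullback ((AlgSp.yon S).map p) ((AlgSp.yon S).map q) (sec (hc := hc) a) (sec b) := by
  refine IsPullback.of_isLimit' ⟨by rw [← sec_map, ← sec_map, w]⟩ ?_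
  have hex : ∀ (s : PullbackCone (sec (hc := hc) a) (sec b)) (Z : Over S)
      (x : (AlgSp.yon S).obj Z ⟶ s.pt),
      ∃! l : (AlgSp.yon S).obj Z ⟶ (AlgSp.yon S).obj W,
        l ≫ (AlgSp.yon S).map p = x ≫ s.fst ∧ l ≫ (AlgSp.yon S).map q = x ≫ s.snd := by
    intro s Z x
    obtain ⟨s₁, hs₁⟩ := (AlgSp.yon S).map_surjective (x ≫ s.fst)
    obtain ⟨s₂, hs₂⟩ := (AlgSp.yon S).map_surjective (x ≫ s.snd)
    obtain ⟨l, ⟨hl₁, hl₂⟩, hu⟩ := h Z s₁ s₂ (sec_injective (hc := hc) (by
      rw [sec_map, sec_map, hs₁, hs₂, Category.assoc, Category.assoc, s.condition]))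
    refine ⟨(AlgSp.yon S).map l, ⟨by rw [← Functor.map_comp, hl₁, hs₁],
      by rw [← Functor.map_comp, hl₂, hs₂]⟩, fun m hm => ?_⟩
    obtain ⟨m, rfl⟩ := (AlgSp.yon S).map_surjective m
    rw [hu m ⟨(AlgSp.yon S).map_injective (by rw [Functor.map_comp, hm.1, hs₁]),
      (AlgSp.yon S).map_injective (by rw [Functor.map_comp, hm.2, hs₂])⟩]
  choose l hl hu using hex
  have hnat : ∀ (s : PullbackCone (sec (hc := hc) a) (sec b)) {Z Z' : Over S} (g : Z' ⟶ Z)
      (x : (AlgSp.yon S).obj Z ⟶ s.pt),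
      l s Z' ((AlgSp.yon S).map g ≫ x) = (AlgSp.yon S).map g ≫ l s Z x := fun s Z Z' g x =>
    (hu s Z' _ _ ⟨by rw [Category.assoc, (hl s Z x).1, Category.assoc],
      by rw [Category.assoc, (hl s Z x).2, Category.assoc]⟩).symm
  let L : ∀ s : PullbackCone (sec (hc := hc) a) (sec b), s.pt ⟶ (AlgSp.yon S).obj W := fun s =>
    ObjectProperty.homMk
      { app := fun Z => TypeCat.ofHom fun z => yEquiv (l s Z.unop (yEquiv.symm z))
        naturality := fun Z Z' g => by
          ext z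
          show yEquiv (l s Z'.unop (yEquiv.symm (s.pt.obj.map g z))) =
            ((AlgSp.yon S).obj W).obj.map g (yEquiv (l s Z.unop (yEquiv.symm z)))
          rw [show yEquiv.symm (s.pt.obj.map g z) = (AlgSp.yon S).map g.unop ≫ yEquiv.symm z from
              (AlgSp.J S).uliftYonedaEquiv_symm_map g z,
            hnat]
          exact (GrothendieckTopology.uliftYonedaEquiv_naturality (J := AlgSp.J S) _ g.unop).symm }
  have happ : ∀ (s : PullbackCone (sec (hc := hc) a) (sec b)) (Z : Over S)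
      (x : (AlgSp.yon S).obj Z ⟶ s.pt), x ≫ L s = l s Z x := fun s Z x => by
    apply yEquiv.injective
    rw [GrothendieckTopology.uliftYonedaEquiv_comp]
    exact congrArg (fun y => yEquiv (l s Z y)) (yEquiv.symm_apply_apply x)
  have hext : ∀ {A B : AlgSp.Sp S} {m m' : A ⟶ B},
      (∀ (Z : Over S) (x : (AlgSp.yon S).obj Z ⟶ A), x ≫ m = x ≫ m') → m = m' :=
    fun e => (AlgSp.J S).hom_ext_uliftYoneda e
  refine PullbackCone.IsLimit.mk _ L (fun s => hext fun Z x => ?_) (fun s => hext fun Z x => ?_)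
    fun s m hm₁ hm₂ => hext fun Z x => ?_
  · rw [← Category.assoc, happ]; exact (hl s Z x).1
  · rw [← Category.assoc, happ]; exact (hl s Z x).2
  · rw [happ]
    exact hu s Z x _ ⟨by rw [Category.assoc, hm₁], by rw [Category.assoc, hm₂]⟩

section Group

variable (hc : ConstFun f)

/-- Maps into the sheaf as families of classes. -/
def pts (Y : AlgSp.Sp S) (a : Y ⟶ rigSp (σ := σ) (hσ := hσ) hc) :
    ∀ (T : Over S), Y.obj.obj (op T) → RS f σ hσ T :=
  fun T y => a.hom.app (op T) y

theorem pts_injective (Y : AlgSp.Sp S) :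
    Function.Injective (pts (σ := σ) (hσ := hσ) hc Y) := fun a b h => by
  apply ObjectProperty.hom_ext
  ext T y
  exact congrFun (congrFun h T.unop) y

theorem pts_nat (Y : AlgSp.Sp S) (a : Y ⟶ rigSp (σ := σ) (hσ := hσ) hc) {T T' : Over S}
    (g : T' ⟶ T) (y : Y.obj.obj (op T)) :
    pts hc Y a T' (Y.obj.map g.op y) = (pts hc Y a T y).map g :=
  ConcreteCategory.congr_hom (a.hom.naturality g.op) y

/-- A natural family of classes as a map. -/
def ofPts (Y : AlgSp.Sp S) (F : ∀ (T : Over S), Y.obj.obj (op T) → RS f σ hσ T)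
    (hF : ∀ {T T' : Over S} (g : T' ⟶ T) (y : Y.obj.obj (op T)),
      F T' (Y.obj.map g.op y) = (F T y).map g) : Y ⟶ rigSp (σ := σ) (hσ := hσ) hc :=
  ObjectProperty.homMk
    { app := fun T => TypeCat.ofHom fun y => F T.unop y
      naturality := fun T T' g => by ext y; exact hF g.unop y }

instance instOneHom (Y : AlgSp.Sp S) : One (Y ⟶ rigSp (σ := σ) (hσ := hσ) hc) :=
  ⟨ofPts hc Y (fun _ _ => 1) fun g _ => (map_one' g).symm⟩

instance instMulHom (Y : AlgSp.Sp S) : Mul (Y ⟶ rigSp (σ := σ) (hσ := hσ) hc) :=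
  ⟨fun a b => ofPts hc Y (fun T y => pts hc Y a T y * pts hc Y b T y) fun g y => by
    rw [pts_nat, pts_nat, map_mul']⟩

instance instInvHom (Y : AlgSp.Sp S) : Inv (Y ⟶ rigSp (σ := σ) (hσ := hσ) hc) :=
  ⟨fun a => ofPts hc Y (fun T y => (pts hc Y a T y)⁻¹) fun g y => by rw [pts_nat, map_inv']⟩

instance instGroupHom (Y : AlgSp.Sp S) : Group (Y ⟶ rigSp (σ := σ) (hσ := hσ) hc) :=
  Group.ofLeftAxioms
    (fun a b c => pts_injective hc Y (funext fun T => funext fun y => _root_.mul_assoc _ _ _))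
    (fun a => pts_injective hc Y (funext fun T => funext fun y => _root_.one_mul _))
    (fun a => pts_injective hc Y (funext fun T => funext fun y => inv_mul_cancel _))

theorem comp_mul' {Y Y' : AlgSp.Sp S} (g : Y' ⟶ Y) (a b : Y ⟶ rigSp (σ := σ) (hσ := hσ) hc) :
    g ≫ (a * b) = g ≫ a * g ≫ b :=
  pts_injective hc Y' (funext fun _ => funext fun _ => rfl)

variable (S) in
/-- The final sheaf. -/
abbrev pt : AlgSp.Sp S := (AlgSp.yon S).obj (Over.mk (𝟙 S))

variable (S) in
/-- It is final. -/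
def isTerminalPt : IsTerminal (pt S) :=
  IsTerminal.ofUniqueHom
    (fun Y => ObjectProperty.homMk
      { app := fun T => TypeCat.ofHom fun _ => ULift.up (Over.mkIdTerminal.from T.unop)
        naturality := fun _ _ _ => by
          ext y
          exact ULift.ext _ _ (Over.mkIdTerminal.hom_ext _ _) })
    fun Y m => by
      apply ObjectProperty.hom_ext
      ext T y
      exact ULift.ext _ _ (Over.mkIdTerminal.hom_ext _ _)

variable (σ hσ) in
/-- The sheaf over the final sheaf. -/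
abbrev rigOver : Over (pt S) := Over.mk ((isTerminalPt S).from (rigSp (σ := σ) (hσ := hσ) hc))

/-- Maps over the final sheaf. -/
def overEquiv (Y : Over (pt S)) :
    (Y ⟶ rigOver σ hσ hc) ≃ (Y.left ⟶ rigSp (σ := σ) (hσ := hσ) hc) where
  toFun a := a.left
  invFun a := Over.homMk a ((isTerminalPt S).hom_ext _ _)
  left_inv _ := Over.OverMorphism.ext rfl
  right_inv _ := rfl

/-- The points as a functor to groups. -/
def grpFun : (Over (pt S))ᵒᵖ ⥤ GrpCat.{u + 1} where
  obj Y := GrpCat.of (Y.unop.left ⟶ rigSp (σ := σ) (hσ := hσ) hc)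
  map g := GrpCat.ofHom (MonoidHom.mk' (fun a => g.unop.left ≫ a) fun a b => comp_mul' hc g.unop.left a b)
  map_id Y := GrpCat.hom_ext (MonoidHom.ext fun a => Category.id_comp a)
  map_comp g h := GrpCat.hom_ext (MonoidHom.ext fun a => Category.assoc h.unop.left g.unop.left a)

/-- The sheaf represents its points. -/
def grpRep : ((grpFun (σ := σ) (hσ := hσ) hc) ⋙ forget GrpCat.{u + 1}).RepresentableBy (rigOver σ hσ hc) where
  homEquiv {Y} := overEquiv hc Y
  homEquiv_comp _ _ := rfl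

/-- The group structure. -/
@[reducible] def grpObj : GrpObj (rigOver σ hσ hc) :=
  GrpObj.ofRepresentableBy (rigOver σ hσ hc) (grpFun hc) (grpRep hc)

end Group

end Groth.PicAux.RigSheaf
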