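import Groth.Agent.PicAux.Pullback
import Groth.Agent.PicAux.QCoh
import Mathlib.AlgebraicGeometry.Morphisms.QuasiFinite

/-!
# Invertible modules on a scheme finite over a local ring are trivial
-/

set_option autoImplicit false

universe u

open CategoryTheory AlgebraicGeometry TopologicalSpace

namespace Groth.PicAux

/-- An invertible module on a scheme finite over a local ring is trivial. -/
theorem nonempty_iso_structure_of_finite {R : Type u} [CommRing R] [IsLocalRing R]
    {Z : Scheme.{u}} (π : Z ⟶ Spec (CommRingCat.of R)) [IsFinite π] {L : Z.Modules}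
    (hL : PicF.IsInvertible L) : Nonempty (L ≅ Coh.structureModule Z) := by
  classical
  have : IsAffine Z := isAffine_of_isAffineHom π
  have hcl : ∀ z : Z, IsClosed ({z} : Set Z) → π z = IsLocalRing.closedPoint R := by
    intro z hz
    have h1 : IsClosed ({π z} : Set (Spec (CommRingCat.of R))) := by
      rw [← Set.image_singleton]
      exact π.isClosedMap _ hz
    have h2 : π z ⤳ IsLocalRing.closedPoint R := IsLocalRing.specializes_closedPoint _
    exact (h1.closure_eq ▸ specializes_iff_mem_closure.1 h2 : IsLocalRing.closedPoint R ∈ ({π z} : Set _)).symm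
  have hfin : {z : Z | IsClosed ({z} : Set Z)}.Finite :=
    (π.finite_preimage_singleton (IsLocalRing.closedPoint R)).subset fun z hz => hcl z hz
  obtain ⟨U, hU, hTU, s, hs⟩ := exists_affine_trivial_finset_of_antichain hL hfin.toFinset
    (fun x _ y hy h => by
      rw [(hfin.mem_toFinset.1 hy).closure_eq] at h
      exact h) (isAffineOpen_top Z) (fun x _ => trivial)
  have htop : U = ⊤ := by
    refine eq_top_iff.2 fun z _ => ?_
    by_contra hz
    obtain ⟨w, hw, hwc⟩ := IsClosed.exists_closed_singleton U.2.isClosed_compl ⟨z, hz⟩
    exact hw (hTU w (hfin.mem_toFinset.2 hwc))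
  subst htop
  exact nonempty_iso_structure_iff.2 ⟨s, hs⟩

end Groth.PicAux
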