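import Groth.Prelude.Def_HTop2
import Groth.Agent.S7418
import Mathlib.RingTheory.Valuation.LocalSubring
import Mathlib.RingTheory.Polynomial.Basic
import Mathlib.RingTheory.Spectrum.Prime.FreeLocus
import Mathlib.RingTheory.LocalRing.ResidueField.Ideal
import Mathlib.LinearAlgebra.FreeModule.PID
import Mathlib.RingTheory.Flat.TorsionFree

/-!
# Rank one projective modules over `R[X]` for a seminormal domain `R`

Coquand's elementary proof of the theorem of Traverso and Swan: if `∑ fᵢ gᵢ = 1` in `K[X]`, all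
`fᵢ gⱼ` have coefficients in `R` and so do all constant terms, then all `fᵢ` have coefficients in `R`.
-/

set_option autoImplicit false

universe u

open Polynomial
open scoped TensorProduct

namespace Groth.PicAux.SemiTS

section Descent

variable {k : Type u} [Field k] {ι : Type*}

/-- Rank one idempotents over `k[X]` split over `k[X]`, uniquely given the constant term. -/
theorem exists_quotient (a : k) (ha : a ≠ 0) (m : ι → k[X]) :
    ∃ q : ι → k[X], ∀ (κ : Type u) [Field κ] (φ : k →+* κ) (F : ι → κ[X]) (G : κ[X]),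
      (∀ i, (m i).map φ = F i * G) → G.coeff 0 = φ a → Ideal.span (Set.range F) = ⊤ →
        ∀ i, F i = (q i).map φ := by
  classical
  obtain ⟨d, hd⟩ := IsPrincipalIdealRing.principal (Ideal.span (Set.range m))
  let G₀ : k[X] := C (a / d.coeff 0) * d
  refine ⟨fun i => m i / G₀, fun κ _ φ F G hFG hG hF => ?_⟩
  have h1 : Ideal.span {d.map φ} = Ideal.span {G} := by
    have e1 : Ideal.map (mapRingHom φ) (Ideal.span {d}) = Ideal.span {d.map φ} := by
      rw [Ideal.map_span, Set.image_singleton, coe_mapRingHom]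
    have e2 : Ideal.map (mapRingHom φ) (Ideal.span (Set.range m)) =
        Ideal.span (Set.range fun i => F i * G) := by
      rw [Ideal.map_span, ← Set.range_comp]
      exact congrArg Ideal.span (congrArg Set.range (funext hFG))
    have e3 : Ideal.span (Set.range fun i => F i * G) = Ideal.span (Set.range F) * Ideal.span {G} := by
      rw [Ideal.span_mul_span, Set.mul_singleton, ← Set.range_comp]
      rfl
    rw [hF, Ideal.top_mul] at e3
    rw [← e1, ← e3, ← e2]
    exact congrArg _ hd.symm
  obtain ⟨v, hv⟩ := Ideal.span_singleton_eq_span_singleton.1 h1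
  obtain ⟨c, hc, hcv⟩ := Polynomial.isUnit_iff.1 v.isUnit
  have h0 : φ (d.coeff 0) * c = φ a := by
    have e := congrArg (fun p => Polynomial.coeff p 0) hv
    simp only [← hcv, coeff_mul_C, coeff_map] at e
    rw [e, hG]
  have hd0 : d.coeff 0 ≠ 0 := fun h => by
    rw [h, map_zero, zero_mul] at h0
    exact ha ((map_eq_zero φ).1 h0.symm)
  have hG₀ : G₀.map φ = G := by
    rw [← hv, ← hcv, Polynomial.map_mul, Polynomial.map_C, map_div₀, mul_comm,
      show φ a / φ (d.coeff 0) = c from
        (div_eq_iff ((map_ne_zero φ).2 hd0)).2 (by rw [← h0, mul_comm])]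
  have hGne : G₀ ≠ 0 := fun h => by
    rw [h, Polynomial.map_zero] at hG₀
    rw [← hG₀, coeff_zero] at hG
    exact ha ((map_eq_zero φ).1 hG.symm)
  intro i
  have hdvd : G₀ ∣ m i := (Polynomial.map_dvd_map' φ).1 ⟨F i, by rw [hFG, hG₀, mul_comm]⟩
  refine mul_right_cancel₀ (show G ≠ 0 by rwa [← hG₀, Polynomial.map_ne_zero_iff φ.injective]) ?_
  rw [← hFG, ← hG₀, ← Polynomial.map_mul, mul_comm, EuclideanDomain.mul_div_cancel' hGne hdvd]

end Descent

variable {R : Type u} [CommRing R] {K : Type u} [Field K] [Algebra R K]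

/-- A semigroup of integral elements, seen through every valuation ring. -/
theorem isIntegral_of_forall_valuationSubring {x : K}
    (h : ∀ V : ValuationSubring K, (algebraMap R K).range ≤ V.toSubring → x ∈ V) :
    IsIntegral R x := by
  by_contra hx
  have : IsIntegrallyClosedIn (integralClosure R K).toSubring K :=
    inferInstanceAs (IsIntegrallyClosedIn (integralClosure R K) K)
  obtain ⟨V, hV, hxV⟩ := Subring.exists_le_valuationSubring_of_isIntegrallyClosedIn
    (R := (integralClosure R K).toSubring) (x := x) hx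
  exact hxV (h V fun y ⟨r, hr⟩ => hV (hr ▸ isIntegral_algebraMap))

/-- Gauss: if `f g` has coefficients in `V` and `g` has a constant term which is a unit of `V`, then
`f` has coefficients in `V`. -/
theorem coeff_mem_of_mul (V : ValuationSubring K) {f g : K[X]}
    (hfg : ∀ m, (f * g).coeff m ∈ V) (hg : 1 ≤ V.valuation (g.coeff 0)) (m : ℕ) :
    f.coeff m ∈ V := by
  classical
  by_contra hm
  have exMax : ∀ p : K[X], p ≠ 0 → ∃ j, p.coeff j ≠ 0 ∧
      ∀ i, V.valuation (p.coeff i) ≤ V.valuation (p.coeff j) := by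
    intro p hp
    obtain ⟨j, hj, hmax⟩ := p.support.exists_max_image (fun i => V.valuation (p.coeff i))
      (by rwa [Finset.nonempty_iff_ne_empty, Ne, support_eq_empty])
    refine ⟨j, mem_support_iff.1 hj, fun i => ?_⟩
    by_cases hi : i ∈ p.support
    · exact hmax i hi
    · rw [notMem_support_iff.1 hi, map_zero]
      exact zero_le
  have hf0 : f ≠ 0 := fun h => hm (by rw [h, coeff_zero]; exact zero_mem V)
  have hg0 : g ≠ 0 := fun h => by
    rw [h, coeff_zero, map_zero] at hg
    exact absurd hg (by simp)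
  obtain ⟨a, ha0, ha⟩ := exMax f hf0
  obtain ⟨b, hb0, hb⟩ := exMax g hg0
  have hva : 1 < V.valuation (f.coeff a) := by
    rw [← not_le, V.valuation_le_one_iff]
    intro h
    exact hm ((V.valuation_le_one_iff _).1 ((ha m).trans ((V.valuation_le_one_iff _).2 h)))
  have hvb : 1 ≤ V.valuation (g.coeff b) := hg.trans (hb 0)
  have norm : ∀ (p : K[X]) (j : ℕ), p.coeff j ≠ 0 →
      (∀ i, V.valuation (p.coeff i) ≤ V.valuation (p.coeff j)) →
        ∃ P : V[X], P.map V.subtype = C (p.coeff j)⁻¹ * p ∧
          P.map (IsLocalRing.residue V) ≠ 0 := by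
    intro p j hj hmax
    have hmem : ∀ i, (C (p.coeff j)⁻¹ * p).coeff i ∈ V := fun i => by
      rw [coeff_C_mul, ← V.valuation_le_one_iff, map_mul, map_inv₀, inv_mul_le_one₀
        (zero_lt_iff.2 ((Valuation.ne_zero_iff _).2 hj))]
      exact hmax i
    obtain ⟨P, hP⟩ : ∃ P : V[X], P.map V.subtype = C (p.coeff j)⁻¹ * p :=
      (Polynomial.mem_lifts (f := V.subtype) _).1 ((Polynomial.lifts_iff_coeff_lifts _).2
        fun i => ⟨⟨_, hmem i⟩, rfl⟩)
    refine ⟨P, hP, fun h => ?_⟩
    have h1 : P.coeff j = 1 := Subtype.coe_injective (by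
      have := congrArg (fun p => Polynomial.coeff p j) hP
      simpa [hj] using this)
    have h2 := congrArg (fun p => Polynomial.coeff p j) h
    simp [h1] at h2
  obtain ⟨P, hP, hPne⟩ := norm f a ha0 ha
  obtain ⟨Q, hQ, hQne⟩ := norm g b hb0 hb
  refine mul_ne_zero hPne hQne ?_
  rw [← Polynomial.map_mul]
  ext i
  rw [coeff_map, coeff_zero, IsLocalRing.residue_eq_zero_iff, V.valuation_lt_one_iff]
  have e : ((P * Q).coeff i : K) = (f.coeff a)⁻¹ * (g.coeff b)⁻¹ * (f * g).coeff i := by
    have := congrArg (fun p => Polynomial.coeff p i)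
      (show (P * Q).map V.subtype = C ((f.coeff a)⁻¹ * (g.coeff b)⁻¹) * (f * g) by
        rw [Polynomial.map_mul, hP, hQ, C_mul]; ring)
    simp only [coeff_map, coeff_C_mul] at this
    exact this
  rw [e, map_mul, map_mul, map_inv₀, map_inv₀]
  calc (V.valuation (f.coeff a))⁻¹ * (V.valuation (g.coeff b))⁻¹ * V.valuation ((f * g).coeff i)
      ≤ (V.valuation (f.coeff a))⁻¹ * 1 * 1 := by
        gcongr
        · exact (inv_le_one₀ (lt_of_lt_of_le one_pos hvb)).2 hvb
        · exact (V.valuation_le_one_iff _).2 (hfg i)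
    _ < 1 := by
        rw [mul_one, mul_one]
        exact inv_lt_one_of_one_lt₀ hva

variable {ι : Type} [Fintype ι]

/-- The hypothesis on two families of polynomials. -/
structure Split (R : Type u) [CommRing R] [Algebra R K] (f g : ι → K[X]) : Prop where
  sum_eq : ∑ i, f i * g i = 1
  cross : ∀ i j m, (f i * g j).coeff m ∈ (⊥ : Subalgebra R K)
  left_mem : ∀ i, (f i).coeff 0 ∈ (⊥ : Subalgebra R K)
  right_mem : ∀ i, (g i).coeff 0 ∈ (⊥ : Subalgebra R K)

variable {f g : ι → K[X]}

theorem Split.symm (h : Split R f g) : Split R g f :=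
  ⟨by rw [← h.sum_eq]; simp only [mul_comm],
    fun i j m => by rw [mul_comm]; exact h.cross j i m, h.right_mem, h.left_mem⟩

theorem Split.sum_coeff_zero (h : Split R f g) : ∑ i, (f i).coeff 0 * (g i).coeff 0 = 1 := by
  have := congrArg (fun p => Polynomial.coeff p 0) h.sum_eq
  simpa [finsetSum_coeff, mul_coeff_zero] using this

/-- Dedekind–Kronecker: the coefficients are integral. -/
theorem Split.isIntegral (h : Split R f g) (i : ι) (m : ℕ) : IsIntegral R ((f i).coeff m) := by
  refine isIntegral_of_forall_valuationSubring fun V hV => ?_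
  have hR : ∀ x ∈ (⊥ : Subalgebra R K), x ∈ V := fun x hx => hV (Algebra.mem_bot.1 hx)
  obtain ⟨j, hj⟩ : ∃ j, 1 ≤ V.valuation ((g j).coeff 0) := by
    by_contra! hall
    have hlt : V.valuation (∑ i, (f i).coeff 0 * (g i).coeff 0) < 1 :=
      Valuation.map_sum_lt _ one_ne_zero fun j _ => by
        rw [map_mul]
        exact lt_of_le_of_lt (mul_le_of_le_one_left' ((V.valuation_le_one_iff _).2
          (hR _ (h.left_mem j)))) (hall j)
    rw [h.sum_coeff_zero, map_one] at hlt
    exact lt_irrefl _ hlt
  exact coeff_mem_of_mul V (fun n => hR _ (h.cross i j n)) hj m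

/-- Squares and cubes detect membership in a seminormal ring. -/
theorem mem_bot_of_sq_of_cube (hinj : Function.Injective (algebraMap R K))
    (hR : HTop.IsSeminormalRing R) {w : K} (h2 : w ^ 2 ∈ (⊥ : Subalgebra R K))
    (h3 : w ^ 3 ∈ (⊥ : Subalgebra R K)) : w ∈ (⊥ : Subalgebra R K) := by
  rcases eq_or_ne w 0 with rfl | hw
  · exact zero_mem _
  obtain ⟨x, hx⟩ := Algebra.mem_bot.1 h2
  obtain ⟨y, hy⟩ := Algebra.mem_bot.1 h3
  obtain ⟨a, ⟨ha2, ha3⟩, -⟩ := hR x y (hinj (by rw [map_pow, map_pow, hx, hy]; ring))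
  refine Algebra.mem_bot.2 ⟨a, mul_left_cancel₀ (pow_ne_zero 2 hw) ?_⟩
  have e2 : algebraMap R K a ^ 2 = w ^ 2 := by rw [← map_pow, ← ha2, hx]
  have e3 : algebraMap R K a ^ 3 = w ^ 3 := by rw [← map_pow, ← ha3, hy]
  calc w ^ 2 * algebraMap R K a = algebraMap R K a ^ 2 * algebraMap R K a := by rw [e2]
    _ = w ^ 3 := by rw [← e3]; ring
    _ = w ^ 2 * w := by ring

/-- The conductor of an extension of a seminormal ring is radical. -/
theorem conductor_isRadical (hinj : Function.Injective (algebraMap R K))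
    (hR : HTop.IsSeminormalRing R) (S : Subalgebra R K) {c : K} (hc : c ∈ S) :
    ∀ n : ℕ, (∀ k, n ≤ k → ∀ s ∈ S, c ^ k * s ∈ (⊥ : Subalgebra R K)) →
      ∀ s ∈ S, c * s ∈ (⊥ : Subalgebra R K) := by
  intro n
  induction n with
  | zero => exact fun h s hs => by simpa using h 1 (Nat.zero_le _) s hs
  | succ n ih =>
    intro h
    rcases Nat.eq_zero_or_pos n with rfl | hn
    · exact fun s hs => by simpa using h 1 le_rfl s hs
    refine ih fun k hk s hs => ?_
    rcases hk.eq_or_lt with rfl | hk
    · refine mem_bot_of_sq_of_cube hinj hR ?_ ?_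
      · rw [mul_pow, ← pow_mul]
        exact h _ (by omega) _ (pow_mem hs 2)
      · rw [mul_pow, ← pow_mul]
        exact h _ (by omega) _ (pow_mem hs 3)
    · exact h k hk s hs

/-- Traverso–Swan after Coquand. -/
theorem Split.coeff_mem (hinj : Function.Injective (algebraMap R K))
    (hR : HTop.IsSeminormalRing R) (h : Split R f g) (i : ι) (m : ℕ) :
    (f i).coeff m ∈ (⊥ : Subalgebra R K) := by
  classical
  let E : Finset K := (Finset.univ.biUnion fun i => (f i).coeffs) ∪
    Finset.univ.biUnion fun i => (g i).coeffs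
  let S : Subalgebra R K := Algebra.adjoin R (E : Set K)
  have hfS : ∀ i m, (f i).coeff m ∈ S := fun i m => by
    by_cases h0 : (f i).coeff m = 0
    · rw [h0]; exact zero_mem _
    · exact Algebra.subset_adjoin (Finset.mem_union_left _ (Finset.mem_biUnion.2
        ⟨i, Finset.mem_univ _, coeff_mem_coeffs h0⟩))
  have hgS : ∀ i m, (g i).coeff m ∈ S := fun i m => by
    by_cases h0 : (g i).coeff m = 0
    · rw [h0]; exact zero_mem _
    · exact Algebra.subset_adjoin (Finset.mem_union_right _ (Finset.mem_biUnion.2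
        ⟨i, Finset.mem_univ _, coeff_mem_coeffs h0⟩))
  have hE : ∀ x ∈ (E : Set K), IsIntegral R x := by
    intro x hx
    rcases Finset.mem_union.1 hx with hx | hx <;> obtain ⟨i, -, hi⟩ := Finset.mem_biUnion.1 hx <;>
      obtain ⟨m, -, rfl⟩ := Polynomial.mem_coeffs_iff.1 hi
    · exact h.isIntegral i m
    · exact h.symm.isIntegral i m
  have hfg : Submodule.FG (Subalgebra.toSubmodule S) :=
    fg_adjoin_of_finite E.finite_toSet hE
  -- the conductor
  let Cd : Ideal S :=
    { carrier := {c | ∀ s ∈ S, (c : K) * s ∈ (⊥ : Subalgebra R K)}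
      add_mem' := fun {a b} ha hb s hs => by
        rw [Subalgebra.coe_add, add_mul]; exact add_mem (ha s hs) (hb s hs)
      zero_mem' := fun s _ => by simp
      smul_mem' := fun r c hc s hs => by
        rw [smul_eq_mul, Subalgebra.coe_mul, mul_comm (r : K), mul_assoc]
        exact hc _ (mul_mem r.2 hs) }
  have hrad : ∀ (c : S) (n : ℕ), c ^ n ∈ Cd → c ∈ Cd := fun c n hcn =>
    conductor_isRadical hinj hR S c.2 n fun k hk s hs => by
      have : (c ^ n * c ^ (k - n) : S) ∈ Cd := Ideal.mul_mem_right _ _ hcn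
      rw [← pow_add, Nat.add_sub_cancel' hk] at this
      simpa using this s hs
  let I : Ideal R := Cd.comap (algebraMap R S)
  suffices hI : I = ⊤ by
    have h1 : (1 : R) ∈ I := hI ▸ Submodule.mem_top
    simpa using (show ∀ s ∈ S, ((algebraMap R S 1 : S) : K) * s ∈ (⊥ : Subalgebra R K) from h1)
      _ (hfS i m)
  by_contra hI
  obtain ⟨M, hM, hIM⟩ := Ideal.exists_le_maximal I hI
  obtain ⟨P, hP, -⟩ := Ideal.exists_minimalPrimes_le hIM
  have := hP.1.1
  -- over a minimal prime of the conductor all generators lie in `R`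
  have key : ∀ {f g : ι → K[X]}, Split R f g → (∀ i m, (f i).coeff m ∈ S) →
      (∀ i m, (g i).coeff m ∈ S) → ∀ i m, ∃ t ∉ P, algebraMap R K t * (f i).coeff m ∈ (⊥ : Subalgebra R K) := by
    intro f g h hf hg i m
    choose a ha using fun i => Algebra.mem_bot.1 (h.left_mem i)
    choose b hb using fun i => Algebra.mem_bot.1 (h.right_mem i)
    obtain ⟨j, hj⟩ : ∃ j, b j ∉ P := by
      by_contra! hall
      refine this.ne_top ((Ideal.eq_top_iff_one _).2 ?_)
      have e : ∑ i, a i * b i = 1 := hinj (by simp [map_sum, ha, hb, h.sum_coeff_zero])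
      exact e ▸ Ideal.sum_mem _ fun i _ => Ideal.mul_mem_left _ _ (hall i)
    have hlift : ∀ (p : K[X]), (∀ n, p.coeff n ∈ (⊥ : Subalgebra R K)) →
        ∃ q : R[X], q.map (algebraMap R K) = p := fun p hp =>
      (Polynomial.mem_lifts _).1 ((Polynomial.lifts_iff_coeff_lifts _).2 fun n =>
        Algebra.mem_bot.1 (hp n))
    choose μ hμ using fun i => hlift (f i * g j) (h.cross i j)
    have hliftS : ∀ (p : K[X]), (∀ n, p.coeff n ∈ S) → ∃ q : S[X], q.map S.val.toRingHom = p :=
      fun p hp => (Polynomial.mem_lifts _).1 ((Polynomial.lifts_iff_coeff_lifts _).2 fun n =>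
        ⟨⟨_, hp n⟩, rfl⟩)
    choose F hF using fun i => hliftS (f i) (hf i)
    choose G hG using fun i => hliftS (g i) (hg i)
    have hinjS : Function.Injective (Polynomial.map (R := S) S.val.toRingHom) :=
      Polynomial.map_injective _ Subtype.val_injective
    let k := P.ResidueField
    have hbj : algebraMap R k (b j) ≠ 0 := fun h0 =>
      hj (Ideal.algebraMap_residueField_eq_zero.1 h0)
    obtain ⟨q, hq⟩ := exists_quotient (algebraMap R k (b j)) hbj
      fun i => (μ i).map (algebraMap R k)
    obtain ⟨r', s', hs', hrs⟩ := IsFractionRing.div_surjective (R ⧸ P) ((q i).coeff m)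
    obtain ⟨r, rfl⟩ := Ideal.Quotient.mk_surjective r'
    obtain ⟨s, rfl⟩ := Ideal.Quotient.mk_surjective s'
    have hsP : s ∉ P := fun hs =>
      nonZeroDivisors.ne_zero hs' (Ideal.Quotient.eq_zero_iff_mem.2 hs)
    let z : S := algebraMap R S s * ⟨_, hf i m⟩ - algebraMap R S r
    suffices hz : ∃ t ∉ P, ∃ n, algebraMap R S t * z ^ n ∈ Cd by
      obtain ⟨t, ht, n, hn⟩ := hz
      have h1 : algebraMap R S t * z ∈ Cd := hrad _ (n + 1) (by
        have e : (algebraMap R S t * z) ^ (n + 1) =
            algebraMap R S t * z ^ n * (algebraMap R S t ^ n * z) := by ring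
        rw [e]
        exact Ideal.mul_mem_right _ _ hn)
      refine ⟨t * s, this.mul_notMem ht hsP, ?_⟩
      have h2 := h1 1 (one_mem S)
      have e : algebraMap R K (t * s) * (f i).coeff m =
          ((algebraMap R S t * z : S) : K) * 1 + algebraMap R K (t * r) := by
        simp [z, map_mul]
        ring
      rw [e]
      exact add_mem h2 (Subalgebra.algebraMap_mem _ _)
    by_contra hno
    simp only [not_exists, not_and] at hno
    let T : Submonoid S :=
      (P.primeCompl.map (algebraMap R S).toMonoidHom) ⊔ Submonoid.powers z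
    have hdisj : Disjoint (Cd : Set S) (T : Set S) := by
      rw [Set.disjoint_left]
      intro x hx hxT
      obtain ⟨_, ⟨t, ht, rfl⟩, _, ⟨n, rfl⟩, rfl⟩ := Submonoid.mem_sup.1 hxT
      exact hno t ht n hx
    obtain ⟨Q, hQ, hQle, hQd⟩ := Ideal.exists_le_prime_disjoint Cd T hdisj
    have hPQ : P = Q.comap (algebraMap R S) := by
      have hle : Q.comap (algebraMap R S) ≤ P := fun t ht => by
        by_contra htP
        exact Set.disjoint_left.1 hQd ht (Submonoid.mem_sup_left ⟨t, htP, rfl⟩)
      exact le_antisymm (hP.2 ⟨Ideal.IsPrime.comap _, fun t ht => hQle ht⟩ hle) hle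
    let φ : k →+* Q.ResidueField := Ideal.ResidueField.map P Q (algebraMap R S) hPQ
    let π : S →+* Q.ResidueField := algebraMap S Q.ResidueField
    have hφ : φ.comp (algebraMap R k) = π.comp (algebraMap R S) :=
      RingHom.ext fun x => Ideal.ResidueField.map_algebraMap P Q _ hPQ x
    have e1 := hq Q.ResidueField φ (fun i => (F i).map π) ((G j).map π) (fun i => ?_) ?_ ?_ i
    rotate_left
    · have e : F i * G j = (μ i).map (algebraMap R S) := hinjS (by
        rw [Polynomial.map_mul, hF, hG, Polynomial.map_map, ← hμ]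
        rfl)
      simp only [Polynomial.map_map, hφ]
      rw [← Polynomial.map_mul, e, Polynomial.map_map]
    · have e : (G j).coeff 0 = algebraMap R S (b j) := Subtype.coe_injective (by
        have e' := congrArg (fun p => Polynomial.coeff p 0) (hG j)
        simp only [coeff_map] at e'
        exact e'.trans (hb j).symm)
      rw [coeff_map, e]
      exact (Ideal.ResidueField.map_algebraMap P Q _ hPQ (b j)).symm
    · have e : ∑ i, F i * G i = 1 := hinjS (by
        rw [Polynomial.map_sum, Polynomial.map_one, ← h.sum_eq]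
        exact Finset.sum_congr rfl fun i _ => by rw [Polynomial.map_mul, hF, hG])
      refine (Ideal.eq_top_iff_one _).2 ?_
      rw [← Polynomial.map_one π, ← e, Polynomial.map_sum]
      refine Ideal.sum_mem _ fun i _ => ?_
      rw [Polynomial.map_mul]
      exact Ideal.mul_mem_right _ _ (Ideal.subset_span ⟨i, rfl⟩)
    have e2 : π (⟨_, hf i m⟩ : S) = φ ((q i).coeff m) := by
      have e' := congrArg (fun p => Polynomial.coeff p m) e1
      simp only [coeff_map] at e'
      rw [← e']
      congr 1
      exact Subtype.coe_injective (by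
        have := congrArg (fun p => Polynomial.coeff p m) (hF i)
        simpa using this.symm)
    have hπz : π z = 0 := by
      have hs0 : algebraMap R k s ≠ 0 := fun h0 => hsP (Ideal.algebraMap_residueField_eq_zero.1 h0)
      have e' : algebraMap R k s * (q i).coeff m = algebraMap R k r := by
        rw [← hrs]
        exact mul_div_cancel₀ _ hs0
      have e'' := congrArg φ e'
      rw [map_mul, ← e2] at e''
      simp only [z, map_sub, map_mul, sub_eq_zero]
      rw [← RingHom.comp_apply φ, ← RingHom.comp_apply φ, hφ] at e''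
      exact e''
    exact Set.disjoint_left.1 hQd (Ideal.algebraMap_residueField_eq_zero.1 hπz)
      (Submonoid.mem_sup_right (Submonoid.mem_powers z))
  have hgen : ∀ x ∈ S, ∃ t ∉ P, algebraMap R K t * x ∈ (⊥ : Subalgebra R K) := by
    intro x hx
    induction hx using Algebra.adjoin_induction with
    | mem x hx =>
      rcases Finset.mem_union.1 hx with hx | hx <;> obtain ⟨i, -, hi⟩ := Finset.mem_biUnion.1 hx <;>
        obtain ⟨m, -, rfl⟩ := Polynomial.mem_coeffs_iff.1 hi
      · exact key h hfS hgS i m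
      · exact key h.symm hgS hfS i m
    | algebraMap r => exact ⟨1, this.one_notMem, by simp⟩
    | add x y _ _ hx hy =>
      obtain ⟨t, ht, hx⟩ := hx
      obtain ⟨s, hs, hy⟩ := hy
      refine ⟨t * s, this.mul_notMem ht hs, ?_⟩
      rw [map_mul, mul_add]
      refine add_mem ?_ ?_
      · rw [mul_comm (algebraMap R K t), mul_assoc]
        exact mul_mem (Subalgebra.algebraMap_mem _ _) hx
      · rw [mul_assoc]
        exact mul_mem (Subalgebra.algebraMap_mem _ _) hy
    | mul x y _ _ hx hy =>
      obtain ⟨t, ht, hx⟩ := hx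
      obtain ⟨s, hs, hy⟩ := hy
      refine ⟨t * s, this.mul_notMem ht hs, ?_⟩
      rw [map_mul, mul_mul_mul_comm]
      exact mul_mem hx hy
  obtain ⟨B, hB⟩ := hfg
  have hBS : ∀ x ∈ B, x ∈ S := fun x hx => by
    have h1 : x ∈ Submodule.span R (B : Set K) := Submodule.subset_span hx
    rwa [hB] at h1
  choose t ht using fun x : B => hgen x.1 (hBS x.1 x.2)
  have htI : ∏ x, t x ∈ I := by
    intro s hs
    change algebraMap R K (∏ x, t x) * s ∈ (⊥ : Subalgebra R K)
    have hs' : s ∈ Submodule.span R (B : Set K) := by rw [hB]; exact hs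
    induction hs' using Submodule.span_induction with
    | mem x hx =>
      rw [← Finset.mul_prod_erase _ _ (Finset.mem_univ ⟨x, hx⟩), map_mul, mul_comm (algebraMap R K (t _)),
        mul_assoc]
      exact mul_mem (Subalgebra.algebraMap_mem _ _) (ht ⟨x, hx⟩).2
    | zero => simp
    | add x y hx' hy' hx hy =>
      rw [mul_add]
      exact add_mem (hx (by rw [← Subalgebra.mem_toSubmodule, ← hB]; exact hx'))
        (hy (by rw [← Subalgebra.mem_toSubmodule, ← hB]; exact hy'))
    | smul r x hx' hx =>
      rw [Algebra.smul_def, mul_left_comm]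
      exact mul_mem (Subalgebra.algebraMap_mem _ _)
        (hx (by rw [← Subalgebra.mem_toSubmodule, ← hB]; exact hx'))
  exact (fun hp => by
    obtain ⟨x, -, hx⟩ := this.prod_mem_iff.1 hp
    exact (ht x).1 hx) (hP.1.2 htI)

section Module

variable (R) [IsDomain R] (K) [IsFractionRing R K]

omit [IsDomain R] [IsFractionRing R K] in
/-- Elements of a localisation inside `K`. -/
theorem exists_pow_mul_mem {h : R} {L : Type u} [CommRing L] [Algebra R L]
    [IsLocalization.Away h L] [Algebra L K] [IsScalarTower R L K] {x : K}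
    (hx : x ∈ (⊥ : Subalgebra L K)) :
    ∃ n, algebraMap R K h ^ n * x ∈ (⊥ : Subalgebra R K) := by
  obtain ⟨y, rfl⟩ := Algebra.mem_bot.1 hx
  obtain ⟨⟨a, _, n, rfl⟩, e⟩ := IsLocalization.surj (Submonoid.powers h) y
  refine ⟨n, Algebra.mem_bot.2 ⟨a, ?_⟩⟩
  rw [IsScalarTower.algebraMap_apply R L K a, ← e, map_mul, ← IsScalarTower.algebraMap_apply,
    map_pow, mul_comm]

omit [IsDomain R] [IsFractionRing R K] in
theorem exists_pow_poly {h : R} {L : Type u} [CommRing L] [Algebra R L]
    [IsLocalization.Away h L] [Algebra L K] [IsScalarTower R L K] {p : K[X]}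
    (hp : ∀ m, p.coeff m ∈ (⊥ : Subalgebra L K)) :
    ∃ (n : ℕ) (q : R[X]), q.map (algebraMap R K) = C (algebraMap R K h ^ n) * p := by
  classical
  choose n hn using fun m => exists_pow_mul_mem R K (h := h) (L := L) (hp m)
  refine ⟨p.support.sup n, (Polynomial.mem_lifts _).1 ((Polynomial.lifts_iff_coeff_lifts _).2
    fun m => Algebra.mem_bot.1 ?_)⟩
  rw [coeff_C_mul]
  by_cases hm : m ∈ p.support
  · rw [← Nat.sub_add_cancel (Finset.le_sup (f := n) hm), pow_add, mul_assoc, ← map_pow]
    exact mul_mem (Subalgebra.algebraMap_mem _ _) (hn m)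
  · rw [notMem_support_iff.1 hm, mul_zero]
    exact zero_mem _

/-- The data `fᵢ gⱼ` of a rank one projective module over `R[X]`, near a prime of `R`. -/
theorem exists_split_away (hR : HTop.IsSeminormalRing R) (p : Ideal R) [p.IsPrime]
    {ι : Type} [Fintype ι] (f g : ι → K[X]) (hsum : ∑ i, f i * g i = 1)
    (hfg : ∀ i j m, (f i * g j).coeff m ∈ (⊥ : Subalgebra R K)) :
    ∃ (h : R), h ∉ p ∧ ∃ (c : K) (n : ℕ), c ≠ 0 ∧
      (∃ a : ι → R[X], C (algebraMap R K h ^ n * c) = ∑ i, (a i).map (algebraMap R K) * f i) ∧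
      ∀ i, ∃ (N : ℕ) (a : R[X]), C (algebraMap R K h ^ N) * f i = a.map (algebraMap R K) * C c := by
  classical
  have hm0 : ∀ i j, (f i).coeff 0 * (g j).coeff 0 ∈ (⊥ : Subalgebra R K) := fun i j => by
    rw [← mul_coeff_zero]; exact hfg i j 0
  choose b hb using fun i => Algebra.mem_bot.1 (hm0 i i)
  obtain ⟨i₀, hi₀⟩ : ∃ i, b i ∉ p := by
    by_contra! hall
    refine ‹p.IsPrime›.ne_top ((Ideal.eq_top_iff_one _).2 ?_)
    have e : ∑ i, b i = 1 := IsFractionRing.injective R K (by
      have := congrArg (fun q => Polynomial.coeff q 0) hsum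
      simpa [map_sum, hb, finsetSum_coeff, mul_coeff_zero] using this)
    exact e ▸ Ideal.sum_mem _ fun i _ => hall i
  let h := b i₀
  have hh : algebraMap R K h ≠ 0 :=
    (map_ne_zero_iff _ (IsFractionRing.injective R K)).2 fun h0 => hi₀ (by
      rw [show b i₀ = 0 from h0]; exact zero_mem p)
  let c := (f i₀).coeff 0
  have hc : c ≠ 0 := fun h0 => hh (by rw [hb]; simp [c] at h0; simp [h0])
  let L := Localization.Away h
  have hu : ∀ s : Submonoid.powers h, IsUnit (algebraMap R K s) := by
    rintro ⟨_, n, rfl⟩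
    rw [map_pow]
    exact (isUnit_iff_ne_zero.2 hh).pow n
  let _ : Algebra L K := (IsLocalization.lift (M := Submonoid.powers h) (S := L) hu).toAlgebra
  have : IsScalarTower R L K := IsScalarTower.of_algebraMap_eq fun x => by
    rw [RingHom.algebraMap_toAlgebra, IsLocalization.lift_eq]
  have hinjL : Function.Injective (algebraMap L K) := by
    rw [RingHom.algebraMap_toAlgebra, IsLocalization.lift_injective_iff]
    exact fun x y => ⟨fun e => by
      obtain ⟨⟨_, n, rfl⟩, e⟩ := (IsLocalization.eq_iff_exists (Submonoid.powers h) L).1 e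
      have := congrArg (algebraMap R K) e
      simp only [map_mul, map_pow] at this
      exact mul_left_cancel₀ (pow_ne_zero n hh) this,
      fun e => congrArg _ (IsFractionRing.injective R K e)⟩
  have hup : ∀ x ∈ (⊥ : Subalgebra R K), x ∈ (⊥ : Subalgebra L K) := fun x hx => by
    obtain ⟨a, rfl⟩ := Algebra.mem_bot.1 hx
    exact Algebra.mem_bot.2 ⟨algebraMap R L a, (IsScalarTower.algebraMap_apply R L K a).symm⟩
  have hinv : (algebraMap R K h)⁻¹ ∈ (⊥ : Subalgebra L K) := by
    refine Algebra.mem_bot.2 ⟨IsLocalization.mk' L 1 ⟨h, Submonoid.mem_powers h⟩, ?_⟩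
    refine eq_inv_of_mul_eq_one_left ?_
    rw [IsScalarTower.algebraMap_apply R L K h, ← map_mul, IsLocalization.mk'_spec, map_one, map_one]
  let f' : ι → K[X] := fun i => C c⁻¹ * f i
  let g' : ι → K[X] := fun i => C c * g i
  have hsplit : Split L f' g' := by
    refine ⟨?_, fun i j m => ?_, fun i => ?_, fun i => ?_⟩
    · rw [← hsum]
      refine Finset.sum_congr rfl fun i _ => ?_
      simp only [f', g']
      rw [mul_mul_mul_comm, ← C_mul, inv_mul_cancel₀ hc, C_1, one_mul]
    · have e : f' i * g' j = f i * g j := by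
        simp only [f', g']
        rw [mul_mul_mul_comm, ← C_mul, inv_mul_cancel₀ hc, C_1, one_mul]
      rw [e]
      exact hup _ (hfg i j m)
    · have e : c⁻¹ = (algebraMap R K h)⁻¹ * (g i₀).coeff 0 := by
        rw [hb]
        have hg : (g i₀).coeff 0 ≠ 0 := fun h0 => hh (by rw [hb, h0, mul_zero])
        field_simp
        exact (div_self hc).symm
      simp only [f', coeff_C_mul, e]
      rw [mul_assoc, mul_comm ((g i₀).coeff 0)]
      exact mul_mem hinv (hup _ (hm0 i i₀))
    · simp only [g', coeff_C_mul]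
      exact hup _ (hm0 i₀ i)
  have hL : HTop.IsSeminormalRing L := (Groth.Agent.S7418.result).1 R h hR
  choose N a ha using fun i => exists_pow_poly R K (h := h) (L := L) (hsplit.coeff_mem hinjL hL i)
  choose M d hd using fun i => exists_pow_poly R K (h := h) (L := L)
    (hsplit.symm.coeff_mem hinjL hL i)
  refine ⟨h, hi₀, c, Finset.univ.sup M, hc, ⟨fun i => C (h ^ (Finset.univ.sup M - M i)) * d i, ?_⟩,
    fun i => ⟨N i, a i, ?_⟩⟩
  · have e : C (algebraMap R K h ^ Finset.univ.sup M * c) =
        C (algebraMap R K h ^ Finset.univ.sup M * c) * ∑ i, g' i * f' i := by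
      rw [show ∑ i, g' i * f' i = 1 from hsplit.symm.sum_eq, mul_one]
    rw [e, Finset.mul_sum]
    refine Finset.sum_congr rfl fun i _ => ?_
    rw [Polynomial.map_mul, hd i, map_C, map_pow]
    nth_rewrite 1 [← Nat.sub_add_cancel (Finset.le_sup (f := M) (Finset.mem_univ i))]
    simp only [g', f', pow_add, map_mul]
    have : C c * C c⁻¹ = 1 := by rw [← C_mul, mul_inv_cancel₀ hc, C_1]
    linear_combination (C (algebraMap R K h ^ (Finset.univ.sup M - M i)) *
      C (algebraMap R K h ^ M i) * C c * g i * f i) * this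
  · rw [ha i, mul_assoc]
    simp only [f']
    rw [mul_comm (C c⁻¹), mul_assoc, ← C_mul, inv_mul_cancel₀ hc, C_1, mul_one]

/-- A rank one projective module over `R[X]` has a basis away from some `h ∉ p`, for `R` a
seminormal domain. -/
theorem exists_basis_away (hR : HTop.IsSeminormalRing R) (p : Ideal R) [p.IsPrime]
    (P : Type u) [AddCommGroup P] [Module R[X] P] [Module.Finite R[X] P] [Module.Projective R[X] P]
    (hrk : ∀ q : PrimeSpectrum R[X], Module.rankAtStalk (R := R[X]) P q = 1) :
    ∃ h : R, h ∉ p ∧ ∃ w : P, (∀ a : R[X], a • w = 0 → a = 0) ∧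
      ∀ x : P, ∃ (N : ℕ) (a : R[X]), C h ^ N • x = a • w := by
  classical
  let K := FractionRing R
  let _ : Algebra R[X] K[X] := (mapRingHom (algebraMap R K)).toAlgebra
  have hinj : Function.Injective (algebraMap R[X] K[X]) :=
    Polynomial.map_injective _ (IsFractionRing.injective R K)
  have : Module.Finite K[X] (K[X] ⊗[R[X]] P) := inferInstance
  have : Module.Flat K[X] (K[X] ⊗[R[X]] P) := inferInstance
  have : Module.IsTorsionFree K[X] (K[X] ⊗[R[X]] P) := inferInstance
  have : Module.Free K[X] (K[X] ⊗[R[X]] P) := by exact Module.free_of_finite_type_torsion_free' (R := K[X]) (M := K[X] ⊗[R[X]] P)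
  have hfr : Module.finrank K[X] (K[X] ⊗[R[X]] P) = 1 := by
    have h1 := Module.rankAtStalk_baseChange (R := R[X]) (M := P) (S := K[X])
      ⟨⊥, Ideal.isPrime_bot⟩
    rw [hrk, Module.rankAtStalk_eq_finrank_of_free] at h1
    exact h1
  let e : K[X] ⊗[R[X]] P ≃ₗ[K[X]] K[X] :=
    (Module.finBasisOfFinrankEq K[X] _ hfr).equivFun ≪≫ₗ LinearEquiv.funUnique (Fin 1) K[X] K[X]
  let φ : P →ₗ[R[X]] K[X] :=
    (e.toLinearMap.restrictScalars R[X]).comp (TensorProduct.mk R[X] K[X] P 1)
  have hφ : Function.Injective φ := by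
    refine e.injective.comp fun x y hxy => ?_
    have h := Module.Flat.rTensor_preserves_injective_linearMap (M := P)
      (Algebra.linearMap R[X] K[X]) hinj
    exact (TensorProduct.lid R[X] P).symm.injective (h (by simpa using hxy))
  obtain ⟨n, p', ψ, hψ⟩ : ∃ (n : ℕ) (p' : Fin n → P) (ψ : Fin n → (P →ₗ[R[X]] R[X])),
      ∀ x, x = ∑ i, ψ i x • p' i := by
    obtain ⟨n, s, hs⟩ := Module.Finite.exists_fin (R := R[X]) (M := P)
    let π := Fintype.linearCombination R[X] s
    have hπ : Function.Surjective π := by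
      rw [← LinearMap.range_eq_top, Fintype.range_linearCombination, hs]
    obtain ⟨σ, hσ⟩ := Module.projective_lifting_property π LinearMap.id hπ
    refine ⟨n, s, fun i => (LinearMap.proj i).comp σ, fun x => ?_⟩
    conv_lhs => rw [← show π (σ x) = x from LinearMap.congr_fun hσ x]
    simp [π, Fintype.linearCombination_apply]
  let f : Fin n → K[X] := fun i => φ (p' i)
  let B : Fin n → (K[X] →ₗ[K[X]] K[X]) := fun i =>
    ((TensorProduct.AlgebraTensorModule.rid R[X] K[X] K[X]).toLinearMap.comp
      ((ψ i).baseChange K[X])).comp e.symm.toLinearMap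
  let g : Fin n → K[X] := fun i => B i 1
  have hgψ : ∀ i x, φ x * g i = (ψ i x).map (algebraMap R K) := by
    intro i x
    calc φ x * g i = B i (φ x • 1) := by rw [map_smul]; rfl
      _ = B i (e (1 ⊗ₜ x)) := by rw [smul_eq_mul, mul_one]; rfl
      _ = (ψ i x).map (algebraMap R K) := by
        simp only [B, LinearMap.comp_apply, LinearEquiv.coe_coe, LinearEquiv.symm_apply_apply,
          LinearMap.baseChange_tmul, TensorProduct.AlgebraTensorModule.rid_tmul]
        rw [Algebra.smul_def, mul_one]
        rfl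
  have hsum : ∑ i, f i * g i = 1 := by
    have h1 : ∀ x, φ x = φ x * ∑ i, f i * g i := fun x => by
      conv_lhs => rw [hψ x, map_sum]
      rw [Finset.mul_sum]
      refine Finset.sum_congr rfl fun i _ => ?_
      rw [map_smul, Algebra.smul_def, mul_comm (f i) (g i), ← mul_assoc, hgψ]
      rfl
    have h2 : ∀ t : K[X] ⊗[R[X]] P, e t = e t * ∑ i, f i * g i := fun t => by
      induction t using TensorProduct.induction_on with
      | zero => simp
      | tmul a x =>
        have : e (a ⊗ₜ x) = a * φ x := by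
          conv_lhs => rw [show a ⊗ₜ[R[X]] x = a • ((1 : K[X]) ⊗ₜ x) by
            rw [TensorProduct.smul_tmul', smul_eq_mul, mul_one]]
          rw [map_smul]; rfl
        rw [this, mul_assoc, ← h1]
      | add a b ha hb => rw [map_add, add_mul, ← ha, ← hb]
    have h3 := h2 (e.symm 1)
    rw [e.apply_symm_apply, one_mul] at h3
    exact h3.symm
  obtain ⟨h, hh, c, k, hc, ⟨a, ha⟩, hf⟩ := exists_split_away R K hR p f g hsum fun i j m =>
    Algebra.mem_bot.2 ⟨(ψ j (p' i)).coeff m, by rw [hgψ, coeff_map]⟩
  let w := ∑ i, a i • p' i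
  have hw : φ w = C (algebraMap R K h ^ k * c) := by
    rw [ha, map_sum]
    exact Finset.sum_congr rfl fun i _ => by rw [map_smul, Algebra.smul_def]; rfl
  refine ⟨h, hh, w, fun b hb => ?_, fun x => ?_⟩
  · have h1 := congrArg φ hb
    rw [map_zero, map_smul, Algebra.smul_def, hw, mul_eq_zero, Polynomial.C_eq_zero] at h1
    refine hinj ?_
    rw [map_zero]
    refine h1.resolve_right (mul_ne_zero (pow_ne_zero _ ?_) hc)
    exact (map_ne_zero_iff _ (IsFractionRing.injective R K)).2 fun h0 => hh (h0 ▸ zero_mem p)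
  · choose N b hb using hf
    refine ⟨Finset.univ.sup N + k, ∑ i, ψ i x * C (h ^ (Finset.univ.sup N - N i)) * b i, hφ ?_⟩
    have eL : φ (C h ^ (Finset.univ.sup N + k) • x) =
        C (algebraMap R K h) ^ (Finset.univ.sup N + k) * φ x := by
      rw [map_smul, Algebra.smul_def, map_pow, show algebraMap R[X] K[X] (C h) = _ from map_C _]
    have eR : ∀ q : R[X], φ (q • w) = q.map (algebraMap R K) * C (algebraMap R K h ^ k * c) :=
      fun q => by rw [map_smul, Algebra.smul_def, hw]; rfl
    rw [eL, eR, Polynomial.map_sum, Finset.sum_mul]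
    conv_lhs => rw [hψ x, map_sum, Finset.mul_sum]
    refine Finset.sum_congr rfl fun i _ => ?_
    have e1 : φ (ψ i x • p' i) = (ψ i x).map (algebraMap R K) * f i := by
      rw [map_smul, Algebra.smul_def]; rfl
    have hle : N i ≤ Finset.univ.sup N := Finset.le_sup (Finset.mem_univ i)
    rw [e1, Polynomial.map_mul, Polynomial.map_mul, map_C, map_pow, ← C_pow, pow_add,
      ← Nat.sub_add_cancel hle, pow_add, Nat.add_sub_cancel]
    simp only [C_mul]
    linear_combination ((ψ i x).map (algebraMap R K) *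
      C (algebraMap R K h ^ (Finset.univ.sup N - N i)) * C (algebraMap R K h ^ k)) * hb i

end Module

end Groth.PicAux.SemiTS
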