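import Groth.Prelude.Def_Pic
import Groth.Agent.PicAux.SeminormalPoly
import Groth.Agent.PicAux.Pullback
import Groth.Agent.PicAux.QCoh
import Groth.Agent.LocFree.Rank
import Groth.Agent.S7420
import Mathlib.AlgebraicGeometry.AffineSpace

/-!
# Invertible modules on the line over a seminormal integral scheme

`q : Y ⟶ X` is a line over `X`: over every affine open `U` the sections of `Y` are `Γ(X, U)[T]`.
-/

set_option autoImplicit false

universe u

open CategoryTheory CategoryTheory.Limits AlgebraicGeometry Opposite TopologicalSpace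
open scoped TensorProduct

namespace Groth.PicAux.SemiLine

open Groth.PicAux

variable {X Y : Scheme.{u}}

/-- A line over `X`. -/
def IsLine (q : Y ⟶ X) : Prop :=
  ∀ U : X.Opens, IsAffineOpen U → IsAffineOpen (q ⁻¹ᵁ U) ∧
    ∃ t : Γ(Y, q ⁻¹ᵁ U), Function.Bijective (Polynomial.eval₂RingHom (q.app U).hom t)

theorem isLine_of_isPullback {k : Scheme.{u}} {f : X ⟶ k}
    {q : Y ⟶ X} {g : Y ⟶ 𝔸(PUnit.{u + 1}; k)}
    (h : IsPullback g q (𝔸(PUnit.{u + 1}; k) ↘ k) f) : IsLine q := by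
  intro U hU
  have : IsAffine (U : Scheme.{u}) := hU
  have h1 : IsPullback ((q ⁻¹ᵁ U).ι ≫ g) (q ∣_ U) (𝔸(PUnit.{u + 1}; k) ↘ k) (U.ι ≫ f) :=
    (isPullback_morphismRestrict q U).flip.paste_horiz h
  have h2 := AffineSpace.isPullback_map (n := PUnit.{u + 1}) (U.ι ≫ f)
  let ψ := h1.isoIsPullback _ _ h2
  have hψ : ψ.hom ≫ 𝔸(PUnit.{u + 1}; (U : Scheme.{u})) ↘ (U : Scheme.{u}) = q ∣_ U :=
    h1.isoIsPullback_hom_snd _ _ h2
  have hA : IsAffineOpen (q ⁻¹ᵁ U) := IsAffine.of_isIso ψ.hom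
  refine ⟨hA, ?_⟩
  let ρ : MvPolynomial PUnit.{u + 1} Γ((U : Scheme.{u}), ⊤) →+* Γ(𝔸(PUnit.{u + 1}; (U : Scheme.{u})), ⊤) :=
    MvPolynomial.eval₂Hom (𝔸(PUnit.{u + 1}; (U : Scheme.{u})) ↘ (U : Scheme.{u})).appTop.hom
      (AffineSpace.coord (U : Scheme.{u}))
  have hρ : Function.Bijective ρ := by
    have h3 : IsIso (AffineSpace.isoOfIsAffine PUnit.{u + 1} (U : Scheme.{u})).hom.appTop :=
      inferInstanceAs (IsIso (Scheme.Γ.map (AffineSpace.isoOfIsAffine PUnit.{u + 1} (U : Scheme.{u})).hom.op))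
    rw [AffineSpace.isoOfIsAffine_hom_appTop] at h3
    have h4 : IsIso (CommRingCat.ofHom ρ) :=
      IsIso.of_isIso_comp_left (Scheme.ΓSpecIso _).hom _
    exact (ConcreteCategory.isIso_iff_bijective _).1 h4
  let eU : Γ(X, U) ≃+* Γ((U : Scheme.{u}), ⊤) := U.topIso.symm.commRingCatIsoToRingEquiv
  let eY : Γ((q ⁻¹ᵁ U : Y.Opens).toScheme, ⊤) ≃+* Γ(Y, q ⁻¹ᵁ U) :=
    (q ⁻¹ᵁ U).topIso.commRingCatIsoToRingEquiv
  have : IsIso ψ.hom.appTop := inferInstanceAs (IsIso (Scheme.Γ.map ψ.hom.op))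
  let eψ : Γ(𝔸(PUnit.{u + 1}; (U : Scheme.{u})), ⊤) ≃+* Γ((q ⁻¹ᵁ U : Y.Opens).toScheme, ⊤) :=
    (asIso ψ.hom.appTop).commRingCatIsoToRingEquiv
  let eP : Polynomial Γ(X, U) ≃+* MvPolynomial PUnit.{u + 1} Γ((U : Scheme.{u}), ⊤) :=
    (MvPolynomial.uniqueAlgEquiv Γ(X, U) PUnit.{u + 1}).symm.toRingEquiv.trans
      (MvPolynomial.mapEquiv _ eU)
  let Θ : Polynomial Γ(X, U) →+* Γ(Y, q ⁻¹ᵁ U) :=
    (eY.toRingHom.comp eψ.toRingHom).comp (ρ.comp eP.toRingHom)
  have hΘb : Function.Bijective Θ :=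
    (eY.bijective.comp eψ.bijective).comp (hρ.comp eP.bijective)
  refine ⟨Θ Polynomial.X, ?_⟩
  have hΘ : Θ = Polynomial.eval₂RingHom (q.app U).hom (Θ Polynomial.X) := by
    refine Polynomial.ringHom_ext (fun r => ?_) ?_
    · have e1 : eP (Polynomial.C r) = MvPolynomial.C (eU r) := by
        simp [eP, MvPolynomial.mapEquiv_apply]
      change eY (eψ (ρ (eP (Polynomial.C r)))) = _
      rw [e1, MvPolynomial.eval₂Hom_C, Polynomial.coe_eval₂RingHom, Polynomial.eval₂_C]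
      have e2 : U.topIso.inv ≫ (q ∣_ U).appTop ≫ (q ⁻¹ᵁ U).topIso.hom = q.app U := by
        simp [morphismRestrict_appTop, Scheme.Opens.topIso_hom, Scheme.Opens.topIso_inv,
          Scheme.Hom.app_eq_appLE]
        erw [Scheme.Hom.appLE_map, Scheme.Hom.map_appLE]
      rw [← hψ, Scheme.Hom.comp_appTop] at e2
      exact congr($e2 r)
    · simp
  rw [← hΘ]
  exact hΘb

variable {q : Y ⟶ X} (hq : IsLine q) {s : X ⟶ Y} (hs : s ≫ q = 𝟙 X)

include hs in
theorem le_preimage_section (W : X.Opens) : W ≤ s ⁻¹ᵁ q ⁻¹ᵁ W := by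
  rw [← Scheme.Hom.comp_preimage, hs, Scheme.Hom.id_preimage]

include hs in
theorem appLE_app (W : X.Opens) (r : Γ(X, W)) :
    s.appLE (q ⁻¹ᵁ W) W (le_preimage_section hs W) (q.app W r) = r := by
  have e : ∀ (g : X ⟶ X) (h : W ≤ g ⁻¹ᵁ W), g = 𝟙 X → g.appLE W W h r = r := by
    rintro g h rfl
    exact resX_self le_rfl r
  refine Eq.trans ?_ (e (s ≫ q) (le_preimage_section hs W) hs)
  rw [Scheme.Hom.comp_appLE]
  rfl

include hq hs in
/-- Units on the line come from the base. -/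
theorem app_appLE_of_isUnit [IsIntegral X] (W : X.Opens) {u : Γ(Y, q ⁻¹ᵁ W)} (hu : IsUnit u) :
    q.app W (s.appLE (q ⁻¹ᵁ W) W (le_preimage_section hs W) u) = u := by
  let V : {V : X.affineOpens // V.1 ≤ W ∧ Nonempty V.1} → X.Opens := fun V => V.1.1
  refine resX_ext (fun V => q ⁻¹ᵁ (V : {V : X.affineOpens // V.1 ≤ W ∧ Nonempty V.1}).1.1)
    (fun V => q.preimage_mono V.2.1) ?_ fun V => ?_
  · intro y hy
    obtain ⟨_, ⟨V, hV, rfl⟩, hyV, hVW⟩ := X.isBasis_affineOpens.exists_subset_of_mem_open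
      (show q y ∈ W from hy) W.2
    exact Opens.mem_iSup.2 ⟨⟨⟨V, hV⟩, hVW, ⟨⟨q y, hyV⟩⟩⟩, hyV⟩
  · have hne : Nonempty (V.1.1 : X.Opens) := V.2.2
    obtain ⟨-, t, ht⟩ := hq V.1.1 V.1.2
    obtain ⟨p, hp⟩ := ht.2 (resX Y (q.preimage_mono V.2.1) u)
    have hpu : IsUnit p := by
      have : IsUnit (Polynomial.eval₂RingHom (q.app V.1.1).hom t p) := hp ▸ hu.map _
      obtain ⟨b, hb⟩ := isUnit_iff_exists_inv.1 this
      obtain ⟨b', rfl⟩ := ht.2 b
      exact isUnit_iff_exists_inv.2 ⟨b', ht.1 (by rw [map_mul, map_one, hb])⟩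
    obtain ⟨r, -, rfl⟩ := Polynomial.isUnit_iff.1 hpu
    rw [Polynomial.coe_eval₂RingHom, Polynomial.eval₂_C] at hp
    rw [← hp]
    refine (UnionGlueApp q V.2.1 _).symm.trans ?_
    congr 1
    refine Eq.trans ?_ (appLE_app hs V.1.1 r)
    rw [hp]
    exact (congr($(Scheme.Hom.appLE_map s (le_preimage_section hs W) (homOfLE V.2.1).op) u)).trans
      (congr($(Scheme.Hom.map_appLE s (le_preimage_section hs V.1.1)
        (homOfLE (q.preimage_mono V.2.1)).op) u)).symm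
where
  UnionGlueApp {A B : Scheme.{u}} (k : A ⟶ B) {U V : B.Opens} (hVU : V ≤ U) (r : Γ(B, U)) :
      k.app V (resX B hVU r) = resX A (k.preimage_mono hVU) (k.app U r) :=
    congr($(k.naturality (homOfLE hVU).op) r)

include hq in
/-- An invertible module on the line over a seminormal integral scheme is trivial over a cover of
the base. -/
theorem exists_gen_preimage [IsIntegral X] (hX : HTop.IsSeminormal X) {L : Y.Modules}
    (hL : PicF.IsInvertible L) (x : X) :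
    ∃ (U : X.Opens) (w : Γ(L, q ⁻¹ᵁ U)), x ∈ U ∧ Gen L (q ⁻¹ᵁ U) w := by
  obtain ⟨_, ⟨U, hU, rfl⟩, hxU, -⟩ := X.isBasis_affineOpens.exists_subset_of_mem_open
    (Set.mem_univ x) isOpen_univ
  have hne : Nonempty (U : X.Opens) := ⟨⟨x, hxU⟩⟩
  obtain ⟨hA, t, ht⟩ := hq U hU
  have hR : HTop.IsSeminormalRing Γ(X, U) := (Groth.Agent.S7420.result X).1.1 hX ⟨U, hU⟩
  let θ : Polynomial Γ(X, U) ≃+* Γ(Y, q ⁻¹ᵁ U) := RingEquiv.ofBijective _ ht
  have : L.IsQuasicoherent := isQCoh_of_isInvertible hL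
  have hLF : FlatMod.IsFinLocFreeOfRank 1 L := Groth.LocFree.isInvertible_iff_ofRank_one.1 hL
  obtain ⟨hfin, hproj⟩ := Groth.LocFree.finite_projective_sections
    (Groth.LocFree.isFinLocFree_of_rank hLF) hA
  let _ : Algebra Γ(Y, q ⁻¹ᵁ U) (Polynomial Γ(X, U)) := θ.symm.toRingHom.toAlgebra
  let eS : Polynomial Γ(X, U) ≃ₗ[Γ(Y, q ⁻¹ᵁ U)] Γ(Y, q ⁻¹ᵁ U) :=
    { θ.toAddEquiv with
      map_smul' := fun r p => by
        change θ (θ.symm r * p) = r * θ p
        rw [map_mul, RingEquiv.apply_symm_apply] }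
  let e : Polynomial Γ(X, U) ⊗[Γ(Y, q ⁻¹ᵁ U)] Γ(L, q ⁻¹ᵁ U) ≃ₗ[Γ(Y, q ⁻¹ᵁ U)] Γ(L, q ⁻¹ᵁ U) :=
    TensorProduct.congr eS (LinearEquiv.refl _ _) ≪≫ₗ TensorProduct.lid _ _
  have he : ∀ (b : Polynomial Γ(X, U)) (z : _), e (b • z) = θ b • e z := fun b z => by
    induction z using TensorProduct.induction_on with
    | zero => simp
    | tmul c m =>
      change θ (b * c) • m = θ b • θ c • m
      rw [map_mul, mul_smul]
    | add z z' hz hz' => rw [smul_add, map_add, map_add, hz, hz', smul_add]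
  obtain ⟨h, hh, w', -, hw'⟩ := SemiTS.exists_basis_away (R := Γ(X, U)) hR
    (hU.primeIdealOf ⟨x, hxU⟩).asIdeal (Polynomial Γ(X, U) ⊗[Γ(Y, q ⁻¹ᵁ U)] Γ(L, q ⁻¹ᵁ U))
    (fun p => by
      rw [Module.rankAtStalk_baseChange]
      exact Groth.LocFree.rankAtStalk_sections_ofRank hLF hA _)
  let w := e w'
  have hw : ∀ m : Γ(L, q ⁻¹ᵁ U), ∃ (N : ℕ) (a : Γ(Y, q ⁻¹ᵁ U)), q.app U h ^ N • m = a • w := by
    intro m
    obtain ⟨N, a, ha⟩ := hw' (e.symm m)
    refine ⟨N, θ a, ?_⟩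
    have e1 := congrArg e ha
    rw [he, he, e.apply_symm_apply, map_pow] at e1
    have e2 : θ (Polynomial.C h) = q.app U h := by
      simp [θ]
    rwa [e2] at e1
  have hxh : x ∈ X.basicOpen h := by
    by_contra hxh
    exact hh (by
      have : hU.primeIdealOf ⟨x, hxU⟩ ∉ PrimeSpectrum.basicOpen h := fun hm =>
        hxh (by rw [← hU.fromSpec_preimage_basicOpen] at hm
                have h2 : hU.fromSpec (hU.primeIdealOf ⟨x, hxU⟩) ∈ X.basicOpen h := hm
                rwa [hU.fromSpec_primeIdealOf] at h2)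
      simpa using this)
  have hle : q ⁻¹ᵁ X.basicOpen h ≤ q ⁻¹ᵁ U := q.preimage_mono (X.basicOpen_le h)
  refine ⟨X.basicOpen h, res L hle w, hxh, ?_⟩
  -- `w` is a basis near every point of `q ⁻¹ D(h)`
  have loc : ∀ y : (q ⁻¹ᵁ X.basicOpen h : Y.Opens), ∃ D : Y.Opens, ∃ hD : D ≤ q ⁻¹ᵁ X.basicOpen h,
      y.1 ∈ D ∧ Gen L D (res L (hD.trans hle) w) := by
    intro y
    obtain ⟨E, ε, hyE, hε⟩ := (isInvertible_iff_exists_gen L).1 hL y.1
    obtain ⟨d, hdle, hyd⟩ := hA.exists_basicOpen_le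
      (V := E ⊓ q ⁻¹ᵁ X.basicOpen h) ⟨y.1, hyE, y.2⟩ (hle y.2)
    have hdE : Y.basicOpen d ≤ E := hdle.trans inf_le_left
    have hdh : Y.basicOpen d ≤ q ⁻¹ᵁ X.basicOpen h := hdle.trans inf_le_right
    have hεd := hε.res hdE
    obtain ⟨n, m, hm⟩ := Groth.QCohMod.exists_pow_smul_eq_res L hA d (res L hdE ε)
    obtain ⟨N, a, ha⟩ := hw m
    obtain ⟨c, hc⟩ := hεd.exists_coeff le_rfl (res L (hdh.trans hle) w)
    rw [res_self] at hc
    have e1 := congrArg (res L (hdh.trans hle)) ha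
    rw [res_smul, res_smul, hc, show res L (hdh.trans hle) m =
      resX Y (Y.basicOpen_le d) d ^ n • res L hdE ε from hm, smul_smul, smul_smul] at e1
    have e2 : resX Y (hdh.trans hle) (q.app U h ^ N) * resX Y (Y.basicOpen_le d) d ^ n =
        resX Y (hdh.trans hle) a * c := hεd.smul_inj le_rfl (by simpa only [res_self] using e1)
    have hu1 : IsUnit (resX Y (hdh.trans hle) (q.app U h)) := by
      rw [← resX_resX hle hdh, ← app_appLE_of_isUnit.UnionGlueApp q (X.basicOpen_le h) h]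
      exact ((RingedSpace.isUnit_res_basicOpen X.toRingedSpace h).map _).map _
    have hu : IsUnit c := by
      refine isUnit_of_mul_isUnit_right (x := resX Y (hdh.trans hle) a) ?_
      rw [← e2, map_pow]
      exact (hu1.pow N).mul ((RingedSpace.isUnit_res_basicOpen Y.toRingedSpace d).pow n)
    exact ⟨Y.basicOpen d, hdh, hyd, hc ▸ hεd.smul_unit hu⟩
  choose D hD hyD hgen using loc
  refine Gen.of_cover D hD (fun y hy => Opens.mem_iSup.2 ⟨⟨y, hy⟩, hyD ⟨y, hy⟩⟩) fun y => ?_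
  rw [res_res]
  exact hgen y

include hq hs in
/-- Every invertible module on the line comes from the base. -/
theorem exists_pullback_iso [IsIntegral X] (hX : HTop.IsSeminormal X) {L : Y.Modules}
    (hL : PicF.IsInvertible L) :
    ∃ M : X.Modules, PicF.IsInvertible M ∧ Nonempty ((Scheme.Modules.pullback q).obj M ≅ L) := by
  choose U w hxU hw using exists_gen_preimage hq hX hL
  have hU : iSup U = ⊤ := eq_top_iff.2 fun x _ => Opens.mem_iSup.2 ⟨x, hxU x⟩
  let σ : ∀ x, Γ((Scheme.Modules.pullback s).obj L, U x) := fun x =>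
    res _ (le_preimage_section hs (U x)) (pullSec s L (w x))
  have hσ : ∀ x, Gen _ (U x) (σ x) := fun x => ((hw x).pull s).res _
  refine ⟨(Scheme.Modules.pullback s).obj L, isInvertible_pullback s hL, ?_⟩
  obtain ⟨i, -⟩ := exists_iso_of_gen (U := fun x => q ⁻¹ᵁ U x)
    (eq_top_iff.2 fun z _ => Opens.mem_iSup.2 ⟨q z, hxU (q z)⟩)
    (fun x => pullSec q _ (σ x)) (fun x => (hσ x).pull q) w hw fun x y r hr => by
      obtain ⟨c, hc⟩ := ((hw y).res (q.preimage_mono (inf_le_right : U x ⊓ U y ≤ U y))).exists_unit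
        ((hw x).res (q.preimage_mono (inf_le_left : U x ⊓ U y ≤ U x)))
      refine hc.trans ?_
      have e1 := congrArg (fun z => res _ (le_preimage_section hs (U x ⊓ U y)) (pullSec s L z)) hc
      simp only [pullSec_smul, res_smul, ← res_pullSec, res_res] at e1
      have e2 : res _ (inf_le_left : U x ⊓ U y ≤ U x) (σ x) =
          s.appLE (q ⁻¹ᵁ (U x ⊓ U y)) (U x ⊓ U y) (le_preimage_section hs _) c •
            res _ (inf_le_right : U x ⊓ U y ≤ U y) (σ y) := by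
        simp only [σ, res_res]
        exact e1
      have e3 := congrArg (pullSec q _) e2
      rw [pullSec_smul, app_appLE_of_isUnit hq hs _ c.isUnit,
        ← res_pullSec q _ inf_le_left (σ x), ← res_pullSec q _ inf_le_right (σ y)] at e3
      exact congrArg (· • _) (((hσ y).pull q).smul_inj (q.preimage_mono inf_le_right)
        (e3.symm.trans hr))
  exact ⟨i⟩

include hs in
theorem pullCl_section (c : PicF.Cl X) : PicF.pullCl s (PicF.pullCl q c) = c := by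
  refine Quot.inductionOn c fun L => Quot.sound ⟨?_⟩
  exact (Scheme.Modules.pullbackComp s q).app L ≪≫ (Scheme.Modules.pullbackCongr hs).app L ≪≫
    (Scheme.Modules.pullbackId X).app L

include hq hs in
theorem bijOn_pullCl [IsIntegral X] (hX : HTop.IsSeminormal X) :
    Set.BijOn (PicF.pullCl q) {c | PicF.IsInvertibleCl c} {c | PicF.IsInvertibleCl c} := by
  refine ⟨?_, fun a _ b _ h => ?_, ?_⟩
  · rintro _ ⟨L, rfl, hL⟩
    exact ⟨_, rfl, isInvertible_pullback q hL⟩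
  · rw [← pullCl_section hs a, h, pullCl_section hs b]
  · rintro _ ⟨L, rfl, hL⟩
    obtain ⟨M, hM, ⟨e⟩⟩ := exists_pullback_iso hq hs hX hL
    exact ⟨PicF.cl M, ⟨M, rfl, hM⟩, Quot.sound ⟨e⟩⟩

end Groth.PicAux.SemiLine
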