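import Groth.Agent.PicAux.PullTensor
import Groth.Agent.PicAux.GenLocusAffine
import Groth.Agent.Variety2.Normal
import Groth.Prelude.Def_Pi1
import Mathlib.FieldTheory.PurelyInseparable.PerfectClosure
import Mathlib.AlgebraicGeometry.Morphisms.FormallyUnramified
import Mathlib.AlgebraicGeometry.Morphisms.UniversallyOpen
import Mathlib.AlgebraicGeometry.Morphisms.Finite
import Mathlib.AlgebraicGeometry.Morphisms.Etale
import Mathlib.AlgebraicGeometry.FunctionField

/-!
# `p`-torsion invertible modules do not die in finite étale covers without inseparable units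
-/

universe u

open CategoryTheory AlgebraicGeometry Opposite TopologicalSpace

namespace Groth.PicAux

variable {X X' : Scheme.{u}}

theorem surjective_of_finite_etale [PreconnectedSpace X] [Nonempty X'] (f : X' ⟶ X) [IsFinite f]
    [Etale f] : Function.Surjective f := by
  have h : IsClopen (Set.range f) :=
    ⟨f.isClosedMap.isClosed_range, f.isOpenMap.isOpen_range⟩
  exact Set.range_eq_univ.1 (h.eq_univ (Set.range_nonempty f))

theorem mem_range_of_pow_mem {K E : Type*} [Field K] [Field E] [Algebra K E]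
    [Algebra.IsSeparable K E] (p : ℕ) [Fact p.Prime] [CharP K p] {a : E}
    (h : a ^ p ∈ (algebraMap K E).range) : a ∈ (algebraMap K E).range := by
  have : ExpChar K p := ExpChar.prime Fact.out
  have := IntermediateField.adjoin_eq_adjoin_pow_expChar_of_isSeparable' K E (q := p) ({a} : Set E)
  rw [Set.image_singleton] at this
  have h1 : IntermediateField.adjoin K ({a} : Set E) ≤ ⊥ := by
    rw [this, IntermediateField.adjoin_le_iff]
    intro z hz
    rw [Set.mem_singleton_iff.1 hz]
    exact IntermediateField.mem_bot.2 h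
  exact IntermediateField.mem_bot.1 (h1 (IntermediateField.subset_adjoin K _ rfl))

/-- On a normal integral scheme, a function which becomes a `p`-th power upstairs of a finite
étale cover is a `p`-th power. -/
theorem exists_pth_root [IsIntegral X] (hnorm : Pi1.IsNormalScheme X) [Nonempty X'] (f : X' ⟶ X)
    [IsFinite f] [Etale f] (p : ℕ) [Fact p.Prime] [CharP (Γ(X, ⊤) : Type u) p]
    (hfield : IsField (Γ(X, ⊤) : Type u)) {U : X.Opens} (hU : IsAffineOpen U) [Nonempty U]
    (u : Γ(X, U)) (a : Γ(X', f ⁻¹ᵁ U)) (ha : a ^ p = f.app U u) :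
    ∃ w : Γ(X, U), w ^ p = u := by
  obtain ⟨y, hy⟩ := surjective_of_finite_etale f (genericPoint X)
  have hηU : genericPoint X ∈ U := ((genericPoint_spec X).mem_open_set_iff U.isOpen).2 (by
    obtain ⟨z, hz⟩ := ‹Nonempty U›; exact ⟨z, by simpa using hz⟩)
  rw [← hy] at hηU
  letI := (f.residueFieldMap y).hom.toAlgebra
  have : CharP (X.residueField (f y)) p :=
    letI := hfield.toField
    charP_of_injective_ringHom (X.evaluation ⊤ (f y) trivial).hom.injective p
  have h1 : (X'.evaluation (f ⁻¹ᵁ U) y hηU a) ^ p ∈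
      (algebraMap (X.residueField (f y)) (X'.residueField y)).range :=
    ⟨X.evaluation U (f y) hηU u, by
      rw [← map_pow, ha]
      exact Scheme.evaluation_naturality_apply f y hηU u⟩
  obtain ⟨β, hβ⟩ := mem_range_of_pow_mem p h1
  have hβp : β ^ p = X.evaluation U (f y) hηU u := (f.residueFieldMap y).hom.injective (by
    have e1 : (f.residueFieldMap y).hom β = X'.evaluation (f ⁻¹ᵁ U) y hηU a := hβ
    rw [map_pow, e1, ← map_pow, ha]
    exact (Scheme.evaluation_naturality_apply f y hηU u).symm)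
  obtain ⟨b, rfl⟩ := (IsLocalRing.residue_surjective (R := X.presheaf.stalk (f y))) β
  have hF : IsField (X.presheaf.stalk (f y)) := by
    rw [hy]
    exact Field.toIsField X.functionField
  have hres : Function.Injective (IsLocalRing.residue (X.presheaf.stalk (f y))) := by
    letI := hF.toField
    exact RingHom.injective _
  have hbp : b ^ p = X.presheaf.germ U (f y) hηU u := hres ((map_pow _ _ _).trans hβp)
  let e := X.presheaf.stalkSpecializes (Inseparable.of_eq hy.symm).specializes
  have hbp' : (e b) ^ p = X.germToFunctionField U u := by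
    rw [← map_pow, hbp]
    erw [TopCat.Presheaf.germ_stalkSpecializes_apply]
  have := functionField_isFractionRing_of_isAffineOpen X U hU
  have := Variety2.isIntegrallyClosed_Γ (fun x => (hnorm x).2) U
  obtain ⟨w, hw⟩ := IsIntegrallyClosed.exists_algebraMap_eq_of_isIntegral_pow (R := Γ(X, U))
    (Fact.out : p.Prime).pos (x := e b) (by rw [hbp']; exact isIntegral_algebraMap)
  refine ⟨w, X.germToFunctionField_injective U ?_⟩
  rw [map_pow]
  exact (congrArg (· ^ p) hw).trans hbp'

/-- An invertible module with trivial `p`-th power which dies in a finite étale cover is trivial. -/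
theorem nonempty_iso_of_pullback_trivial [IsIntegral X] (hnorm : Pi1.IsNormalScheme X) [Nonempty X']
    (f : X' ⟶ X) [IsFinite f] [Etale f] (p : ℕ) [Fact p.Prime] [CharP (Γ(X, ⊤) : Type u) p]
    (hfield : IsField (Γ(X, ⊤) : Type u))
    (hroot : ∀ u : (Γ(X', ⊤) : Type u), IsUnit u → ∃ v : (Γ(X', ⊤) : Type u), v ^ p = u)
    {M : X.Modules} (hM : PicF.IsInvertible M)
    (hp : Nonempty (CohB1.tensorPow M p ≅ Coh.structureModule X))
    (hpull : Nonempty ((Scheme.Modules.pullback f).obj M ≅ Coh.structureModule X')) :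
    Nonempty (M ≅ Coh.structureModule X) := by
  obtain ⟨φ⟩ := hp
  obtain ⟨t, ht⟩ := nonempty_iso_structure_iff.1 hpull
  choose U e hU hxU he using exists_affine_gen_mem hM
  have hcov : iSup U = ⊤ := eq_top_iff.2 fun x _ => Opens.mem_iSup.2 ⟨x, hxU x⟩
  let uu (i : X) : Γ(X, U i) := toFun (φ.hom.app (U i) (powSec (e i) p))
  have huu : ∀ i, IsUnit (uu i) := fun i => by
    obtain ⟨b, hb⟩ := (((he i).pow p).map φ.hom).exists_coeff le_rfl (oneSec X (U i))
    rw [res_self] at hb
    refine IsUnit.of_mul_eq_one b ?_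
    have := congrArg toFun hb
    rw [toFun_oneSec, toFun_smul] at this
    rw [mul_comm]; exact this.symm
  choose c hc using fun i => (ht.res (le_top : f ⁻¹ᵁ U i ≤ ⊤)).exists_unit ((he i).pull f)
  have hrel : ∀ i j (r : Γ(X, U i ⊓ U j)), res M inf_le_left (e i) = r • res M inf_le_right (e j) →
      resX X inf_le_left (uu i) = r ^ p * resX X inf_le_right (uu j) ∧
      resX X' (f.preimage_mono inf_le_left) (c i : Γ(X', f ⁻¹ᵁ U i)) =
        f.app (U i ⊓ U j) r * resX X' (f.preimage_mono inf_le_right) (c j : Γ(X', f ⁻¹ᵁ U j)) := by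
    intro i j r hr
    constructor
    · rw [← toFun_res, ← toFun_res, ← app_res, ← app_res, res_powSec, res_powSec, hr, powSec_smul,
        Scheme.Modules.Hom.app_smul, toFun_smul]
    · refine ht.smul_inj le_top ?_
      have h1 := congrArg (pullSec f M) hr
      rw [pullSec_smul, ← res_pullSec, ← res_pullSec, hc i, hc j, res_smul, res_smul, res_res,
        res_res, smul_smul] at h1
      exact h1
  have hagree : ∀ i j, resX X' (inf_le_left : f ⁻¹ᵁ U i ⊓ f ⁻¹ᵁ U j ≤ f ⁻¹ᵁ U i)
        (f.app (U i) (uu i) * (((c i)⁻¹ ^ p : (Γ(X', f ⁻¹ᵁ U i))ˣ) : Γ(X', f ⁻¹ᵁ U i))) =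
      resX X' inf_le_right (f.app (U j) (uu j) * (((c j)⁻¹ ^ p : (Γ(X', f ⁻¹ᵁ U j))ˣ) : Γ(X', f ⁻¹ᵁ U j))) := by
    intro i j
    obtain ⟨r, hr⟩ := (he j).exists_coeff (inf_le_right : U i ⊓ U j ≤ U j) (res M inf_le_left (e i))
    obtain ⟨h1, h2⟩ := hrel i j r hr
    have hn : ∀ k (h : U i ⊓ U j ≤ U k) (z : Γ(X, U k)),
        resX X' (f.preimage_mono h) (f.app (U k) z) = f.app (U i ⊓ U j) (resX X h z) := fun k h z =>
      congr($((f.naturality (homOfLE h).op).symm) z)
    have alg : ∀ {R : Type u} [CommRing R] (a vi vj di dj di' dj' : R), di * di' = 1 → dj * dj' = 1 →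
        di = a * dj → vi = a ^ p * vj → vi * di' ^ p = vj * dj' ^ p := by
      intro R _ a vi vj di dj di' dj' h3 h4 h5 h6
      calc vi * di' ^ p = a ^ p * vj * di' ^ p * (dj * dj') ^ p := by rw [h4, one_pow, mul_one, h6]
        _ = vj * dj' ^ p * ((a * dj) * di') ^ p := by ring
        _ = vj * dj' ^ p := by rw [← h5, h3, one_pow, mul_one]
    rw [map_mul, map_mul, Units.val_pow_eq_pow_val, Units.val_pow_eq_pow_val, map_pow, map_pow]
    erw [hn i inf_le_left, hn j inf_le_right]
    refine alg (f.app (U i ⊓ U j) r) _ _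
      (resX X' (f.preimage_mono inf_le_left) (c i : Γ(X', f ⁻¹ᵁ U i)))
      (resX X' (f.preimage_mono inf_le_right) (c j : Γ(X', f ⁻¹ᵁ U j))) _ _ ?_ ?_ h2 ?_
    · exact (map_mul _ _ _).symm.trans (by rw [Units.mul_inv, map_one])
    · exact (map_mul _ _ _).symm.trans (by rw [Units.mul_inv, map_one])
    · rw [h1, map_mul, map_pow]
  obtain ⟨v, hv, -⟩ := resX_glue (fun i => f ⁻¹ᵁ U i) (fun _ => le_top (a := _))
    (fun z _ => Opens.mem_iSup.2 ⟨f.base z, hxU _⟩) _ hagree
  have hvu : IsUnit v := by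
    refine RingedSpace.isUnit_of_isUnit_germ X'.toRingedSpace ⊤ v fun z _ => ?_
    have h1 : IsUnit (resX X' (le_top : f ⁻¹ᵁ U (f.base z) ≤ ⊤) v) := by
      rw [hv]
      exact ((huu _).map _).mul (Units.isUnit _)
    have h2 := h1.map (X'.presheaf.germ (f ⁻¹ᵁ U (f.base z)) z (hxU _)).hom
    erw [TopCat.Presheaf.germ_res_apply] at h2
    exact h2
  obtain ⟨w, rfl⟩ := hroot v hvu
  have key : ∀ i, ∃ z : Γ(X, U i), z ^ p = uu i := fun i => by
    haveI : Nonempty (U i) := ⟨⟨i, hxU i⟩⟩
    refine exists_pth_root hnorm f p hfield (hU i) (uu i)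
      (resX X' le_top w * (c i : Γ(X', f ⁻¹ᵁ U i))) ?_
    rw [mul_pow, ← map_pow, hv i, mul_assoc, ← Units.val_pow_eq_pow_val, ← Units.val_mul, ← mul_pow,
      inv_mul_cancel, one_pow, Units.val_one, mul_one]
  choose z hz using key
  have hzu : ∀ i, IsUnit (z i) := fun i => (isUnit_pow_iff (Fact.out : p.Prime).ne_zero).1
    (hz i ▸ huu i)
  obtain ⟨φ', -⟩ := exists_iso_of_gen hcov e he (fun i => z i • oneSec X (U i))
    (fun i => (gen_oneSec (U i)).smul_unit (hzu i)) fun i j r hr => by
      obtain ⟨h1, -⟩ := hrel i j r hr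
      rw [res_smul, res_smul, res_oneSec, res_oneSec, smul_smul]
      congr 1
      refine TopCat.Presheaf.section_ext X.sheaf _ _ _ fun x hx => ?_
      haveI : Nonempty (U i ⊓ U j : X.Opens) := ⟨⟨x, hx⟩⟩
      have : CharP Γ(X, U i ⊓ U j) p :=
        letI := hfield.toField
        charP_of_injective_ringHom (resX X (le_top : U i ⊓ U j ≤ ⊤)).injective p
      have : ExpChar Γ(X, U i ⊓ U j) p := ExpChar.prime Fact.out
      have h3 : resX X inf_le_left (z i) = r * resX X inf_le_right (z j) := by
        refine frobenius_inj Γ(X, U i ⊓ U j) p ?_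
        rw [frobenius_def, frobenius_def, mul_pow, ← map_pow, ← map_pow, hz, hz, h1]
      exact congrArg _ h3
  exact ⟨φ'⟩

end Groth.PicAux
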