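import Mathlib.RingTheory.Localization.NumDen
import Mathlib.RingTheory.UniqueFactorizationDomain.Basic
import Mathlib.RingTheory.UniqueFactorizationDomain.Multiplicity
import Mathlib.Tactic.FieldSimp
import Mathlib.Tactic.Ring

/-!
# Dividing a compatible family of rational functions over a UFD

`A` is a UFD with fraction field `K`, `Y` a set of points, each prime `π` of `A` has a point `pt π` at
which exactly the elements prime to `π` are units. A family `f i` of rational functions on `O i`, with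
unit ratios on overlaps, is up to units a single rational function.
-/

universe u v w

namespace Groth.PicAux

variable {A : Type u} [CommRing A] [IsDomain A] [UniqueFactorizationMonoid A]
  {K : Type u} [Field K] [Algebra A K] [IsFractionRing A K]
  {Y : Type v} {ι : Type w}

/-- The data used in `exists_div`. -/
structure UnitData (A K : Type u) [CommRing A] [Field K] [Algebra A K] (Y : Type v) where
  /-- `z` is a unit at `y`. -/
  P : Y → K → Prop
  /-- the point of a prime -/
  pt : A → Y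
  mul' : ∀ {y z z'}, P y z → P y z' → P y (z * z')
  inv' : ∀ {y z}, P y z → P y z⁻¹
  unit' : ∀ {y} {c : A}, IsUnit c → P y (algebraMap A K c)
  assoc' : ∀ {π π' : A}, Prime π → Associated π π' → pt π = pt π'
  pt_iff' : ∀ {π c : A}, Prime π → (P (pt π) (algebraMap A K c) ↔ ¬ π ∣ c)

variable (D : UnitData A K Y)

set_option linter.unusedSectionVars false

theorem UnitData.div {y : Y} {z z' : K} (h : D.P y z) (h' : D.P y z') : D.P y (z / z') := by
  rw [div_eq_mul_inv]
  exact D.mul' h (D.inv' h')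

theorem UnitData.one (y : Y) : D.P y 1 := by
  simpa using D.unit' (y := y) (isUnit_one (M := A))

theorem UnitData.num_den_pt {π : A} (hπ : Prime π) {z : K} (hz : z ≠ 0) :
    ∃ f0 : K, f0 ≠ 0 ∧ D.P (D.pt π) (z / f0) ∧
      ∀ π' : A, Prime π' → ¬ π' ∣ π → D.P (D.pt π') f0 := by
  obtain ⟨a, b, hb, rfl⟩ := IsFractionRing.div_surjective (A := A) z
  have hb0 : b ≠ 0 := nonZeroDivisors.ne_zero hb
  have ha0 : a ≠ 0 := by rintro rfl; simp at hz
  obtain ⟨m, a', ha', rfl⟩ := WfDvdMonoid.max_power_factor ha0 hπ.irreducible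
  obtain ⟨k, b', hb', rfl⟩ := WfDvdMonoid.max_power_factor hb0 hπ.irreducible
  have hπ0 : algebraMap A K π ≠ 0 := (map_ne_zero_iff _ (IsFractionRing.injective A K)).2 hπ.ne_zero
  refine ⟨algebraMap A K π ^ m / algebraMap A K π ^ k, div_ne_zero (pow_ne_zero _ hπ0) (pow_ne_zero _ hπ0),
    ?_, fun π' hπ' h => ?_⟩
  · have : algebraMap A K (π ^ m * a') / algebraMap A K (π ^ k * b') /
        (algebraMap A K π ^ m / algebraMap A K π ^ k) = algebraMap A K a' / algebraMap A K b' := by
      simp only [map_mul, map_pow]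
      field_simp
    rw [this]
    exact D.div ((D.pt_iff' hπ).2 ha') ((D.pt_iff' hπ).2 hb')
  · simp only [← map_pow]
    exact D.div ((D.pt_iff' hπ').2 fun e => h (hπ'.dvd_of_dvd_pow e))
      ((D.pt_iff' hπ').2 fun e => h (hπ'.dvd_of_dvd_pow e))

theorem exists_div_at_primes (O : ι → Y → Prop) {s : A} (hs : s ≠ 0) :
    ∀ g : ι → K, (∀ i, g i ≠ 0) → (∀ i j y, O i y → O j y → D.P y (g i / g j)) →
      (∀ π, Prime π → ¬ π ∣ s → ∀ i, O i (D.pt π) → D.P (D.pt π) (g i)) →
      ∃ f : K, f ≠ 0 ∧ ∀ π, Prime π → ∀ i, O i (D.pt π) → D.P (D.pt π) (g i / f) := by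
  induction s using UniqueFactorizationMonoid.induction_on_prime with
  | h₁ => exact absurd rfl hs
  | h₂ u hu =>
    intro g hg0 _ hgood
    exact ⟨1, one_ne_zero, fun π hπ i hi => by
      rw [div_one]; exact hgood π hπ (fun e => hπ.not_isUnit (isUnit_of_dvd_unit e hu)) i hi⟩
  | h₃ s p hs0 hp ih =>
    intro g hg0 hcompat hgood
    obtain ⟨f0, hf00, hfp, hf0⟩ : ∃ f0 : K, f0 ≠ 0 ∧
        (∀ i, O i (D.pt p) → D.P (D.pt p) (g i / f0)) ∧
        ∀ π' : A, Prime π' → ¬ π' ∣ p → D.P (D.pt π') f0 := by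
      by_cases h : ∃ i, O i (D.pt p)
      · obtain ⟨i, hi⟩ := h
        obtain ⟨f0, h1, h2, h3⟩ := D.num_den_pt hp (hg0 i)
        refine ⟨f0, h1, fun j hj => ?_, h3⟩
        have : g j / f0 = g j / g i * (g i / f0) := by field_simp [hg0 i]
        rw [this]
        exact D.mul' (hcompat j i _ hj hi) h2
      · exact ⟨1, one_ne_zero, fun i hi => absurd ⟨i, hi⟩ h, fun π' _ _ => D.one _⟩
    obtain ⟨f, hf, hfgood⟩ := ih hs0 (fun i => g i / f0) (fun i => div_ne_zero (hg0 i) hf00)
      (fun i j y hi hj => by rw [div_div_div_cancel_right₀ hf00]; exact hcompat i j y hi hj)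
      (fun π hπ hπs i hi => by
        by_cases hπp : π ∣ p
        · have e := D.assoc' hπ ((hπ.irreducible).associated_of_dvd hp.irreducible hπp)
          rw [e] at hi ⊢
          exact hfp i hi
        · exact D.div (hgood π hπ (fun e => (hπ.dvd_or_dvd e).elim hπp hπs) i hi) (hf0 π hπ hπp))
    refine ⟨f0 * f, mul_ne_zero hf00 hf, fun π hπ i hi => ?_⟩
    rw [← div_div]
    exact hfgood π hπ i hi

theorem exists_div (O : ι → Y → Prop) (f : ι → K) (hf0 : ∀ i, f i ≠ 0)
    (hcompat : ∀ i j y, O i y → O j y → D.P y (f i / f j))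
    (hspec : ∀ π, Prime π → ∀ y i, ¬ D.P y (algebraMap A K π) → O i y → O i (D.pt π))
    (i₀ : ι) {s : A} (hs : s ≠ 0) (hsO : ∀ π, Prime π → ¬ π ∣ s → O i₀ (D.pt π)) :
    ∃ g : K, g ≠ 0 ∧ ∀ i y, O i y → D.P y (f i / g) := by
  obtain ⟨g, hg, hgood⟩ := exists_div_at_primes D O hs (fun i => f i / f i₀)
    (fun i => div_ne_zero (hf0 i) (hf0 i₀))
    (fun i j y hi hj => by rw [div_div_div_cancel_right₀ (hf0 i₀)]; exact hcompat i j y hi hj)
    (fun π hπ hπs i hi => hcompat i i₀ _ hi (hsO π hπ hπs))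
  refine ⟨f i₀ * g, mul_ne_zero (hf0 i₀) hg, fun i y hy => ?_⟩
  rw [← div_div]
  have hz : f i / f i₀ / g ≠ 0 := div_ne_zero (div_ne_zero (hf0 i) (hf0 i₀)) hg
  obtain ⟨a, ⟨b, hb⟩, hab, hz'⟩ := IsFractionRing.exists_reduced_fraction (A := A) (f i / f i₀ / g)
  simp only [IsFractionRing.mk'_eq_div] at hz'
  have hb0 : b ≠ 0 := nonZeroDivisors.ne_zero hb
  have ha0 : a ≠ 0 := by rintro rfl; simp at hz'; exact hz hz'.symm
  have hinj := IsFractionRing.injective A K
  have ha' : algebraMap A K a ≠ 0 := (map_ne_zero_iff _ hinj).2 ha0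
  have hb' : algebraMap A K b ≠ 0 := (map_ne_zero_iff _ hinj).2 hb0
  -- every prime dividing `a` or `b` is a unit at `y`
  have key : ∀ π, Prime π → π ∣ a ∨ π ∣ b → D.P y (algebraMap A K π) := by
    intro π hπ hdvd
    by_contra hnot
    have hO := hspec π hπ y i hnot hy
    have hu : D.P (D.pt π) (algebraMap A K a / algebraMap A K b) := hz' ▸ hgood π hπ i hO
    rcases hdvd with h | h
    · have hbu : D.P (D.pt π) (algebraMap A K b) :=
        (D.pt_iff' hπ).2 fun e => hπ.not_isUnit (hab h e)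
      have := D.mul' hu hbu
      rw [div_mul_cancel₀ _ hb'] at this
      exact (D.pt_iff' hπ).1 this h
    · have hau : D.P (D.pt π) (algebraMap A K a) :=
        (D.pt_iff' hπ).2 fun e => hπ.not_isUnit (hab e h)
      have := D.div hau hu
      rw [div_div_eq_mul_div, mul_div_assoc, mul_comm, div_mul_cancel₀] at this
      · exact (D.pt_iff' hπ).1 this h
      · exact ha'
  have prod : ∀ c : A, c ≠ 0 → (∀ π, Prime π → π ∣ c → D.P y (algebraMap A K π)) →
      D.P y (algebraMap A K c) := by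
    intro c
    induction c using UniqueFactorizationMonoid.induction_on_prime with
    | h₁ => intro h; exact absurd rfl h
    | h₂ u hu => intro _ _; exact D.unit' hu
    | h₃ c π hc hπ ih =>
      intro _ h
      rw [map_mul]
      exact D.mul' (h π hπ (dvd_mul_right π c))
        (ih hc fun π' hπ' e => h π' hπ' (e.mul_left π))
  rw [← hz']
  exact D.div (prod a ha0 fun π hπ h => key π hπ (Or.inl h))
    (prod b hb0 fun π hπ h => key π hπ (Or.inr h))

end Groth.PicAux
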