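import Groth.Agent.PicAux.UFDSplit
import Groth.Agent.PicAux.Cocycle
import Groth.Agent.Variety2.Normal

/-!
# Rational functions which are units at a point; extending cocycles at a point with UFD stalk
-/

universe u

open CategoryTheory AlgebraicGeometry Opposite TopologicalSpace IsLocalRing

namespace Groth.PicAux

set_option linter.unusedSectionVars false

variable {W : Scheme.{u}} [IsIntegral W]

/-- The rational function `z` is a unit of the local ring at `y`. -/
def IsUnitAt (y : W) (z : W.functionField) : Prop :=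
  ∃ a : W.presheaf.stalk y, IsUnit a ∧ algebraMap (W.presheaf.stalk y) W.functionField a = z

theorem algebraMap_stalkSpecializes {x y : W} (h : y ⤳ x) (a : W.presheaf.stalk x) :
    algebraMap (W.presheaf.stalk y) W.functionField (W.presheaf.stalkSpecializes h a) =
      algebraMap (W.presheaf.stalk x) W.functionField a := by
  simp only [RingHom.algebraMap_toAlgebra]
  exact congr($(W.presheaf.stalkSpecializes_comp
    ((genericPoint_spec W).specializes trivial) h) a)

theorem IsUnitAt.mul {y : W} {z z' : W.functionField} (h : IsUnitAt y z) (h' : IsUnitAt y z') :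
    IsUnitAt y (z * z') := by
  obtain ⟨a, ha, rfl⟩ := h
  obtain ⟨b, hb, rfl⟩ := h'
  exact ⟨a * b, ha.mul hb, map_mul _ _ _⟩

theorem IsUnitAt.inv {y : W} {z : W.functionField} (h : IsUnitAt y z) : IsUnitAt y z⁻¹ := by
  obtain ⟨a, ha, rfl⟩ := h
  refine ⟨↑ha.unit⁻¹, (ha.unit⁻¹).isUnit, eq_inv_of_mul_eq_one_left ?_⟩
  rw [← map_mul, IsUnit.val_inv_mul, map_one]

theorem isUnitAt_algebraMap_iff {x y : W} (h : y ⤳ x) (a : W.presheaf.stalk x) :
    IsUnitAt y (algebraMap (W.presheaf.stalk x) W.functionField a) ↔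
      IsUnit (W.presheaf.stalkSpecializes h a) := by
  refine ⟨?_, fun ha => ⟨_, ha, algebraMap_stalkSpecializes h a⟩⟩
  rintro ⟨b, hb, e⟩
  rw [← algebraMap_stalkSpecializes h a] at e
  exact IsFractionRing.injective _ _ e ▸ hb

theorem isUnit_stalkSpecializes_iff {x : W} (p : PrimeSpectrum (W.presheaf.stalk x))
    (h : W.fromSpecStalk x p ⤳ x) (c : W.presheaf.stalk x) :
    IsUnit (W.presheaf.stalkSpecializes h c) ↔ c ∉ p.asIdeal := by
  have e1 : W.fromSpecStalk x (Spec.map (W.presheaf.stalkSpecializes h)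
      (closedPoint (W.presheaf.stalk (W.fromSpecStalk x p)))) = W.fromSpecStalk x p := by
    rw [← Scheme.Hom.comp_apply, Scheme.SpecMap_stalkSpecializes_fromSpecStalk,
      Scheme.fromSpecStalk_closedPoint]
  have e2 := (W.fromSpecStalk x).isEmbedding.injective e1
  constructor
  · intro hu hc
    rw [← e2] at hc
    exact (mem_maximalIdeal _).1 hc hu
  · intro hc
    by_contra hu
    apply hc
    rw [← e2]
    exact (mem_maximalIdeal _).2 hu

theorem germToFunctionField_resX {U V : W.Opens} (h : V ≤ U) [Nonempty U] [Nonempty V]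
    (s : Γ(W, U)) :
    W.germToFunctionField V (resX W h s) = W.germToFunctionField U s :=
  W.presheaf.germ_res_apply (homOfLE h) _ _ s

theorem isUnitAt_germ {V : W.Opens} [Nonempty V] {y : W} (hy : y ∈ V) {s : Γ(W, V)}
    (hs : IsUnit s) : IsUnitAt y (W.germToFunctionField V s) :=
  ⟨W.presheaf.germ V y hy s, hs.map (W.presheaf.germ V y hy).hom,
    Scheme.algebraMap_germ_eq_germToFunctionField W hy s⟩

theorem isOpen_isUnitAt (z : W.functionField) : IsOpen {y : W | IsUnitAt y z} := by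
  refine isOpen_iff_forall_mem_open.2 ?_
  rintro y ⟨a, ha, rfl⟩
  obtain ⟨V, hy, s, rfl⟩ := W.presheaf.exists_germ_eq a
  refine ⟨W.basicOpen s, fun w hw => ?_, (W.basicOpen s).isOpen, (Scheme.mem_basicOpen W s y hy).2 ha⟩
  have hwV := W.basicOpen_le s hw
  have : Nonempty V := ⟨⟨w, hwV⟩⟩
  refine ⟨W.presheaf.germ V w hwV s, (Scheme.mem_basicOpen W s w hwV).1 hw, ?_⟩
  rw [Scheme.algebraMap_germ_eq_germToFunctionField, Scheme.algebraMap_germ_eq_germToFunctionField]

theorem exists_unit_section {V : W.Opens} [Nonempty V] {z : W.functionField}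
    (h : ∀ y ∈ V, IsUnitAt y z) :
    ∃ s : Γ(W, V), IsUnit s ∧ W.germToFunctionField V s = z := by
  obtain ⟨s, hs⟩ := Groth.Variety2.exists_section_of_forall_stalk V z fun y hy =>
    ⟨(h y hy).choose, (h y hy).choose_spec.2⟩
  obtain ⟨t, ht⟩ := Groth.Variety2.exists_section_of_forall_stalk V z⁻¹ fun y hy =>
    ⟨(h y hy).inv.choose, (h y hy).inv.choose_spec.2⟩
  obtain ⟨⟨y, hy⟩⟩ := ‹Nonempty V›
  have hz : z ≠ 0 := by
    obtain ⟨a, ha, rfl⟩ := h y hy
    exact (map_ne_zero_iff _ (IsFractionRing.injective _ _)).2 ha.ne_zero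
  refine ⟨s, IsUnit.of_mul_eq_one t (W.germToFunctionField_injective V ?_), hs⟩
  rw [map_mul, map_one, hs, ht, mul_inv_cancel₀ hz]

open Classical in
/-- The point of `W` of a prime element of a local ring. -/
noncomputable def primePt (x : W) (π : W.presheaf.stalk x) : {y : W // y ⤳ x} :=
  if h : Prime π then
    ⟨W.fromSpecStalk x ⟨Ideal.span {π}, (Ideal.span_singleton_prime h.ne_zero).2 h⟩,
      (Scheme.range_fromSpecStalk (x := x)).le ⟨_, rfl⟩⟩
  else ⟨x, specializes_refl x⟩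

theorem primePt_val {x : W} {π : W.presheaf.stalk x} (h : Prime π) :
    (primePt x π : W) =
      W.fromSpecStalk x ⟨Ideal.span {π}, (Ideal.span_singleton_prime h.ne_zero).2 h⟩ := by
  rw [primePt, dif_pos h]

/-- Units at the generalizations of `x`. -/
noncomputable def stalkUnitData (x : W) :
    UnitData (W.presheaf.stalk x) W.functionField {y : W // y ⤳ x} where
  P y z := IsUnitAt y.1 z
  pt := primePt x
  mul' h h' := h.mul h'
  inv' h := h.inv
  unit' {y c} hc := (isUnitAt_algebraMap_iff y.2 c).2 (hc.map (W.presheaf.stalkSpecializes y.2).hom)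
  assoc' {π π'} hπ e := by
    refine Subtype.ext ?_
    rw [primePt_val hπ, primePt_val (e.prime hπ)]
    congr 1
    exact PrimeSpectrum.ext (Ideal.span_singleton_eq_span_singleton.2 e)
  pt_iff' {π c} hπ := by
    have h : W.fromSpecStalk x ⟨Ideal.span {π}, (Ideal.span_singleton_prime hπ.ne_zero).2 hπ⟩ ⤳ x :=
      (Scheme.range_fromSpecStalk (x := x)).le ⟨_, rfl⟩
    rw [primePt_val hπ, isUnitAt_algebraMap_iff h, isUnit_stalkSpecializes_iff _ h,
      ← Ideal.mem_span_singleton]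

theorem primePt_specializes {x y : W} (hy : y ⤳ x) {π : W.presheaf.stalk x} (hπ : Prime π)
    (h : ¬ IsUnitAt y (algebraMap (W.presheaf.stalk x) W.functionField π)) :
    (primePt x π : W) ⤳ y := by
  obtain ⟨p, rfl⟩ := (Scheme.range_fromSpecStalk (x := x)).ge hy
  rw [isUnitAt_algebraMap_iff hy, isUnit_stalkSpecializes_iff p hy, not_not] at h
  rw [primePt_val hπ]
  refine Specializes.map ?_ (W.fromSpecStalk x).continuous
  exact (PrimeSpectrum.le_iff_specializes _ _).1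
    ((Ideal.span_singleton_le_iff_mem (I := p.asIdeal)).2 h)

end Groth.PicAux

namespace Groth.PicAux

theorem subsingleton_sections_of_isEmpty {X : Scheme.{u}} {V : X.Opens} (h : ∀ y, y ∉ V) :
    Subsingleton Γ(X, V) :=
  CommRingCat.subsingleton_of_isTerminal
    (X.sheaf.isTerminalOfEqEmpty (Opens.ext (Set.eq_empty_iff_forall_notMem.2 h)))

/-- A point in the closure of `O \ G` is a specialization of a point of `O \ G`. -/
theorem exists_specializes_of_mem_closure_diff {T : Type u} [TopologicalSpace T] [NoetherianSpace T]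
    [QuasiSober T] {O G : Set T} (hO : IsOpen O) (hG : IsOpen G) {x : T}
    (hx : x ∈ closure (O \ G)) : ∃ y ∈ O, y ∉ G ∧ y ⤳ x := by
  obtain ⟨F, hF, hFc, hFi, hcover⟩ :=
    NoetherianSpace.exists_finite_set_isClosed_irreducible (isClosed_closure (s := O \ G))
  have hsub : closure (O \ G) ⊆ Gᶜ := closure_minimal (fun _ h => h.2) hG.isClosed_compl
  have hx' : x ∈ ⋃ Z ∈ F, closure (Z ∩ O) := by
    rw [← hF.closure_biUnion]
    refine closure_mono (fun y hy => ?_) hx
    have hy' : y ∈ ⋃₀ F := hcover ▸ subset_closure hy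
    obtain ⟨Z, hZ, hyZ⟩ := hy'
    exact Set.mem_biUnion hZ ⟨hyZ, hy.1⟩
  simp only [Set.mem_iUnion] at hx'
  obtain ⟨Z, hZ, hxZ⟩ := hx'
  obtain ⟨y, hyZ, hyO⟩ := (closure_nonempty_iff.1 ⟨x, hxZ⟩)
  obtain ⟨g, hg⟩ := QuasiSober.sober (hFi Z hZ) (hFc Z hZ)
  have hgO : g ∈ O := (hg.specializes hyZ).mem_open hO hyO
  exact ⟨g, hgO, fun h => hsub (hcover ▸ Set.mem_sUnion.2 ⟨Z, hZ, hg.mem⟩) h,
    hg.specializes ((hFc Z hZ).closure_subset_iff.2 Set.inter_subset_left hxZ)⟩

variable {W : Scheme.{u}} [IsIntegral W]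

theorem genericPoint_mem {V : W.Opens} {y : W} (hy : y ∈ V) : genericPoint W ∈ V :=
  ((genericPoint_spec W).mem_open_set_iff V.isOpen).mpr ⟨y, trivial, hy⟩

/-- Extending a unit cocycle to a neighbourhood of a point with factorial local ring. -/
theorem exists_extend_integral [NoetherianSpace W] {ι : Type u} (U : ι → W.Opens)
    (η : ∀ i j, Γ(W, U i ⊓ U j)) (hunit : ∀ i j, IsUnit (η i j))
    (hη : ∀ i j k : ι,
      resX W (inf_le_inf_right (U k) inf_le_left : U i ⊓ U j ⊓ U k ≤ U i ⊓ U k) (η i k) =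
        resX W (inf_le_left : U i ⊓ U j ⊓ U k ≤ U i ⊓ U j) (η i j) *
          resX W (inf_le_inf_right (U k) inf_le_right : U i ⊓ U j ⊓ U k ≤ U j ⊓ U k) (η j k))
    (x : W) [UniqueFactorizationMonoid (W.presheaf.stalk x)] :
    ∃ V : W.Opens, x ∈ V ∧ ∃ h : ∀ i, Γ(W, V ⊓ U i), (∀ i, IsUnit (h i)) ∧
      ∀ i j, resX W (cle₂ U V i j) (h j) =
        resX W (cle₁ U V i j) (h i) * resX W (cle₃ U V i j) (η i j) := by
  let ι' := {i : ι // ∃ y, y ∈ U i}
  by_cases hne : IsEmpty ι'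
  · have he : ∀ i, ∀ y, y ∉ (⊤ : W.Opens) ⊓ U i := fun i y hy => hne.false ⟨i, y, hy.2⟩
    refine ⟨⊤, trivial, fun _ => 1, fun _ => isUnit_one, fun i j => ?_⟩
    have := subsingleton_sections_of_isEmpty (V := (⊤ : W.Opens) ⊓ U i ⊓ U j)
      fun y hy => he i y hy.1
    exact Subsingleton.elim _ _
  obtain ⟨i₀⟩ := not_isEmpty_iff.1 hne
  have gmem : ∀ i : ι', genericPoint W ∈ U i.1 := fun i => genericPoint_mem i.2.choose_spec
  let gK {V : W.Opens} (hV : genericPoint W ∈ V) : Γ(W, V) →+* W.functionField :=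
    (W.presheaf.germ V (genericPoint W) hV).hom
  have gK_res : ∀ {U V : W.Opens} (h : V ≤ U) (hV : genericPoint W ∈ V) (s : Γ(W, U)),
      gK hV (resX W h s) = gK (h hV) s :=
    fun h hV s => W.presheaf.germ_res_apply (homOfLE h) _ hV s
  let f : ι' → W.functionField := fun i =>
    gK (V := U i₀.1 ⊓ U i.1) ⟨gmem i₀, gmem i⟩ (η i₀.1 i.1)
  have hf0 : ∀ i, f i ≠ 0 := fun i => ((hunit i₀.1 i.1).map _).ne_zero
  have hfrel : ∀ i j : ι', f j = f i * gK (V := U i.1 ⊓ U j.1) ⟨gmem i, gmem j⟩ (η i.1 j.1) := by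
    intro i j
    have := congrArg (gK (V := U i₀.1 ⊓ U i.1 ⊓ U j.1) ⟨⟨gmem i₀, gmem i⟩, gmem j⟩)
      (hη i₀.1 i.1 j.1)
    simpa only [map_mul, gK_res] using this
  have hcompat : ∀ i j : ι', ∀ y, y ∈ U i.1 → y ∈ U j.1 → IsUnitAt y (f j / f i) := by
    intro i j y hi hj
    have : Nonempty (U i.1 ⊓ U j.1 : W.Opens) := ⟨⟨y, hi, hj⟩⟩
    rw [hfrel i j, mul_div_cancel_left₀ _ (hf0 i)]
    exact isUnitAt_germ (V := U i.1 ⊓ U j.1) ⟨hi, hj⟩ (hunit i.1 j.1)
  let bot : PrimeSpectrum (W.presheaf.stalk x) := ⟨⊥, Ideal.isPrime_bot⟩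
  have hbot : W.fromSpecStalk x bot ∈ U i₀.1 := by
    obtain ⟨p, hp⟩ := (Scheme.range_fromSpecStalk (x := x)).ge
      ((genericPoint_spec W).specializes (y := x) trivial)
    refine (Specializes.map ?_ (W.fromSpecStalk x).continuous).mem_open (U i₀.1).isOpen
      (hp ▸ gmem i₀)
    exact (PrimeSpectrum.le_iff_specializes bot p).1 bot_le
  have hopen : IsOpen (W.fromSpecStalk x ⁻¹' (U i₀.1 : Set W) :
      Set (PrimeSpectrum (W.presheaf.stalk x))) :=
    (U i₀.1).isOpen.preimage (W.fromSpecStalk x).continuous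
  obtain ⟨_, ⟨s, rfl⟩, hs, hsU⟩ :=
    PrimeSpectrum.isTopologicalBasis_basic_opens.exists_subset_of_mem_open
      (show bot ∈ (W.fromSpecStalk x ⁻¹' (U i₀.1 : Set W) :
        Set (PrimeSpectrum (W.presheaf.stalk x))) from hbot) hopen
  have hs0 : s ≠ 0 := fun e => hs (by simp [bot, e])
  obtain ⟨g, hg0, hg⟩ := exists_div (stalkUnitData x)
    (fun (i : ι') (y : {y : W // y ⤳ x}) => (y : W) ∈ U i.1) f hf0
    (fun i j y hi hj => hcompat j i y hj hi)
    (fun π hπ y i h hy => (primePt_specializes y.2 hπ h).mem_open (U i.1).isOpen hy) i₀ hs0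
    (fun π hπ hdvd => by
      change (primePt x π : W) ∈ U i₀.1
      rw [primePt_val hπ]
      exact hsU (show s ∉ Ideal.span {π} from fun e => hdvd (Ideal.mem_span_singleton.1 e)))
  let G : Set W := ⋃ i : ι', (U i.1 : Set W) ∩ {y | IsUnitAt y (f i / g)}
  let O : Set W := ⋃ i : ι', (U i.1 : Set W)
  have hG : IsOpen G := isOpen_iUnion fun i => (U i.1).isOpen.inter (isOpen_isUnitAt _)
  have hO : IsOpen O := isOpen_iUnion fun i => (U i.1).isOpen
  have hmemG : ∀ (i : ι') y, y ∈ U i.1 → y ∈ G → IsUnitAt y (f i / g) := by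
    intro i y hy hyG
    obtain ⟨j, hyj, hu⟩ := Set.mem_iUnion.1 hyG
    have : f i / g = f i / f j * (f j / g) := by field_simp [hf0 j, hg0]
    rw [this]
    exact (hcompat j i y hyj hy).mul hu
  let V : W.Opens := ⟨(closure (O \ G))ᶜ, isClosed_closure.isOpen_compl⟩
  have hxV : x ∈ V := by
    intro hx
    obtain ⟨y, hyO, hyG, hyx⟩ := exists_specializes_of_mem_closure_diff hO hG hx
    obtain ⟨i, hi⟩ := Set.mem_iUnion.1 hyO
    exact hyG (Set.mem_iUnion.2 ⟨i, hi, hg i ⟨y, hyx⟩ hi⟩)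
  have hVu : ∀ (i : ι') y, y ∈ V ⊓ U i.1 → IsUnitAt y (f i / g) := fun i y hy =>
    hmemG i y hy.2 (by
      by_contra h
      exact hy.1 (subset_closure ⟨Set.mem_iUnion.2 ⟨i, hy.2⟩, h⟩))
  have gV : genericPoint W ∈ V := genericPoint_mem hxV
  have key : ∀ i, ∃ h : Γ(W, V ⊓ U i), IsUnit h ∧ ∀ (hi : ∃ y, y ∈ U i),
      gK (V := V ⊓ U i) ⟨gV, genericPoint_mem hi.choose_spec⟩ h = f ⟨i, hi⟩ / g := by
    intro i
    by_cases hi : ∃ y, y ∈ U i
    · have : Nonempty (V ⊓ U i : W.Opens) := ⟨⟨_, gV, gmem ⟨i, hi⟩⟩⟩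
      obtain ⟨h, hu, he⟩ := exists_unit_section (V := V ⊓ U i) (hVu ⟨i, hi⟩)
      exact ⟨h, hu, fun _ => he⟩
    · exact ⟨1, isUnit_one, fun h => absurd h hi⟩
  choose h hu hh using key
  refine ⟨V, hxV, h, hu, fun i j => ?_⟩
  by_cases hij : (∃ y, y ∈ U i) ∧ ∃ y, y ∈ U j
  · obtain ⟨hi, hj⟩ := hij
    apply germ_injective_of_isIntegral W (genericPoint W)
      (show genericPoint W ∈ V ⊓ U i ⊓ U j from ⟨⟨gV, gmem ⟨i, hi⟩⟩, gmem ⟨j, hj⟩⟩)
    change gK _ _ = gK _ _
    rw [map_mul, gK_res, gK_res, gK_res, hh j hj, hh i hi, div_mul_eq_mul_div,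
      hfrel ⟨i, hi⟩ ⟨j, hj⟩]
  · have := subsingleton_sections_of_isEmpty (V := V ⊓ U i ⊓ U j)
      fun y hy => hij ⟨⟨y, hy.1.2⟩, ⟨y, hy.2⟩⟩
    exact Subsingleton.elim _ _

end Groth.PicAux
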